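import Mathlib
import Cfsg.Agent.Lib.Helper3.Degree
import Cfsg.Agent.Lib.Helper3.PermChar
import Cfsg.Agent.Lib.Helper81.Irr

set_option autoImplicit false

namespace Cfsg.Agent.Lib.Helper12.PermChar

open Cfsg
open scoped ComplexConjugate

section LinAlg

variable {V : Type*} [AddCommGroup V] [Module ℂ V] [FiniteDimensional ℂ V]

/-- the trace of an integral endomorphism is an algebraic integer -/
theorem isIntegral_trace_of_isIntegral (f : Module.End ℂ V) (hf : IsIntegral ℤ f) :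
    IsIntegral ℤ (LinearMap.trace ℂ V f) := by
  have hs : (LinearMap.charpoly f).Splits := IsAlgClosed.splits _
  rw [Module.End.trace_eq_sum_roots_charpoly_of_splits hs]
  refine IsIntegral.multiset_sum fun μ hμ => ?_
  have hroot : (LinearMap.charpoly f).IsRoot μ := (Polynomial.mem_roots'.mp hμ).2
  have hev := (Module.End.hasEigenvalue_iff_isRoot_charpoly f μ).mpr hroot
  obtain ⟨v, hv⟩ := hev.exists_hasEigenvector
  obtain ⟨p, hmonic, hp⟩ := hf
  refine ⟨p, hmonic, ?_⟩
  have h1 : Polynomial.aeval f (p.map (algebraMap ℤ ℂ)) = 0 := by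
    rw [Polynomial.aeval_map_algebraMap]
    exact hp
  have h2 := Module.End.aeval_apply_of_hasEigenvector (p := p.map (algebraMap ℤ ℂ)) hv
  rw [h1, LinearMap.zero_apply] at h2
  have h3 : (p.map (algebraMap ℤ ℂ)).eval μ = 0 := by
    rcases smul_eq_zero.mp h2.symm with h | h
    · exact h
    · exact absurd h hv.2
  rw [Polynomial.eval_map] at h3
  exact h3

/-- if `Y * Y = R * Y` with `R` integral then `Y` is integral -/
theorem isIntegral_of_sq_eq {A : Type*} [Ring A] {R Y : A} (hR : IsIntegral ℤ R)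
    (h : Y * Y = R * Y) : IsIntegral ℤ Y := by
  obtain ⟨p, hmonic, hp⟩ := hR
  have hpow : ∀ k : ℕ, Y ^ (k + 1) = R ^ k * Y := by
    intro k
    induction k with
    | zero => simp
    | succ k ih => rw [pow_succ, ih, mul_assoc, h, ← mul_assoc, ← pow_succ]
  have key : ∀ q : Polynomial ℤ, Polynomial.aeval Y (q * Polynomial.X) =
      Polynomial.aeval R q * Y := by
    intro q
    induction q using Polynomial.induction_on' with
    | add q1 q2 h1 h2 => rw [add_mul, map_add, h1, h2, map_add, add_mul]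
    | monomial n c =>
      rw [map_mul, Polynomial.aeval_X, Polynomial.aeval_monomial, Polynomial.aeval_monomial,
        mul_assoc, ← pow_succ, hpow, mul_assoc]
  refine ⟨p * Polynomial.X, hmonic.mul Polynomial.monic_X, ?_⟩
  have := key p
  rw [Polynomial.aeval_def] at this
  rw [this]
  have hp' : Polynomial.aeval R p = 0 := hp
  rw [hp', zero_mul]

/-- an idempotent with trace zero vanishes -/
theorem eq_zero_of_idempotent_of_trace_eq_zero (P : Module.End ℂ V) (hP : P * P = P)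
    (htr : LinearMap.trace ℂ V P = 0) : P = 0 := by
  have hproj : LinearMap.IsProj (LinearMap.range P) P := by
    refine ⟨fun x => LinearMap.mem_range_self P x, ?_⟩
    rintro x ⟨y, rfl⟩
    have := congrArg (fun T : Module.End ℂ V => T y) hP
    exact this
  have h1 := hproj.trace
  rw [htr] at h1
  have h2 : Module.finrank ℂ (LinearMap.range P) = 0 := by exact_mod_cast h1.symm
  have h3 : LinearMap.range P = ⊥ := Submodule.finrank_eq_zero.1 h2
  exact LinearMap.range_eq_bot.1 h3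

end LinAlg


section Sums

variable {G : Type*} [Group G] [Fintype G] {Ω : Type*} [Fintype Ω] [DecidableEq Ω]
  [MulAction G Ω]

/-- elements of `G` mapping `a` into `Δ` -/
def Dset (a : Ω) (Δ : Finset Ω) : Finset G := Finset.univ.filter (fun x => x • a ∈ Δ)

/-- the stabilizer of `a` as a finset -/
def Hset (G : Type*) [Group G] [Fintype G] {Ω : Type*} [DecidableEq Ω] [MulAction G Ω] (a : Ω) :
    Finset G := Finset.univ.filter (fun x => x • a = a)

omit [Fintype Ω] in
theorem mem_Dset {a : Ω} {Δ : Finset Ω} {x : G} : x ∈ Dset a Δ ↔ x • a ∈ Δ := by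
  simp [Dset]

omit [Fintype Ω] in
theorem mem_Hset {a : Ω} {x : G} : x ∈ Hset G a ↔ x • a = a := by
  simp [Hset]

omit [Fintype Ω] in
/-- sums over the fibre of `x ↦ x • a` -/
theorem sum_fibre {M : Type*} [AddCommMonoid M] (a c : Ω) (s : G) (hs : s • a = c)
    (F : G → M) :
    ∑ x ∈ Finset.univ.filter (fun x : G => x • a = c), F x = ∑ h ∈ Hset G a, F (s * h) := by
  apply Finset.sum_nbij' (fun x => s⁻¹ * x) (fun h => s * h)
  · intro x hx
    simp only [Finset.mem_filter, Finset.mem_univ, true_and] at hx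
    rw [mem_Hset, mul_smul, hx, ← hs, inv_smul_smul]
  · intro h hh
    rw [mem_Hset] at hh
    simp only [Finset.mem_filter, Finset.mem_univ, true_and]
    rw [mul_smul, hh, hs]
  · intro x _; simp
  · intro h _; simp
  · intro x _; simp

omit [Fintype Ω] in
/-- decomposition of a sum over `Dset` along a section -/
theorem sum_Dset {M : Type*} [AddCommMonoid M] (a : Ω) (Δ : Finset Ω) (sec : Ω → G)
    (hsec : ∀ c, sec c • a = c) (F : G → M) :
    ∑ x ∈ Dset a Δ, F x = ∑ c ∈ Δ, ∑ h ∈ Hset G a, F (sec c * h) := by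
  rw [← Finset.sum_fiberwise_of_maps_to (s := Dset a Δ) (t := Δ) (g := fun x : G => x • a)
    (fun x hx => mem_Dset.1 hx)]
  apply Finset.sum_congr rfl
  intro c hc
  rw [← sum_fibre a c (sec c) (hsec c) F]
  apply Finset.sum_congr _ (fun _ _ => rfl)
  ext x
  simp only [Finset.mem_filter, mem_Dset, Finset.mem_univ, true_and]
  constructor
  · rintro ⟨_, h⟩; exact h
  · intro h; exact ⟨h ▸ hc, h⟩

theorem card_Hset_mul_card [MulAction.IsPretransitive G Ω] (a : Ω) :
    (Hset G a).card * Fintype.card Ω = Fintype.card G := by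
  classical
  obtain ⟨sec, hsec⟩ : ∃ sec : Ω → G, ∀ c, sec c • a = c :=
    ⟨fun c => Classical.choose (MulAction.exists_smul_eq G a c),
      fun c => Classical.choose_spec (MulAction.exists_smul_eq G a c)⟩
  have h := sum_Dset a (Finset.univ : Finset Ω) sec hsec (fun _ : G => (1 : ℕ))
  have hD : Dset a (Finset.univ : Finset Ω) = (Finset.univ : Finset G) := by
    ext x; simp [mem_Dset]
  rw [hD] at h
  simp only [Finset.sum_const, smul_eq_mul, mul_one] at h
  rw [Finset.card_univ, Finset.card_univ] at h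
  rw [h, mul_comm]

end Sums


section Ops

variable {G : Type*} [Group G] [Fintype G] {Ω : Type*} [Fintype Ω] [DecidableEq Ω]
  [MulAction G Ω] {V : Type*} [AddCommGroup V] [Module ℂ V] (ρ : Representation ℂ G V)

/-- the double coset operator -/
noncomputable def opX (a : Ω) (Δ : Finset Ω) : Module.End ℂ V := ∑ x ∈ Dset a Δ, ρ x

/-- the stabilizer sum -/
noncomputable def opE (a : Ω) : Module.End ℂ V := ∑ h ∈ Hset G a, ρ h

/-- the transversal sum -/
noncomputable def opR (Δ : Finset Ω) (sec : Ω → G) : Module.End ℂ V := ∑ c ∈ Δ, ρ (sec c)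

omit [Fintype Ω] in
theorem opX_eq (a : Ω) (Δ : Finset Ω) (sec : Ω → G) (hsec : ∀ c, sec c • a = c) :
    opX ρ a Δ = opR ρ Δ sec * opE ρ a := by
  unfold opX opR opE
  rw [sum_Dset a Δ sec hsec, Finset.sum_mul]
  apply Finset.sum_congr rfl
  intro c _
  rw [Finset.mul_sum]
  apply Finset.sum_congr rfl
  intro h _
  rw [map_mul]

omit [Fintype Ω] in
theorem rho_mul_opX (a : Ω) (Δ : Finset Ω) (hΔ : ∀ h : G, h • a = a → ∀ c ∈ Δ, h • c ∈ Δ)
    (h : G) (hh : h • a = a) : ρ h * opX ρ a Δ = opX ρ a Δ := by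
  unfold opX
  rw [Finset.mul_sum]
  apply Finset.sum_nbij' (fun x => h * x) (fun x => h⁻¹ * x)
  · intro x hx
    rw [mem_Dset] at hx ⊢
    rw [mul_smul]
    exact hΔ h hh _ hx
  · intro x hx
    rw [mem_Dset] at hx ⊢
    rw [mul_smul]
    have hh' : h⁻¹ • a = a := by rw [inv_smul_eq_iff, hh]
    exact hΔ h⁻¹ hh' _ hx
  · intro x _; simp
  · intro x _; simp
  · intro x _; rw [map_mul]

omit [Fintype Ω] in
theorem opE_mul_opX (a : Ω) (Δ : Finset Ω) (hΔ : ∀ h : G, h • a = a → ∀ c ∈ Δ, h • c ∈ Δ) :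
    opE ρ a * opX ρ a Δ = ((Hset G a).card : ℂ) • opX ρ a Δ := by
  unfold opE
  rw [Finset.sum_mul]
  rw [Finset.sum_congr rfl (fun h hh => rho_mul_opX ρ a Δ hΔ h (mem_Hset.1 hh))]
  rw [Finset.sum_const, Nat.cast_smul_eq_nsmul]

omit [Fintype Ω] in
theorem opX_singleton (a : Ω) : opX ρ a {a} = opE ρ a := by
  unfold opX opE
  apply Finset.sum_congr _ (fun _ _ => rfl)
  ext x
  simp [mem_Dset, mem_Hset]

omit [Fintype Ω] in
theorem opE_mul_opE (a : Ω) : opE ρ a * opE ρ a = ((Hset G a).card : ℂ) • opE ρ a := by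
  have := opE_mul_opX ρ a {a} (by
    intro h hh c hc
    rw [Finset.mem_singleton] at hc ⊢
    rw [hc, hh])
  rwa [opX_singleton] at this

omit [Fintype Ω] [DecidableEq Ω] [MulAction G Ω] in
theorem isIntegral_opR (Δ : Finset Ω) (sec : Ω → G) : IsIntegral ℤ (opR ρ Δ sec) := by
  classical
  let φ : MonoidAlgebra ℤ G →ₐ[ℤ] Module.End ℂ V := MonoidAlgebra.lift ℤ (Module.End ℂ V) G ρ
  let z : MonoidAlgebra ℤ G := ∑ c ∈ Δ, MonoidAlgebra.single (sec c) 1
  have hz : IsIntegral ℤ z := IsIntegral.of_finite ℤ z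
  have hφ : φ z = opR ρ Δ sec := by
    simp only [z, map_sum, φ, opR]
    apply Finset.sum_congr rfl
    intro c _
    rw [MonoidAlgebra.lift_single, one_smul]
  rw [← hφ]
  exact IsIntegral.map (R := ℤ) (A := ℤ) φ hz

omit [Fintype Ω] in
theorem Hset_card_pos (a : Ω) : 0 < (Hset G a).card :=
  Finset.card_pos.2 ⟨1, mem_Hset.2 (one_smul G a)⟩

omit [Fintype Ω] in
/-- the normalized double coset operator is integral -/
theorem isIntegral_opX (a : Ω) (Δ : Finset Ω) (hΔ : ∀ h : G, h • a = a → ∀ c ∈ Δ, h • c ∈ Δ)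
    (sec : Ω → G) (hsec : ∀ c, sec c • a = c) :
    IsIntegral ℤ ((((Hset G a).card : ℂ)⁻¹) • opX ρ a Δ) := by
  have hH : ((Hset G a).card : ℂ) ≠ 0 := by exact_mod_cast (Hset_card_pos a).ne'
  apply isIntegral_of_sq_eq (isIntegral_opR ρ Δ sec)
  rw [smul_mul_smul_comm, mul_smul_comm]
  nth_rewrite 1 [opX_eq ρ a Δ sec hsec]
  rw [mul_assoc, opE_mul_opX ρ a Δ hΔ, mul_smul_comm, smul_smul]
  congr 1
  field_simp

variable [FiniteDimensional ℂ V]

omit [Fintype Ω] in
/-- the character sum over the double coset, divided by `|H|`, is an algebraic integer -/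
theorem isIntegral_sum_char (a : Ω) (Δ : Finset Ω)
    (hΔ : ∀ h : G, h • a = a → ∀ c ∈ Δ, h • c ∈ Δ) (sec : Ω → G) (hsec : ∀ c, sec c • a = c) :
    IsIntegral ℤ ((((Hset G a).card : ℂ)⁻¹) * ∑ x ∈ Dset a Δ, ρ.character x) := by
  have h := isIntegral_trace_of_isIntegral _ (isIntegral_opX ρ a Δ hΔ sec hsec)
  rw [map_smul, smul_eq_mul] at h
  unfold opX at h
  rw [map_sum] at h
  exact h

omit [Fintype Ω] in
/-- if the restriction of `χ` to `H` has no trivial constituent then the double coset sums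
vanish -/
theorem sum_char_eq_zero (a : Ω) (Δ : Finset Ω) (sec : Ω → G) (hsec : ∀ c, sec c • a = c)
    (h0 : ∑ h ∈ Hset G a, ρ.character h = 0) : ∑ x ∈ Dset a Δ, ρ.character x = 0 := by
  have hH : ((Hset G a).card : ℂ) ≠ 0 := by exact_mod_cast (Hset_card_pos a).ne'
  have hP : ((((Hset G a).card : ℂ)⁻¹) • opE ρ a) * ((((Hset G a).card : ℂ)⁻¹) • opE ρ a) =
      (((Hset G a).card : ℂ)⁻¹) • opE ρ a := by
    rw [smul_mul_smul_comm, opE_mul_opE, smul_smul]
    congr 1
    field_simp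
  have htr : LinearMap.trace ℂ V ((((Hset G a).card : ℂ)⁻¹) • opE ρ a) = 0 := by
    rw [map_smul]
    unfold opE
    rw [map_sum]
    have : ∑ h ∈ Hset G a, LinearMap.trace ℂ V (ρ h) = ∑ h ∈ Hset G a, ρ.character h := rfl
    rw [this, h0, smul_zero]
  have hP0 := eq_zero_of_idempotent_of_trace_eq_zero _ hP htr
  have hE : opE ρ a = 0 := by
    have := congrArg (fun T : Module.End ℂ V => ((Hset G a).card : ℂ) • T) hP0
    simp only [smul_smul, smul_zero] at this
    rwa [mul_inv_cancel₀ hH, one_smul] at this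
  have hX : opX ρ a Δ = 0 := by rw [opX_eq ρ a Δ sec hsec, hE, mul_zero]
  have := congrArg (LinearMap.trace ℂ V) hX
  unfold opX at this
  rw [map_sum, map_zero] at this
  exact this

end Ops


section Frob

variable {G : Type*} [Group G] [Fintype G] {Ω : Type*} [Fintype Ω] [DecidableEq Ω]
  [MulAction G Ω]

omit [Fintype Ω] in
/-- sums over conjugate stabilizers -/
theorem sum_Hset_conj (a : Ω) (s : G) (F : G → ℂ) :
    ∑ g ∈ Hset G (s • a), F g = ∑ h ∈ Hset G a, F (s * h * s⁻¹) := by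
  apply Finset.sum_nbij' (fun g => s⁻¹ * g * s) (fun h => s * h * s⁻¹)
  · intro g hg
    rw [mem_Hset] at hg ⊢
    rw [mul_smul, mul_smul, hg, inv_smul_smul]
  · intro h hh
    rw [mem_Hset] at hh ⊢
    rw [mul_smul, mul_smul, inv_smul_smul, hh]
  · intro g _; group
  · intro h _; group
  · intro g _; congr 1; group

omit [Fintype G] in
theorem card_fixedBy_eq_sum (g : G) :
    (Nat.card (MulAction.fixedBy Ω g) : ℂ) = ∑ ω : Ω, if g • ω = ω then (1 : ℂ) else 0 := by
  classical
  rw [Nat.card_eq_fintype_card, Fintype.card_subtype, Finset.sum_boole]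
  rfl

/-- Frobenius reciprocity for the permutation character of a transitive action -/
theorem sum_perm_mul [MulAction.IsPretransitive G Ω] (a : Ω) (F : G → ℂ)
    (hF : ∀ g k : G, F (k * g * k⁻¹) = F g) :
    ∑ g : G, (Nat.card (MulAction.fixedBy Ω g) : ℂ) * F g =
      (Fintype.card Ω : ℂ) * ∑ h ∈ Hset G a, F h := by
  classical
  simp_rw [card_fixedBy_eq_sum, Finset.sum_mul]
  rw [Finset.sum_comm]
  have : ∀ ω : Ω, ∑ g : G, (if g • ω = ω then (1 : ℂ) else 0) * F g = ∑ h ∈ Hset G a, F h := by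
    intro ω
    obtain ⟨s, hs⟩ := MulAction.exists_smul_eq G a ω
    have h1 : ∑ g : G, (if g • ω = ω then (1 : ℂ) else 0) * F g = ∑ g ∈ Hset G ω, F g := by
      unfold Hset
      rw [Finset.sum_filter]
      apply Finset.sum_congr rfl
      intro g _
      split_ifs <;> simp
    rw [h1, ← hs, sum_Hset_conj]
    apply Finset.sum_congr rfl
    intro h _
    exact hF h s
  rw [Finset.sum_congr rfl (fun ω _ => this ω), Finset.sum_const, Finset.card_univ,
    nsmul_eq_mul]

/-- the multiplicity of a class function in the permutation character -/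
theorem classInner_perm [MulAction.IsPretransitive G Ω] (a : Ω) (χ : G → ℂ)
    (hχ : ∀ g k : G, χ (k * g * k⁻¹) = χ g) :
    classInner (fun g : G => (Nat.card (MulAction.fixedBy Ω g) : ℂ)) χ =
      (((Hset G a).card : ℂ)⁻¹) * ∑ h ∈ Hset G a, conj (χ h) := by
  unfold classInner
  rw [sum_perm_mul a (fun g => conj (χ g)) (fun g k => by rw [hχ])]
  have hcard := card_Hset_mul_card (G := G) a
  have hH : ((Hset G a).card : ℂ) ≠ 0 := by exact_mod_cast (Hset_card_pos a).ne'
  have hΩ : (Fintype.card Ω : ℂ) ≠ 0 := by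
    have : 0 < Fintype.card Ω := Fintype.card_pos_iff.2 ⟨a⟩
    exact_mod_cast this.ne'
  rw [Nat.card_eq_fintype_card, ← hcard]
  push_cast
  field_simp

end Frob


section Main

variable {G : Type*} [Group G] [Fintype G] {Ω : Type*} [Fintype Ω] [DecidableEq Ω]
  [MulAction G Ω] [MulAction.IsPretransitive G Ω]

/-- character sum over a double coset -/
noncomputable def Tsum (a : Ω) (Δ : Finset Ω) (χ : G → ℂ) : ℂ := ∑ x ∈ Dset a Δ, χ x

omit [Fintype Ω] [Fintype G] [DecidableEq Ω] in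
theorem exists_sec (a : Ω) : ∃ sec : Ω → G, ∀ c, sec c • a = c :=
  ⟨fun c => Classical.choose (MulAction.exists_smul_eq G a c),
    fun c => Classical.choose_spec (MulAction.exists_smul_eq G a c)⟩

theorem Tsum_integral (a : Ω) (Δ : Finset Ω) (hΔ : ∀ h : G, h • a = a → ∀ c ∈ Δ, h • c ∈ Δ)
    {χ : G → ℂ} (hχ : IsIrrCharacter G χ) :
    IsIntegral ℤ ((((Hset G a).card : ℂ)⁻¹) * Tsum a Δ χ) := by
  obtain ⟨n, ρ, _, rfl⟩ := hχ
  obtain ⟨sec, hsec⟩ := exists_sec (G := G) a
  exact isIntegral_sum_char ρ a Δ hΔ sec hsec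

theorem Tsum_eq_zero (a : Ω) (Δ : Finset Ω) {χ : G → ℂ} (hχ : IsIrrCharacter G χ)
    (h0 : classInner (fun g : G => (Nat.card (MulAction.fixedBy Ω g) : ℂ)) χ = 0) :
    Tsum a Δ χ = 0 := by
  have hcl : ∀ g k : G, χ (k * g * k⁻¹) = χ g :=
    (Cfsg.Agent.Lib.Helper3.IsCharacter.isClassFunction
      (Cfsg.Agent.Lib.Helper3.IsIrrCharacter.isCharacter hχ))
  rw [classInner_perm a χ hcl] at h0
  have hH : ((Hset G a).card : ℂ) ≠ 0 := by exact_mod_cast (Hset_card_pos a).ne'
  have h1 : ∑ h ∈ Hset G a, conj (χ h) = 0 := by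
    rcases mul_eq_zero.1 h0 with h | h
    · exact absurd (inv_eq_zero.1 h) hH
    · exact h
  have h2 : ∑ h ∈ Hset G a, χ h = 0 := by
    have := congrArg conj h1
    rw [map_sum, map_zero] at this
    simpa using this
  obtain ⟨n, ρ, _, rfl⟩ := hχ
  obtain ⟨sec, hsec⟩ := exists_sec (G := G) a
  exact sum_char_eq_zero ρ a Δ sec hsec h2

theorem Tsum_one (a : Ω) (Δ : Finset Ω) :
    Tsum (G := G) a Δ (fun _ => (1 : ℂ)) = (Δ.card : ℂ) * ((Hset G a).card : ℂ) := by
  obtain ⟨sec, hsec⟩ := exists_sec (G := G) a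
  unfold Tsum
  rw [sum_Dset (G := G) a Δ sec hsec]
  simp

omit [MulAction.IsPretransitive G Ω] [Fintype Ω] in
theorem main_identity [Fintype (IrrCharacter G)] (a : Ω) (Δ : Finset Ω) (ha : a ∉ Δ) :
    ∑ χ : IrrCharacter G, (χ : G → ℂ) 1 * Tsum a Δ (χ : G → ℂ) = 0 := by
  unfold Tsum
  simp_rw [Finset.mul_sum]
  rw [Finset.sum_comm]
  apply Finset.sum_eq_zero
  intro x hx
  have hx1 : x ≠ 1 := by
    rintro rfl
    rw [mem_Dset, one_smul] at hx
    exact ha hx
  exact Cfsg.Agent.Lib.Helper81.sum_irr_deg_mul_of_ne_one hx1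

/-- a common divisor of the degrees of the nonprincipal constituents divides the
nontrivial subdegrees -/
theorem dvd_card_of_dvd_degrees (f : ℕ)
    (hf : ∀ χ : G → ℂ, IsIrrCharacter G χ → χ ≠ (fun _ => 1) →
      classInner (fun g : G => (Nat.card (MulAction.fixedBy Ω g) : ℂ)) χ ≠ 0 →
      ∃ m : ℕ, χ 1 = (f : ℂ) * m)
    (a : Ω) (Δ : Finset Ω) (hΔ : ∀ h : G, h • a = a → ∀ c ∈ Δ, h • c ∈ Δ) (ha : a ∉ Δ) :
    f ∣ Δ.card := by
  classical
  have hfinI : Finite (IrrCharacter G) := Cfsg.Agent.Lib.Helper81.finite_irrCharacter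
  let _ : Fintype (IrrCharacter G) := Fintype.ofFinite _
  have hH : ((Hset G a).card : ℂ) ≠ 0 := by exact_mod_cast (Hset_card_pos a).ne'
  let triv : IrrCharacter G := ⟨fun _ => 1, Cfsg.Agent.Lib.Helper3.isIrrCharacter_one⟩
  have hid := main_identity (G := G) a Δ ha
  rw [← Finset.add_sum_erase Finset.univ _ (Finset.mem_univ triv)] at hid
  have htriv : ((triv : IrrCharacter G) : G → ℂ) 1 * Tsum a Δ ((triv : IrrCharacter G) : G → ℂ) =
      (Δ.card : ℂ) * ((Hset G a).card : ℂ) := by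
    show (1 : ℂ) * Tsum (G := G) a Δ (fun _ => (1 : ℂ)) = _
    rw [one_mul, Tsum_one]
  rw [htriv] at hid
  -- each remaining term is `f` times an algebraic integer times `|H|`
  have hterm : ∀ χ : IrrCharacter G, χ ∈ Finset.univ.erase triv →
      ∃ z : ℂ, IsIntegral ℤ z ∧
        (χ : G → ℂ) 1 * Tsum a Δ (χ : G → ℂ) = (f : ℂ) * z * ((Hset G a).card : ℂ) := by
    intro χ hχ
    have hne : (χ : G → ℂ) ≠ fun _ => 1 := by
      intro h
      exact (Finset.mem_erase.1 hχ).1 (Subtype.ext h)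
    by_cases h0 : classInner (fun g : G => (Nat.card (MulAction.fixedBy Ω g) : ℂ)) (χ : G → ℂ) = 0
    · refine ⟨0, isIntegral_zero, ?_⟩
      rw [Tsum_eq_zero a Δ χ.2 h0]
      ring
    · obtain ⟨m, hm⟩ := hf χ χ.2 hne h0
      refine ⟨(m : ℂ) * ((((Hset G a).card : ℂ)⁻¹) * Tsum a Δ (χ : G → ℂ)),
        (isIntegral_algebraMap (R := ℤ) (A := ℂ) (x := (m : ℤ))).mul
          (Tsum_integral a Δ hΔ χ.2) |> (by simpa using ·), ?_⟩
      rw [hm]
      field_simp
  choose! z hz1 hz2 using hterm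
  rw [Finset.sum_congr rfl hz2, ← Finset.sum_mul, ← Finset.mul_sum, ← add_mul] at hid
  have hsum : (Δ.card : ℂ) + (f : ℂ) * ∑ χ ∈ Finset.univ.erase triv, z χ = 0 := by
    rcases mul_eq_zero.1 hid with h | h
    · exact h
    · exact absurd h hH
  have hzint : IsIntegral ℤ (∑ χ ∈ Finset.univ.erase triv, z χ) :=
    IsIntegral.sum _ (fun χ hχ => hz1 χ hχ)
  rcases Nat.eq_zero_or_pos f with rfl | hfpos
  · simp only [Nat.cast_zero, zero_mul, add_zero] at hsum
    have : Δ.card = 0 := by exact_mod_cast hsum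
    rw [this]
  · apply Cfsg.Agent.Lib.Helper3.nat_dvd_of_isIntegral_div hfpos.ne'
    have hf0 : (f : ℂ) ≠ 0 := by exact_mod_cast hfpos.ne'
    have : (Δ.card : ℂ) / (f : ℂ) = -∑ χ ∈ Finset.univ.erase triv, z χ := by
      field_simp
      linear_combination hsum
    rw [this]
    exact hzint.neg

end Main

end Cfsg.Agent.Lib.Helper12.PermChar
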