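import Mathlib
import Cfsg.Agent.S0016

/-!
# Recognising `Q_8` (helper12)

A finite solvable non-abelian group all of whose abelian subgroups are cyclic and all of whose
characteristic subgroups are either central or the whole group is the quaternion group of
order 8.
-/

set_option autoImplicit false

namespace Cfsg.Agent.Lib.Helper12.QuatChar

open Cfsg.Agent.S0016
open scoped commutatorElement

/-- a subgroup generated by pairwise commuting elements is commutative -/
theorem comm_closure {G : Type*} [Group G] (s : Set G)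
    (hs : ∀ x ∈ s, ∀ y ∈ s, x * y = y * x) :
    ∀ x ∈ Subgroup.closure s, ∀ y ∈ Subgroup.closure s, x * y = y * x := by
  intro x hx y hy
  have h1 : Subgroup.closure s ≤ Subgroup.centralizer s := by
    rw [Subgroup.closure_le]
    intro a ha
    rw [SetLike.mem_coe, Subgroup.mem_centralizer_iff]
    intro b hb
    exact hs b hb a ha
  have h2 : Subgroup.closure s ≤ Subgroup.centralizer (Subgroup.centralizer s : Set G) := by
    rw [Subgroup.closure_le]
    intro a ha
    rw [SetLike.mem_coe, Subgroup.mem_centralizer_iff]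
    intro b hb
    rw [SetLike.mem_coe, Subgroup.mem_centralizer_iff] at hb
    exact (hb a ha).symm
  have h3 := h2 hx
  rw [Subgroup.mem_centralizer_iff] at h3
  exact (h3 y (h1 hy)).symm

/-- in a cyclic group the elements of order dividing a prime `r` lie in any subgroup of order `r` -/
theorem mem_zpowers_of_cyclic {C : Type*} [Group C] [Finite C] [IsCyclic C] (r : ℕ) (hr : r.Prime)
    (z w : C) (hz1 : z ≠ 1) (hz : z ^ r = 1) (hw : w ^ r = 1) : w ∈ Subgroup.zpowers z := by
  classical
  have := Fintype.ofFinite C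
  have hrf : Fact r.Prime := ⟨hr⟩
  have hord : orderOf z = r := orderOf_eq_prime hz hz1
  set S : Finset C := Finset.univ.filter (fun a : C => a ^ r = 1) with hS
  set T : Finset C := (Finset.range r).image (fun i => z ^ i) with hT
  have hTS : T ⊆ S := by
    intro c hc
    rw [hT, Finset.mem_image] at hc
    obtain ⟨i, _, rfl⟩ := hc
    rw [hS, Finset.mem_filter]
    refine ⟨Finset.mem_univ _, ?_⟩
    rw [← pow_mul, mul_comm, pow_mul, hz, one_pow]
  have hTcard : T.card = r := by
    rw [hT, Finset.card_image_of_injOn, Finset.card_range]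
    intro i hi j hj hij
    have hi' : i < orderOf z := by rw [hord]; exact Finset.mem_range.mp hi
    have hj' : j < orderOf z := by rw [hord]; exact Finset.mem_range.mp hj
    exact pow_injOn_Iio_orderOf hi' hj' hij
  have hScard : S.card ≤ r := IsCyclic.card_pow_eq_one_le hr.pos
  have hST : T = S := Finset.eq_of_subset_of_card_le hTS (by rw [hTcard]; exact hScard)
  have hwS : w ∈ S := by
    rw [hS, Finset.mem_filter]
    exact ⟨Finset.mem_univ _, hw⟩
  rw [← hST, hT, Finset.mem_image] at hwS
  obtain ⟨i, _, rfl⟩ := hwS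
  exact Subgroup.npow_mem_zpowers z i

/-- a nontrivial `r`-group whose abelian subgroups are cyclic has a unique subgroup of order `r` -/
theorem uniqP_of_cyc {Γ : Type*} [Group Γ] [Finite Γ] (r : ℕ) [hr : Fact r.Prime]
    (hG : IsPGroup r Γ) [Nontrivial Γ]
    (hcyc : ∀ B : Subgroup Γ, (∀ x ∈ B, ∀ y ∈ B, x * y = y * x) → IsCyclic B) : UniqP r Γ := by
  have hcne : Subgroup.center Γ ≠ ⊥ := by
    have := hG.center_nontrivial
    exact (Subgroup.nontrivial_iff_ne_bot _).mp this
  obtain ⟨z, hzc, hz1, hzr⟩ := exists_order_p hG (Subgroup.center Γ) hcne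
  have key : ∀ w : Γ, w ^ r = 1 → w ∈ Subgroup.zpowers z := by
    intro w hw
    set B : Subgroup Γ := Subgroup.closure {w, z} with hB
    have hBc : ∀ x ∈ B, ∀ y ∈ B, x * y = y * x := by
      apply comm_closure
      intro x hx y hy
      rw [Subgroup.mem_center_iff] at hzc
      rcases hx with rfl | hx <;> rcases hy with rfl | hy
      · rfl
      · rw [Set.mem_singleton_iff] at hy; rw [hy]; exact hzc x
      · rw [Set.mem_singleton_iff] at hx; rw [hx]; exact (hzc y).symm
      · rw [Set.mem_singleton_iff] at hx hy; rw [hx, hy]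
    have hBcyc : IsCyclic B := hcyc B hBc
    have hwB : w ∈ B := Subgroup.subset_closure (by simp)
    have hzB : z ∈ B := Subgroup.subset_closure (by simp)
    have h1 : (⟨w, hwB⟩ : B) ∈ Subgroup.zpowers (⟨z, hzB⟩ : B) := by
      apply mem_zpowers_of_cyclic r hr.out
      · intro h
        exact hz1 (congrArg Subtype.val h)
      · exact Subtype.ext (by simpa using hzr)
      · exact Subtype.ext (by simpa using hw)
    obtain ⟨k, hk⟩ := h1
    refine ⟨k, ?_⟩
    have := congrArg Subtype.val hk
    simpa using this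
  intro x y hx hxr hyr
  have hcard : Nat.card (Subgroup.zpowers z) = r := by
    rw [Nat.card_zpowers]
    exact orderOf_eq_prime hzr hz1
  have hx' : (⟨x, key x hxr⟩ : Subgroup.zpowers z) ≠ 1 := fun h => hx (congrArg Subtype.val h)
  have h2 := mem_zpowers_of_prime_card (p := r) hcard hx' (g' := ⟨y, key y hyr⟩)
  obtain ⟨k, hk⟩ := h2
  refine ⟨k, ?_⟩
  have := congrArg Subtype.val hk
  simpa using this


/-- class two forces the quaternion group `Q_{4·2^m}` to have order 8 -/
theorem quat_class_two (m : ℕ)
    (h : ∀ x y z : QuaternionGroup (2 ^ m), ⁅x, y⁆ * z = z * ⁅x, y⁆) : m ≤ 1 := by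
  have h1 := h (QuaternionGroup.a 1) (QuaternionGroup.xa 0) (QuaternionGroup.xa 0)
  have h2 : ⁅(QuaternionGroup.a 1 : QuaternionGroup (2 ^ m)), (QuaternionGroup.xa 0 : QuaternionGroup (2 ^ m))⁆ *
      (QuaternionGroup.xa 0 * QuaternionGroup.a 1) = QuaternionGroup.a 1 * QuaternionGroup.xa 0 := by
    rw [commutatorElement_def]
    group
  rw [QuaternionGroup.xa_mul_a, QuaternionGroup.a_mul_xa] at h2
  generalize ⁅(QuaternionGroup.a 1 : QuaternionGroup (2 ^ m)), (QuaternionGroup.xa 0 : QuaternionGroup (2 ^ m))⁆ = c at h1 h2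
  cases c with
  | a j =>
    rw [QuaternionGroup.a_mul_xa, QuaternionGroup.xa_mul_a] at h1
    rw [QuaternionGroup.a_mul_xa] at h2
    have e1 : (0 : ZMod (2 * 2 ^ m)) - j = 0 + j := QuaternionGroup.xa.inj h1
    have e2 : (0 : ZMod (2 * 2 ^ m)) + 1 - j = 0 - 1 := QuaternionGroup.xa.inj h2
    have hj : j = 2 := by linear_combination (-1 : ZMod (2 * 2 ^ m)) * e2
    rw [hj] at e1
    have h4 : ((4 : ℕ) : ZMod (2 * 2 ^ m)) = 0 := by
      push_cast
      linear_combination (-1 : ZMod (2 * 2 ^ m)) * e1
    rw [ZMod.natCast_eq_zero_iff] at h4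
    by_contra hm
    have hm2 : 2 ≤ m := by omega
    have : 2 ^ 2 ≤ 2 ^ m := Nat.pow_le_pow_right (by norm_num) hm2
    have := Nat.le_of_dvd (by norm_num) h4
    omega
  | xa j =>
    rw [QuaternionGroup.xa_mul_xa] at h2
    exact absurd h2 (by simp)


/-- a finite solvable non-abelian group whose abelian subgroups are cyclic and whose
characteristic subgroups are central or everything is `Q_8` -/
theorem quat_of_char {Γ : Type*} [Group Γ] [Finite Γ]
    (hna : ¬ ∀ x y : Γ, x * y = y * x)
    [hsolv : Group.IsSolvable Γ]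
    (hcyc : ∀ B : Subgroup Γ, (∀ x ∈ B, ∀ y ∈ B, x * y = y * x) → IsCyclic B)
    (hchar : ∀ K : Subgroup Γ, K.Characteristic → (∀ x ∈ K, ∀ y ∈ K, x * y = y * x) →
      K ≤ Subgroup.center Γ)
    (hmin : ∀ K : Subgroup Γ, K.Characteristic →
      K = ⊤ ∨ (∀ x ∈ K, ∀ y ∈ K, x * y = y * x)) :
    Nonempty (Γ ≃* QuaternionGroup 2) := by
  have hnt : Nontrivial Γ := by
    by_contra h
    rw [not_nontrivial_iff_subsingleton] at h
    exact hna (fun x y => Subsingleton.elim _ _)
  -- the commutator subgroup is central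
  have hD : commutator Γ ≤ Subgroup.center Γ := by
    have hlt : commutator Γ < ⊤ := Group.IsSolvable.commutator_lt_top_of_nontrivial Γ
    rcases hmin (commutator Γ) inferInstance with h | h
    · exact absurd h (ne_of_lt hlt)
    · exact hchar _ inferInstance h
  have hDc : ∀ x y z : Γ, ⁅x, y⁆ * z = z * ⁅x, y⁆ := by
    intro x y z
    have h1 : ⁅x, y⁆ ∈ commutator Γ := by
      rw [commutator_def]
      exact Subgroup.commutator_mem_commutator (Subgroup.mem_top x) (Subgroup.mem_top y)
    have h2 := hD h1
    rw [Subgroup.mem_center_iff] at h2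
    exact (h2 z).symm
  have hnil : Group.IsNilpotent Γ := by
    rw [Subgroup.nilpotent_iff_lowerCentralSeries]
    refine ⟨2, ?_⟩
    apply Subgroup.lowerCentralSeries_succ_eq_bot
    rw [Subgroup.lowerCentralSeries_succ, Subgroup.lowerCentralSeries_zero, ← commutator_def]
    exact hD
  -- a non-abelian Sylow subgroup
  have hex : ∃ (r : ℕ) (_ : r.Prime) (P : Sylow r Γ),
      ¬ (∀ x ∈ (P : Subgroup Γ), ∀ y ∈ (P : Subgroup Γ), x * y = y * x) := by
    by_contra hall
    simp only [not_exists, not_not] at hall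
    obtain ⟨e⟩ := (Group.isNilpotent_of_finite_tfae (G := Γ)).out 0 4 |>.mp hnil
    apply hna
    intro x y
    have h1 : e.symm x * e.symm y = e.symm y * e.symm x := by
      funext q
      funext P
      apply Subtype.ext
      exact hall q (Nat.prime_of_mem_primeFactors q.2) P _ (e.symm x q P).2 _ (e.symm y q P).2
    have h2 := congrArg e h1
    rwa [map_mul, map_mul, e.apply_symm_apply, e.apply_symm_apply] at h2
  obtain ⟨r, hr, P, hP⟩ := hex
  have hrf : Fact r.Prime := ⟨hr⟩
  have h03 : Group.IsNilpotent Γ → ∀ (p : ℕ) (_hp : Fact p.Prime) (P : Sylow p Γ),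
      (↑P : Subgroup Γ).Normal := (Group.isNilpotent_of_finite_tfae (G := Γ)).out 0 3 |>.mp
  have hPn : (P : Subgroup Γ).Normal := h03 hnil r hrf P
  have hPc : (P : Subgroup Γ).Characteristic := Sylow.characteristic_of_normal P hPn
  have hPtop : (P : Subgroup Γ) = ⊤ := (hmin _ hPc).resolve_right hP
  have hG : IsPGroup r Γ := by
    intro g
    have hg : g ∈ (P : Subgroup Γ) := by rw [hPtop]; trivial
    obtain ⟨k, hk⟩ := P.isPGroup' ⟨g, hg⟩
    refine ⟨k, ?_⟩
    have := congrArg Subtype.val hk
    simpa using this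
  have hU : UniqP r Γ := uniqP_of_cyc r hG hcyc
  have hncyc : ¬ IsCyclic Γ := by
    intro h
    apply hna
    intro x y
    exact (IsCyclic.commGroup (α := Γ)).mul_comm x y
  by_cases hr2 : r = 2
  · subst hr2
    rcases two_case hG hU with h | ⟨m, ⟨e⟩⟩
    · exact absurd h hncyc
    · have hm : m ≤ 1 := by
        apply quat_class_two
        intro x y z
        have := congrArg e (hDc (e.symm x) (e.symm y) (e.symm z))
        simpa [map_commutatorElement] using this
      interval_cases m
      · exfalso
        apply hncyc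
        rw [pow_zero] at e
        have := QuaternionGroup.quaternionGroup_one_isCyclic
        exact isCyclic_of_surjective e.symm e.symm.surjective
      · rw [pow_one] at e
        exact ⟨e⟩
  · exact absurd (odd_case hr2 _ Γ rfl hG hU) hncyc

end Cfsg.Agent.Lib.Helper12.QuatChar
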