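import Mathlib
import Cfsg.Agent.Lib.Helper12.QuatChar
import Cfsg.Agent.S0684

/-!
# The minimal non-abelian normal subgroup of a soluble regular linear group is `Q_8` (helper12)
-/

set_option autoImplicit false

namespace Cfsg.Agent.Lib.Helper12.NearQ8

open Cfsg.Agent.Lib.Helper12.QuatChar

section group
variable {G : Type*} [Group G]

/-- an abelian normal subgroup centralising a maximal normal abelian subgroup lies in it -/
theorem le_of_comm_normal (A : Subgroup G) (hAn : A.Normal) (hAc : IsMulCommutative A)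
    (hAmax : ∀ B : Subgroup G, B.Normal → IsMulCommutative B → A ≤ B → B = A)
    (M : Subgroup G) (hMn : M.Normal) (hMc : ∀ x ∈ M, ∀ y ∈ M, x * y = y * x)
    (hMA : M ≤ Subgroup.centralizer (A : Set G)) : M ≤ A := by
  have hBn : (A ⊔ M).Normal := Subgroup.sup_normal A M
  have hBeq : A ⊔ M = Subgroup.closure ((A : Set G) ∪ (M : Set G)) := by
    rw [Subgroup.closure_union, Subgroup.closure_eq, Subgroup.closure_eq]
  have hBc : ∀ x ∈ A ⊔ M, ∀ y ∈ A ⊔ M, x * y = y * x := by
    rw [hBeq]
    apply comm_closure
    intro x hx y hy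
    rcases hx with hx | hx <;> rcases hy with hy | hy
    · exact congrArg Subtype.val (hAc.is_comm.comm (⟨x, hx⟩ : A) ⟨y, hy⟩)
    · have := hMA hy
      rw [Subgroup.mem_centralizer_iff] at this
      exact this x hx
    · have := hMA hx
      rw [Subgroup.mem_centralizer_iff] at this
      exact (this y hy).symm
    · exact hMc x hx y hy
  have hBc' : IsMulCommutative (A ⊔ M : Subgroup G) :=
    ⟨⟨fun a b => Subtype.ext (hBc a.1 a.2 b.1 b.2)⟩⟩
  have := hAmax (A ⊔ M) hBn hBc' le_sup_left
  rw [← this]
  exact le_sup_right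

/-- group-theoretic core: the minimal non-abelian normal subgroup is `Q_8` when soluble -/
theorem quat_of_min [Finite G]
    (hcyc : ∀ B : Subgroup G, IsMulCommutative B → IsCyclic B)
    (A : Subgroup G) (hAn : A.Normal) (hAc : IsMulCommutative A)
    (hAmax : ∀ B : Subgroup G, B.Normal → IsMulCommutative B → A ≤ B → B = A)
    (N : Subgroup G) (hNn : N.Normal) (hNle : N ≤ Subgroup.centralizer (A : Set G))
    (hNna : ¬ IsMulCommutative N)
    (hNmin : ∀ M : Subgroup G, M.Normal → M ≤ N → ¬ IsMulCommutative M → M = N)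
    [Group.IsSolvable N] : Nonempty (N ≃* QuaternionGroup 2) := by
  have hmapc : ∀ K : Subgroup N, (∀ x ∈ K, ∀ y ∈ K, x * y = y * x) →
      ∀ x ∈ K.map N.subtype, ∀ y ∈ K.map N.subtype, x * y = y * x := by
    intro K hK x hx y hy
    obtain ⟨x', hx', rfl⟩ := Subgroup.mem_map.mp hx
    obtain ⟨y', hy', rfl⟩ := Subgroup.mem_map.mp hy
    have := hK x' hx' y' hy'
    rw [← map_mul, ← map_mul, this]
  apply quat_of_char (Γ := N)
  · intro h
    exact hNna ⟨⟨h⟩⟩
  · intro B hB
    have hB' : IsMulCommutative (B.map N.subtype) :=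
      ⟨⟨fun a b => Subtype.ext (hmapc B hB a.1 a.2 b.1 b.2)⟩⟩
    have hc := hcyc _ hB'
    let e := B.equivMapOfInjective N.subtype N.subtype_injective
    exact isCyclic_of_surjective e.symm e.symm.surjective
  · intro K hK hKc
    have hMn : (K.map N.subtype).Normal := ConjAct.normal_of_characteristic_of_normal
    have hMle : K.map N.subtype ≤ N := Subgroup.map_subtype_le K
    have hMA := le_of_comm_normal A hAn hAc hAmax (K.map N.subtype) hMn (hmapc K hKc)
      (hMle.trans hNle)
    intro k hk
    rw [Subgroup.mem_center_iff]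
    intro n
    have hkA : (k : G) ∈ A := hMA (Subgroup.mem_map.mpr ⟨k, hk, rfl⟩)
    have := hNle n.2
    rw [Subgroup.mem_centralizer_iff] at this
    apply Subtype.ext
    exact (this k hkA).symm
  · intro K hK
    by_cases hKc : ∀ x ∈ K, ∀ y ∈ K, x * y = y * x
    · exact Or.inr hKc
    · left
      have hMn : (K.map N.subtype).Normal := ConjAct.normal_of_characteristic_of_normal
      have hMle : K.map N.subtype ≤ N := Subgroup.map_subtype_le K
      have hMna : ¬ IsMulCommutative (K.map N.subtype) := by
        intro h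
        apply hKc
        intro x hx y hy
        have hx' : (x : G) ∈ K.map N.subtype := Subgroup.mem_map.mpr ⟨x, hx, rfl⟩
        have hy' : (y : G) ∈ K.map N.subtype := Subgroup.mem_map.mpr ⟨y, hy, rfl⟩
        have := h.is_comm.comm (⟨x, hx'⟩ : K.map N.subtype) ⟨y, hy'⟩
        apply Subtype.ext
        exact congrArg (fun z : K.map N.subtype => (z : G)) this
      have hMN := hNmin _ hMn hMle hMna
      rw [eq_top_iff]
      intro x _
      have hx : (x : G) ∈ K.map N.subtype := by rw [hMN]; exact x.2
      obtain ⟨y, hy, hyx⟩ := Subgroup.mem_map.mp hx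
      have : y = x := Subtype.ext hyx
      rwa [← this]

end group

section linear
variable {p : ℕ} [Fact p.Prime] {V : Type*} [AddCommGroup V] [Module (ZMod p) V] [Finite V]

/-- abelian subgroups of a linear group regular on the non-zero vectors are cyclic -/
theorem abelian_cyclic (H : Subgroup (V ≃ₗ[ZMod p] V))
    (hreg : ∀ v w : V, v ≠ 0 → w ≠ 0 → ∃! h : H, (h : V ≃ₗ[ZMod p] V) v = w)
    (B : Subgroup H) (hB : IsMulCommutative B) : IsCyclic B := by
  by_cases hV : (⊤ : Submodule (ZMod p) V) = ⊥
  · have hsub : Subsingleton V := by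
      constructor
      intro a b
      have ha : a ∈ (⊤ : Submodule (ZMod p) V) := trivial
      have hb : b ∈ (⊤ : Submodule (ZMod p) V) := trivial
      rw [hV, Submodule.mem_bot] at ha hb
      rw [ha, hb]
    have hsub2 : Subsingleton B := by
      constructor
      intro a b
      apply Subtype.ext
      apply Subtype.ext
      ext v
      exact Subsingleton.elim _ _
    exact isCyclic_of_subsingleton
  · obtain ⟨W, _, hW0, hWinv, hWmin⟩ :=
      Cfsg.Agent.S0684.exists_minimal (H := H) B _ ⊤ rfl (fun _ _ _ _ => trivial) hV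
    exact Cfsg.Agent.S0684.cyclic_of_minimal hreg B hB W hWinv hW0 hWmin

/-- the minimal non-abelian normal subgroup centralising a maximal normal abelian subgroup of a
regular linear group is quaternion of order 8 when it is soluble -/
theorem quat_of_solvable (H : Subgroup (V ≃ₗ[ZMod p] V))
    (hreg : ∀ v w : V, v ≠ 0 → w ≠ 0 → ∃! h : H, (h : V ≃ₗ[ZMod p] V) v = w)
    (A : Subgroup H) (hAn : A.Normal) (hAc : IsMulCommutative A)
    (hAmax : ∀ B : Subgroup H, B.Normal → IsMulCommutative B → A ≤ B → B = A)
    (N : Subgroup H) (hNn : N.Normal) (hNle : N ≤ Subgroup.centralizer (A : Set H))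
    (hNna : ¬ IsMulCommutative N)
    (hNmin : ∀ M : Subgroup H, M.Normal → M ≤ N → ¬ IsMulCommutative M → M = N)
    [Group.IsSolvable N] : Nonempty (N ≃* QuaternionGroup 2) := by
  have hfinGL : Finite (V ≃ₗ[ZMod p] V) :=
    Finite.of_injective (fun f => (f : V → V)) DFunLike.coe_injective
  exact quat_of_min (abelian_cyclic H hreg) A hAn hAc hAmax N hNn hNle hNna hNmin

end linear

end Cfsg.Agent.Lib.Helper12.NearQ8
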