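import Mathlib

/-!
# Linear groups regular on non-zero vectors: normal subgroups

A non-abelian normal subgroup of a linear group that is regular on the non-zero vectors is
irreducible (spread-kernel argument plus Wedderburn's little theorem); the centraliser of an
irreducible subgroup is abelian.
-/

set_option autoImplicit false

namespace Cfsg.Agent.Lib.Helper12.RegLin

/-- a finite subring of an endomorphism ring all of whose non-zero elements are injective is
commutative (Wedderburn). -/
theorem comm_of_injective {R V : Type*} [Ring R] [AddCommGroup V] [Module R V] [Finite V]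
    (K : Subring (Module.End R V)) (h : ∀ φ ∈ K, φ ≠ 0 → Function.Injective φ) :
    ∀ φ ∈ K, ∀ ψ ∈ K, φ * ψ = ψ * φ := by
  have hfinE : Finite (Module.End R V) :=
    Finite.of_injective (fun f => (f : V → V)) DFunLike.coe_injective
  have hfinK : Finite K := inferInstance
  rcases subsingleton_or_nontrivial K with hsub | hnt
  · intro φ hφ ψ hψ
    have : (⟨φ, hφ⟩ : K) = ⟨ψ, hψ⟩ := Subsingleton.elim _ _
    have h2 : φ = ψ := congrArg Subtype.val this
    rw [h2]
  · have hnzd : NoZeroDivisors K := by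
      refine ⟨?_⟩
      intro a b hab
      by_cases ha : a = 0
      · exact Or.inl ha
      · right
        have ha' : (a : Module.End R V) ≠ 0 := fun h0 => ha (Subtype.ext h0)
        have hinj := h a.1 a.2 ha'
        apply Subtype.ext
        apply LinearMap.ext
        intro v
        have h1 : ((a * b : K) : Module.End R V) v = 0 := by rw [hab]; rfl
        have h2 : (a : Module.End R V) ((b : Module.End R V) v) = 0 := h1
        have h3 := hinj (h2.trans (map_zero _).symm)
        exact h3
    have hdom : IsDomain K := NoZeroDivisors.to_isDomain K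
    have hfield := Finite.isDomain_to_isField K
    intro φ hφ ψ hψ
    have := hfield.mul_comm ⟨φ, hφ⟩ ⟨ψ, hψ⟩
    exact congrArg Subtype.val this

section

variable {k V : Type*} [Field k] [AddCommGroup V] [Module k V] [Finite V]

theorem eq_of_le_of_card_le (A B : Submodule k V) (hAB : A ≤ B)
    (hcard : Nat.card B ≤ Nat.card A) : A = B := by
  apply SetLike.coe_injective
  apply Set.eq_of_subset_of_ncard_le hAB _ (Set.toFinite _)
  rw [← Nat.card_coe_set_eq, ← Nat.card_coe_set_eq]
  exact hcard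

/-- the centraliser of an irreducible linear group is abelian -/
theorem centralizer_comm (H : Subgroup (V ≃ₗ[k] V)) (N : Subgroup H)
    (hirr : ∀ W : Submodule k V,
      (∀ n ∈ N, ∀ v ∈ W, ((n : H) : V ≃ₗ[k] V) v ∈ W) → W = ⊥ ∨ W = ⊤)
    (c c' : H) (hc : c ∈ Subgroup.centralizer (N : Set H))
    (hc' : c' ∈ Subgroup.centralizer (N : Set H)) : c * c' = c' * c := by
  let S : Set (Module.End k V) :=
    Set.range (fun n : N => (((n : H) : V ≃ₗ[k] V) : V →ₗ[k] V))
  let D : Subring (Module.End k V) := Subring.centralizer S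
  have hD : ∀ φ : Module.End k V, φ ∈ D ↔
      ∀ n ∈ N, ∀ v, ((n : H) : V ≃ₗ[k] V) (φ v) = φ (((n : H) : V ≃ₗ[k] V) v) := by
    intro φ
    rw [Subring.mem_centralizer_iff]
    constructor
    · intro h n hn v
      have := h _ ⟨⟨n, hn⟩, rfl⟩
      exact LinearMap.congr_fun this v
    · rintro h _ ⟨n, rfl⟩
      apply LinearMap.ext
      intro v
      exact h n.1 n.2 v
  have hinj : ∀ φ ∈ D, φ ≠ 0 → Function.Injective φ := by
    intro φ hφ hφ0
    rw [hD] at hφ
    rw [← LinearMap.ker_eq_bot]
    have hinv : ∀ n ∈ N, ∀ v ∈ LinearMap.ker φ, ((n : H) : V ≃ₗ[k] V) v ∈ LinearMap.ker φ := by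
      intro n hn v hv
      rw [LinearMap.mem_ker] at hv ⊢
      rw [← hφ n hn v, hv, map_zero]
    rcases hirr _ hinv with h | h
    · exact h
    · exact absurd (LinearMap.ker_eq_top.mp h) hφ0
  have hmem : ∀ c : H, c ∈ Subgroup.centralizer (N : Set H) →
      ((c : V ≃ₗ[k] V) : V →ₗ[k] V) ∈ D := by
    intro c hc
    rw [hD]
    intro n hn v
    rw [Subgroup.mem_centralizer_iff] at hc
    have h1 := hc n hn
    have h2 := congrArg (fun x : H => (x : V ≃ₗ[k] V) v) h1
    simpa using h2
  have := comm_of_injective D hinj _ (hmem c hc) _ (hmem c' hc')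
  apply Subtype.ext
  apply LinearEquiv.ext
  intro v
  have h2 := LinearMap.congr_fun this v
  simpa using h2

/-- a non-abelian normal subgroup of a linear group that is transitive on the non-zero vectors is
irreducible -/
theorem normal_irreducible (H : Subgroup (V ≃ₗ[k] V))
    (htrans : ∀ v w : V, v ≠ 0 → w ≠ 0 → ∃ h : H, (h : V ≃ₗ[k] V) v = w)
    (N : Subgroup H) [hN : N.Normal] (hnab : ¬ IsMulCommutative N) :
    ∀ W : Submodule k V,
      (∀ n ∈ N, ∀ v ∈ W, ((n : H) : V ≃ₗ[k] V) v ∈ W) → W = ⊥ ∨ W = ⊤ := by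
  classical
  intro W₀ hW₀
  by_contra hcon
  simp only [not_or] at hcon
  let Inv : Submodule k V → Prop :=
    fun W => ∀ n ∈ N, ∀ v ∈ W, ((n : H) : V ≃ₗ[k] V) v ∈ W
  have hex : ∃ m, ∃ W : Submodule k V, W ≠ ⊥ ∧ Inv W ∧ Nat.card W = m :=
    ⟨_, W₀, hcon.1, hW₀, rfl⟩
  obtain ⟨W, hWne, hWinv, hWm⟩ := Nat.find_spec hex
  have hmin : ∀ W' : Submodule k V, W' ≠ ⊥ → Inv W' → Nat.card W ≤ Nat.card W' := by
    intro W' h1 h2
    rw [hWm]
    exact Nat.find_min' hex ⟨W', h1, h2, rfl⟩
  have hWtop : W ≠ ⊤ := by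
    intro h
    apply hcon.2
    apply eq_of_le_of_card_le W₀ ⊤ le_top
    rw [← h]
    exact hmin W₀ hcon.1 hW₀
  -- the components
  let comp : H → Submodule k V := fun g => W.map ((g : V ≃ₗ[k] V) : V →ₗ[k] V)
  have hcomp : ∀ (g : H) (v : V), v ∈ comp g ↔ ∃ w ∈ W, (g : V ≃ₗ[k] V) w = v := by
    intro g v
    exact Submodule.mem_map
  have hc1 : ∀ g, Inv (comp g) := by
    intro g n hn v hv
    rw [hcomp] at hv ⊢
    obtain ⟨w, hw, rfl⟩ := hv
    have hconj : g⁻¹ * n * g ∈ N := by
      have := hN.conj_mem n hn g⁻¹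
      simpa using this
    refine ⟨_, hWinv _ hconj w hw, ?_⟩
    simp [Subgroup.coe_mul, LinearEquiv.mul_apply]
  have hc2 : ∀ g, Nat.card (comp g) = Nat.card W := by
    intro g
    exact (Nat.card_congr (Submodule.equivMapOfInjective _
      ((g : V ≃ₗ[k] V).injective) W).toEquiv).symm
  have hc3 : ∀ g, comp g ≠ ⊥ := by
    intro g h
    obtain ⟨w, hw, hw0⟩ := Submodule.exists_mem_ne_zero_of_ne_bot hWne
    have : (g : V ≃ₗ[k] V) w ∈ comp g := (hcomp g _).mpr ⟨w, hw, rfl⟩
    rw [h, Submodule.mem_bot] at this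
    exact hw0 ((LinearEquiv.map_eq_zero_iff _).mp this)
  have hc4 : ∀ g g' (v : V), v ≠ 0 → v ∈ comp g → v ∈ comp g' → comp g = comp g' := by
    intro g g' v hv h1 h2
    have hXinv : Inv (comp g ⊓ comp g') := by
      intro n hn x hx
      exact ⟨hc1 g n hn x hx.1, hc1 g' n hn x hx.2⟩
    have hXne : comp g ⊓ comp g' ≠ ⊥ := by
      intro h
      have : v ∈ comp g ⊓ comp g' := ⟨h1, h2⟩
      rw [h, Submodule.mem_bot] at this
      exact hv this
    have hXcard := hmin _ hXne hXinv
    have e1 := eq_of_le_of_card_le (comp g ⊓ comp g') (comp g) inf_le_left (by rw [hc2]; exact hXcard)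
    have e2 := eq_of_le_of_card_le (comp g ⊓ comp g') (comp g') inf_le_right
      (by rw [hc2]; exact hXcard)
    rw [← e1, e2]
  have hc5 : ∀ v : V, v ≠ 0 → ∃ g, v ∈ comp g := by
    intro v hv
    obtain ⟨w, hw, hw0⟩ := Submodule.exists_mem_ne_zero_of_ne_bot hWne
    obtain ⟨g, hg⟩ := htrans w v hw0 hv
    exact ⟨g, (hcomp g v).mpr ⟨w, hw, hg⟩⟩
  have hc6 : ∀ g, ∃ y, y ∉ comp g := by
    intro g
    by_contra h
    simp only [not_exists, not_not] at h
    have htop : comp g = ⊤ := by
      rw [eq_top_iff]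
      intro y _
      exact h y
    apply hWtop
    apply eq_of_le_of_card_le W ⊤ le_top
    rw [← htop, hc2]
  -- the kernel ring
  let K : Subring (Module.End k V) :=
    { carrier := {φ | ∀ g : H, ∀ v ∈ comp g, φ v ∈ comp g}
      mul_mem' := fun {a b} ha hb g v hv => ha g _ (hb g v hv)
      one_mem' := fun g v hv => hv
      add_mem' := fun {a b} ha hb g v hv => (comp g).add_mem (ha g v hv) (hb g v hv)
      zero_mem' := fun g v _ => (comp g).zero_mem
      neg_mem' := fun {a} ha g v hv => (comp g).neg_mem (ha g v hv) }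
  have hKmem : ∀ φ : Module.End k V, φ ∈ K ↔ ∀ g : H, ∀ v ∈ comp g, φ v ∈ comp g :=
    fun φ => Iff.rfl
  have hinj : ∀ φ ∈ K, φ ≠ 0 → Function.Injective φ := by
    intro φ hφ hφ0
    rw [hKmem] at hφ
    rw [← LinearMap.ker_eq_bot, eq_bot_iff]
    intro x hx
    rw [LinearMap.mem_ker] at hx
    rw [Submodule.mem_bot]
    by_contra hx0
    apply hφ0
    obtain ⟨gx, hgx⟩ := hc5 x hx0
    have step1 : ∀ y, y ∉ comp gx → φ y = 0 := by
      intro y hy
      by_contra hφy
      have hy0 : y ≠ 0 := by
        rintro rfl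
        exact hy (comp gx).zero_mem
      obtain ⟨gy, hgy⟩ := hc5 y hy0
      have hxy0 : x + y ≠ 0 := by
        intro h
        apply hy
        have : y = -x := by
          rw [eq_neg_iff_add_eq_zero, add_comm]
          exact h
        rw [this]
        exact (comp gx).neg_mem hgx
      obtain ⟨gz, hgz⟩ := hc5 (x + y) hxy0
      have h1 : φ y ∈ comp gy := hφ gy y hgy
      have h2 : φ y ∈ comp gz := by
        have := hφ gz (x + y) hgz
        rwa [map_add, hx, zero_add] at this
      have hYZ := hc4 gy gz (φ y) hφy h1 h2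
      have hxY : x ∈ comp gy := by
        have : x + y ∈ comp gy := by rw [hYZ]; exact hgz
        have h3 := (comp gy).sub_mem this hgy
        rwa [add_sub_cancel_right] at h3
      have hXY := hc4 gx gy x hx0 hgx hxY
      apply hy
      rw [hXY]
      exact hgy
    apply LinearMap.ext
    intro y
    by_cases hy : y ∈ comp gx
    · obtain ⟨y', hy'⟩ := hc6 gx
      have h1 : y + y' ∉ comp gx := by
        intro h
        apply hy'
        have := (comp gx).sub_mem h hy
        rwa [add_sub_cancel_left] at this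
      have h2 := step1 _ h1
      rw [map_add, step1 y' hy', add_zero] at h2
      rw [h2]
      rfl
    · rw [step1 y hy]
      rfl
  have hNK : ∀ n ∈ N, (((n : H) : V ≃ₗ[k] V) : V →ₗ[k] V) ∈ K := by
    intro n hn
    rw [hKmem]
    intro g v hv
    exact hc1 g n hn v hv
  apply hnab
  refine ⟨⟨fun a b => ?_⟩⟩
  have := comm_of_injective K hinj _ (hNK a.1 a.2) _ (hNK b.1 b.2)
  apply Subtype.ext
  apply Subtype.ext
  apply LinearEquiv.ext
  intro v
  have h2 := LinearMap.congr_fun this v
  simpa using h2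

end

end Cfsg.Agent.Lib.Helper12.RegLin
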