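import Mathlib
import Cfsg.Agent.Lib.Helper2.SL2a

set_option autoImplicit false

/-!
# Fixed-point-free representations in which every element is diagonalizable

Basic facts and the embedding lemma into `SL₂(K)`.
-/

namespace Cfsg.Agent.Lib.Helper12.ZR

open Cfsg.Agent.Lib.Helper2.SL2

variable {G : Type*} [Group G] {K : Type*} [Field K] {V : Type*} [AddCommGroup V] [Module K V]

/-- a fixed-point-free representation in which every element is diagonalizable -/
structure IsZRep (ρ : G →* Module.End K V) : Prop where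
  fpf : ∀ g : G, g ≠ 1 → ∀ v : V, ρ g v = v → v = 0
  eig : ∀ (g : G) (W : Submodule K V), W ≠ ⊥ → (∀ w ∈ W, ρ g w ∈ W) →
    ∃ w ∈ W, w ≠ 0 ∧ ∃ c : K, ρ g w = c • w
  nt : ∃ v : V, v ≠ 0
  two : (2 : K) ≠ 0

section basic

variable {ρ : G →* Module.End K V}

theorem rho_mul (g h : G) (v : V) : ρ (g * h) v = ρ g (ρ h v) := by
  rw [map_mul]; rfl

theorem rho_one (v : V) : ρ 1 v = v := by rw [map_one]; rfl

theorem rho_inv_apply (g : G) (v : V) : ρ g⁻¹ (ρ g v) = v := by
  rw [← rho_mul, inv_mul_cancel, rho_one]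

theorem rho_apply_inv (g : G) (v : V) : ρ g (ρ g⁻¹ v) = v := by
  rw [← rho_mul, mul_inv_cancel, rho_one]

theorem rho_eq_of_eq {g g' : G} (e : g = g') (v : V) : ρ g v = ρ g' v := by rw [e]

end basic

namespace IsZRep

variable {ρ : G →* Module.End K V} (h : IsZRep ρ)
include h

theorem eq_of_apply_eq {g g' : G} {v : V} (hv : v ≠ 0) (e : ρ g v = ρ g' v) : g = g' := by
  by_contra hne
  have h1 : g'⁻¹ * g ≠ 1 := by
    intro h1
    apply hne
    have : g = g' * (g'⁻¹ * g) := by group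
    rw [this, h1, mul_one]
  apply hv
  apply h.fpf _ h1
  rw [rho_mul, e, rho_inv_apply]

omit h in
theorem apply_ne_zero (g : G) {v : V} (hv : v ≠ 0) : ρ g v ≠ 0 := by
  intro h0
  apply hv
  have := rho_inv_apply (ρ := ρ) g v
  rw [h0, map_zero] at this
  exact this.symm

theorem neg_of_invol {z : G} (hz1 : z ≠ 1) (hz2 : z * z = 1) (v : V) : ρ z v = -v := by
  have h1 : ρ z (v + ρ z v) = v + ρ z v := by
    rw [map_add, ← rho_mul, hz2, rho_one, add_comm]
  have := h.fpf z hz1 _ h1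
  exact (neg_eq_of_add_eq_zero_right this).symm

theorem ord3 {a : G} (ha1 : a ≠ 1) (ha3 : a ^ 3 = 1) (v : V) :
    ρ a (ρ a v) + ρ a v + v = 0 := by
  have h1 : ρ a (ρ a (ρ a v) + ρ a v + v) = ρ a (ρ a v) + ρ a v + v := by
    rw [map_add, map_add]
    have : ρ a (ρ a (ρ a v)) = v := by
      rw [← rho_mul, ← rho_mul]
      have e3 : a * a * a = a ^ 3 := by rw [pow_succ, pow_two]
      rw [e3, ha3, rho_one]
    rw [this]; abel
  exact h.fpf a ha1 _ h1

end IsZRep

/-! ### acting on a plane by a matrix of determinant one -/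

section emb

variable (ρ : G →* Module.End K V) (w₁ w₂ : V)

local notation "SL2" => Matrix.SpecialLinearGroup (Fin 2) K

/-- `g` acts on the span of `w₁, w₂` by the matrix `A` -/
def ActsBy (g : G) (A : SL2) : Prop :=
  ρ g w₁ = A 0 0 • w₁ + A 1 0 • w₂ ∧ ρ g w₂ = A 0 1 • w₁ + A 1 1 • w₂

variable {ρ w₁ w₂}

theorem ActsBy.one : ActsBy ρ w₁ w₂ 1 1 := by
  constructor
  · rw [rho_one, one00, one10]; module
  · rw [rho_one, one01, one11]; module

theorem ActsBy.mul {g g' : G} {A B : SL2} (hg : ActsBy ρ w₁ w₂ g A) (hg' : ActsBy ρ w₁ w₂ g' B) :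
    ActsBy ρ w₁ w₂ (g * g') (A * B) := by
  obtain ⟨a1, a2⟩ := hg
  obtain ⟨b1, b2⟩ := hg'
  constructor
  · rw [rho_mul, b1, map_add, map_smul, map_smul, a1, a2, mul00, mul10]; module
  · rw [rho_mul, b2, map_add, map_smul, map_smul, a1, a2, mul01, mul11]; module

theorem ActsBy.inv {g : G} {A : SL2} (hg : ActsBy ρ w₁ w₂ g A) : ActsBy ρ w₁ w₂ g⁻¹ A⁻¹ := by
  obtain ⟨a1, a2⟩ := hg
  have hd := det2 A
  constructor
  · rw [inv00, inv10]
    have e : ρ g (A 1 1 • w₁ + -A 1 0 • w₂) = w₁ := by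
      rw [map_add, map_smul, map_smul, a1, a2]
      linear_combination (norm := module) hd • w₁
    have e' := rho_inv_apply (ρ := ρ) g (A 1 1 • w₁ + -A 1 0 • w₂)
    rw [e] at e'
    exact e'
  · rw [inv01, inv11]
    have e : ρ g (-A 0 1 • w₁ + A 0 0 • w₂) = w₂ := by
      rw [map_add, map_smul, map_smul, a1, a2]
      linear_combination (norm := module) hd • w₂
    have e' := rho_inv_apply (ρ := ρ) g (-A 0 1 • w₁ + A 0 0 • w₂)
    rw [e] at e'
    exact e'

theorem ActsBy.unique (hli : ∀ a b : K, a • w₁ + b • w₂ = 0 → a = 0 ∧ b = 0) {g : G} {A B : SL2}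
    (h1 : ActsBy ρ w₁ w₂ g A) (h2 : ActsBy ρ w₁ w₂ g B) : A = B := by
  obtain ⟨a1, a2⟩ := h1
  obtain ⟨b1, b2⟩ := h2
  have e1 : (A 0 0 - B 0 0) • w₁ + (A 1 0 - B 1 0) • w₂ = 0 := by
    have := a1.symm.trans b1
    linear_combination (norm := module) this
  have e2 : (A 0 1 - B 0 1) • w₁ + (A 1 1 - B 1 1) • w₂ = 0 := by
    have := a2.symm.trans b2
    linear_combination (norm := module) this
  obtain ⟨c1, c2⟩ := hli _ _ e1
  obtain ⟨c3, c4⟩ := hli _ _ e2
  exact ext2 (sub_eq_zero.mp c1) (sub_eq_zero.mp c3) (sub_eq_zero.mp c2) (sub_eq_zero.mp c4)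

/-- the embedding lemma -/
theorem exists_emb (h : IsZRep ρ) (hw : w₁ ≠ 0)
    (hli : ∀ a b : K, a • w₁ + b • w₂ = 0 → a = 0 ∧ b = 0) (S : Set G)
    (hS : ∀ s ∈ S, ∃ A : SL2, ActsBy ρ w₁ w₂ s A) :
    ∃ τ : Subgroup.closure S →* SL2, Function.Injective τ ∧
      ∀ g : Subgroup.closure S, ActsBy ρ w₁ w₂ (g : G) (τ g) := by
  have hall : ∀ g ∈ Subgroup.closure S, ∃ A : SL2, ActsBy ρ w₁ w₂ g A := by
    intro g hg
    induction hg using Subgroup.closure_induction with
    | mem x hx => exact hS x hx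
    | one => exact ⟨1, ActsBy.one⟩
    | mul x y _ _ hx hy =>
      obtain ⟨A, hA⟩ := hx
      obtain ⟨B, hB⟩ := hy
      exact ⟨A * B, hA.mul hB⟩
    | inv x _ hx =>
      obtain ⟨A, hA⟩ := hx
      exact ⟨A⁻¹, hA.inv⟩
  choose f hf using hall
  let τ : Subgroup.closure S →* SL2 :=
    { toFun := fun g => f g.1 g.2
      map_one' := ActsBy.unique hli (hf 1 _) ActsBy.one
      map_mul' := fun x y => ActsBy.unique hli (hf _ (x * y).2) ((hf _ x.2).mul (hf _ y.2)) }
  refine ⟨τ, ?_, fun g => hf g.1 g.2⟩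
  rw [injective_iff_map_eq_one]
  intro g hg
  have h1 : ActsBy ρ w₁ w₂ (g : G) (τ g) := hf g.1 g.2
  rw [hg] at h1
  obtain ⟨a1, _⟩ := h1
  rw [one00, one10] at a1
  have a2 : ρ (g : G) w₁ = ρ 1 w₁ := by rw [a1, rho_one]; module
  exact Subtype.ext (h.eq_of_apply_eq hw a2)

/-- a matrix with given entries -/
def mk2 (a b c d : K) (hd : a * d - b * c = 1) : SL2 :=
  ⟨!![a, b; c, d], by rw [Matrix.det_fin_two_of]; exact hd⟩

@[simp] theorem mk2_00 (a b c d : K) (hd : a * d - b * c = 1) : (mk2 a b c d hd) 0 0 = a := rfl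
@[simp] theorem mk2_01 (a b c d : K) (hd : a * d - b * c = 1) : (mk2 a b c d hd) 0 1 = b := rfl
@[simp] theorem mk2_10 (a b c d : K) (hd : a * d - b * c = 1) : (mk2 a b c d hd) 1 0 = c := rfl
@[simp] theorem mk2_11 (a b c d : K) (hd : a * d - b * c = 1) : (mk2 a b c d hd) 1 1 = d := rfl

theorem actsBy_mk2 {g : G} {a b c d : K} (hd : a * d - b * c = 1)
    (e1 : ρ g w₁ = a • w₁ + c • w₂) (e2 : ρ g w₂ = b • w₁ + d • w₂) :
    ActsBy ρ w₁ w₂ g (mk2 a b c d hd) := ⟨e1, e2⟩

/-- a nonscalar element with a quadratic equation of constant term one has determinant one -/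
theorem det_of_quadratic (hli : ∀ a b : K, a • w₁ + b • w₂ = 0 → a = 0 ∧ b = 0) {g : G}
    {a b c d α : K} (e1 : ρ g w₁ = a • w₁ + c • w₂) (e2 : ρ g w₂ = b • w₁ + d • w₂)
    (hq : ∀ v : V, ρ g (ρ g v) - α • ρ g v + v = 0) (hns : ¬ (b = 0 ∧ c = 0 ∧ a = d)) :
    a * d - b * c = 1 := by
  have q1 := hq w₁
  have q2 := hq w₂
  rw [e1, map_add, map_smul, map_smul, e1, e2] at q1
  rw [e2, map_add, map_smul, map_smul, e1, e2] at q2
  have r1 : (a * a + b * c - α * a + 1) • w₁ + (c * (a + d - α)) • w₂ = 0 := by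
    linear_combination (norm := module) q1
  have r2 : (b * (a + d - α)) • w₁ + (d * d + b * c - α * d + 1) • w₂ = 0 := by
    linear_combination (norm := module) q2
  obtain ⟨s1, s2⟩ := hli _ _ r1
  obtain ⟨s3, s4⟩ := hli _ _ r2
  by_cases ht : a + d - α = 0
  · have : α = a + d := by linear_combination -ht
    subst this
    linear_combination -s1
  · exfalso
    apply hns
    have hc : c = 0 := by
      rcases mul_eq_zero.mp s2 with h' | h'
      · exact h'
      · exact (ht h').elim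
    have hb : b = 0 := by
      rcases mul_eq_zero.mp s3 with h' | h'
      · exact h'
      · exact (ht h').elim
    refine ⟨hb, hc, ?_⟩
    have e : (a - d) * (a + d - α) = 0 := by
      rw [hb] at s1 s4
      linear_combination s1 - s4
    rcases mul_eq_zero.mp e with h' | h'
    · linear_combination h'
    · exact (ht h').elim

end emb

end Cfsg.Agent.Lib.Helper12.ZR
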