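import Mathlib
import Cfsg.Agent.Lib.Helper12.ZRep

set_option autoImplicit false
set_option linter.unusedSimpArgs false

/-!
# Embeddings into `SL₂(K)` of subgroups of a group with a fixed-point-free representation
-/

namespace Cfsg.Agent.Lib.Helper12.ZR

open Cfsg.Agent.Lib.Helper2.SL2

/-- in a ring where `U, V` generate a quaternion algebra, an element `A` of order three that
conjugates `U ↦ V ↦ UV` is the Hurwitz unit -/
theorem quat_identity {R : Type*} [Ring R] (h2 : ∀ x : R, x + x = 0 → x = 0) (U V A : R)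
    (hUU : U * U = -1) (hVV : V * V = -1) (hVU : V * U = -(U * V))
    (hUA : U * A = A * V) (hVA : V * A = A * (U * V)) (hA : A * A + A + 1 = 0) :
    A + A = -1 + U + V + U * V := by
  have UUx : ∀ x, U * (U * x) = -x := fun x => by rw [← mul_assoc, hUU, neg_one_mul]
  have VVx : ∀ x, V * (V * x) = -x := fun x => by rw [← mul_assoc, hVV, neg_one_mul]
  have VUx : ∀ x, V * (U * x) = -(U * (V * x)) := fun x => by
    rw [← mul_assoc, hVU, neg_mul, mul_assoc]
  have e1 : (-1 + U + V + U * V) * (-1 - U - V - U * V) = 1 + 1 + 1 + 1 := by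
    simp only [mul_add, add_mul, mul_sub, sub_mul, mul_neg, neg_mul, mul_one, one_mul, mul_assoc,
      hUU, UUx, hVV, VVx, hVU, VUx, neg_neg]
    noncomm_ring
  have e1' : (-1 - U - V - U * V) * (-1 + U + V + U * V) = 1 + 1 + 1 + 1 := by
    simp only [mul_add, add_mul, mul_sub, sub_mul, mul_neg, neg_mul, mul_one, one_mul, mul_assoc,
      hUU, UUx, hVV, VVx, hVU, VUx, neg_neg]
    noncomm_ring
  have e2 : (-1 - U - V - U * V) * U = V * (-1 - U - V - U * V) := by
    simp only [mul_add, add_mul, mul_sub, sub_mul, mul_neg, neg_mul, mul_one, one_mul, mul_assoc,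
      hUU, UUx, hVV, VVx, hVU, VUx, neg_neg]
    noncomm_ring
  have e3 : (-1 - U - V - U * V) * V = (U * V) * (-1 - U - V - U * V) := by
    simp only [mul_add, add_mul, mul_sub, sub_mul, mul_neg, neg_mul, mul_one, one_mul, mul_assoc,
      hUU, UUx, hVV, VVx, hVU, VUx, neg_neg]
    noncomm_ring
  have e5 : (-1 + U + V + U * V) * (-1 + U + V + U * V) =
      -(1 + 1 + 1 + 1) - ((-1 + U + V + U * V) + (-1 + U + V + U * V)) := by
    simp only [mul_add, add_mul, mul_sub, sub_mul, mul_neg, neg_mul, mul_one, one_mul, mul_assoc,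
      hUU, UUx, hVV, VVx, hVU, VUx, neg_neg]
    noncomm_ring
  have e7 : U * (-1 + U + V + U * V) * U = 1 - U + V + U * V := by
    simp only [mul_add, add_mul, mul_sub, sub_mul, mul_neg, neg_mul, mul_one, one_mul, mul_assoc,
      hUU, UUx, hVV, VVx, hVU, VUx, neg_neg]
    noncomm_ring
  have e8 : ((V + U * V) + (V + U * V)) * (-V) * (1 - U) = 1 + 1 + 1 + 1 := by
    simp only [mul_add, add_mul, mul_sub, sub_mul, mul_neg, neg_mul, mul_one, one_mul, mul_assoc,
      hUU, UUx, hVV, VVx, hVU, VUx, neg_neg]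
    noncomm_ring
  have e9 : (-1 + U + V + U * V) + (1 - U + V + U * V) = (V + U * V) + (V + U * V) := by
    noncomm_ring
  obtain ⟨H, hH⟩ : ∃ H : R, H = -1 + U + V + U * V := ⟨_, rfl⟩
  obtain ⟨Hb, hHb⟩ : ∃ Hb : R, Hb = -1 - U - V - U * V := ⟨_, rfl⟩
  rw [← hH] at e1 e1' e5 e7 e9 ⊢
  rw [← hHb] at e1 e1' e2 e3
  obtain ⟨C, hC⟩ : ∃ C : R, C = A * Hb := ⟨_, rfl⟩
  have cU : C * U = U * C := by
    rw [hC, mul_assoc, e2, ← mul_assoc, ← hUA, mul_assoc]
  have cV : C * V = V * C := by
    rw [hC, mul_assoc, e3, ← mul_assoc, ← hVA, mul_assoc]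
  have cH : C * H = H * C := by
    rw [hH]
    simp only [mul_add, add_mul, mul_neg, neg_mul, mul_one, one_mul, ← mul_assoc, cU, cV]
    simp only [mul_assoc, cV]
  have c4 : C * H = A + A + A + A := by
    rw [hC, mul_assoc, e1']; noncomm_ring
  have hAi : (-A - 1) * A = 1 := by
    have : (-A - 1) * A = -(A * A + A + 1) + 1 := by noncomm_ring
    rw [this, hA]; simp
  -- the quadratic equation for C
  obtain ⟨X, hX⟩ : ∃ X : R, X = C + C + C + C - (C * C + C * C) := ⟨_, rfl⟩
  obtain ⟨Y, hY⟩ : ∃ Y : R, Y = (1+1+1+1) * (1+1+1+1) - (C * C + C * C + C * C + C * C) := ⟨_, rfl⟩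
  have xU : X * U = U * X := by
    rw [hX]
    simp only [mul_add, add_mul, mul_sub, sub_mul, mul_assoc, cU]
    simp only [← mul_assoc, cU]
  have yU : Y * U = U * Y := by
    rw [hY]
    simp only [mul_add, add_mul, mul_sub, sub_mul, mul_assoc, cU, one_mul, mul_one]
    simp only [← mul_assoc, cU]
  have q : X * H + Y = 0 := by
    have h16 : (A + A + A + A) * (A + A + A + A) + (1+1+1+1) * (A + A + A + A) + (1+1+1+1) * (1+1+1+1) = 0 := by
      have : (A + A + A + A) * (A + A + A + A) + (1+1+1+1) * (A + A + A + A) + (1+1+1+1) * (1+1+1+1)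
          = (1+1+1+1) * (1+1+1+1) * (A * A + A + 1) := by noncomm_ring
      rw [this, hA, mul_zero]
    rw [← c4] at h16
    have e : C * H * (C * H) = C * C * (H * H) := by
      calc C * H * (C * H) = C * ((H * C) * H) := by simp only [mul_assoc]
        _ = C * ((C * H) * H) := by rw [cH]
        _ = C * C * (H * H) := by simp only [mul_assoc]
    rw [e, e5] at h16
    rw [← h16, hX, hY]
    noncomm_ring
  -- conjugate by U
  have q' : X * (1 - U + V + U * V) - Y = 0 := by
    have : U * (X * H + Y) * U = X * (U * H * U) + Y * (U * U) := by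
      rw [mul_add, add_mul, ← mul_assoc U X H, ← xU, ← yU]
      simp only [mul_assoc]
    rw [q, mul_zero, zero_mul, e7, hUU] at this
    rw [this]; noncomm_ring
  have q'' : X * ((V + U * V) + (V + U * V)) = 0 := by
    rw [← e9, mul_add]
    have : X * H + X * (1 - U + V + U * V) = (X * H + Y) + (X * (1 - U + V + U * V) - Y) := by
      noncomm_ring
    rw [this, q, q', add_zero]
  have hX0 : X = 0 := by
    have : X * (1 + 1 + 1 + 1) = 0 := by
      rw [← e8, ← mul_assoc, ← mul_assoc, q'', zero_mul, zero_mul]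
    apply h2; apply h2
    rw [← this]; noncomm_ring
  -- C = 2
  have hL : (H * (-A - 1)) * C = 1 + 1 + 1 + 1 := by
    rw [hC, mul_assoc, ← mul_assoc (-A - 1) A Hb, hAi, one_mul, e1]
  have hC2 : C = 1 + 1 := by
    have : (H * (-A - 1)) * X = 0 := by rw [hX0, mul_zero]
    rw [hX] at this
    have e : (H * (-A - 1)) * (C + C + C + C - (C * C + C * C))
        = ((H * (-A - 1)) * C) * ((1 + 1 + 1 + 1) - (C + C)) := by noncomm_ring
    rw [e, hL] at this
    have e' : (1 + 1 + 1 + 1 : R) * (1 + 1 + 1 + 1 - (C + C)) =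
        ((1 + 1 - C) + (1 + 1 - C)) + ((1 + 1 - C) + (1 + 1 - C)) +
        (((1 + 1 - C) + (1 + 1 - C)) + ((1 + 1 - C) + (1 + 1 - C))) := by noncomm_ring
    rw [e'] at this
    have := h2 _ (h2 _ (h2 _ this))
    rw [sub_eq_zero] at this
    exact this.symm
  have : (A + A) + (A + A) = H + H := by
    have : (A + A) + (A + A) = C * H := by rw [c4]; abel
    rw [this, hC2]; noncomm_ring
  have h3 : (A + A - H) + (A + A - H) = 0 := by
    have e : (A + A - H) + (A + A - H) = ((A + A) + (A + A)) - (H + H) := by noncomm_ring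
    rw [e, this, sub_self]
  have := h2 _ h3
  rw [sub_eq_zero] at this
  exact this


variable {G : Type*} [Group G] {K : Type*} [Field K] {V : Type*} [AddCommGroup V] [Module K V]
  {ρ : G →* Module.End K V}

local notation "SL2" => Matrix.SpecialLinearGroup (Fin 2) K

theorem top_ne_bot_of (h : IsZRep ρ) : (⊤ : Submodule K V) ≠ ⊥ := by
  obtain ⟨v₀, hv₀⟩ := h.nt
  intro e
  apply hv₀
  have : v₀ ∈ (⊤ : Submodule K V) := Submodule.mem_top
  rw [e] at this
  exact (Submodule.mem_bot K).mp this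

theorem eig_ne_zero {g : G} {w : V} {c : K} (hw : w ≠ 0) (e : ρ g w = c • w) : c ≠ 0 := by
  intro h0
  rw [h0, zero_smul] at e
  exact IsZRep.apply_ne_zero g hw e

theorem eig_inv {g : G} {w : V} {c : K} (hw : w ≠ 0) (e : ρ g w = c • w) :
    ρ g⁻¹ w = c⁻¹ • w := by
  have hc := eig_ne_zero hw e
  have h1 : ρ g⁻¹ (ρ g w) = w := rho_inv_apply g w
  rw [e, map_smul] at h1
  calc ρ g⁻¹ w = c⁻¹ • (c • ρ g⁻¹ w) := by rw [smul_smul, inv_mul_cancel₀ hc, one_smul]
    _ = c⁻¹ • w := by rw [h1]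

/-- two noncommuting elements of order three generate a subgroup of `SL₂(K)` -/
theorem emb_two_order_three (h : IsZRep ρ) {a b : G} (ha1 : a ≠ 1) (ha3 : a ^ 3 = 1)
    (hb1 : b ≠ 1) (hb3 : b ^ 3 = 1) (hab : a * b ≠ b * a) :
    ∃ τ : Subgroup.closure ({a, b} : Set G) →* SL2, Function.Injective τ := by
  obtain ⟨w, -, hw, lam, hlam⟩ := h.eig (a * b) ⊤ (top_ne_bot_of h) (fun _ _ => Submodule.mem_top)
  have hlam0 : lam ≠ 0 := eig_ne_zero hw hlam
  have hab' : ρ a (ρ b w) = lam • w := by rw [← rho_mul]; exact hlam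
  have hli : ∀ x y : K, x • w + y • ρ b w = 0 → x = 0 ∧ y = 0 := by
    intro x y e
    by_cases hy : y = 0
    · subst hy
      rw [zero_smul, add_zero] at e
      exact ⟨(smul_eq_zero.mp e).resolve_right hw, rfl⟩
    · exfalso
      have e1 : ρ b w = (-x / y) • w := by
        have e' : y • ρ b w = (-x) • w := by linear_combination (norm := module) e
        calc ρ b w = y⁻¹ • (y • ρ b w) := by rw [smul_smul, inv_mul_cancel₀ hy, one_smul]
          _ = (-x / y) • w := by rw [e', smul_smul]; congr 1; field_simp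
      obtain ⟨c, hc⟩ : ∃ c : K, c = -x / y := ⟨_, rfl⟩
      rw [← hc] at e1
      have hc0 : c ≠ 0 := eig_ne_zero hw e1
      have e2 : ρ a w = (lam / c) • w := by
        rw [e1, map_smul] at hab'
        calc ρ a w = c⁻¹ • (c • ρ a w) := by rw [smul_smul, inv_mul_cancel₀ hc0, one_smul]
          _ = (lam / c) • w := by rw [hab', smul_smul]; congr 1; field_simp
      apply hab
      apply h.eq_of_apply_eq hw
      rw [rho_mul, rho_mul, e1, map_smul, e2, map_smul, e1, smul_smul, smul_smul, mul_comm]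
  -- the action of `b`
  have hb2 : ρ b (ρ b w) = (-1 : K) • w + (-1 : K) • ρ b w := by
    linear_combination (norm := module) h.ord3 hb1 hb3 w
  -- the action of `a`
  have hainv : a⁻¹ = a * a := by
    apply inv_eq_of_mul_eq_one_left
    rw [← ha3, pow_succ, pow_two]
  have e3 : ρ b w = lam • (-(ρ a w) - w) := by
    have h1 : ρ a⁻¹ (ρ a (ρ b w)) = ρ b w := rho_inv_apply a _
    rw [hab', map_smul, hainv, rho_mul] at h1
    rw [← h1]
    congr 1
    linear_combination (norm := module) h.ord3 ha1 ha3 w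
  have ha_w : ρ a w = (-1 : K) • w + (-lam⁻¹) • ρ b w := by
    have e4 : lam⁻¹ • ρ b w = -(ρ a w) - w := by
      rw [e3, smul_smul, inv_mul_cancel₀ hlam0, one_smul]
    linear_combination (norm := module) e4
  have ha_w2 : ρ a (ρ b w) = lam • w + (0 : K) • ρ b w := by
    rw [hab']; module
  have hb_w : ρ b w = (0 : K) • w + (1 : K) • ρ b w := by module
  have da : (-1 : K) * 0 - lam * (-lam⁻¹) = 1 := by
    field_simp
    ring
  have db : (0 : K) * (-1) - (-1) * 1 = 1 := by ring
  obtain ⟨τ, hτ, -⟩ := exists_emb h hw hli ({a, b} : Set G) (by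
    intro s hs
    rcases hs with rfl | rfl
    · exact ⟨mk2 (-1) lam (-lam⁻¹) 0 da, actsBy_mk2 da ha_w ha_w2⟩
    · exact ⟨mk2 0 (-1) 1 (-1) db, actsBy_mk2 db hb_w hb2⟩)
  exact ⟨τ, hτ⟩

/-- in a quaternion subgroup `⟨u, v⟩` normalized by an element `a` of order three that maps
`u ↦ v ↦ uv`, the element `a` acts as the Hurwitz unit -/
theorem rho_hurwitz (h : IsZRep ρ) {u v a : G} (hz1 : u * u ≠ 1) (hz2 : (u * u) * (u * u) = 1)
    (hv : v * v = u * u) (hvu : v * u * v⁻¹ = u⁻¹) (ha1 : a ≠ 1) (ha3 : a ^ 3 = 1)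
    (hau : u * a = a * v) (hav : v * a = a * (u * v)) (x : V) :
    ρ a x + ρ a x = -x + ρ u x + ρ v x + ρ u (ρ v x) := by
  have h2 : ∀ f : Module.End K V, f + f = 0 → f = 0 := by
    intro f hf
    have : (2 : K) • f = 0 := by rw [two_smul]; exact hf
    exact (smul_eq_zero.mp this).resolve_left h.two
  have hUU : ρ u * ρ u = -1 := by
    ext y
    rw [Module.End.mul_apply, ← rho_mul, h.neg_of_invol hz1 hz2]
    rfl
  have hVV : ρ v * ρ v = -1 := by
    ext y
    rw [Module.End.mul_apply, ← rho_mul, hv, h.neg_of_invol hz1 hz2]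
    rfl
  have huinv : u⁻¹ = u * (u * u) := by
    apply inv_eq_of_mul_eq_one_left
    calc u * (u * u) * u = (u * u) * (u * u) := by group
      _ = 1 := hz2
  have hvu' : v * u = u⁻¹ * v := by
    rw [← hvu]; group
  have hVU : ρ v * ρ u = -(ρ u * ρ v) := by
    ext y
    rw [Module.End.mul_apply, ← rho_mul, hvu', huinv, rho_mul, rho_mul, h.neg_of_invol hz1 hz2]
    simp
  have hUA : ρ u * ρ a = ρ a * ρ v := by rw [← map_mul, ← map_mul, hau]
  have hVA : ρ v * ρ a = ρ a * (ρ u * ρ v) := by rw [← map_mul, ← map_mul, ← map_mul, hav]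
  have hA : ρ a * ρ a + ρ a + 1 = 0 := by
    ext y
    have := h.ord3 ha1 ha3 y
    simpa using this
  have key := quat_identity h2 (ρ u) (ρ v) (ρ a) hUU hVV hVU hUA hVA hA
  have := congrArg (fun f : Module.End K V => f x) key
  simpa using this

/-- a quaternion group with an automorphism of order three and an element inverted by `v` and
centralizing `u` embed together in `SL₂(K)` -/
theorem emb_quat (h : IsZRep ρ) {u v a m : G} (hz1 : u * u ≠ 1) (hz2 : (u * u) * (u * u) = 1)
    (hv : v * v = u * u) (hvu : v * u * v⁻¹ = u⁻¹) (ha1 : a ≠ 1) (ha3 : a ^ 3 = 1)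
    (hau : u * a = a * v) (hav : v * a = a * (u * v))
    (hmu : m * u = u * m) (hmv : v⁻¹ * m * v = m⁻¹) :
    ∃ τ : Subgroup.closure ({u, v, a, m} : Set G) →* SL2, Function.Injective τ := by
  obtain ⟨w₀, -, hw₀, i, hi⟩ := h.eig u ⊤ (top_ne_bot_of h) (fun _ _ => Submodule.mem_top)
  -- the eigenspace of `u`
  let E : Submodule K V :=
    { carrier := {x | ρ u x = i • x}
      add_mem' := fun {x y} hx hy => by
        show ρ u (x + y) = i • (x + y)
        rw [map_add, hx, hy, smul_add]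
      zero_mem' := by
        show ρ u 0 = i • (0 : V)
        rw [map_zero, smul_zero]
      smul_mem' := fun c x hx => by
        show ρ u (c • x) = i • (c • x)
        rw [map_smul, hx, smul_comm] }
  have hE : E ≠ ⊥ := by
    intro e
    apply hw₀
    have : w₀ ∈ E := hi
    rw [e] at this
    exact (Submodule.mem_bot K).mp this
  have hEm : ∀ x ∈ E, ρ m x ∈ E := by
    intro x hx
    show ρ u (ρ m x) = i • ρ m x
    rw [← rho_mul, ← hmu, rho_mul]
    have : ρ u x = i • x := hx
    rw [this, map_smul]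
  obtain ⟨w, hwE, hw, mu, hmu'⟩ := h.eig m E hE hEm
  have hiw : ρ u w = i • w := hwE
  have hmu0 : mu ≠ 0 := eig_ne_zero hw hmu'
  have hi0 : i ≠ 0 := eig_ne_zero hw hiw
  have hii : i * i = -1 := by
    have h1 : ρ u (ρ u w) = -w := by rw [← rho_mul, h.neg_of_invol hz1 hz2]
    rw [hiw, map_smul, hiw, smul_smul] at h1
    have h2 : (i * i + 1) • w = 0 := by linear_combination (norm := module) h1
    have := (smul_eq_zero.mp h2).resolve_right hw
    linear_combination this
  have huinv : u⁻¹ = u * (u * u) := by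
    apply inv_eq_of_mul_eq_one_left
    calc u * (u * u) * u = (u * u) * (u * u) := by group
      _ = 1 := hz2
  have hvu' : v * u = u⁻¹ * v := by
    rw [← hvu]; group
  -- `u` on `v w`
  have huv : ∀ y : V, ρ u (ρ v y) = -(ρ v (ρ u y)) := by
    intro y
    have : u * v = v * u⁻¹ := by
      have : v * u⁻¹ = (v * u * v⁻¹)⁻¹ * v := by group
      rw [this, hvu, inv_inv]
    rw [← rho_mul, this, rho_mul, huinv, rho_mul, h.neg_of_invol hz1 hz2, map_neg, map_neg]
  have hu2 : ρ u (ρ v w) = (0 : K) • w + (-i) • ρ v w := by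
    rw [huv, hiw, map_smul]; module
  have hu1 : ρ u w = i • w + (0 : K) • ρ v w := by rw [hiw]; module
  have hw2 : ρ v w ≠ 0 := IsZRep.apply_ne_zero v hw
  have hli : ∀ x y : K, x • w + y • ρ v w = 0 → x = 0 ∧ y = 0 := by
    intro x y e
    have e' : ρ u (x • w + y • ρ v w) = 0 := by rw [e, map_zero]
    rw [map_add, map_smul, map_smul, hiw, huv, hiw, map_smul] at e'
    have e'' : (2 * i * y) • ρ v w = 0 := by
      linear_combination (norm := module) i • e - e'
    have hy : y = 0 := by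
      have := (smul_eq_zero.mp e'').resolve_right hw2
      rcases mul_eq_zero.mp this with h' | h'
      · rcases mul_eq_zero.mp h' with h'' | h''
        · exact (h.two h'').elim
        · exact (hi0 h'').elim
      · exact h'
    subst hy
    rw [zero_smul, add_zero] at e
    exact ⟨(smul_eq_zero.mp e).resolve_right hw, rfl⟩
  -- `v`
  have hv1 : ρ v w = (0 : K) • w + (1 : K) • ρ v w := by module
  have hv2 : ρ v (ρ v w) = (-1 : K) • w + (0 : K) • ρ v w := by
    rw [← rho_mul, hv, h.neg_of_invol hz1 hz2]; module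
  -- `m`
  have hm1 : ρ m w = mu • w + (0 : K) • ρ v w := by rw [hmu']; module
  have hm2 : ρ m (ρ v w) = (0 : K) • w + mu⁻¹ • ρ v w := by
    have : m * v = v * m⁻¹ := by rw [← hmv]; group
    rw [← rho_mul, this, rho_mul, eig_inv hw hmu', map_smul]; module
  -- `a`
  have ha_1 : ρ a w = ((-1 + i) / 2) • w + ((1 - i) / 2) • ρ v w := by
    have h1 := rho_hurwitz h hz1 hz2 hv hvu ha1 ha3 hau hav w
    rw [hiw, huv, hiw, map_smul] at h1
    have h2 : (2 : K) • ρ a w = (-1 + i) • w + (1 - i) • ρ v w := by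
      linear_combination (norm := module) h1
    calc ρ a w = (2 : K)⁻¹ • ((2 : K) • ρ a w) := by
          rw [smul_smul, inv_mul_cancel₀ h.two, one_smul]
      _ = ((-1 + i) / 2) • w + ((1 - i) / 2) • ρ v w := by rw [h2]; module
  have ha_2 : ρ a (ρ v w) = ((-1 - i) / 2) • w + ((-1 - i) / 2) • ρ v w := by
    have h1 := rho_hurwitz h hz1 hz2 hv hvu ha1 ha3 hau hav (ρ v w)
    have hvv : ρ v (ρ v w) = -w := by rw [← rho_mul, hv, h.neg_of_invol hz1 hz2]
    rw [hvv, huv, hiw, map_smul, map_neg, hiw] at h1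
    have h2 : (2 : K) • ρ a (ρ v w) = (-1 - i) • w + (-1 - i) • ρ v w := by
      linear_combination (norm := module) h1
    calc ρ a (ρ v w) = (2 : K)⁻¹ • ((2 : K) • ρ a (ρ v w)) := by
          rw [smul_smul, inv_mul_cancel₀ h.two, one_smul]
      _ = ((-1 - i) / 2) • w + ((-1 - i) / 2) • ρ v w := by rw [h2]; module
  have du : i * (-i) - 0 * 0 = 1 := by linear_combination -hii
  have dv : (0 : K) * 0 - (-1) * 1 = 1 := by ring
  have dm : mu * mu⁻¹ - 0 * 0 = 1 := by
    rw [mul_inv_cancel₀ hmu0]; ring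
  have da : ((-1 + i) / 2) * ((-1 - i) / 2) - ((-1 - i) / 2) * ((1 - i) / 2) = 1 := by
    have h2 := h.two
    field_simp
    linear_combination (-2 : K) * hii
  obtain ⟨τ, hτ, -⟩ := exists_emb h hw hli ({u, v, a, m} : Set G) (by
    intro s hs
    rcases hs with rfl | rfl | rfl | rfl
    · exact ⟨mk2 i 0 0 (-i) du, actsBy_mk2 du hu1 hu2⟩
    · exact ⟨mk2 0 (-1) 1 0 dv, actsBy_mk2 dv hv1 hv2⟩
    · exact ⟨mk2 _ _ _ _ da, actsBy_mk2 da ha_1 ha_2⟩
    · exact ⟨mk2 mu 0 0 mu⁻¹ dm, actsBy_mk2 dm hm1 hm2⟩)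
  exact ⟨τ, hτ⟩

/-- a generalized quaternion group of order 16 together with elements of order three that
preserve its invariant subspaces embed in `SL₂(K)` -/
theorem emb_q16 (h : IsZRep ρ) {x y : G} (T : Set G) (hz1 : x ^ 4 ≠ 1)
    (hz2 : x ^ 4 * x ^ 4 = 1) (hy : y * y = x ^ 4) (hyx : y * x * y⁻¹ = x⁻¹)
    (hT : ∀ a ∈ T, a ≠ 1 ∧ a ^ 3 = 1 ∧ a * (x * x) ≠ (x * x) * a ∧
      ∀ W : Submodule K V, (∀ w ∈ W, ρ x w ∈ W) → (∀ w ∈ W, ρ y w ∈ W) → ∀ w ∈ W, ρ a w ∈ W) :
    ∃ τ : Subgroup.closure (({x, y} : Set G) ∪ T) →* SL2, Function.Injective τ := by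
  obtain ⟨w, -, hw, xi, hxi⟩ := h.eig x ⊤ (top_ne_bot_of h) (fun _ _ => Submodule.mem_top)
  have hxi0 : xi ≠ 0 := eig_ne_zero hw hxi
  have hxx : ρ (x * x) w = (xi * xi) • w := by
    rw [rho_mul, hxi, map_smul, hxi, smul_smul]
  have hx4 : ρ (x ^ 4) w = (xi ^ 4) • w := by
    have : x ^ 4 = (x * x) * (x * x) := by
      rw [pow_succ, pow_succ, pow_two]; group
    rw [this, rho_mul (x * x) (x * x) w, hxx, map_smul, hxx, smul_smul]
    congr 1; ring
  have hxi4 : xi ^ 4 = -1 := by
    rw [h.neg_of_invol hz1 hz2] at hx4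
    have h2 : (xi ^ 4 + 1) • w = 0 := by linear_combination (norm := module) -hx4
    have := (smul_eq_zero.mp h2).resolve_right hw
    linear_combination this
  have hne : xi - xi⁻¹ ≠ 0 := by
    intro e
    have e1 : xi * xi = 1 := by
      have : xi = xi⁻¹ := by linear_combination e
      calc xi * xi = xi * xi⁻¹ := by rw [← this]
        _ = 1 := mul_inv_cancel₀ hxi0
    have e2 : xi ^ 4 = 1 := by
      calc xi ^ 4 = (xi * xi) * (xi * xi) := by ring
        _ = 1 := by rw [e1, one_mul]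
    rw [hxi4] at e2
    apply h.two
    linear_combination -e2
  have hxy : x * y = y * x⁻¹ := by
    have : y * x⁻¹ = (y * x * y⁻¹)⁻¹ * y := by group
    rw [this, hyx, inv_inv]
  have hx2 : ρ x (ρ y w) = (0 : K) • w + xi⁻¹ • ρ y w := by
    rw [← rho_mul, hxy, rho_mul, eig_inv hw hxi, map_smul]; module
  have hx1 : ρ x w = xi • w + (0 : K) • ρ y w := by rw [hxi]; module
  have hw2 : ρ y w ≠ 0 := IsZRep.apply_ne_zero y hw
  have hli : ∀ c d : K, c • w + d • ρ y w = 0 → c = 0 ∧ d = 0 := by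
    intro c d e
    have e' : ρ x (c • w + d • ρ y w) = 0 := by rw [e, map_zero]
    rw [map_add, map_smul, map_smul, hxi, hx2] at e'
    have e'' : ((xi - xi⁻¹) * d) • ρ y w = 0 := by
      linear_combination (norm := module) xi • e - e'
    have hd : d = 0 := by
      have := (smul_eq_zero.mp e'').resolve_right hw2
      rcases mul_eq_zero.mp this with h' | h'
      · exact (hne h').elim
      · exact h'
    subst hd
    rw [zero_smul, add_zero] at e
    exact ⟨(smul_eq_zero.mp e).resolve_right hw, rfl⟩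
  have hy1 : ρ y w = (0 : K) • w + (1 : K) • ρ y w := by module
  have hy2 : ρ y (ρ y w) = (-1 : K) • w + (0 : K) • ρ y w := by
    rw [← rho_mul, hy, h.neg_of_invol hz1 hz2]; module
  have dx : xi * xi⁻¹ - 0 * 0 = 1 := by rw [mul_inv_cancel₀ hxi0]; ring
  have dy : (0 : K) * 0 - (-1) * 1 = 1 := by ring
  -- the plane
  let W : Submodule K V := Submodule.span K {w, ρ y w}
  have hWx : ∀ z ∈ W, ρ x z ∈ W := by
    intro z hz
    obtain ⟨c, d, rfl⟩ := Submodule.mem_span_pair.mp hz
    rw [map_add, map_smul, map_smul, hxi, hx2]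
    apply Submodule.mem_span_pair.mpr
    exact ⟨c * xi, d * xi⁻¹, by module⟩
  have hWy : ∀ z ∈ W, ρ y z ∈ W := by
    intro z hz
    obtain ⟨c, d, rfl⟩ := Submodule.mem_span_pair.mp hz
    rw [map_add, map_smul, map_smul, hy2]
    apply Submodule.mem_span_pair.mpr
    exact ⟨-d, c, by module⟩
  have hw1W : w ∈ W := Submodule.subset_span (by simp)
  have hw2W : ρ y w ∈ W := Submodule.subset_span (by simp)
  obtain ⟨τ, hτ, -⟩ := exists_emb h hw hli (({x, y} : Set G) ∪ T) (by
    intro s hs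
    rcases hs with (rfl | rfl) | hsT
    · exact ⟨mk2 xi 0 0 xi⁻¹ dx, actsBy_mk2 dx hx1 hx2⟩
    · exact ⟨mk2 0 (-1) 1 0 dy, actsBy_mk2 dy hy1 hy2⟩
    · obtain ⟨hs1, hs3, hsc, hsW⟩ := hT s hsT
      obtain ⟨a', c', e1⟩ := Submodule.mem_span_pair.mp (hsW W hWx hWy w hw1W)
      obtain ⟨b', d', e2⟩ := Submodule.mem_span_pair.mp (hsW W hWx hWy _ hw2W)
      have hc' : c' ≠ 0 := by
        intro hc0
        apply hsc
        apply h.eq_of_apply_eq hw
        rw [rho_mul s (x * x) w, rho_mul (x * x) s w, hxx, map_smul, ← e1, hc0, zero_smul,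
          add_zero, map_smul, hxx, smul_smul, smul_smul, mul_comm]
      have hq : ∀ z : V, ρ s (ρ s z) - (-1 : K) • ρ s z + z = 0 := by
        intro z
        linear_combination (norm := module) h.ord3 hs1 hs3 z
      have dd := det_of_quadratic hli e1.symm e2.symm hq (fun hh => hc' hh.2.1)
      exact ⟨mk2 a' b' c' d' dd, actsBy_mk2 dd e1.symm e2.symm⟩)
  exact ⟨τ, hτ⟩

end Cfsg.Agent.Lib.Helper12.ZR
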