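import Mathlib
import Cfsg.Agent.Lib.Helper12.ZEmb
import Cfsg.Agent.Lib.Helper20.SL23

set_option autoImplicit false

/-!
# A quaternion group with an automorphism of order three inside a group with a
fixed-point-free representation
-/

namespace Cfsg.Agent.Lib.Helper12.ZDt

open Cfsg.Agent.Lib.Helper20 Cfsg.Agent.Lib.Helper20.SL23 Cfsg.Agent.Lib.Helper12.ZR

section grp

variable {G : Type*} [Group G] {i g : G}

theorem conj_data (d : Data i g) : Data (g * i * g⁻¹) g where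
  hi4 := by rw [conj_pow, d.hi4]; group
  hi2 := by
    rw [conj_pow]
    intro e
    apply d.hi2
    calc i ^ 2 = g⁻¹ * (g * i ^ 2 * g⁻¹) * g := by group
      _ = 1 := by rw [e]; group
  hg3 := d.hg3
  hg1 := d.hg1
  h1 := by
    calc g * (g * i * g⁻¹) * g⁻¹ * (g * (g * i * g⁻¹) * g⁻¹)
        = g * ((g * i * g⁻¹) * (g * i * g⁻¹)) * g⁻¹ := by group
      _ = g * i ^ 2 * g⁻¹ := by rw [d.h1]
      _ = (g * i * g⁻¹) ^ 2 := by rw [conj_pow]
  h2 := by
    calc g * (g * i * g⁻¹) * g⁻¹ * (g * i * g⁻¹) * (g * (g * i * g⁻¹) * g⁻¹)⁻¹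
        = g * ((g * i * g⁻¹) * i * (g * i * g⁻¹)⁻¹) * g⁻¹ := by group
      _ = g * i⁻¹ * g⁻¹ := by rw [d.h2]
      _ = (g * i * g⁻¹)⁻¹ := by group
  h3 := by
    calc g * (g * (g * i * g⁻¹) * g⁻¹) * g⁻¹ = g * (i * (g * i * g⁻¹)) * g⁻¹ := by rw [d.h3]
      _ = g * i * g⁻¹ * (g * (g * i * g⁻¹) * g⁻¹) := by group

theorem data_hz1 (d : Data i g) : i * i ≠ 1 := by
  have := d.hi2; rwa [pow_two] at this

theorem data_hz2 (d : Data i g) : (i * i) * (i * i) = 1 := by
  have := d.hi4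
  calc (i * i) * (i * i) = i ^ 4 := by simp only [pow_succ, pow_zero, one_mul, mul_assoc]
    _ = 1 := this

theorem data_hv (d : Data i g) : (g * i * g⁻¹) * (g * i * g⁻¹) = i * i := by
  rw [d.h1, pow_two]

theorem data_hau (i g : G) : i * g⁻¹ = g⁻¹ * (g * i * g⁻¹) := by group

theorem data_hav (d : Data i g) : (g * i * g⁻¹) * g⁻¹ = g⁻¹ * (i * (g * i * g⁻¹)) := by
  rw [← d.h3]; group

theorem data_ginv1 (d : Data i g) : g⁻¹ ≠ 1 := fun e => d.hg1 (inv_eq_one.mp e)

theorem data_ginv3 (d : Data i g) : g⁻¹ ^ 3 = 1 := by rw [inv_pow, d.hg3, inv_one]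

theorem data_g_eq (d : Data i g) : g = g⁻¹ * g⁻¹ := by
  calc g = g ^ 3 * (g⁻¹ * g⁻¹) := by
        simp only [pow_succ, pow_zero, one_mul, mul_assoc, mul_inv_cancel_left, mul_inv_cancel, mul_one]
    _ = g⁻¹ * g⁻¹ := by rw [d.hg3, one_mul]

/-- `j` is not a power of `i` -/
theorem data_j_ne (d : Data i g) : g * i * g⁻¹ ≠ i := by
  intro e
  apply d.j_not_mem
  rw [e]; exact Subgroup.mem_zpowers i

end grp

section rep

variable {G : Type*} [Group G] {K : Type*} [Field K] {V : Type*} [AddCommGroup V] [Module K V]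
  {ρ : G →* Module.End K V} {i g : G}

theorem double_inj (h : IsZRep ρ) {a b : V} (e : a + a = b + b) : a = b := by
  have h1 : (2 : K) • (a - b) = 0 := by
    rw [two_smul]
    linear_combination (norm := module) e
  have := (smul_eq_zero.mp h1).resolve_left h.two
  exact sub_eq_zero.mp this

theorem hurwitz (h : IsZRep ρ) (d : Data i g) (x : V) :
    ρ g⁻¹ x + ρ g⁻¹ x = -x + ρ i x + ρ (g * i * g⁻¹) x + ρ i (ρ (g * i * g⁻¹) x) :=
  rho_hurwitz h (data_hz1 d) (data_hz2 d) (data_hv d) d.h2 (data_ginv1 d) (data_ginv3 d)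
    (data_hau i g) (data_hav d) x

/-- a subspace invariant under the quaternion group is invariant under `g⁻¹` -/
theorem inv_ginv (h : IsZRep ρ) (d : Data i g) (W : Submodule K V) (hi : ∀ w ∈ W, ρ i w ∈ W)
    (hj : ∀ w ∈ W, ρ (g * i * g⁻¹) w ∈ W) : ∀ w ∈ W, ρ g⁻¹ w ∈ W := by
  intro w hw
  have e := hurwitz h d w
  have h1 : ρ g⁻¹ w + ρ g⁻¹ w ∈ W := by
    rw [e]
    exact W.add_mem (W.add_mem (W.add_mem (W.neg_mem hw) (hi w hw)) (hj w hw)) (hi _ (hj w hw))
  have h2 : ρ g⁻¹ w = (2 : K)⁻¹ • (ρ g⁻¹ w + ρ g⁻¹ w) := by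
    rw [← two_smul K, smul_smul, inv_mul_cancel₀ h.two, one_smul]
  rw [h2]
  exact W.smul_mem _ h1

theorem inv_g (h : IsZRep ρ) (d : Data i g) (W : Submodule K V) (hi : ∀ w ∈ W, ρ i w ∈ W)
    (hj : ∀ w ∈ W, ρ (g * i * g⁻¹) w ∈ W) : ∀ w ∈ W, ρ g w ∈ W := by
  intro w hw
  rw [rho_eq_of_eq (data_g_eq d) w, rho_mul]
  exact inv_ginv h d W hi hj _ (inv_ginv h d W hi hj w hw)

/-- an element commuting with the quaternion group commutes with `g` -/
theorem commute_ginv (h : IsZRep ρ) (d : Data i g) {m : G} (hmi : m * i = i * m)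
    (hmj : m * (g * i * g⁻¹) = (g * i * g⁻¹) * m) : m * g⁻¹ = g⁻¹ * m := by
  obtain ⟨v, hv⟩ := h.nt
  apply h.eq_of_apply_eq hv
  rw [rho_mul, rho_mul]
  apply double_inj h
  have e1 := hurwitz h d (ρ m v)
  have e2 := congrArg (ρ m) (hurwitz h d v)
  simp only [map_add, map_neg] at e2
  have c1 : ρ m (ρ i v) = ρ i (ρ m v) := by rw [← rho_mul, hmi, rho_mul]
  have c2 : ρ m (ρ (g * i * g⁻¹) v) = ρ (g * i * g⁻¹) (ρ m v) := by rw [← rho_mul, hmj, rho_mul]
  have c3 : ρ m (ρ i (ρ (g * i * g⁻¹) v)) = ρ i (ρ (g * i * g⁻¹) (ρ m v)) := by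
    rw [← rho_mul, hmi, rho_mul, c2]
  rw [c1, c2, c3] at e2
  rw [e2, e1]

theorem commute_g (h : IsZRep ρ) (d : Data i g) {m : G} (hmi : m * i = i * m)
    (hmj : m * (g * i * g⁻¹) = (g * i * g⁻¹) * m) : m * g = g * m := by
  have e := commute_ginv h d hmi hmj
  calc m * g = g * (g⁻¹ * m) * g := by group
    _ = g * (m * g⁻¹) * g := by rw [e]
    _ = g * m := by group

/-- no element of order three centralizes the quaternion group -/
theorem no_three (h : IsZRep ρ) (d : Data i g) {a : G} (ha3 : a ^ 3 = 1) (hai : a * i = i * a)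
    (haj : a * (g * i * g⁻¹) = (g * i * g⁻¹) * a) : a = 1 := by
  by_contra ha1
  have hag : a * g = g * a := commute_g h d hai haj
  obtain ⟨v, hv⟩ := h.nt
  have key : ∀ x : V, ρ a (ρ a x) + ρ a x + x = 0 := h.ord3 ha1 ha3
  have keyg : ∀ x : V, ρ g (ρ g x) + ρ g x + x = 0 := h.ord3 d.hg1 d.hg3
  have cg : ∀ x : V, ρ a (ρ g x) = ρ g (ρ a x) := by
    intro x; rw [← rho_mul, hag, rho_mul]
  have g3 : ∀ x : V, ρ g (ρ g (ρ g x)) = x := by
    intro x
    rw [← rho_mul, ← rho_mul]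
    have : g * g * g = g ^ 3 := by simp only [pow_succ, pow_zero, one_mul]
    rw [this, d.hg3, rho_one]
  -- the element `a` is `g` or `g²`
  have hcase : a = g * g ∨ a = g := by
    by_cases e : ρ a v = ρ g (ρ g v)
    · left
      apply h.eq_of_apply_eq hv
      rw [e, rho_mul]
    · right
      have hw : ρ a v - ρ g (ρ g v) ≠ 0 := fun e' => e (sub_eq_zero.mp e')
      apply h.eq_of_apply_eq hw
      rw [map_sub, map_sub, cg, cg, g3]
      have k1 := key v
      have k2 := keyg (ρ a v)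
      linear_combination (norm := module) k1 - k2
  have hgi : g * i = i * g := by
    rcases hcase with e | e
    · have e2 : g = a * a := by
        rw [e]
        calc g = g ^ 3 * g := by rw [d.hg3, one_mul]
          _ = g * g * (g * g) := by simp only [pow_succ, pow_zero, one_mul, mul_assoc]
      rw [e2, mul_assoc, hai, ← mul_assoc, hai, mul_assoc]
    · rw [← e]; exact hai
  apply data_j_ne d
  rw [hgi]; group

end rep

end Cfsg.Agent.Lib.Helper12.ZDt
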