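import Mathlib
import Cfsg.Agent.Lib.Helper14.DkMain2
import Cfsg.Agent.Lib.Helper14.DkField

set_option autoImplicit false

/-!
# Consequences of Dickson's theorem for subgroups of `SL₂(F)` of order prime to the characteristic
-/

namespace Cfsg.Agent.Lib.Helper12.ZD

open Cfsg.Agent.Lib.Helper14.Dk Cfsg.Agent.Lib.Helper2.SL2

variable {F : Type*} [Field F] [Fintype F] {H : Type*} [Group H] [Finite H]

local notation "SL2" => Matrix.SpecialLinearGroup (Fin 2) F

theorem noUni (p : ℕ) [Fact p.Prime] [CharP F p] (τ : H →* SL2) (hτ : Function.Injective τ)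
    (hp : ¬ p ∣ Nat.card H) : NoUni (ZZ τ) (UU τ) := by
  intro x hx hU
  apply hp
  obtain ⟨V, S, h1, -, -, ⟨c, hc, hc0⟩⟩ := exists_VS τ hτ hx hU
  have h2 : addOrderOf (⟨c, hc⟩ : V) = p := by
    apply addOrderOf_eq_prime
    · apply Subtype.ext
      simp only [AddSubgroup.coe_nsmul, AddSubgroup.coe_zero]
      rw [nsmul_eq_mul, CharP.cast_eq_zero F p, zero_mul]
    · intro h
      exact hc0 (congrArg Subtype.val h)
  have h3 : p ∣ Nat.card V := h2 ▸ addOrderOf_dvd_natCard _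
  have h4 : p ∣ aa x := by rw [← h1]; exact Dvd.dvd.mul_left h3 _
  exact Dvd.dvd.trans h4 (Subgroup.card_subgroup_dvd_card (M x))

/-- Dickson's theorem in the coprime case, in a coarse form -/
theorem dickson (p : ℕ) [Fact p.Prime] [CharP F p] (τ : H →* SL2) (hτ : Function.Injective τ)
    (hp : ¬ p ∣ Nat.card H) :
    (∃ A : Subgroup H, A.Normal ∧ A.index ≤ 2 ∧ ∀ a ∈ A, ∀ b ∈ A, a * b = b * a) ∨
    ((Nat.card H = Nat.card (ZZ τ) * 12 ∨ Nat.card H = Nat.card (ZZ τ) * 24 ∨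
        Nat.card H = Nat.card (ZZ τ) * 60) ∧
      ∀ y, y ∉ ZZ τ → ∃ k, (k = 2 ∨ k = 3 ∨ k = 4 ∨ k = 5) ∧
        Nat.card (Subgroup.centralizer ({y} : Set H)) = Nat.card (ZZ τ) * k) := by
  have D := data_of_rep p τ hτ
  have hno := noUni p τ hτ hp
  have tor : ∀ ts : List (ℕ × ℕ), (∀ t ∈ ts, t.2 = 2 ∨ t.2 = 3 ∨ t.2 = 4 ∨ t.2 = 5) →
      TorIn (ZZ τ) (UU τ) ts → ∀ y, y ∉ ZZ τ → ∃ k, (k = 2 ∨ k = 3 ∨ k = 4 ∨ k = 5) ∧
        Nat.card (Subgroup.centralizer ({y} : Set H)) = Nat.card (ZZ τ) * k := by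
    intro ts hts hT y hy
    obtain ⟨t, ht, -, h2⟩ := hT y hy (hno y hy)
    exact ⟨t.2, hts t ht, h2⟩
  rcases D.main_noU hno with h | h | h | h | h | h
  · left
    refine ⟨⊤, inferInstance, by simp, fun a _ b _ => ?_⟩
    exact D.toCT.central a (by rw [h]; trivial) b
  · left
    obtain ⟨x, hx, -, hM⟩ := h
    refine ⟨⊤, inferInstance, by simp, fun a _ b _ => ?_⟩
    exact D.toCT.comm_of_mem hx (by rw [hM]; trivial) (by rw [hM]; trivial)
  · left
    obtain ⟨x, hx, -, hn, he⟩ := h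
    have hN : Subgroup.normalizer (M x : Set H) = ⊤ := Subgroup.index_eq_one.mp hn
    refine ⟨M x, Subgroup.normalizer_eq_top_iff.mp hN, ?_, fun a ha b hb =>
      D.toCT.comm_of_mem hx ha hb⟩
    have : ee x = (M x).index := by
      unfold ee
      rw [hN, Subgroup.relIndex_top_right]
    rw [← this, he]
  · right
    obtain ⟨hc, h' | h'⟩ := h
    · refine ⟨Or.inl hc, tor _ ?_ h'.2.2.2⟩
      intro t ht
      simp only [List.mem_cons, List.not_mem_nil, or_false] at ht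
      rcases ht with rfl | rfl <;> simp
    · exfalso
      obtain ⟨⟨x, hx, hU⟩, -⟩ := h'.1
      exact hno x hx hU
  · right
    obtain ⟨hc, -, -, -, -, hT⟩ := h
    refine ⟨Or.inr (Or.inl hc), tor _ ?_ hT⟩
    intro t ht
    simp only [List.mem_cons, List.not_mem_nil, or_false] at ht
    rcases ht with rfl | rfl | rfl <;> simp
  · right
    obtain ⟨hc, -, -, -, -, hT⟩ := h
    refine ⟨Or.inr (Or.inr hc), tor _ ?_ hT⟩
    intro t ht
    simp only [List.mem_cons, List.not_mem_nil, or_false] at ht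
    rcases ht with rfl | rfl | rfl <;> simp

/-- the centre has two elements when there is an involution -/
theorem card_ZZ_eq_two (h2 : (2 : F) ≠ 0) (τ : H →* SL2) (hτ : Function.Injective τ) {z : H}
    (hz1 : z ≠ 1) (hz2 : z * z = 1) : z ∈ ZZ τ ∧ Nat.card (ZZ τ) = 2 := by
  have hz : z ∈ ZZ τ := by
    rw [mem_ZZ]
    have : τ z * τ z = 1 := by rw [← map_mul, hz2, map_one]
    exact eq_one_or_neg_one_of_mul_self h2 (τ z) this
  refine ⟨hz, le_antisymm (card_ZZ_le τ hτ) ?_⟩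
  have h1 : (1 : H) ∈ ZZ τ := Subgroup.one_mem _
  have hne : (⟨z, hz⟩ : ZZ τ) ≠ ⟨1, h1⟩ := fun e => hz1 (congrArg Subtype.val e)
  have : Nontrivial (ZZ τ) := ⟨⟨_, _, hne⟩⟩
  exact Finite.one_lt_card
end Cfsg.Agent.Lib.Helper12.ZD
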