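import Mathlib
import Cfsg.Agent.S0040
import Cfsg.Agent.S0041
import Cfsg.Agent.S0068

set_option autoImplicit false
set_option linter.unusedSectionVars false

/-!
# Groups acting fixed-point-freely on a finite group: the bridge to the Frobenius complement
statements
-/

namespace Cfsg.Agent.Lib.Helper12.ZF

universe u v

section general

variable {G : Type u} [Group G] [Finite G] {N : Type v} [Group N] [Finite N] [Nontrivial N]
  (φ : G →* MulAut N) (hφ : ∀ g : G, g ≠ 1 → ∀ n : N, φ g n = n → n = 1)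

open SemidirectProduct

/-- the kernel in the semidirect product -/
abbrev Kn : Subgroup (N ⋊[φ] G) := (inl : N →* N ⋊[φ] G).range
/-- the complement in the semidirect product -/
abbrev Hc : Subgroup (N ⋊[φ] G) := (inr : G →* N ⋊[φ] G).range

instance : (Kn φ).Normal := by
  unfold Kn
  rw [range_inl_eq_ker_rightHom]
  infer_instance

instance : Finite (N ⋊[φ] G) := Finite.of_equiv _ (equivProd (φ := φ)).symm

theorem compl : Subgroup.IsComplement' (Kn φ) (Hc φ) := by
  apply Subgroup.isComplement'_of_card_mul_and_disjoint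
  · rw [Nat.card_congr (MonoidHom.ofInjective (inl_injective (φ := φ))).toEquiv.symm,
      Nat.card_congr (MonoidHom.ofInjective (inr_injective (φ := φ))).toEquiv.symm,
      SemidirectProduct.card]
  · rw [Subgroup.disjoint_def]
    rintro x ⟨n, rfl⟩ ⟨g, hg⟩
    have h1 := congrArg SemidirectProduct.right hg
    simp only [right_inr, right_inl] at h1
    rw [h1, map_one] at hg
    exact hg.symm

theorem Kn_ne_bot : Kn φ ≠ ⊥ := by
  intro e
  obtain ⟨n, hn⟩ := exists_ne (1 : N)
  apply hn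
  have : (inl n : N ⋊[φ] G) ∈ Kn φ := ⟨n, rfl⟩
  rw [e, Subgroup.mem_bot] at this
  have := congrArg SemidirectProduct.left this
  simpa using this

include hφ in
theorem fpf_cond : ∀ h ∈ Hc φ, h ≠ 1 → Kn φ ⊓ Subgroup.centralizer {h} = ⊥ := by
  rintro _ ⟨g, rfl⟩ hg1
  have hg : g ≠ 1 := by
    rintro rfl
    exact hg1 (map_one _)
  rw [eq_bot_iff]
  rintro _ ⟨⟨n, rfl⟩, hc⟩
  have hc : (inl n : N ⋊[φ] G) ∈ Subgroup.centralizer {(inr g : N ⋊[φ] G)} := hc
  rw [Subgroup.mem_centralizer_iff] at hc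
  have h1 := hc (inr g) (Set.mem_singleton _)
  have h2 := congrArg SemidirectProduct.left h1
  simp only [mul_left, left_inr, left_inl, right_inr, right_inl, one_mul, map_one,
    MulAut.one_apply, mul_one] at h2
  have := hφ g hg n h2
  rw [Subgroup.mem_bot, this, map_one]

/-- the isomorphism with the complement -/
noncomputable def eH : G ≃* Hc φ := MonoidHom.ofInjective (inr_injective (φ := φ))

include hφ in
theorem sylow_cases (p : ℕ) [Fact p.Prime] (P : Sylow p G) :
    IsCyclic P ∨ ∃ n : ℕ, Nonempty (P ≃* QuaternionGroup (2 ^ n)) := by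
  let ψ : Hc φ →* G := (eH φ).symm.toMonoidHom
  have hψ : Function.Injective ψ := (eH φ).symm.injective
  have hr : (P : Subgroup G) ≤ ψ.range := by
    intro x _
    exact ⟨eH φ x, (eH φ).symm_apply_apply x⟩
  let P' : Sylow p (Hc φ) := P.comapOfInjective ψ hψ hr
  have e : (P' : Subgroup (Hc φ)) ≃* (P : Subgroup G) := by
    have h1 : (P' : Subgroup (Hc φ)) = (P : Subgroup G).comap ψ := rfl
    rw [h1]
    exact (Subgroup.equivMapOfInjective _ ψ hψ).trans
      (MulEquiv.subgroupCongr (Subgroup.map_comap_eq_self hr))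
  rcases Cfsg.Agent.S0040.result (Kn φ) (Hc φ) (compl φ) (Kn_ne_bot φ) (fpf_cond φ hφ) p P' with
    hc | ⟨n, ⟨e'⟩⟩
  · left
    exact isCyclic_of_surjective e e.surjective
  · right
    exact ⟨n, ⟨e.symm.trans e'⟩⟩

include hφ in
theorem involution (heven : 2 ∣ Nat.card G) :
    (∃ z : G, orderOf z = 2 ∧ ∀ t : G, orderOf t = 2 → t = z) ∧ ∀ a b : N, a * b = b * a := by
  have heven' : 2 ∣ Nat.card (Hc φ) := by
    rw [← Nat.card_congr (eH φ).toEquiv]; exact heven
  obtain ⟨⟨s, ⟨z, rfl⟩, hs2, huniq, -⟩, hcomm⟩ :=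
    Cfsg.Agent.S0068.result (Kn φ) (Hc φ) (compl φ) (Kn_ne_bot φ) (fpf_cond φ hφ) heven'
  constructor
  · refine ⟨z, ?_, ?_⟩
    · rw [← hs2]
      exact (orderOf_injective (inr : G →* N ⋊[φ] G) inr_injective z).symm
    · intro t ht
      have h1 : orderOf ((inr : G →* N ⋊[φ] G) t) = 2 := by
        rw [orderOf_injective (inr : G →* N ⋊[φ] G) inr_injective t]; exact ht
      exact inr_injective (huniq _ ⟨t, rfl⟩ h1)
  · intro a b
    have h1 : ∀ x y : Kn φ, x * y = y * x := hcomm.is_comm.comm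
    have := h1 ⟨inl a, a, rfl⟩ ⟨inl b, b, rfl⟩
    have h2 := congrArg Subtype.val this
    simp only [Subgroup.coe_mul] at h2
    rw [← map_mul, ← map_mul] at h2
    exact inl_injective h2

end general

section comm

variable {G : Type u} [Group G] [Finite G] {N : Type v} [CommGroup N] [Finite N] [Nontrivial N]
  (φ : G →* MulAut N) (hφ : ∀ g : G, g ≠ 1 → ∀ n : N, φ g n = n → n = 1)

open SemidirectProduct

instance : IsMulCommutative (Kn φ) := by
  constructor
  constructor
  rintro ⟨_, a, rfl⟩ ⟨_, b, rfl⟩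
  apply Subtype.ext
  simp only [Subgroup.coe_mul]
  rw [← map_mul, ← map_mul, mul_comm]

include hφ in
theorem cyclic_of (A : Subgroup G)
    (hA : (∀ a ∈ A, ∀ b ∈ A, a * b = b * a) ∨
      ∃ p q : ℕ, p.Prime ∧ q.Prime ∧ Nat.card A = p * q) : IsCyclic A := by
  let A' : Subgroup (N ⋊[φ] G) := A.map (inr : G →* N ⋊[φ] G)
  have e : A ≃* A' := Subgroup.equivMapOfInjective A _ inr_injective
  have hA'H : A' ≤ Hc φ := by
    rintro _ ⟨a, -, rfl⟩
    exact ⟨a, rfl⟩
  have hc : IsCyclic A' := by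
    refine Cfsg.Agent.S0041.result A' (Kn φ) (Kn_ne_bot φ) ?_ ?_ ?_
    · intro x _
      rw [Subgroup.normalizer_eq_top_iff.mpr (inferInstance : (Kn φ).Normal)]
      trivial
    · intro a ha ha1
      exact fpf_cond φ hφ a (hA'H ha) ha1
    · rcases hA with hA | ⟨p, q, hp, hq, hc⟩
      · left
        constructor
        constructor
        rintro ⟨_, a, ha, rfl⟩ ⟨_, b, hb, rfl⟩
        apply Subtype.ext
        simp only [Subgroup.coe_mul]
        rw [← map_mul, ← map_mul, hA a ha b hb]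
      · right
        exact ⟨p, q, hp, hq, by rw [← Nat.card_congr e.toEquiv]; exact hc⟩
  exact isCyclic_of_surjective e.symm e.symm.surjective

end comm

/-- `G` acts fixed-point-freely on a nontrivial finite abelian group -/
def IsFpf (G : Type u) [Group G] : Prop :=
  ∃ (N : Type v) (_ : CommGroup N) (_ : Finite N) (φ : G →* MulAut N), Nontrivial N ∧
    ∀ g : G, g ≠ 1 → ∀ n : N, φ g n = n → n = 1

namespace IsFpf

variable {G : Type u} [Group G]

theorem finite (h : IsFpf.{u, v} G) : Finite G := by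
  obtain ⟨N, _, _, φ, hN, hφ⟩ := h
  have hinj : Function.Injective φ := by
    rw [injective_iff_map_eq_one]
    intro g hg
    by_contra hg1
    obtain ⟨n, hn⟩ := exists_ne (1 : N)
    apply hn
    apply hφ g hg1 n
    rw [hg]; rfl
  have : Finite (MulAut N) := Finite.of_injective (fun f : MulAut N => (f : N → N))
    (fun f g hfg => by ext x; exact congrFun hfg x)
  exact Finite.of_injective φ hinj

theorem of_injective {H : Type*} [Group H] (h : IsFpf.{u, v} G) (f : H →* G)
    (hf : Function.Injective f) : IsFpf.{_, v} H := by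
  obtain ⟨N, iN, iF, φ, hN, hφ⟩ := h
  refine ⟨N, iN, iF, φ.comp f, hN, fun g hg n hn => hφ (f g) ?_ n hn⟩
  intro e
  apply hg
  apply hf
  rw [e, map_one]

theorem subgroup (h : IsFpf.{u, v} G) (H : Subgroup G) : IsFpf.{u, v} H :=
  h.of_injective H.subtype H.subtype_injective

theorem sylow [Finite G] (h : IsFpf.{u, v} G) (p : ℕ) [Fact p.Prime] (P : Sylow p G) :
    IsCyclic P ∨ ∃ n : ℕ, Nonempty (P ≃* QuaternionGroup (2 ^ n)) := by
  obtain ⟨N, _, _, φ, hN, hφ⟩ := h
  exact sylow_cases φ hφ p P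

theorem cyclic_of_comm [Finite G] (h : IsFpf.{u, v} G) (A : Subgroup G)
    (hA : ∀ a ∈ A, ∀ b ∈ A, a * b = b * a) : IsCyclic A := by
  obtain ⟨N, _, _, φ, hN, hφ⟩ := h
  exact cyclic_of φ hφ A (Or.inl hA)

theorem cyclic_of_card [Finite G] (h : IsFpf.{u, v} G) (A : Subgroup G) {p q : ℕ} (hp : p.Prime)
    (hq : q.Prime) (hc : Nat.card A = p * q) : IsCyclic A := by
  obtain ⟨N, _, _, φ, hN, hφ⟩ := h
  exact cyclic_of φ hφ A (Or.inr ⟨p, q, hp, hq, hc⟩)

theorem involution [Finite G] (h : IsFpf.{u, v} G) (heven : 2 ∣ Nat.card G) :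
    ∃ z : G, orderOf z = 2 ∧ ∀ t : G, orderOf t = 2 → t = z := by
  obtain ⟨N, _, _, φ, hN, hφ⟩ := h
  exact (ZF.involution φ hφ heven).1

end IsFpf

end Cfsg.Agent.Lib.Helper12.ZF
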