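import Mathlib
import Cfsg.Agent.Lib.Helper20.QuatSec4
import Cfsg.Agent.Lib.Helper12.QuatChar

set_option autoImplicit false
set_option linter.style.haveILetI false
set_option linter.unusedSimpArgs false
set_option linter.unusedSectionVars false

/-!
# Local group theory for the Zassenhaus theorem
-/

namespace Cfsg.Agent.Lib.Helper12.ZL

open Cfsg.Agent.Lib.Helper20 Cfsg.Agent.Lib.Helper20.QuatSec

section rel

variable {G : Type*} [Group G]

/-- a version of `QuatSec.exists_rel` (by helper20) which records that `i ∈ Q` -/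
theorem exists_rel_mem [Finite G] {T A : Subgroup G} {z : G} (h : GQ T A z) (hT2 : IsPGroup 2 T)
    (Q : Subgroup G) (hQ : Q ≤ T) (g : G) (hg : g ∈ Subgroup.normalizer (Q : Set G))
    (hodd : Odd (orderOf g)) (hnc : ¬ ∀ q ∈ Q, g * q * g⁻¹ = q) : ∃ i ∈ Q, Rel i g := by
  have hconjQ : ∀ q ∈ Q, g * q * g⁻¹ ∈ Q := fun q hq => (Subgroup.mem_normalizer_iff.mp hg q).mp hq
  have hQ2 : IsPGroup 2 Q := hT2.to_le hQ
  haveI := h.cyc
  by_cases hQA : Q ≤ A
  · exfalso
    apply hnc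
    have hcyc : IsCyclic Q := by
      have e1 : Q.subgroupOf A ≃* Q := Subgroup.subgroupOfEquivOfLe hQA
      exact isCyclic_of_surjective e1 e1.surjective
    exact centralizes_of_cyclic Q hcyc hQ2 g hg hodd
  · set A₀ : Subgroup G := Q ⊓ A with hA₀
    have hA₀Q : A₀ ≤ Q := inf_le_left
    have hA₀A : A₀ ≤ A := inf_le_right
    have hA₀cyc : IsCyclic A₀ := by
      have e1 : A₀.subgroupOf A ≃* A₀ := Subgroup.subgroupOfEquivOfLe hA₀A
      exact isCyclic_of_surjective e1 e1.surjective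
    have hA₀2 : IsPGroup 2 A₀ := hQ2.to_le hA₀Q
    have hidx : ∀ s ∈ Q, ∀ t ∈ Q, s ∉ A₀ → t ∉ A₀ → t * s⁻¹ ∈ A₀ := by
      intro s hs t ht hsA htA
      have hsA' : s ∉ A := fun h' => hsA ⟨hs, h'⟩
      have htA' : t ∉ A := fun h' => htA ⟨ht, h'⟩
      have hsiA : s⁻¹ ∉ A := fun h' => hsA' (by simpa using A.inv_mem h')
      exact ⟨Q.mul_mem ht (Q.inv_mem hs),
        h.idx s⁻¹ (T.inv_mem (hQ hs)) t (hQ ht) hsiA htA'⟩
    have hncA : ¬ ∀ u ∈ A₀, g * u * g⁻¹ = u := fun hc =>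
      hnc (centralizes_of_index_two Q A₀ hQ2 g hg hodd hc hidx hA₀Q)
    have hnnA : g ∉ Subgroup.normalizer (A₀ : Set G) := fun hn =>
      hncA (centralizes_of_cyclic A₀ hA₀cyc hA₀2 g hn hodd)
    -- a generator of `A₀`
    obtain ⟨b, hbgen⟩ := hA₀cyc.exists_generator
    have hzz : z ^ 2 = 1 := by rw [pow_two]; exact h.z_sq
    have hsq4 : ∀ t ∈ T, t ∉ A → t ^ 4 = 1 := by
      intro t ht htA
      have := h.sq t ht htA
      calc t ^ 4 = (t * t) * (t * t) := by simp [pow_succ, mul_assoc]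
        _ = 1 := by rw [this, h.z_sq]
    have hb4 : (b : G) ^ 4 = 1 := by
      by_contra hb
      apply hnnA
      apply mem_normalizer_of_forall
      intro u hu
      obtain ⟨k, hk⟩ := Subgroup.mem_zpowers_iff.mp (hbgen ⟨u, hu⟩)
      have hu' : u = (b : G) ^ k := by
        have := congrArg Subtype.val hk
        simpa using this.symm
      rw [hu', conj_zpow']
      apply Subgroup.zpow_mem
      have hbQ : g * (b : G) * g⁻¹ ∈ Q := hconjQ _ (hA₀Q b.2)
      refine ⟨hbQ, ?_⟩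
      by_contra hnA
      have h4 := hsq4 _ (hQ hbQ) hnA
      rw [← conj_pow'] at h4
      apply hb
      have : (b : G) ^ 4 = g⁻¹ * (g * (b : G) ^ 4 * g⁻¹) * g := by group
      rw [this, h4]
      group
    have hu4 : ∀ u ∈ A₀, u ^ 4 = 1 := by
      intro u hu
      obtain ⟨k, hk⟩ := Subgroup.mem_zpowers_iff.mp (hbgen ⟨u, hu⟩)
      have hu' : u = (b : G) ^ k := by
        have := congrArg Subtype.val hk
        simpa using this.symm
      rw [hu', ← zpow_natCast, ← zpow_mul, mul_comm, zpow_mul, zpow_natCast, hb4, one_zpow]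
    obtain ⟨i, hiA, hji⟩ : ∃ i ∈ A₀, g * i * g⁻¹ ∉ A₀ := by
      by_contra hall
      push Not at hall
      exact hnnA (mem_normalizer_of_forall g hall)
    have hjQ : g * i * g⁻¹ ∈ Q := hconjQ i (hA₀Q hiA)
    have hjA : g * i * g⁻¹ ∉ A := fun h' => hji ⟨hjQ, h'⟩
    have hjj : (g * i * g⁻¹) * (g * i * g⁻¹) = z := h.sq _ (hQ hjQ) hjA
    have hi4 : i ^ 4 = 1 := hu4 i hiA
    have hi2 : i ^ 2 ≠ 1 := by
      intro h2
      apply h.z_ne
      rw [← hjj]
      calc (g * i * g⁻¹) * (g * i * g⁻¹) = g * i ^ 2 * g⁻¹ := by rw [pow_two]; group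
        _ = 1 := by rw [h2]; group
    have hiz : i ^ 2 = z := by
      have hiT : i ^ 2 ∈ T := T.pow_mem (hQ (hA₀Q hiA)) 2
      rcases h.invol (i ^ 2) hiT (by rw [← pow_add]; exact hi4) with h' | h'
      · exact (hi2 h').elim
      · exact h'
    have h2rel : (g * i * g⁻¹) * i * (g * i * g⁻¹)⁻¹ = i⁻¹ :=
      h.inv _ (hQ hjQ) hjA i (hA₀A hiA)
    have hio : orderOf i = 4 := by
      have := orderOf_eq_prime_pow (x := i) (p := 2) (n := 1) (by simpa using hi2)
        (by simpa using hi4)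
      simpa using this
    -- `A₀ = ⟨i⟩`
    have hA₀els : ∀ u ∈ A₀, u = 1 ∨ u = i ∨ u = z ∨ u = i⁻¹ := by
      have hle : Subgroup.zpowers i ≤ Subgroup.zpowers (b : G) := by
        rw [Subgroup.zpowers_le]
        obtain ⟨k, hk⟩ := Subgroup.mem_zpowers_iff.mp (hbgen ⟨i, hiA⟩)
        have hi' : i = (b : G) ^ k := by
          have := congrArg Subtype.val hk
          simpa using this.symm
        rw [hi']
        exact Subgroup.zpow_mem _ (Subgroup.mem_zpowers _) _
      have hcard : Nat.card (Subgroup.zpowers (b : G)) ≤ Nat.card (Subgroup.zpowers i) := by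
        rw [Nat.card_zpowers, Nat.card_zpowers, hio]
        exact Nat.le_of_dvd (by norm_num) (orderOf_dvd_of_pow_eq_one hb4)
      have heq : Subgroup.zpowers i = Subgroup.zpowers (b : G) :=
        Subgroup.eq_of_le_of_card_ge hle hcard
      intro u hu
      have hub : u ∈ Subgroup.zpowers (b : G) := by
        obtain ⟨k, hk⟩ := Subgroup.mem_zpowers_iff.mp (hbgen ⟨u, hu⟩)
        have hu' : u = (b : G) ^ k := by
          have := congrArg Subtype.val hk
          simpa using this.symm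
        rw [hu']
        exact Subgroup.zpow_mem _ (Subgroup.mem_zpowers _) _
      rw [← heq] at hub
      obtain ⟨k, hk⟩ := Subgroup.mem_zpowers_iff.mp hub
      have hk' : u = i ^ (k % 4) := by
        rw [← hk]
        have := zpow_mod_orderOf i k
        rw [hio] at this
        exact this.symm
      have h0 : 0 ≤ k % 4 := Int.emod_nonneg k (by norm_num)
      have h4 : k % 4 < 4 := Int.emod_lt_of_pos k (by norm_num)
      have hi3 : i ^ (3 : ℤ) = i⁻¹ := by
        have : i ^ (3 : ℤ) * i = 1 := by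
          have : i ^ (3 : ℤ) * i = i ^ (4 : ℕ) := by
            rw [← zpow_natCast]
            rw [show ((4 : ℕ) : ℤ) = 3 + 1 by norm_num, zpow_add_one]
          rw [this, hi4]
        exact eq_inv_of_mul_eq_one_left this
      have : k % 4 = 0 ∨ k % 4 = 1 ∨ k % 4 = 2 ∨ k % 4 = 3 := by omega
      rcases this with h' | h' | h' | h'
      · left; rw [hk', h', zpow_zero]
      · right; left; rw [hk', h', zpow_one]
      · right; right; left
        rw [hk', h', ← hiz]
        exact zpow_natCast i 2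
      · right; right; right; rw [hk', h', hi3]
    have hA₀zp : ∀ u ∈ A₀, u ∈ Subgroup.zpowers i := by
      intro u hu
      rcases hA₀els u hu with h' | h' | h' | h'
      · rw [h']; exact Subgroup.one_mem _
      · rw [h']; exact Subgroup.mem_zpowers _
      · rw [h', ← hiz]; exact Subgroup.pow_mem _ (Subgroup.mem_zpowers _) _
      · rw [h']; exact Subgroup.inv_mem _ (Subgroup.mem_zpowers _)
    have hzpA₀ : Subgroup.zpowers i ≤ A₀ := by
      rw [Subgroup.zpowers_le]; exact hiA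
    have hkQ : g * (g * i * g⁻¹) * g⁻¹ ∈ Q := hconjQ _ hjQ
    -- `g` does not commute with `j`
    have hncj : ¬ Commute g (g * i * g⁻¹) := by
      intro hc
      apply hji
      have h1 : g * (g * i * g⁻¹) * g⁻¹ = g * i * g⁻¹ := conj_eq_self_of_commute hc
      have h2 : g * i * g⁻¹ = i := by
        calc g * i * g⁻¹ = g⁻¹ * (g * (g * i * g⁻¹) * g⁻¹) * g := by group
          _ = g⁻¹ * (g * i * g⁻¹) * g := by rw [h1]
          _ = i := by group
      rw [h2]
      exact hiA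
    have hkA : g * (g * i * g⁻¹) * g⁻¹ ∉ A := by
      intro hk
      have hk0 : g * (g * i * g⁻¹) * g⁻¹ ∈ Subgroup.zpowers i := hA₀zp _ ⟨hkQ, hk⟩
      have hfin : Finite (Subgroup.zpowers i) := inferInstance
      have hn2 : g ^ 2 ∈ Subgroup.normalizer ((Subgroup.zpowers i : Subgroup G) : Set G) := by
        apply mem_normalizer_of_forall
        intro u hu
        obtain ⟨k, rfl⟩ := Subgroup.mem_zpowers_iff.mp hu
        rw [conj_zpow']
        apply Subgroup.zpow_mem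
        have : g ^ 2 * i * (g ^ 2)⁻¹ = g * (g * i * g⁻¹) * g⁻¹ := by rw [pow_two]; group
        rw [this]
        exact hk0
      have hn1 : g ∈ Subgroup.normalizer ((Subgroup.zpowers i : Subgroup G) : Set G) := by
        have := mem_zpowers_sq_of_odd g hodd
        exact (Subgroup.zpowers_le.mpr hn2) this
      apply hji
      apply hzpA₀
      exact (Subgroup.mem_normalizer_iff.mp hn1 i).mp (Subgroup.mem_zpowers i)
    have hw : g * (g * i * g⁻¹) * g⁻¹ * (g * i * g⁻¹)⁻¹ ∈ A₀ := by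
      refine ⟨Q.mul_mem hkQ (Q.inv_mem hjQ), ?_⟩
      have hjiA : (g * i * g⁻¹)⁻¹ ∉ A := fun h' => hjA (by simpa using A.inv_mem h')
      exact h.idx _ (T.inv_mem (hQ hjQ)) _ (hQ hkQ) hjiA hkA
    have hj4 : (g * i * g⁻¹) ^ 4 = 1 := hsq4 _ (hQ hjQ) hjA
    rcases hA₀els _ hw with h' | h' | h' | h'
    · exfalso
      apply hncj
      have : g * (g * i * g⁻¹) * g⁻¹ = g * i * g⁻¹ := by
        rw [mul_inv_eq_one] at h'
        exact h'
      have h3 : g * (g * i * g⁻¹) = (g * i * g⁻¹) * g := by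
        calc g * (g * i * g⁻¹) = (g * (g * i * g⁻¹) * g⁻¹) * g := by group
          _ = (g * i * g⁻¹) * g := by rw [this]
      exact h3
    · refine ⟨i, hA₀Q hiA, ⟨hi4, hi2, by rw [hjj, hiz], h2rel, ?_⟩⟩
      rw [mul_inv_eq_iff_eq_mul] at h'
      exact h'
    · exfalso
      apply hncj
      apply commute_of_commute_sq g _ hodd
      -- `g j g⁻¹ = j ^ 3`
      have e1 : g * (g * i * g⁻¹) * g⁻¹ = (g * i * g⁻¹) ^ 3 := by
        rw [mul_inv_eq_iff_eq_mul] at h'
        rw [h', ← hjj, pow_succ, pow_two]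
      have e2 : g ^ 2 * (g * i * g⁻¹) * (g ^ 2)⁻¹ = g * i * g⁻¹ := by
        calc g ^ 2 * (g * i * g⁻¹) * (g ^ 2)⁻¹ = g * (g * (g * i * g⁻¹) * g⁻¹) * g⁻¹ := by
              rw [pow_two]; group
          _ = g * (g * i * g⁻¹) ^ 3 * g⁻¹ := by rw [e1]
          _ = (g * (g * i * g⁻¹) * g⁻¹) ^ 3 := by rw [conj_pow']
          _ = ((g * i * g⁻¹) ^ 3) ^ 3 := by rw [e1]
          _ = ((g * i * g⁻¹) ^ 4) ^ 2 * (g * i * g⁻¹) := by
              rw [← pow_mul, ← pow_mul, ← pow_succ]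
          _ = g * i * g⁻¹ := by rw [hj4, one_pow, one_mul]
      have e3 : g ^ 2 * (g * i * g⁻¹) = (g * i * g⁻¹) * g ^ 2 := by
        calc g ^ 2 * (g * i * g⁻¹) = (g ^ 2 * (g * i * g⁻¹) * (g ^ 2)⁻¹) * g ^ 2 := by group
          _ = (g * i * g⁻¹) * g ^ 2 := by rw [e2]
      exact e3
    · -- use `i⁻¹`
      have hk' : g * (g * i * g⁻¹) * g⁻¹ = i⁻¹ * (g * i * g⁻¹) := by
        rw [mul_inv_eq_iff_eq_mul] at h'
        exact h'
      have hconj : g * i⁻¹ * g⁻¹ = (g * i * g⁻¹)⁻¹ := by group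
      have h2' : (g * i * g⁻¹) * i⁻¹ * (g * i * g⁻¹)⁻¹ = i := by
        calc (g * i * g⁻¹) * i⁻¹ * (g * i * g⁻¹)⁻¹
            = ((g * i * g⁻¹) * i * (g * i * g⁻¹)⁻¹)⁻¹ := by group
          _ = i := by rw [h2rel, inv_inv]
      refine ⟨i⁻¹, Q.inv_mem (hA₀Q hiA), ⟨by rw [inv_pow, hi4, inv_one], ?_, ?_, ?_, ?_⟩⟩
      · rw [inv_pow]
        intro h2
        exact hi2 (inv_eq_one.mp h2)
      · rw [hconj, inv_pow, ← mul_inv_rev, hjj, hiz]
      · rw [hconj, inv_inv, inv_inv]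
        calc (g * i * g⁻¹)⁻¹ * i⁻¹ * (g * i * g⁻¹)
            = (g * i * g⁻¹)⁻¹ * ((g * i * g⁻¹) * i * (g * i * g⁻¹)⁻¹) * (g * i * g⁻¹) := by
              rw [h2rel]
          _ = i := by group
      · rw [hconj]
        calc g * (g * i * g⁻¹)⁻¹ * g⁻¹ = (g * (g * i * g⁻¹) * g⁻¹)⁻¹ := by
              simp only [mul_inv_rev, inv_inv, mul_assoc]
          _ = (i⁻¹ * (g * i * g⁻¹))⁻¹ := by rw [hk']
          _ = (g * i * g⁻¹)⁻¹ * i := by group
          _ = (g * i * g⁻¹)⁻¹ * ((g * i * g⁻¹) * i⁻¹ * (g * i * g⁻¹)⁻¹) := by rw [h2']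
          _ = i⁻¹ * (g * i * g⁻¹)⁻¹ := by group


/-- passing to the `3`-part of the acting element -/
theorem rel_three_part [Finite G] {i e : G} (r : Rel i e) :
    ∃ g : G, g ∈ Subgroup.zpowers e ∧ Rel i g ∧ ∃ a : ℕ, 1 ≤ a ∧ orderOf g = 3 ^ a := by
  have hn : orderOf e ≠ 0 := (orderOf_pos e).ne'
  obtain ⟨a, m, hm3, hnm⟩ := Nat.exists_eq_pow_mul_and_not_dvd hn 3 (by norm_num)
  have hmm : (m * m) % 3 = 1 := by
    have h1 : m % 3 = 1 ∨ m % 3 = 2 := by omega
    rcases h1 with h1 | h1 <;> simp [Nat.mul_mod, h1]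
  obtain ⟨t, ht⟩ : ∃ t, m * m = 3 * t + 1 := ⟨m * m / 3, by omega⟩
  have hc3 : Commute (e ^ 3) i := r.commute_cube
  have hc3e : Commute (e ^ 3) e := (Commute.refl e).pow_left 3
  have hpow : e ^ (m * m) = (e ^ 3) ^ t * e := by
    rw [ht, pow_succ, pow_mul]
  have conj_eq : ∀ y : G, Commute (e ^ 3) y → e ^ (m * m) * y * (e ^ (m * m))⁻¹ = e * y * e⁻¹ := by
    intro y hy
    have h1 : Commute ((e ^ 3) ^ t) (e * y * e⁻¹) :=
      (((hc3e.mul_right hy).mul_right hc3e.inv_right)).pow_left t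
    rw [hpow, mul_inv_rev]
    calc (e ^ 3) ^ t * e * y * (e⁻¹ * ((e ^ 3) ^ t)⁻¹)
        = (e ^ 3) ^ t * (e * y * e⁻¹) * ((e ^ 3) ^ t)⁻¹ := by group
      _ = (e * y * e⁻¹) * (e ^ 3) ^ t * ((e ^ 3) ^ t)⁻¹ := by rw [h1.eq]
      _ = e * y * e⁻¹ := by group
  have hj3 : Commute (e ^ 3) (e * i * e⁻¹) := (hc3e.mul_right hc3).mul_right hc3e.inv_right
  have e1 := conj_eq i hc3
  have e2 := conj_eq (e * i * e⁻¹) hj3
  have hrel : Rel i (e ^ (m * m)) := by
    refine ⟨r.hi4, r.hi2, ?_, ?_, ?_⟩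
    · rw [e1]; exact r.h1
    · rw [e1]; exact r.h2
    · rw [e1, e2]; exact r.h3
  have hord : orderOf (e ^ (m * m)) = 3 ^ a := by
    rw [orderOf_pow, hnm, Nat.gcd_mul_right]
    have hcop : Nat.gcd (3 ^ a) m = 1 :=
      Nat.Coprime.pow_left a ((Nat.Prime.coprime_iff_not_dvd Nat.prime_three).mpr hm3)
    rw [hcop, one_mul]
    have hm0 : 0 < m := by
      rcases Nat.eq_zero_or_pos m with h0 | h0
      · rw [h0] at hm3; exact (hm3 (dvd_zero 3)).elim
      · exact h0
    exact Nat.mul_div_cancel _ hm0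
  refine ⟨e ^ (m * m), Subgroup.pow_mem _ (Subgroup.mem_zpowers e) _, hrel, a, ?_, hord⟩
  by_contra ha
  have ha0 : a = 0 := by omega
  rw [ha0, pow_zero, orderOf_eq_one_iff] at hord
  have h2 := hrel.h2
  rw [hord] at h2
  simp only [one_mul, inv_one, mul_one] at h2
  apply hrel.hi2
  rw [pow_two]
  calc i * i = i * (i * i * i⁻¹) := by group
    _ = i * i⁻¹ := by rw [h2]
    _ = 1 := mul_inv_cancel i

end rel

/-- a central element of an abelian Sylow subgroup is not a product of commutators -/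
theorem not_mem_commutator_of_central {X : Type*} [Group X] [Finite X] {p : ℕ} [Fact p.Prime]
    (P : Sylow p X) (hP : ∀ a ∈ P, ∀ b ∈ P, a * b = b * a) {x : X} (hxP : x ∈ P)
    (hxc : ∀ y, x * y = y * x) (hx1 : x ≠ 1) : x ∉ commutator X := by
  letI : CommGroup P :=
    { (inferInstance : Group P) with mul_comm := fun a b => Subtype.ext (hP a a.2 b b.2) }
  let T : X →* P := MonoidHom.transfer (MonoidHom.id P)
  have key : ∀ (k : ℕ) (g₀ : X), g₀⁻¹ * x ^ k * g₀ ∈ (P : Subgroup X) →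
      g₀⁻¹ * x ^ k * g₀ = x ^ k := by
    intro k g₀ _
    have h1 : Commute x g₀ := hxc g₀
    have h2 : x ^ k * g₀ = g₀ * x ^ k := (h1.pow_left k).eq
    rw [mul_assoc, h2, inv_mul_cancel_left]
  have hT := MonoidHom.transfer_eq_pow (MonoidHom.id P) x key
  intro hx
  have hker : x ∈ T.ker := Abelianization.commutator_subset_ker T hx
  rw [MonoidHom.mem_ker] at hker
  have h1 : x ^ (P : Subgroup X).index = 1 := by
    have h2 : T x = ⟨x ^ (P : Subgroup X).index, _⟩ := hT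
    rw [hker] at h2
    exact (congrArg Subtype.val h2).symm
  obtain ⟨k, hk⟩ := P.2 ⟨x, hxP⟩
  have h2 : x ^ p ^ k = 1 := by
    have := congrArg Subtype.val hk
    simpa using this
  have hcop : Nat.Coprime (P : Subgroup X).index (p ^ k) := by
    apply Nat.Coprime.pow_right
    rw [Nat.coprime_comm, Nat.Prime.coprime_iff_not_dvd Fact.out]
    exact P.not_dvd_index
  apply hx1
  have h3 : orderOf x ∣ Nat.gcd (P : Subgroup X).index (p ^ k) :=
    Nat.dvd_gcd (orderOf_dvd_of_pow_eq_one h1) (orderOf_dvd_of_pow_eq_one h2)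
  rw [hcop] at h3
  exact orderOf_eq_one_iff.mp (Nat.dvd_one.mp h3)

/-- a group with cyclic Sylow `2`-subgroups: the elements of odd order form a normal subgroup -/
theorem exists_odd_part {X : Type*} [Group X] [Finite X] (hcyc : ∀ P : Sylow 2 X, IsCyclic P) :
    ∃ M : Subgroup X, M.Normal ∧ Odd (Nat.card M) ∧ ∀ g : X, Odd (orderOf g) → g ∈ M := by
  haveI : Fact (Nat.Prime 2) := ⟨Nat.prime_two⟩
  by_cases h2 : 2 ∣ Nat.card X
  · have hmf : (Nat.card X).minFac = 2 := (Nat.minFac_eq_two_iff _).mpr h2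
    let P : Sylow 2 X := default
    have hc := IsCyclic.isComplement' hmf (hcyc P)
    have hNC := (hcyc P).normalizer_le_centralizer hmf
    refine ⟨(MonoidHom.transferSylow P hNC).ker, inferInstance, ?_, ?_⟩
    · have := MonoidHom.not_dvd_card_ker_transferSylow P hNC
      exact Nat.odd_iff.mpr (Nat.two_dvd_ne_zero.mp this)
    · intro g hg
      rw [MonoidHom.mem_ker]
      have h3 : orderOf (MonoidHom.transferSylow P hNC g) ∣ orderOf g := orderOf_map_dvd _ g
      obtain ⟨k, hk⟩ := (IsPGroup.iff_orderOf.mp P.2) (MonoidHom.transferSylow P hNC g)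
      rw [hk] at h3
      have h4 : k = 0 := by
        by_contra hk0
        have : 2 ∣ orderOf g := (dvd_pow_self 2 hk0).trans h3
        exact (Nat.not_even_iff_odd.mpr hg) (even_iff_two_dvd.mpr this)
      rw [h4, pow_zero] at hk
      exact orderOf_eq_one_iff.mp hk
  · refine ⟨⊤, inferInstance, ?_, fun g _ => Subgroup.mem_top g⟩
    rw [Subgroup.card_top]
    exact Nat.odd_iff.mpr (Nat.two_dvd_ne_zero.mp h2)

/-- the decomposition of an element into its `2`-part and its odd part -/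
theorem two_odd_decomp {X : Type*} [Group X] [Finite X] (g : X) :
    ∃ a b : X, a ∈ Subgroup.zpowers g ∧ b ∈ Subgroup.zpowers g ∧ g = a * b ∧
      (∃ k : ℕ, a ^ 2 ^ k = 1) ∧ Odd (orderOf b) := by
  have hn : orderOf g ≠ 0 := (orderOf_pos g).ne'
  obtain ⟨k, m, hm, hnm⟩ := Nat.exists_eq_two_pow_mul_odd hn
  have hcop : IsCoprime ((2 ^ k : ℕ) : ℤ) (m : ℤ) := by
    rw [Nat.isCoprime_iff_coprime]
    exact Nat.Coprime.pow_left k (Nat.coprime_two_left.mpr hm)
  obtain ⟨u, v, huv⟩ := hcop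
  refine ⟨(g ^ m) ^ v, (g ^ 2 ^ k) ^ u, ?_, ?_, ?_, ⟨k, ?_⟩, ?_⟩
  · exact Subgroup.zpow_mem _ (Subgroup.pow_mem _ (Subgroup.mem_zpowers g) _) _
  · exact Subgroup.zpow_mem _ (Subgroup.pow_mem _ (Subgroup.mem_zpowers g) _) _
  · rw [← zpow_natCast g m, ← zpow_natCast g (2 ^ k), ← zpow_mul, ← zpow_mul, ← zpow_add]
    have : (m : ℤ) * v + ((2 ^ k : ℕ) : ℤ) * u = 1 := by rw [← huv]; ring
    rw [this, zpow_one]
  · rw [← zpow_natCast, ← zpow_mul, mul_comm, zpow_mul, zpow_natCast, ← pow_mul, mul_comm, ← hnm,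
      pow_orderOf_eq_one, one_zpow]
  · have h1 : ((g ^ 2 ^ k) ^ u) ^ m = 1 := by
      rw [← zpow_natCast, ← zpow_mul, mul_comm, zpow_mul, zpow_natCast, ← pow_mul, ← hnm,
        pow_orderOf_eq_one, one_zpow]
    exact Odd.of_dvd_nat hm (orderOf_dvd_of_pow_eq_one h1)

end Cfsg.Agent.Lib.Helper12.ZL
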