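import Mathlib
import Cfsg.Agent.Lib.Helper12.ZData
import Cfsg.Agent.Lib.Helper12.ZDick
import Cfsg.Agent.Lib.Helper12.ZFpf
import Cfsg.Agent.Lib.Helper12.ZLocal

set_option autoImplicit false

/-!
# Local analysis: centralizers of elements of order four
-/

namespace Cfsg.Agent.Lib.Helper12.ZP

open Cfsg.Agent.Lib.Helper20 Cfsg.Agent.Lib.Helper20.SL23 Cfsg.Agent.Lib.Helper12.ZR
  Cfsg.Agent.Lib.Helper12.ZDt Cfsg.Agent.Lib.Helper12.ZF Cfsg.Agent.Lib.Helper12.ZL
  Cfsg.Agent.Lib.Helper14.Dk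

universe u v

section grp

variable {G : Type*} [Group G]

theorem comm_of_cyclic {A : Subgroup G} (hc : IsCyclic A) {a b : G} (ha : a ∈ A) (hb : b ∈ A) :
    a * b = b * a := by
  obtain ⟨x, hx⟩ := hc.exists_generator
  obtain ⟨m, hm⟩ := Subgroup.mem_zpowers_iff.mp (hx ⟨a, ha⟩)
  obtain ⟨n, hn⟩ := Subgroup.mem_zpowers_iff.mp (hx ⟨b, hb⟩)
  have e1 : a = (x : G) ^ m := by
    have := congrArg Subtype.val hm
    simpa using this.symm
  have e2 : b = (x : G) ^ n := by
    have := congrArg Subtype.val hn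
    simpa using this.symm
  rw [e1, e2, ← zpow_add, ← zpow_add, add_comm]

/-- in a generalized quaternion group the centralizer of an element of order at least four is
abelian -/
theorem gq_centralizer_comm {S A : Subgroup G} {z : G} (h : QuatSec.GQ S A z) {c : G} (hcS : c ∈ S)
    (hc2 : c * c ≠ 1) {a b : G} (ha : a ∈ S) (hb : b ∈ S) (hac : a * c = c * a)
    (hbc : b * c = c * b) : a * b = b * a := by
  by_cases hcA : c ∈ A
  · have key : ∀ s ∈ S, s * c = c * s → s ∈ A := by
      intro s hs hsc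
      by_contra hsA
      have := h.inv s hs hsA c hcA
      apply hc2
      have e : s * c * s⁻¹ = c := by rw [hsc]; group
      rw [e] at this
      calc c * c = c * c⁻¹ := by rw [← this]
        _ = 1 := mul_inv_cancel c
    exact comm_of_cyclic h.cyc (key a ha hac) (key b hb hbc)
  · have hz : c * c = z := h.sq c hcS hcA
    have key : ∀ s ∈ S, s * c = c * s → s ∈ Subgroup.zpowers c := by
      intro s hs hsc
      by_cases hsA : s ∈ A
      · have := h.inv c hcS hcA s hsA
        have e : c * s * c⁻¹ = s := by rw [← hsc]; group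
        rw [e] at this
        have hss : s * s = 1 := by
          calc s * s = s * s⁻¹ := by rw [← this]
            _ = 1 := mul_inv_cancel s
        rcases h.invol s hs hss with e1 | e1
        · rw [e1]; exact Subgroup.one_mem _
        · rw [e1, ← hz]
          exact Subgroup.mul_mem _ (Subgroup.mem_zpowers c) (Subgroup.mem_zpowers c)
      · have hcs : c * s ∈ A := h.idx s hs c hcS hsA hcA
        have := h.inv c hcS hcA (c * s) hcs
        have e : c * (c * s) * c⁻¹ = c * s := by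
          calc c * (c * s) * c⁻¹ = c * (s * c) * c⁻¹ := by rw [hsc]
            _ = c * s := by group
        rw [e] at this
        have hss : (c * s) * (c * s) = 1 := by
          calc (c * s) * (c * s) = (c * s) * (c * s)⁻¹ := by rw [← this]
            _ = 1 := mul_inv_cancel _
        have hcsS : c * s ∈ S := S.mul_mem hcS hs
        rcases h.invol (c * s) hcsS hss with e1 | e1
        · have : s = c⁻¹ := by
            calc s = c⁻¹ * (c * s) := by group
              _ = c⁻¹ := by rw [e1, mul_one]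
          rw [this]; exact Subgroup.inv_mem _ (Subgroup.mem_zpowers c)
        · have : s = c := by
            calc s = c⁻¹ * (c * s) := by group
              _ = c⁻¹ * (c * c) := by rw [e1, hz]
              _ = c := by group
          rw [this]; exact Subgroup.mem_zpowers c
    obtain ⟨m, hm⟩ := Subgroup.mem_zpowers_iff.mp (key a ha hac)
    obtain ⟨n, hn⟩ := Subgroup.mem_zpowers_iff.mp (key b hb hbc)
    rw [← hm, ← hn, ← zpow_add, ← zpow_add, add_comm]

end grp

section main

variable {G : Type u} [Group G] [Finite G]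

/-- the Sylow `2`-subgroups of the centralizer of an element of order at least four are cyclic -/
theorem sylow_centralizer_cyclic_aux (hF : IsFpf.{u, v} G) {c : G} (hc2 : c * c ≠ 1)
    (hc : ∃ k : ℕ, c ^ 2 ^ k = 1) (X : Subgroup G) (hX : X = Subgroup.centralizer ({c} : Set G))
    (P : Sylow 2 X) : IsCyclic P := by
  have : Fact (Nat.Prime 2) := ⟨Nat.prime_two⟩
  have hcX : c ∈ X := by rw [hX]; exact Subgroup.mem_centralizer_singleton_iff.mpr rfl
  have hmemX : ∀ y : X, (y : G) * c = c * y := by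
    intro y
    have h1 : (y : G) ∈ X := y.2
    have h2 : (y : G) ∈ Subgroup.centralizer ({c} : Set G) := hX ▸ h1
    exact Subgroup.mem_centralizer_singleton_iff.mp h2
  set cX : X := ⟨c, hcX⟩ with hcXdef
  have hcent : ∀ y : X, y * cX = cX * y := by
    intro y
    apply Subtype.ext
    exact hmemX y
  -- `c` lies in `P`
  have hZ2 : IsPGroup 2 (Subgroup.zpowers cX) := by
    obtain ⟨k, hk⟩ := hc
    have h1 : orderOf cX ∣ 2 ^ k := by
      apply orderOf_dvd_of_pow_eq_one
      apply Subtype.ext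
      simpa using hk
    obtain ⟨l, -, hl⟩ := (Nat.dvd_prime_pow Nat.prime_two).mp h1
    apply IsPGroup.of_card (n := l)
    rw [Nat.card_zpowers, hl]
  have hnorm : (P : Subgroup X) ≤ Subgroup.normalizer (Subgroup.zpowers cX : Set X) := by
    intro y _
    rw [Subgroup.mem_normalizer_iff]
    intro w
    have : ∀ w ∈ Subgroup.zpowers cX, y * w * y⁻¹ = w := by
      intro w hw
      obtain ⟨n, rfl⟩ := Subgroup.mem_zpowers_iff.mp hw
      have : y * cX ^ n = cX ^ n * y := ((Commute.zpow_right (hcent y) n)).eq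
      rw [this]; group
    constructor
    · intro hw; rw [this w hw]; exact hw
    · intro hw
      have h2 := this _ hw
      have h3 : y⁻¹ * (y * w * y⁻¹) * y ∈ Subgroup.zpowers cX := by
        have e : y⁻¹ * (y * w * y⁻¹) * y = y * w * y⁻¹ := by
          have hy : y * (y * w * y⁻¹) = (y * w * y⁻¹) * y := by
            have := this _ hw
            calc y * (y * w * y⁻¹) = (y * (y * w * y⁻¹) * y⁻¹) * y := by group
              _ = (y * w * y⁻¹) * y := by rw [this]
          calc y⁻¹ * (y * w * y⁻¹) * y = y⁻¹ * ((y * w * y⁻¹) * y) := by group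
            _ = y⁻¹ * (y * (y * w * y⁻¹)) := by rw [hy]
            _ = y * w * y⁻¹ := by group
        rw [e]; exact hw
      have e2 : y⁻¹ * (y * w * y⁻¹) * y = w := by group
      rwa [e2] at h3
  have hsup : IsPGroup 2 ((P : Subgroup X) ⊔ Subgroup.zpowers cX : Subgroup X) :=
    IsPGroup.to_sup_of_normal_right' P.2 hZ2 hnorm
  have hmax := P.is_maximal' hsup le_sup_left
  have hcP : cX ∈ (P : Subgroup X) := by
    rw [← hmax]
    exact (le_sup_right : Subgroup.zpowers cX ≤ _) (Subgroup.mem_zpowers cX)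
  obtain ⟨S, hS⟩ := P.exists_comap_subtype_eq
  have hmem : ∀ y : X, y ∈ (P : Subgroup X) ↔ (y : G) ∈ (S : Subgroup G) := by
    intro y
    rw [← hS]
    rfl
  have hcS : c ∈ (S : Subgroup G) := (hmem cX).mp hcP
  have hcomm : ∀ a ∈ (P : Subgroup X), ∀ b ∈ (P : Subgroup X), a * b = b * a := by
    intro a ha b hb
    apply Subtype.ext
    have haS := (hmem a).mp ha
    have hbS := (hmem b).mp hb
    have hac : (a : G) * c = c * a := hmemX a
    have hbc : (b : G) * c = c * b := hmemX b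
    show (a : G) * b = b * a
    rcases hF.sylow 2 S with hcyc | ⟨n, ⟨e⟩⟩
    · exact comm_of_cyclic hcyc haS hbS
    · obtain ⟨A, z, hgq⟩ := QuatSec.gq_of_equiv (S : Subgroup G) (2 ^ n) e
      exact gq_centralizer_comm hgq hcS hc2 haS hbS hac hbc
  exact (hF.subgroup X).cyclic_of_comm (P : Subgroup X) hcomm

theorem sylow_centralizer_cyclic (hF : IsFpf.{u, v} G) {c : G} (hc2 : c * c ≠ 1)
    (hc : ∃ k : ℕ, c ^ 2 ^ k = 1) (P : Sylow 2 (Subgroup.centralizer ({c} : Set G))) :
    IsCyclic P :=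
  sylow_centralizer_cyclic_aux hF hc2 hc _ rfl P

variable {r : ℕ} [Fact r.Prime] {K : Type*} [Field K] [Fintype K] [CharP K r]
  {V : Type*} [AddCommGroup V] [Module K V] {ρ : G →* Module.End K V} {i g : G}

/-- an element commuting with `i` and inverted by `j` has order dividing eight -/
theorem pow_eight (h : IsZRep ρ) (hr : ¬ r ∣ Nat.card G) (d : Data i g) {m : G}
    (hmi : m * i = i * m) (hmj : (g * i * g⁻¹)⁻¹ * m * (g * i * g⁻¹) = m⁻¹) : m ^ 8 = 1 := by
  have key := emb_quat h (data_hz1 d) (data_hz2 d) (data_hv d) d.h2 (data_ginv1 d)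
    (data_ginv3 d) (data_hau i g) (data_hav d) hmi hmj
  obtain ⟨X, hXdef⟩ : ∃ X : Subgroup G, X = Subgroup.closure ({i, g * i * g⁻¹, g⁻¹, m} : Set G) :=
    ⟨_, rfl⟩
  rw [← hXdef] at key
  obtain ⟨τ, hτ⟩ := key
  have hiX : i ∈ X := by rw [hXdef]; exact Subgroup.subset_closure (by simp)
  have hjX : g * i * g⁻¹ ∈ X := by rw [hXdef]; exact Subgroup.subset_closure (by simp)
  have hgX : g⁻¹ ∈ X := by rw [hXdef]; exact Subgroup.subset_closure (by simp)
  have hmX : m ∈ X := by rw [hXdef]; exact Subgroup.subset_closure (by simp)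
  have hrX : ¬ r ∣ Nat.card X := fun hd => hr (hd.trans (Subgroup.card_subgroup_dvd_card X))
  rcases ZD.dickson r τ hτ hrX with ⟨A, hAn, hAi, hAc⟩ | ⟨hcard, hcent⟩
  · exfalso
    -- `g⁻¹` lies in `A`
    have hsq : ∀ x : X, x * x ∈ A := by
      intro x
      have h0 : A.index ≠ 0 := Subgroup.index_ne_zero_of_finite
      have h12 : A.index = 1 ∨ A.index = 2 := by omega
      rcases h12 with h1 | h2
      · rw [Subgroup.index_eq_one] at h1
        rw [h1]; exact Subgroup.mem_top _
      · exact Subgroup.mul_self_mem_of_index_two h2 x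
    set a : X := ⟨g⁻¹, hgX⟩ with ha
    set iX : X := ⟨i, hiX⟩ with hiXd
    have ha3 : a * a * a = 1 := by
      apply Subtype.ext
      show g⁻¹ * g⁻¹ * g⁻¹ = 1
      have := data_ginv3 d
      rw [← this]; simp only [pow_succ, pow_zero, one_mul]
    have haA : a ∈ A := by
      have h1 := hsq (a * a)
      have e : a * a * (a * a) = a := by
        calc a * a * (a * a) = (a * a * a) * a := by group
          _ = a := by rw [ha3, one_mul]
      rwa [e] at h1
    have hqA : a⁻¹ * (iX * a * iX⁻¹) ∈ A := A.mul_mem (A.inv_mem haA) (hAn.conj_mem a haA iX)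
    have hc := hAc a haA _ hqA
    have hc' := congrArg Subtype.val hc
    simp only [Subgroup.coe_mul, Subgroup.coe_inv, ha, hiXd] at hc'
    -- `hc' : g⁻¹ * (g⁻¹⁻¹ * (i * g⁻¹ * i⁻¹)) = g⁻¹⁻¹ * (i * g⁻¹ * i⁻¹) * g⁻¹`
    have e1 : g * ((g * i * g⁻¹) * i⁻¹) * g⁻¹ = (g * i * g⁻¹) * i⁻¹ := by
      have : g⁻¹ * ((g * i * g⁻¹) * i⁻¹) = ((g * i * g⁻¹) * i⁻¹) * g⁻¹ := by
        calc g⁻¹ * ((g * i * g⁻¹) * i⁻¹) = g⁻¹ * (g⁻¹⁻¹ * (i * g⁻¹ * i⁻¹)) := by group
          _ = g⁻¹⁻¹ * (i * g⁻¹ * i⁻¹) * g⁻¹ := hc'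
          _ = ((g * i * g⁻¹) * i⁻¹) * g⁻¹ := by group
      calc g * ((g * i * g⁻¹) * i⁻¹) * g⁻¹ = g * (((g * i * g⁻¹) * i⁻¹) * g⁻¹) := by group
        _ = g * (g⁻¹ * ((g * i * g⁻¹) * i⁻¹)) := by rw [this]
        _ = (g * i * g⁻¹) * i⁻¹ := by group
    have e2 : g * ((g * i * g⁻¹) * i⁻¹) * g⁻¹ = i := by
      calc g * ((g * i * g⁻¹) * i⁻¹) * g⁻¹ = (g * (g * i * g⁻¹) * g⁻¹) * (g * i * g⁻¹)⁻¹ := by group
        _ = i := by rw [d.h3]; group
    rw [e2] at e1
    apply d.j_not_mem
    have : g * i * g⁻¹ = i * i := by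
      calc g * i * g⁻¹ = ((g * i * g⁻¹) * i⁻¹) * i := by group
        _ = i * i := by rw [← e1]
    rw [this]
    exact Subgroup.mul_mem _ (Subgroup.mem_zpowers i) (Subgroup.mem_zpowers i)
  · set iX : X := ⟨i, hiX⟩ with hiXd
    set mX : X := ⟨m, hmX⟩ with hmXd
    have hz1 : iX * iX ≠ 1 := by
      intro e
      exact data_hz1 d (congrArg Subtype.val e)
    have hz2 : (iX * iX) * (iX * iX) = 1 := Subtype.ext (data_hz2 d)
    obtain ⟨-, hZ2⟩ := ZD.card_ZZ_eq_two h.two τ hτ hz1 hz2
    have hiZ : iX ∉ ZZ τ := by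
      intro hmem
      rw [mem_ZZ] at hmem
      apply hz1
      apply hτ
      rw [map_mul, map_one]
      rcases hmem with e | e <;> rw [e] <;> simp
    obtain ⟨k, hk, hck⟩ := hcent iX hiZ
    rw [hZ2] at hck
    have h4 : Nat.card (Subgroup.zpowers iX) = 4 := by
      rw [Nat.card_zpowers, hiXd, Subgroup.orderOf_mk, d.orderOf_i]
    have hle : Subgroup.zpowers iX ≤ Subgroup.centralizer ({iX} : Set X) := by
      rw [Subgroup.zpowers_le]
      exact Subgroup.mem_centralizer_singleton_iff.mpr rfl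
    have hdvd : 4 ∣ 2 * k := by
      rw [← h4, ← hck]
      exact Subgroup.card_dvd_of_le hle
    have hmC : mX ∈ Subgroup.centralizer ({iX} : Set X) := by
      rw [Subgroup.mem_centralizer_singleton_iff]
      exact Subtype.ext hmi
    have hpow : mX ^ (2 * k) = 1 := by
      have := pow_card_eq_one' (G := Subgroup.centralizer ({iX} : Set X)) (x := ⟨mX, hmC⟩)
      rw [hck] at this
      have := congrArg Subtype.val this
      simpa using this
    have hpow' : m ^ (2 * k) = 1 := by
      have := congrArg Subtype.val hpow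
      simpa using this
    rcases hk with rfl | rfl | rfl | rfl
    · calc m ^ 8 = (m ^ (2 * 2)) ^ 2 := by rw [← pow_mul]
        _ = 1 := by rw [hpow', one_pow]
    · omega
    · exact hpow'
    · omega

/-- an element of odd order centralizing `i` centralizes the quaternion group -/
theorem odd_cent (hF : IsFpf.{u, v} G) (h : IsZRep ρ) (hr : ¬ r ∣ Nat.card G) (d : Data i g)
    {c : G} (hci : c * i = i * c) (hodd : Odd (orderOf c)) :
    c * (g * i * g⁻¹) = (g * i * g⁻¹) * c := by
  set j := g * i * g⁻¹ with hj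
  set X := Subgroup.centralizer ({i} : Set G) with hX
  have hcyc : ∀ P : Sylow 2 X, IsCyclic P :=
    sylow_centralizer_cyclic hF (data_hz1 d) ⟨2, by simpa using d.hi4⟩
  obtain ⟨M, hMn, hModd, hMall⟩ := exists_odd_part hcyc
  have hcX : c ∈ X := Subgroup.mem_centralizer_singleton_iff.mpr hci
  have hc'X : j⁻¹ * c * j ∈ X := by
    rw [Subgroup.mem_centralizer_singleton_iff]
    have h1 : j * i = i⁻¹ * j := by
      have := d.h2
      calc j * i = (j * i * j⁻¹) * j := by group
        _ = i⁻¹ * j := by rw [this]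
    have h2 : i * j⁻¹ = j⁻¹ * i⁻¹ := by
      calc i * j⁻¹ = j⁻¹ * (j * i) * j⁻¹ := by group
        _ = j⁻¹ * (i⁻¹ * j) * j⁻¹ := by rw [h1]
        _ = j⁻¹ * i⁻¹ := by group
    have h3 : c * i⁻¹ = i⁻¹ * c := by
      calc c * i⁻¹ = i⁻¹ * (i * c) * i⁻¹ := by group
        _ = i⁻¹ * (c * i) * i⁻¹ := by rw [hci]
        _ = i⁻¹ * c := by group
    calc j⁻¹ * c * j * i = j⁻¹ * c * (j * i) := by group
      _ = j⁻¹ * c * (i⁻¹ * j) := by rw [h1]
      _ = j⁻¹ * (c * i⁻¹) * j := by group
      _ = j⁻¹ * (i⁻¹ * c) * j := by rw [h3]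
      _ = (j⁻¹ * i⁻¹) * c * j := by group
      _ = (i * j⁻¹) * c * j := by rw [h2]
      _ = i * (j⁻¹ * c * j) := by group
  have ho1 : Odd (orderOf (⟨c, hcX⟩ : X)) := by rw [Subgroup.orderOf_mk]; exact hodd
  have ho2 : Odd (orderOf (⟨j⁻¹ * c * j, hc'X⟩ : X)) := by
    rw [Subgroup.orderOf_mk]
    have : SemiconjBy j⁻¹ c (j⁻¹ * c * j) := by
      unfold SemiconjBy; group
    rw [← this.orderOf_eq]; exact hodd
  have hmM : (⟨c, hcX⟩ : X)⁻¹ * ⟨j⁻¹ * c * j, hc'X⟩ ∈ M :=
    M.mul_mem (M.inv_mem (hMall _ ho1)) (hMall _ ho2)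
  set m := c⁻¹ * (j⁻¹ * c * j) with hm
  have hmodd : Odd (orderOf m) := by
    have h1 : orderOf (⟨_, hmM⟩ : M) ∣ Nat.card M := orderOf_dvd_natCard _
    rw [Subgroup.orderOf_mk] at h1
    have h2 : orderOf ((⟨c, hcX⟩ : X)⁻¹ * ⟨j⁻¹ * c * j, hc'X⟩) = orderOf m := by
      rw [← Subgroup.orderOf_coe]
      rfl
    rw [h2] at h1
    exact hModd.of_dvd_nat h1
  have hmi : m * i = i * m := by
    exact Subgroup.mem_centralizer_singleton_iff.mp
      (X.mul_mem (X.inv_mem hcX) hc'X)
  have hzz : (j * j) * c = c * (j * j) := by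
    rw [hj, data_hv d]
    calc i * i * c = i * (i * c) := by group
      _ = i * (c * i) := by rw [hci]
      _ = (i * c) * i := by group
      _ = (c * i) * i := by rw [hci]
      _ = c * (i * i) := by group
  have hmj : j⁻¹ * m * j = m⁻¹ := by
    calc j⁻¹ * m * j = (j⁻¹ * c⁻¹ * j) * ((j * j)⁻¹ * (c * (j * j))) := by rw [hm]; group
      _ = (j⁻¹ * c⁻¹ * j) * ((j * j)⁻¹ * ((j * j) * c)) := by rw [hzz]
      _ = m⁻¹ := by rw [hm]; group
  have h8 : m ^ 8 = 1 := pow_eight h hr d hmi hmj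
  have hm1 : m = 1 := by
    have h1 : orderOf m ∣ 8 := orderOf_dvd_of_pow_eq_one h8
    have h2 : orderOf m = 1 := by
      have : orderOf m ∣ 2 ^ 3 := by simpa using h1
      obtain ⟨l, -, hl⟩ := (Nat.dvd_prime_pow Nat.prime_two).mp this
      rcases l with _ | l
      · simpa using hl
      · exfalso
        rw [hl] at hmodd
        exact (Nat.not_even_iff_odd.mpr hmodd) ⟨2 ^ l, by ring⟩
    exact orderOf_eq_one_iff.mp h2
  have : j⁻¹ * c * j = c := by
    calc j⁻¹ * c * j = c * m := by rw [hm]; group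
      _ = c := by rw [hm1, mul_one]
  calc c * j = j * (j⁻¹ * c * j) := by group
    _ = j * c := by rw [this]

end main

end Cfsg.Agent.Lib.Helper12.ZP
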