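import Mathlib
import Cfsg.Agent.Lib.Helper12.ZProp

set_option autoImplicit false

/-!
# A consequence of the focal subgroup theorem for cyclic Sylow subgroups of perfect groups
-/

namespace Cfsg.Agent.Lib.Helper12.ZFo

open Cfsg.Agent.Lib.Helper12.ZP

open scoped commutatorElement

/-- in a perfect group, every nontrivial element of a cyclic Sylow subgroup is moved inside its
cyclic group by some conjugation -/
theorem focal_move {G : Type*} [Group G] [Finite G] (hperf : commutator G = ⊤) {s : ℕ}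
    [hs : Fact s.Prime] (P : Sylow s G) (hcyc : IsCyclic P) {m₀ : G}
    (hm₀P : m₀ ∈ (P : Subgroup G)) (hm₀ : m₀ ≠ 1) :
    ∃ u : G, u * m₀ * u⁻¹ ∈ Subgroup.zpowers m₀ ∧ u * m₀ * u⁻¹ ≠ m₀ := by
  obtain ⟨x₀', hx₀'⟩ := hcyc.exists_generator
  obtain ⟨n, hn⟩ := IsPGroup.iff_card.mp P.2
  have hn1 : 1 ≤ n := by
    by_contra hlt
    have h0 : n = 0 := by omega
    rw [h0, pow_zero] at hn
    have := Subgroup.card_eq_one.mp hn
    apply hm₀
    have h1 : m₀ ∈ (⊥ : Subgroup G) := this ▸ hm₀P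
    exact Subgroup.mem_bot.mp h1
  have hcomm : ∀ a ∈ (P : Subgroup G), ∀ b ∈ (P : Subgroup G), a * b = b * a :=
    fun a ha b hb => comm_of_cyclic hcyc ha hb
  let Φ : Subgroup G :=
    { carrier := {h | h ∈ (P : Subgroup G) ∧ h ^ s ^ (n - 1) = 1}
      mul_mem' := fun {a b} ha hb => by
        refine ⟨Subgroup.mul_mem _ ha.1 hb.1, ?_⟩
        have hc : Commute a b := hcomm a ha.1 b hb.1
        rw [hc.mul_pow, ha.2, hb.2, one_mul]
      one_mem' := ⟨Subgroup.one_mem _, one_pow _⟩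
      inv_mem' := fun {a} ha => ⟨Subgroup.inv_mem _ ha.1, by rw [inv_pow, ha.2, inv_one]⟩ }
  have hΦ : ∀ h : G, h ∈ Φ ↔ h ∈ (P : Subgroup G) ∧ h ^ s ^ (n - 1) = 1 := fun h => Iff.rfl
  have hord : ∀ h ∈ (P : Subgroup G), h ∉ Φ → orderOf h = s ^ n := by
    intro h hP hΦh
    have h1 : orderOf (⟨h, hP⟩ : P) ∣ Nat.card P := orderOf_dvd_natCard _
    rw [Subgroup.orderOf_mk, hn] at h1
    obtain ⟨j, hj, hoj⟩ := (Nat.dvd_prime_pow hs.out).mp h1
    by_contra hne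
    apply hΦh
    rw [hΦ]
    refine ⟨hP, ?_⟩
    have hjn : j ≤ n - 1 := by
      by_contra hlt
      have : j = n := by omega
      exact hne (this ▸ hoj)
    apply orderOf_dvd_iff_pow_eq_one.mp
    rw [hoj]
    exact pow_dvd_pow s hjn
  have hx₀P : (x₀' : G) ∈ (P : Subgroup G) := x₀'.2
  have hx₀Φ : (x₀' : G) ∉ Φ := by
    intro hmem
    have h1 : (x₀' : G) ^ s ^ (n - 1) = 1 := ((hΦ _).mp hmem).2
    have h2 : orderOf (x₀' : G) = s ^ n := by
      rw [Subgroup.orderOf_coe, ← Nat.card_zpowers]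
      have : Subgroup.zpowers x₀' = ⊤ := by
        rw [eq_top_iff]; intro y _; exact hx₀' y
      rw [this, Subgroup.card_top, hn]
    have h3 := orderOf_dvd_of_pow_eq_one h1
    rw [h2] at h3
    have := (Nat.pow_dvd_pow_iff_le_right hs.out.one_lt).mp h3
    omega
  -- the focal subgroup theorem
  have hfoc := Subgroup.commutator_inf_eq_focalSubgroup P
  rw [hperf, top_inf_eq] at hfoc
  have hex : ∃ x ∈ (P : Subgroup G), ∃ u : G, ⁅x, u⁆ ∈ (P : Subgroup G) ∧ ⁅x, u⁆ ∉ Φ := by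
    by_contra hcon
    push Not at hcon
    apply hx₀Φ
    have hle : (P : Subgroup G).focalSubgroup ≤ Φ := by
      rw [Subgroup.focalSubgroup_def, Subgroup.closure_le]
      rintro g ⟨hgP, x, hxP, u, rfl⟩
      exact hcon x hxP u hgP
    exact hle (hfoc ▸ hx₀P)
  obtain ⟨x, hxP, u, hcP, hcΦ⟩ := hex
  obtain ⟨y, hy⟩ : ∃ y, y = u * x * u⁻¹ := ⟨_, rfl⟩
  have hcy : ⁅x, u⁆ = x * y⁻¹ := by
    rw [commutatorElement_def, hy]; group
  rw [hcy] at hcP hcΦ
  have hyP : y ∈ (P : Subgroup G) := by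
    have : y = (x * y⁻¹)⁻¹ * x := by group
    rw [this]
    exact Subgroup.mul_mem _ (Subgroup.inv_mem _ hcP) hxP
  have hxΦ : x ∉ Φ := by
    intro hmem
    apply hcΦ
    have hyΦ : y ∈ Φ := by
      rw [hΦ]
      refine ⟨hyP, ?_⟩
      rw [hy, conj_pow, ((hΦ _).mp hmem).2]; group
    exact Φ.mul_mem hmem (Φ.inv_mem hyΦ)
  have hox : orderOf x = s ^ n := hord x hxP hxΦ
  have hoh : orderOf (x * y⁻¹) = s ^ n := hord _ hcP hcΦ
  have hPx : (P : Subgroup G) = Subgroup.zpowers x := by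
    symm
    apply Subgroup.eq_of_le_of_card_ge
    · rw [Subgroup.zpowers_le]; exact hxP
    · rw [Nat.card_zpowers, hox]
      exact hn.le
  have hm₀x : m₀ ∈ Subgroup.zpowers x := hPx ▸ hm₀P
  have hyx : y ∈ Subgroup.zpowers x := hPx ▸ hyP
  obtain ⟨c, hc⟩ := Subgroup.mem_zpowers_iff.mp hm₀x
  obtain ⟨k, hk⟩ := Subgroup.mem_zpowers_iff.mp hyx
  have hum : u * m₀ * u⁻¹ = y ^ c := by
    rw [← hc, hy, conj_zpow]
  refine ⟨u, ?_, ?_⟩
  · rw [hum, ← hk, ← zpow_mul, mul_comm, zpow_mul, hc]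
    exact Subgroup.zpow_mem _ (Subgroup.mem_zpowers m₀) k
  · intro e
    apply hm₀
    rw [hum] at e
    have hcomm' : Commute x y⁻¹ := hcomm x hxP y⁻¹ (Subgroup.inv_mem _ hyP)
    have h1 : (x * y⁻¹) ^ c = 1 := by
      rw [hcomm'.mul_zpow, inv_zpow, e, hc, mul_inv_cancel]
    have h2 : (orderOf (x * y⁻¹) : ℤ) ∣ c := orderOf_dvd_iff_zpow_eq_one.mpr h1
    rw [hoh, ← hox] at h2
    rw [← hc]
    exact orderOf_dvd_iff_zpow_eq_one.mp h2

end Cfsg.Agent.Lib.Helper12.ZFo
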