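import Mathlib
import Cfsg.Agent.Lib.Helper12.ZProp
import Cfsg.Agent.S0071

set_option autoImplicit false

/-!
# Finding a quaternion group with an automorphism of order three in a perfect group
-/

namespace Cfsg.Agent.Lib.Helper12.ZS

open Cfsg.Agent.Lib.Helper20 Cfsg.Agent.Lib.Helper20.SL23 Cfsg.Agent.Lib.Helper12.ZR
  Cfsg.Agent.Lib.Helper12.ZDt Cfsg.Agent.Lib.Helper12.ZF Cfsg.Agent.Lib.Helper12.ZL
  Cfsg.Agent.Lib.Helper12.ZP Cfsg.Agent.Lib.Helper14.Dk

universe u v

section lemmaA

variable {H : Type u} [Group H] [Finite H]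

/-- a group without normal `2`-complement contains a quaternion group with an automorphism of
`3`-power order -/
theorem rel_of_not_nilp (hF : IsFpf.{u, v} H) (h2 : 2 ∣ Nat.card H) (S : Sylow 2 H)
    (hno : ¬ ∃ N : Subgroup H, N.Normal ∧ N.IsComplement' (S : Subgroup H)) :
    ∃ i g : H, QuatSec.Rel i g ∧ ∃ a : ℕ, 1 ≤ a ∧ orderOf g = 3 ^ a := by
  have : Fact (Nat.Prime 2) := ⟨Nat.prime_two⟩
  rcases hF.sylow 2 S with hcyc | ⟨n, ⟨e⟩⟩
  · exfalso
    have hmf : (Nat.card H).minFac = 2 := (Nat.minFac_eq_two_iff _).mpr h2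
    exact hno ⟨_, inferInstance, IsCyclic.isComplement' hmf hcyc⟩
  · obtain ⟨A, z, hgq⟩ := QuatSec.gq_of_equiv (S : Subgroup H) (2 ^ n) e
    have key := (Cfsg.Agent.S0071.result S).not.mp hno
    push Not at key
    obtain ⟨Q, hQ, g, hg, hcop, hgc⟩ := key
    have hodd : Odd (orderOf g) := Nat.coprime_two_right.mp hcop
    have hnc : ¬ ∀ q ∈ Q, g * q * g⁻¹ = q := by
      intro hall
      apply hgc
      rw [Subgroup.mem_centralizer_iff]
      intro q hq
      have := hall q hq
      calc q * g = (g * q * g⁻¹) * g := by rw [this]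
        _ = g * q := by group
    obtain ⟨i, -, hrel⟩ := exists_rel_mem hgq S.2 Q hQ g hg hodd hnc
    obtain ⟨g', -, hrel', a, ha, hord⟩ := rel_three_part hrel
    exact ⟨i, g', hrel', a, ha, hord⟩

/-- a perfect group of even order has no normal `2`-complement -/
theorem perfect_not_nilp (hperf : commutator H = ⊤) (h2 : 2 ∣ Nat.card H) (S : Sylow 2 H) :
    ¬ ∃ N : Subgroup H, N.Normal ∧ N.IsComplement' (S : Subgroup H) := by
  have : Fact (Nat.Prime 2) := ⟨Nat.prime_two⟩
  rintro ⟨N, hN, hc⟩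
  have hidx : N.index = Nat.card S := hc.symm.index_eq_card
  obtain ⟨k, hk⟩ := (IsPGroup.iff_card.mp S.2)
  have hq : IsPGroup 2 (H ⧸ N) := by
    apply IsPGroup.of_card (n := k)
    rw [← Subgroup.index_eq_card, hidx, hk]
  have hnt : Nontrivial (H ⧸ N) := by
    rw [← Finite.one_lt_card_iff_nontrivial, ← Subgroup.index_eq_card, hidx]
    have h1 : Nat.card S ≠ 1 := by
      intro e
      exact S.ne_bot_of_dvd_card h2 (Subgroup.card_eq_one.mp e)
    have h0 : Nat.card S ≠ 0 := Nat.card_pos.ne'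
    omega
  have hnil : Group.IsNilpotent (H ⧸ N) := hq.isNilpotent
  have hlt := Group.IsSolvable.commutator_lt_top_of_nontrivial (H ⧸ N)
  have hmap : (commutator H).map (QuotientGroup.mk' N) = commutator (H ⧸ N) := by
    rw [commutator_def, Subgroup.map_commutator, ← MonoidHom.range_eq_map,
      MonoidHom.range_eq_top.mpr (QuotientGroup.mk'_surjective N)]
    rfl
  rw [hperf, ← MonoidHom.range_eq_map, MonoidHom.range_eq_top.mpr (QuotientGroup.mk'_surjective N)]
    at hmap
  exact hlt.ne hmap.symm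

end lemmaA

section rep

variable {G : Type u} [Group G] [Finite G] {K : Type*} [Field K] {V : Type*} [AddCommGroup V]
  [Module K V] {ρ : G →* Module.End K V}

theorem eq_or_eq_of_commute_three (h : IsZRep ρ) {a g : G} (ha1 : a ≠ 1) (ha3 : a ^ 3 = 1)
    (hg1 : g ≠ 1) (hg3 : g ^ 3 = 1) (hag : a * g = g * a) : a = g * g ∨ a = g := by
  obtain ⟨v, hv⟩ := h.nt
  have key : ∀ x : V, ρ a (ρ a x) + ρ a x + x = 0 := h.ord3 ha1 ha3
  have keyg : ∀ x : V, ρ g (ρ g x) + ρ g x + x = 0 := h.ord3 hg1 hg3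
  have cg : ∀ x : V, ρ a (ρ g x) = ρ g (ρ a x) := by
    intro x; rw [← rho_mul, hag, rho_mul]
  have g3 : ∀ x : V, ρ g (ρ g (ρ g x)) = x := by
    intro x
    rw [← rho_mul, ← rho_mul]
    have : g * g * g = g ^ 3 := by simp only [pow_succ, pow_zero, one_mul]
    rw [this, hg3, rho_one]
  by_cases e : ρ a v = ρ g (ρ g v)
  · left
    apply h.eq_of_apply_eq hv
    rw [e, rho_mul]
  · right
    have hw : ρ a v - ρ g (ρ g v) ≠ 0 := fun e' => e (sub_eq_zero.mp e')
    apply h.eq_of_apply_eq hw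
    rw [map_sub, map_sub, cg, cg, g3]
    have k1 := key v
    have k2 := keyg (ρ a v)
    linear_combination (norm := module) k1 - k2

/-- a perfect group of order divisible by three has two noncommuting elements of order three -/
theorem exists_noncomm_three (hF : IsFpf.{u, v} G) (h : IsZRep ρ) (hperf : commutator G = ⊤)
    (h3 : 3 ∣ Nat.card G) :
    ∃ a b : G, a ≠ 1 ∧ a ^ 3 = 1 ∧ b ≠ 1 ∧ b ^ 3 = 1 ∧ a * b ≠ b * a := by
  by_contra hcon
  push Not at hcon
  have : Fact (Nat.Prime 3) := ⟨Nat.prime_three⟩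
  obtain ⟨a₀, ha₀⟩ := exists_prime_orderOf_dvd_card' 3 h3
  have ha1 : a₀ ≠ 1 := by
    intro e
    rw [e, orderOf_one] at ha₀
    omega
  have ha3 : a₀ ^ 3 = 1 := by rw [← ha₀]; exact pow_orderOf_eq_one a₀
  have hconj : ∀ x : G, x * a₀ * x⁻¹ ∈ Subgroup.zpowers a₀ := by
    intro x
    have c1 : x * a₀ * x⁻¹ ≠ 1 := by
      intro e
      apply ha1
      calc a₀ = x⁻¹ * (x * a₀ * x⁻¹) * x := by group
        _ = 1 := by rw [e]; group
    have c3 : (x * a₀ * x⁻¹) ^ 3 = 1 := by rw [conj_pow, ha3]; group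
    rcases eq_or_eq_of_commute_three h c1 c3 ha1 ha3 (hcon _ _ c1 c3 ha1 ha3) with e | e
    · rw [e]
      exact Subgroup.mul_mem _ (Subgroup.mem_zpowers a₀) (Subgroup.mem_zpowers a₀)
    · rw [e]; exact Subgroup.mem_zpowers a₀
  have hnorm : (Subgroup.zpowers a₀).Normal := by
    refine ⟨fun n hn x => ?_⟩
    obtain ⟨k, rfl⟩ := Subgroup.mem_zpowers_iff.mp hn
    rw [← conj_zpow]
    exact Subgroup.zpow_mem _ (hconj x) k
  have hcyc : IsCyclic (Subgroup.zpowers a₀) :=
    (Subgroup.isCyclic_iff_exists_zpowers_eq_top _).mpr ⟨a₀, rfl⟩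
  let φ : G →* MulAut (Subgroup.zpowers a₀) := MulAut.conjNormal
  let e : MulAut (Subgroup.zpowers a₀) ≃* (ZMod (Nat.card (Subgroup.zpowers a₀)))ˣ :=
    IsCyclic.mulAutMulEquiv (Subgroup.zpowers a₀)
  let ψ : G →* (ZMod (Nat.card (Subgroup.zpowers a₀)))ˣ := e.toMonoidHom.comp φ
  have hker : ∀ x : G, ψ x = 1 := by
    intro x
    have := Abelianization.commutator_subset_ker ψ
    rw [hperf] at this
    exact this (Subgroup.mem_top x)
  have hcentral : ∀ y : G, a₀ * y = y * a₀ := by
    intro y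
    have h1 : e (φ y) = 1 := hker y
    have h2 : φ y = 1 := by
      apply e.injective
      rw [h1, map_one]
    have h3 : (φ y) ⟨a₀, Subgroup.mem_zpowers a₀⟩ = ⟨a₀, Subgroup.mem_zpowers a₀⟩ := by
      rw [h2]; rfl
    have h4 := congrArg Subtype.val h3
    have h5 : y * a₀ * y⁻¹ = a₀ := h4
    calc a₀ * y = (y * a₀ * y⁻¹) * y := by rw [h5]
      _ = y * a₀ := by group
  have hZ3 : IsPGroup 3 (Subgroup.zpowers a₀) := by
    apply IsPGroup.of_card (n := 1)
    rw [Nat.card_zpowers, ha₀, pow_one]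
  obtain ⟨P, hP⟩ := hZ3.exists_le_sylow
  have hPcomm : ∀ a ∈ P, ∀ b ∈ P, a * b = b * a := by
    intro a ha b hb
    rcases hF.sylow 3 P with hc | ⟨n, ⟨eq⟩⟩
    · exact comm_of_cyclic hc ha hb
    · exfalso
      obtain ⟨k, hk⟩ := (IsPGroup.iff_card.mp P.2)
      have h1 : Nat.card P = 4 * 2 ^ n := by
        rw [Nat.card_congr eq.toEquiv, Nat.card_eq_fintype_card, QuaternionGroup.card]
      rw [hk] at h1
      have h2 : Odd (3 ^ k) := Odd.pow (by decide)
      rw [h1] at h2
      exact (Nat.not_even_iff_odd.mpr h2) ⟨2 * 2 ^ n, by ring⟩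
  have haP : a₀ ∈ P := hP (Subgroup.mem_zpowers a₀)
  have := not_mem_commutator_of_central P hPcomm haP hcentral ha1
  rw [hperf] at this
  exact this (Subgroup.mem_top _)

end rep

section main

variable {G : Type u} [Group G] [Finite G] {r : ℕ} [Fact r.Prime] {K : Type*} [Field K]
  [Fintype K] [CharP K r] {V : Type*} [AddCommGroup V] [Module K V] {ρ : G →* Module.End K V}

/-- from `Rel` with an element of order three to `Data` -/
theorem data_of_rel {H : Type*} [Group H] {i g : H} (hr : QuatSec.Rel i g) (hg : orderOf g = 3) :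
    Data i g where
  hi4 := hr.hi4
  hi2 := hr.hi2
  hg3 := by rw [← hg]; exact pow_orderOf_eq_one g
  hg1 := by
    intro e
    rw [e, orderOf_one] at hg
    omega
  h1 := hr.h1
  h2 := hr.h2
  h3 := hr.h3

theorem data_map {H H' : Type*} [Group H] [Group H'] (f : H →* H') (hf : Function.Injective f)
    {i g : H} (d : Data i g) : Data (f i) (f g) where
  hi4 := by rw [← map_pow, d.hi4, map_one]
  hi2 := by
    rw [← map_pow]
    intro e
    apply d.hi2
    apply hf
    rw [e, map_one]
  hg3 := by rw [← map_pow, d.hg3, map_one]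
  hg1 := by
    intro e
    apply d.hg1
    apply hf
    rw [e, map_one]
  h1 := by
    have := congrArg f d.h1
    simpa using this
  h2 := by
    have := congrArg f d.h2
    simpa using this
  h3 := by
    have := congrArg f d.h3
    simpa using this

/-- two noncommuting elements of order three give a quaternion group with an automorphism of
order three -/
theorem data_of_pair (hF : IsFpf.{u, v} G) (h : IsZRep ρ) (hr : ¬ r ∣ Nat.card G) {a b : G}
    (ha1 : a ≠ 1) (ha3 : a ^ 3 = 1) (hb1 : b ≠ 1) (hb3 : b ^ 3 = 1) (hab : a * b ≠ b * a) :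
    ∃ i g : G, Data i g := by
  have : Fact (Nat.Prime 2) := ⟨Nat.prime_two⟩
  have key := emb_two_order_three h ha1 ha3 hb1 hb3 hab
  obtain ⟨H, hHdef⟩ : ∃ H : Subgroup G, H = Subgroup.closure ({a, b} : Set G) := ⟨_, rfl⟩
  rw [← hHdef] at key
  obtain ⟨τ, hτ⟩ := key
  have haH : a ∈ H := by rw [hHdef]; exact Subgroup.subset_closure (by simp)
  have hbH : b ∈ H := by rw [hHdef]; exact Subgroup.subset_closure (by simp)
  have hrH : ¬ r ∣ Nat.card H := fun hd => hr (hd.trans (Subgroup.card_subgroup_dvd_card H))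
  -- a normal subgroup of `2`-power index contains `a` and `b`, so it is everything
  have hgen : ∀ N : Subgroup H, (⟨a, haH⟩ : H) ∈ N → (⟨b, hbH⟩ : H) ∈ N → N = ⊤ := by
    intro N h1 h2
    rw [eq_top_iff]
    intro x _
    have hx : (x : G) ∈ Subgroup.closure ({a, b} : Set G) := hHdef ▸ x.2
    have : (x : G) ∈ N.map H.subtype := by
      have hle : Subgroup.closure ({a, b} : Set G) ≤ N.map H.subtype := by
        rw [Subgroup.closure_le]
        intro y hy
        rcases hy with rfl | rfl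
        · exact ⟨⟨_, haH⟩, h1, rfl⟩
        · exact ⟨⟨_, hbH⟩, h2, rfl⟩
      exact hle hx
    obtain ⟨y, hy, hyx⟩ := this
    have : y = x := Subtype.ext hyx
    rwa [← this]
  have hpowmem : ∀ (N : Subgroup H) (c : H) (k : ℕ), c ^ 3 = 1 → c ^ (2 ^ k) ∈ N → c ∈ N := by
    intro N c k hc3 hck
    have hmod : ∀ k : ℕ, 2 ^ k % 3 = 1 ∨ 2 ^ k % 3 = 2 := by
      intro k
      induction k with
      | zero => left; rfl
      | succ n ih => rw [pow_succ, Nat.mul_mod]; rcases ih with e | e <;> rw [e] <;> simp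
    replace hmod := hmod k
    rw [pow_eq_pow_mod _ hc3] at hck
    rcases hmod with e | e
    · rw [e, pow_one] at hck; exact hck
    · rw [e] at hck
      have : c = c ^ 2 * c ^ 2 := by
        calc c = c ^ 3 * c := by rw [hc3, one_mul]
          _ = c ^ 2 * c ^ 2 := by simp only [pow_succ, pow_zero, one_mul, mul_assoc]
      rw [this]; exact N.mul_mem hck hck
  rcases ZD.dickson r τ hτ hrH with ⟨A, hAn, hAi, hAc⟩ | ⟨hcard, -⟩
  · exfalso
    have hidx : ∃ k : ℕ, A.index = 2 ^ k := by
      have h0 : A.index ≠ 0 := Subgroup.index_ne_zero_of_finite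
      have h12 : A.index = 1 ∨ A.index = 2 := by omega
      rcases h12 with e | e
      · exact ⟨0, by rw [e, pow_zero]⟩
      · exact ⟨1, by rw [e, pow_one]⟩
    obtain ⟨k, hk⟩ := hidx
    have h1 : (⟨a, haH⟩ : H) ∈ A := by
      apply hpowmem A _ k (Subtype.ext (by simpa using ha3))
      rw [← hk]; exact A.pow_index_mem _
    have h2 : (⟨b, hbH⟩ : H) ∈ A := by
      apply hpowmem A _ k (Subtype.ext (by simpa using hb3))
      rw [← hk]; exact A.pow_index_mem _
    exact hab (congrArg Subtype.val (hAc _ h1 _ h2))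
  · have hZle : Nat.card (ZZ τ) ≤ 2 := card_ZZ_le τ hτ
    have hZpos : 0 < Nat.card (ZZ τ) := Nat.card_pos
    have heven : 2 ∣ Nat.card H := by
      rcases hcard with e | e | e <;> rw [e] <;> omega
    obtain ⟨zH, hzH⟩ := exists_prime_orderOf_dvd_card' 2 heven
    have hz1 : zH ≠ 1 := by
      intro e
      rw [e, orderOf_one] at hzH
      omega
    have hz2 : zH * zH = 1 := by
      rw [← pow_two, ← hzH]; exact pow_orderOf_eq_one zH
    obtain ⟨-, hZ2⟩ := ZD.card_ZZ_eq_two h.two τ hτ hz1 hz2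
    rw [hZ2] at hcard
    have h9 : ¬ 9 ∣ Nat.card H := by
      rcases hcard with e | e | e <;> rw [e] <;> omega
    have hFH : IsFpf.{u, v} H := hF.subgroup H
    let S : Sylow 2 H := default
    have hno : ¬ ∃ N : Subgroup H, N.Normal ∧ N.IsComplement' (S : Subgroup H) := by
      rintro ⟨N, hN, hc⟩
      have hidx : N.index = Nat.card S := hc.symm.index_eq_card
      obtain ⟨k, hk⟩ := (IsPGroup.iff_card.mp S.2)
      have h1 : (⟨a, haH⟩ : H) ∈ N := by
        apply hpowmem N _ k (Subtype.ext (by simpa using ha3))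
        rw [← hk, ← hidx]; exact N.pow_index_mem _
      have h2 : (⟨b, hbH⟩ : H) ∈ N := by
        apply hpowmem N _ k (Subtype.ext (by simpa using hb3))
        rw [← hk, ← hidx]; exact N.pow_index_mem _
      have hNtop := hgen N h1 h2
      have hcardN : Nat.card N = S.1.index := hc.index_eq_card.symm
      have hodd : ¬ 2 ∣ S.1.index := S.not_dvd_index
      apply hodd
      rw [← hcardN, hNtop, Subgroup.card_top]
      exact heven
    obtain ⟨i, g, hrel, n, hn, hord⟩ := rel_of_not_nilp hFH heven S hno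
    have hn1 : n = 1 := by
      by_contra hne
      apply h9
      have h2 : 2 ≤ n := by omega
      have h3 : 3 ^ 2 ∣ 3 ^ n := pow_dvd_pow 3 h2
      have h4 : orderOf g ∣ Nat.card H := orderOf_dvd_natCard g
      rw [hord] at h4
      exact h3.trans h4
    rw [hn1, pow_one] at hord
    exact ⟨i, g, data_map H.subtype H.subtype_injective (data_of_rel hrel hord)⟩

/-- a perfect group of even order contains a quaternion group with an automorphism of order
three -/
theorem exists_data (hF : IsFpf.{u, v} G) (h : IsZRep ρ) (hr : ¬ r ∣ Nat.card G)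
    (hperf : commutator G = ⊤) (h2 : 2 ∣ Nat.card G) : ∃ i g : G, Data i g := by
  have : Fact (Nat.Prime 2) := ⟨Nat.prime_two⟩
  let S : Sylow 2 G := default
  obtain ⟨i, g, hrel, a, ha, hord⟩ := rel_of_not_nilp hF h2 S (perfect_not_nilp hperf h2 S)
  have h3 : 3 ∣ Nat.card G := by
    have h4 : orderOf g ∣ Nat.card G := orderOf_dvd_natCard g
    rw [hord] at h4
    exact (dvd_pow_self 3 (by omega)).trans h4
  obtain ⟨a, b, ha1, ha3, hb1, hb3, hab⟩ := exists_noncomm_three hF h hperf h3
  exact data_of_pair hF h hr ha1 ha3 hb1 hb3 hab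

end main

end Cfsg.Agent.Lib.Helper12.ZS
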