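import Mathlib
import Cfsg.Agent.Lib.Helper12.ZStart

set_option autoImplicit false

/-!
# The Sylow `2`-subgroup has order at most sixteen
-/

namespace Cfsg.Agent.Lib.Helper12.ZY

open Cfsg.Agent.Lib.Helper20 Cfsg.Agent.Lib.Helper20.SL23 Cfsg.Agent.Lib.Helper12.ZR
  Cfsg.Agent.Lib.Helper12.ZDt Cfsg.Agent.Lib.Helper12.ZF Cfsg.Agent.Lib.Helper12.ZL
  Cfsg.Agent.Lib.Helper12.ZP Cfsg.Agent.Lib.Helper14.Dk

universe u v

section grp

variable {G : Type*} [Group G]

theorem gq_card [Finite G] {S A : Subgroup G} {z : G} (h : QuatSec.GQ S A z) {t : G} (ht : t ∈ S)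
    (htA : t ∉ A) : Nat.card S = 2 * Nat.card A := by
  have hidx : (A.subgroupOf S).index = 2 := by
    rw [Subgroup.index_eq_two_iff]
    refine ⟨⟨t, ht⟩, fun b => ?_⟩
    by_cases hb : (b : G) ∈ A
    · right
      refine ⟨Subgroup.mem_subgroupOf.mpr hb, ?_⟩
      intro hbt
      apply htA
      have h1 : (b : G) * t ∈ A := Subgroup.mem_subgroupOf.mp hbt
      have : t = (b : G)⁻¹ * ((b : G) * t) := by group
      rw [this]
      exact A.mul_mem (A.inv_mem hb) h1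
    · left
      refine ⟨Subgroup.mem_subgroupOf.mpr (h.idx t ht b b.2 htA hb), fun hb' => hb ?_⟩
      exact Subgroup.mem_subgroupOf.mp hb'
  have h1 := (A.subgroupOf S).card_mul_index
  rw [hidx] at h1
  have e : Nat.card (A.subgroupOf S) = Nat.card A :=
    Nat.card_congr (Subgroup.subgroupOfEquivOfLe h.le).toEquiv
  omega

/-- the range of the quaternion group -/
theorem fn_mem_of {i g : G} (d : Data i g) (X : Subgroup G) (hi : i ∈ X) (hj : g * i * g⁻¹ ∈ X)
    (q : QuaternionGroup 2) : d.fn q ∈ X := by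
  rcases q with k | k
  · have : (QuaternionGroup.a k : QuaternionGroup 2) = QuaternionGroup.a 1 ^ k.val := by
      rw [QuaternionGroup.a_one_pow, ZMod.natCast_zmod_val]
    rw [this, map_pow, d.fn_a1]
    exact X.pow_mem hi _
  · have : (QuaternionGroup.xa k : QuaternionGroup 2) =
        QuaternionGroup.xa 0 * QuaternionGroup.a 1 ^ k.val := by
      rw [QuaternionGroup.a_one_pow, QuaternionGroup.xa_mul_a, zero_add, ZMod.natCast_zmod_val]
    rw [this, map_mul, map_pow, d.fn_a1, d.fn_xa0]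
    exact X.mul_mem hj (X.pow_mem hi _)

theorem card_range_fn {i g : G} (d : Data i g) : Nat.card d.fn.range = 8 := by
  rw [Nat.card_congr (MonoidHom.ofInjective d.fn_injective).symm.toEquiv, Nat.card_eq_fintype_card,
    QuaternionGroup.card]

theorem i_mem_range {i g : G} (d : Data i g) : i ∈ d.fn.range := ⟨_, d.fn_a1⟩

theorem j_mem_range {i g : G} (d : Data i g) : g * i * g⁻¹ ∈ d.fn.range := ⟨_, d.fn_xa0⟩

/-- there is a Sylow `2`-subgroup containing the quaternion group -/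
theorem exists_sylow [Finite G] {i g : G} (d : Data i g) :
    ∃ S : Sylow 2 G, i ∈ (S : Subgroup G) ∧ g * i * g⁻¹ ∈ (S : Subgroup G) := by
  have : Fact (Nat.Prime 2) := ⟨Nat.prime_two⟩
  have h2 : IsPGroup 2 d.fn.range := by
    apply IsPGroup.of_card (n := 3)
    rw [card_range_fn d]; norm_num
  obtain ⟨S, hS⟩ := h2.exists_le_sylow
  exact ⟨S, hS (i_mem_range d), hS (j_mem_range d)⟩

/-- rebasing the quaternion group so that `i` lies in the cyclic maximal subgroup -/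
theorem rebase {S A : Subgroup G} {z : G} (hgq : QuatSec.GQ S A z) {i g : G} (d : Data i g)
    (hi : i ∈ S) (hj : g * i * g⁻¹ ∈ S) :
    ∃ i' : G, Data i' g ∧ i' ∈ A ∧ g * i' * g⁻¹ ∈ S := by
  by_cases hiA : i ∈ A
  · exact ⟨i, d, hiA, hj⟩
  by_cases hjA : g * i * g⁻¹ ∈ A
  · refine ⟨g * i * g⁻¹, conj_data d, hjA, ?_⟩
    rw [d.h3]
    exact S.mul_mem hi hj
  · have hij : i * (g * i * g⁻¹) ∈ A := hgq.idx _ hj _ hi hjA hiA
    have d2 := conj_data (conj_data d)
    rw [d.h3] at d2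
    refine ⟨i * (g * i * g⁻¹), d2, hij, ?_⟩
    have : g * (i * (g * i * g⁻¹)) * g⁻¹ = (g * i * g⁻¹) * (g * (g * i * g⁻¹) * g⁻¹) := by group
    rw [this, d.h3]
    exact S.mul_mem hj (S.mul_mem hi hj)

end grp

section main

variable {G : Type u} [Group G] [Finite G] {r : ℕ} [Fact r.Prime] {K : Type*} [Field K]
  [Fintype K] [CharP K r] {V : Type*} [AddCommGroup V] [Module K V] {ρ : G →* Module.End K V}

/-- the Sylow `2`-subgroup is generalized quaternion of order eight or sixteen -/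
theorem sylow_cases (hF : IsFpf.{u, v} G) (h : IsZRep ρ) (hr : ¬ r ∣ Nat.card G) {i g : G}
    (d : Data i g) (S : Sylow 2 G) (hi : i ∈ (S : Subgroup G))
    (hj : g * i * g⁻¹ ∈ (S : Subgroup G)) :
    ∃ (A : Subgroup G) (z i' : G), QuatSec.GQ (S : Subgroup G) A z ∧ Data i' g ∧ i' ∈ A ∧
      g * i' * g⁻¹ ∈ (S : Subgroup G) ∧ g * i' * g⁻¹ ∉ A ∧
      ((Nat.card A = 4 ∧ Nat.card S = 8) ∨
        (Nat.card A = 8 ∧ Nat.card S = 16 ∧ ∃ x ∈ A, x * x = i')) := by
  have : Fact (Nat.Prime 2) := ⟨Nat.prime_two⟩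
  rcases hF.sylow 2 S with hcyc | ⟨n, ⟨e⟩⟩
  · exfalso
    have h1 := comm_of_cyclic hcyc hj hi
    apply data_hz1 d
    have h2 := d.h2
    have h3 : g * i * g⁻¹ * i * (g * i * g⁻¹)⁻¹ = i := by rw [h1]; group
    rw [h3] at h2
    calc i * i = i * i⁻¹ := by rw [← h2]
      _ = 1 := mul_inv_cancel i
  obtain ⟨A, z, hgq⟩ := QuatSec.gq_of_equiv (S : Subgroup G) (2 ^ n) e
  obtain ⟨i', d', hiA, hjS⟩ := rebase hgq d hi hj
  have hjA : g * i' * g⁻¹ ∉ A := by
    intro hjA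
    have h1 := comm_of_cyclic hgq.cyc hjA hiA
    apply data_hz1 d'
    have h2 := d'.h2
    have h3 : g * i' * g⁻¹ * i' * (g * i' * g⁻¹)⁻¹ = i' := by rw [h1]; group
    rw [h3] at h2
    calc i' * i' = i' * i'⁻¹ := by rw [← h2]
      _ = 1 := mul_inv_cancel i'
  refine ⟨A, z, i', hgq, d', hiA, hjS, hjA, ?_⟩
  have hcardS := gq_card hgq hjS hjA
  obtain ⟨x, hx⟩ := hgq.cyc.exists_generator
  set j := g * i' * g⁻¹ with hjdef
  have hxA : (x : G) ∈ A := x.2
  have hinv : j * x * j⁻¹ = (x : G)⁻¹ := hgq.inv j hjS hjA x hxA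
  have hmi : (x : G) * i' = i' * x := comm_of_cyclic hgq.cyc hxA hiA
  have hmj : j⁻¹ * x * j = (x : G)⁻¹ := by
    calc j⁻¹ * x * j = (j⁻¹ * (x : G)⁻¹ * j)⁻¹ := by group
      _ = (j⁻¹ * (j * x * j⁻¹) * j)⁻¹ := by rw [hinv]
      _ = (x : G)⁻¹ := by group
  have h8 : (x : G) ^ 8 = 1 := pow_eight h hr d' hmi hmj
  have hcardA : Nat.card A = orderOf (x : G) := by
    rw [Subgroup.orderOf_coe, ← Nat.card_zpowers]
    have : Subgroup.zpowers x = ⊤ := by
      rw [eq_top_iff]; intro y _; exact hx y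
    rw [this, Subgroup.card_top]
  have hdvd8 : orderOf (x : G) ∣ 8 := orderOf_dvd_of_pow_eq_one h8
  have hdvd4 : 4 ∣ Nat.card A := by
    have h1 : orderOf (⟨i', hiA⟩ : A) ∣ Nat.card A := orderOf_dvd_natCard _
    rw [Subgroup.orderOf_mk, d'.orderOf_i] at h1
    exact h1
  rw [hcardA] at hdvd4
  have hcases : orderOf (x : G) = 4 ∨ orderOf (x : G) = 8 := by
    have hle : orderOf (x : G) ≤ 8 := Nat.le_of_dvd (by norm_num) hdvd8
    have hpos : 0 < orderOf (x : G) := orderOf_pos _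
    interval_cases (orderOf (x : G)) <;> omega
  rcases hcases with h4 | h8'
  · left
    rw [hcardS, hcardA, h4]
    exact ⟨rfl, rfl⟩
  · right
    rw [hcardS, hcardA, h8']
    refine ⟨rfl, rfl, ?_⟩
    obtain ⟨k, hk⟩ := Subgroup.mem_zpowers_iff.mp (hx ⟨i', hiA⟩)
    have hk' : (x : G) ^ k = i' := by
      have := congrArg Subtype.val hk
      simpa using this
    have h1 : (x : G) ^ (k * 4) = 1 := by
      rw [zpow_mul, hk']
      exact_mod_cast d'.hi4
    have h2 : (orderOf (x : G) : ℤ) ∣ k * 4 := orderOf_dvd_iff_zpow_eq_one.mpr h1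
    rw [h8'] at h2
    have h3 : (2 : ℤ) ∣ k := by
      obtain ⟨c, hc⟩ := h2
      exact ⟨c, by push_cast at hc; omega⟩
    obtain ⟨l, hl⟩ := h3
    refine ⟨(x : G) ^ l, A.zpow_mem hxA l, ?_⟩
    rw [← zpow_add, ← hk', hl]
    congr 1; ring

end main

end Cfsg.Agent.Lib.Helper12.ZY
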