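import Mathlib
import Cfsg.Agent.Lib.Helper12.ZSylow

set_option autoImplicit false

/-!
# General lemmas for the local analysis
-/

namespace Cfsg.Agent.Lib.Helper12.ZG

open Cfsg.Agent.Lib.Helper20 Cfsg.Agent.Lib.Helper20.SL23 Cfsg.Agent.Lib.Helper12.ZR
  Cfsg.Agent.Lib.Helper12.ZDt Cfsg.Agent.Lib.Helper12.ZF Cfsg.Agent.Lib.Helper12.ZL
  Cfsg.Agent.Lib.Helper12.ZP Cfsg.Agent.Lib.Helper14.Dk

open scoped Pointwise

universe u v

section grp

variable {G : Type*} [Group G] [Finite G]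

theorem inv_eq_pow (n : G) : n⁻¹ = n ^ (orderOf n - 1) := by
  have hpos : 0 < orderOf n := orderOf_pos n
  apply inv_eq_of_mul_eq_one_left
  rw [← pow_succ, Nat.sub_add_cancel hpos, pow_orderOf_eq_one]

theorem conj_pow_mem {K : Subgroup G} {n : G} (h : ∀ q ∈ K, n * q * n⁻¹ ∈ K) (k : ℕ) :
    ∀ q ∈ K, n ^ k * q * (n ^ k)⁻¹ ∈ K := by
  induction k with
  | zero => intro q hq; simpa using hq
  | succ k ih =>
    intro q hq
    have := h _ (ih q hq)
    have e : n ^ (k + 1) * q * (n ^ (k + 1))⁻¹ = n * (n ^ k * q * (n ^ k)⁻¹) * n⁻¹ := by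
      rw [pow_succ']; group
    rw [e]; exact this

theorem mem_normalizer_of_conj_mem {K : Subgroup G} {n : G} (h : ∀ q ∈ K, n * q * n⁻¹ ∈ K) :
    n ∈ Subgroup.normalizer (K : Set G) := by
  rw [Subgroup.mem_normalizer_iff]
  intro q
  refine ⟨h q, fun hq => ?_⟩
  have := conj_pow_mem h (orderOf n - 1) _ hq
  rw [← inv_eq_pow] at this
  have e : n⁻¹ * (n * q * n⁻¹) * n⁻¹⁻¹ = q := by group
  rwa [e] at this

theorem conj_mem_of_mem_normalizer {K : Subgroup G} {n : G}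
    (h : n ∈ Subgroup.normalizer (K : Set G)) {q : G} (hq : q ∈ K) : n * q * n⁻¹ ∈ K :=
  (Subgroup.mem_normalizer_iff.mp h q).mp hq

/-- Sylow's theorem inside a subgroup -/
theorem sylow_conj_into (N : Subgroup G) (S : Sylow 2 G) (hS : (S : Subgroup G) ≤ N)
    (R : Subgroup G) (hR : R ≤ N) (hR2 : IsPGroup 2 R) :
    ∃ n ∈ N, ∀ q ∈ R, n * q * n⁻¹ ∈ (S : Subgroup G) := by
  have : Fact (Nat.Prime 2) := ⟨Nat.prime_two⟩
  let SN : Sylow 2 N := S.subtype hS
  have hRN : IsPGroup 2 (R.subgroupOf N) :=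
    hR2.of_equiv (Subgroup.subgroupOfEquivOfLe hR).symm
  obtain ⟨P₁, hP₁⟩ := hRN.exists_le_sylow
  obtain ⟨n, hn⟩ := MulAction.exists_smul_eq N P₁ SN
  refine ⟨n, n.2, fun q hq => ?_⟩
  have hqN : q ∈ N := hR hq
  have h1 : (⟨q, hqN⟩ : N) ∈ (P₁ : Subgroup N) := hP₁ (Subgroup.mem_subgroupOf.mpr hq)
  have h2 : MulAut.conj n • (⟨q, hqN⟩ : N) ∈ MulAut.conj n • (P₁ : Subgroup N) :=
    Subgroup.smul_mem_pointwise_smul _ _ _ h1
  have h3 : (MulAut.conj n • (P₁ : Subgroup N)) = ((n • P₁ : Sylow 2 N) : Subgroup N) := rfl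
  rw [h3, hn] at h2
  have h4 : (MulAut.conj n • (⟨q, hqN⟩ : N) : N) = n * ⟨q, hqN⟩ * n⁻¹ := rfl
  rw [h4] at h2
  have h5 : ((n * ⟨q, hqN⟩ * n⁻¹ : N) : G) ∈ (S : Subgroup G) := by
    have : (n * ⟨q, hqN⟩ * n⁻¹ : N) ∈ (S : Subgroup G).subgroupOf N := h2
    exact Subgroup.mem_subgroupOf.mp this
  simpa using h5

theorem isPGroup_zpowers {a : G} (ha : ∃ k : ℕ, a ^ 2 ^ k = 1) :
    IsPGroup 2 (Subgroup.zpowers a) := by
  obtain ⟨k, hk⟩ := ha
  have h1 : orderOf a ∣ 2 ^ k := orderOf_dvd_of_pow_eq_one hk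
  obtain ⟨l, -, hl⟩ := (Nat.dvd_prime_pow Nat.prime_two).mp h1
  apply IsPGroup.of_card (n := l)
  rw [Nat.card_zpowers, hl]

theorem sylow_conj_elem (N : Subgroup G) (S : Sylow 2 G) (hS : (S : Subgroup G) ≤ N) {a : G}
    (ha : a ∈ N) (ha2 : ∃ k : ℕ, a ^ 2 ^ k = 1) :
    ∃ n ∈ N, n * a * n⁻¹ ∈ (S : Subgroup G) := by
  obtain ⟨n, hn, h⟩ := sylow_conj_into N S hS (Subgroup.zpowers a)
    (by rw [Subgroup.zpowers_le]; exact ha) (isPGroup_zpowers ha2)
  exact ⟨n, hn, h a (Subgroup.mem_zpowers a)⟩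

end grp

section rep

variable {G : Type*} [Group G] [Finite G] {K : Type*} [Field K] {V : Type*} [AddCommGroup V]
  [Module K V] {ρ : G →* Module.End K V}

/-- invariance of a subspace passes to the generated subgroup -/
theorem invariant_of_mem_closure (W : Submodule K V) (T : Set G)
    (hT : ∀ s ∈ T, ∀ w ∈ W, ρ s w ∈ W) : ∀ s ∈ Subgroup.closure T, ∀ w ∈ W, ρ s w ∈ W := by
  intro s hs
  induction hs using Subgroup.closure_induction with
  | mem x hx => exact hT x hx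
  | one => intro w hw; rw [rho_one]; exact hw
  | mul x y _ _ hx hy => intro w hw; rw [rho_mul]; exact hx _ (hy w hw)
  | inv x _ hx =>
    intro w hw
    rw [rho_eq_of_eq (ZG.inv_eq_pow x) w]
    have : ∀ k : ℕ, ∀ w ∈ W, ρ (x ^ k) w ∈ W := by
      intro k
      induction k with
      | zero => intro w hw; rw [pow_zero, rho_one]; exact hw
      | succ k ih => intro w hw; rw [pow_succ, rho_mul]; exact ih _ (hx w hw)
    exact this _ w hw

end rep

section data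

variable {G : Type*} [Group G] {i g : G}

open QuaternionGroup in
theorem quat_conj_aux : ∀ q : QuaternionGroup 2, q * q ≠ 1 →
    ∃ q' : QuaternionGroup 2, q' * a 1 * q'⁻¹ = q ∨ q' * phiFun (a 1) * q'⁻¹ = q ∨
      q' * phiFun (phiFun (a 1)) * q'⁻¹ = q := by decide

/-- the elements of order four of the quaternion group are conjugate to `i` under the group
generated by `i` and `g` -/
theorem conj_of_order_four (d : Data i g) {t : G} (ht : t ∈ d.fn.range) (ht2 : t * t ≠ 1) :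
    ∃ (q' : QuaternionGroup 2) (n : ℕ),
      t = (d.fn q' * g ^ n) * i * (d.fn q' * g ^ n)⁻¹ := by
  obtain ⟨q, rfl⟩ := ht
  have hq : q * q ≠ 1 := by
    intro e
    apply ht2
    rw [← map_mul, e, map_one]
  have hphi : ∀ q₀ : QuaternionGroup 2, d.fn (phiFun q₀) = g * d.fn q₀ * g⁻¹ := by
    intro q₀
    have := d.compat_pow 1 q₀
    rw [pow_one, pow_one, phi0_apply] at this
    exact this
  obtain ⟨q', e | e | e⟩ := quat_conj_aux q hq
  · refine ⟨q', 0, ?_⟩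
    rw [← e, map_mul, map_mul, map_inv, d.fn_a1]
    simp
  · refine ⟨q', 1, ?_⟩
    rw [← e, map_mul, map_mul, map_inv, hphi, d.fn_a1]
    simp only [pow_one]; group
  · refine ⟨q', 2, ?_⟩
    rw [← e, map_mul, map_mul, map_inv, hphi, hphi, d.fn_a1]
    simp only [pow_succ, pow_zero, one_mul]; group

end data

section fpf

variable {G : Type u} [Group G] [Finite G]

/-- the involution is central -/
theorem central_invol (hF : IsFpf.{u, v} G) {z : G} (hz1 : z ≠ 1) (hz2 : z * z = 1) (c : G) :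
    c * z * c⁻¹ = z := by
  have ho : orderOf z = 2 := orderOf_eq_prime (by rw [pow_two]; exact hz2) hz1
  have heven : 2 ∣ Nat.card G := ho ▸ orderOf_dvd_natCard z
  obtain ⟨z₀, -, huniq⟩ := hF.involution heven
  have h1 := huniq z ho
  have h2 : orderOf (c * z * c⁻¹) = 2 := by
    have : SemiconjBy c z (c * z * c⁻¹) := by unfold SemiconjBy; group
    rw [← this.orderOf_eq]; exact ho
  rw [huniq _ h2, h1]

/-- a group containing the quaternion group and `g` has no abelian normal subgroup of index at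
most two -/
theorem no_abelian_index_two {i g : G} (d : Data i g) (X : Subgroup G) (hiX : i ∈ X)
    (hgX : g ∈ X) : ¬ ∃ A : Subgroup X, A.Normal ∧ A.index ≤ 2 ∧
      ∀ a ∈ A, ∀ b ∈ A, a * b = b * a := by
  rintro ⟨A, hAn, hAi, hAc⟩
  have hsq : ∀ x : X, x * x ∈ A := by
    intro x
    have h0 : A.index ≠ 0 := Subgroup.index_ne_zero_of_finite
    have h12 : A.index = 1 ∨ A.index = 2 := by omega
    rcases h12 with h1 | h2
    · rw [Subgroup.index_eq_one] at h1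
      rw [h1]; exact Subgroup.mem_top _
    · exact Subgroup.mul_self_mem_of_index_two h2 x
  have hgX' : g⁻¹ ∈ X := X.inv_mem hgX
  set a : X := ⟨g⁻¹, hgX'⟩ with ha
  set iX : X := ⟨i, hiX⟩ with hiXd
  have ha3 : a * a * a = 1 := by
    apply Subtype.ext
    show g⁻¹ * g⁻¹ * g⁻¹ = 1
    have := data_ginv3 d
    rw [← this]; simp only [pow_succ, pow_zero, one_mul]
  have haA : a ∈ A := by
    have h1 := hsq (a * a)
    have e : a * a * (a * a) = a := by
      calc a * a * (a * a) = (a * a * a) * a := by group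
        _ = a := by rw [ha3, one_mul]
    rwa [e] at h1
  have hqA : a⁻¹ * (iX * a * iX⁻¹) ∈ A := A.mul_mem (A.inv_mem haA) (hAn.conj_mem a haA iX)
  have hc := hAc a haA _ hqA
  have hc' := congrArg Subtype.val hc
  simp only [Subgroup.coe_mul, Subgroup.coe_inv, ha, hiXd] at hc'
  have e1 : g * ((g * i * g⁻¹) * i⁻¹) * g⁻¹ = (g * i * g⁻¹) * i⁻¹ := by
    have : g⁻¹ * ((g * i * g⁻¹) * i⁻¹) = ((g * i * g⁻¹) * i⁻¹) * g⁻¹ := by
      calc g⁻¹ * ((g * i * g⁻¹) * i⁻¹) = g⁻¹ * (g⁻¹⁻¹ * (i * g⁻¹ * i⁻¹)) := by group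
        _ = g⁻¹⁻¹ * (i * g⁻¹ * i⁻¹) * g⁻¹ := hc'
        _ = ((g * i * g⁻¹) * i⁻¹) * g⁻¹ := by group
    calc g * ((g * i * g⁻¹) * i⁻¹) * g⁻¹ = g * (((g * i * g⁻¹) * i⁻¹) * g⁻¹) := by group
      _ = g * (g⁻¹ * ((g * i * g⁻¹) * i⁻¹)) := by rw [this]
      _ = (g * i * g⁻¹) * i⁻¹ := by group
  have e2 : g * ((g * i * g⁻¹) * i⁻¹) * g⁻¹ = i := by
    calc g * ((g * i * g⁻¹) * i⁻¹) * g⁻¹ = (g * (g * i * g⁻¹) * g⁻¹) * (g * i * g⁻¹)⁻¹ := by group
      _ = i := by rw [d.h3]; group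
  rw [e2] at e1
  apply d.j_not_mem
  have : g * i * g⁻¹ = i * i := by
    calc g * i * g⁻¹ = ((g * i * g⁻¹) * i⁻¹) * i := by group
      _ = i * i := by rw [← e1]
  rw [this]
  exact Subgroup.mul_mem _ (Subgroup.mem_zpowers i) (Subgroup.mem_zpowers i)

end fpf

end Cfsg.Agent.Lib.Helper12.ZG
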