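import Mathlib
import Cfsg.Agent.Lib.Helper12.ZGen
import Cfsg.Agent.Lib.Helper12.ZFocal

set_option autoImplicit false

/-!
# The case of a quaternion Sylow subgroup of order eight: odd-order centralizers are trivial
-/

namespace Cfsg.Agent.Lib.Helper12.ZO

open Cfsg.Agent.Lib.Helper20 Cfsg.Agent.Lib.Helper20.SL23 Cfsg.Agent.Lib.Helper12.ZR
  Cfsg.Agent.Lib.Helper12.ZDt Cfsg.Agent.Lib.Helper12.ZF Cfsg.Agent.Lib.Helper12.ZL
  Cfsg.Agent.Lib.Helper12.ZP Cfsg.Agent.Lib.Helper14.Dk Cfsg.Agent.Lib.Helper12.ZG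
  Cfsg.Agent.Lib.Helper12.ZY Cfsg.Agent.Lib.Helper12.ZFo

universe u v

variable {G : Type u} [Group G] [Finite G]

/-- the configuration of a quaternion Sylow subgroup of order eight -/
structure Q8c (S : Sylow 2 G) (i g : G) : Prop where
  d : Data i g
  hS : (S : Subgroup G) = d.fn.range

namespace Q8c

variable {S : Sylow 2 G} {i g : G} (c : Q8c S i g)
include c

theorem pow_four {s : G} (hs : s ∈ (S : Subgroup G)) : s ^ 4 = 1 := by
  rw [c.hS] at hs
  obtain ⟨q, rfl⟩ := hs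
  rw [← map_pow, quat2_pow_four, map_one]

theorem iS : i ∈ (S : Subgroup G) := by rw [c.hS]; exact i_mem_range c.d

theorem jS : g * i * g⁻¹ ∈ (S : Subgroup G) := by rw [c.hS]; exact j_mem_range c.d

/-- a `2`-element commuting with an element of order four is a power of it -/
theorem two_elem_mem (hF : IsFpf.{u, v} G) {t a : G} (ht : orderOf t = 4)
    (ha2 : ∃ k : ℕ, a ^ 2 ^ k = 1) (hat : a * t = t * a) : a ∈ Subgroup.zpowers t := by
  have : Fact (Nat.Prime 2) := ⟨Nat.prime_two⟩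
  have ht2 : ∃ k : ℕ, t ^ 2 ^ k = 1 := ⟨2, by
    have := pow_orderOf_eq_one t
    rw [ht] at this
    simpa using this⟩
  have hcomm : ∀ p ∈ Subgroup.zpowers a, ∀ q ∈ Subgroup.zpowers t, p * q = q * p := by
    intro p hp q hq
    obtain ⟨m, rfl⟩ := Subgroup.mem_zpowers_iff.mp hp
    obtain ⟨n, rfl⟩ := Subgroup.mem_zpowers_iff.mp hq
    have : Commute a t := hat
    exact ((this.zpow_left m).zpow_right n).eq
  have hnorm : Subgroup.zpowers a ≤ Subgroup.normalizer (Subgroup.zpowers t : Set G) := by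
    intro p hp
    apply mem_normalizer_of_conj_mem
    intro q hq
    have := hcomm p hp q hq
    have e : p * q * p⁻¹ = q := by rw [this]; group
    rw [e]; exact hq
  have hR2 : IsPGroup 2 (Subgroup.zpowers a ⊔ Subgroup.zpowers t : Subgroup G) :=
    IsPGroup.to_sup_of_normal_right' (isPGroup_zpowers ha2) (isPGroup_zpowers ht2) hnorm
  have hRcomm : ∀ p ∈ (Subgroup.zpowers a ⊔ Subgroup.zpowers t : Subgroup G),
      ∀ q ∈ (Subgroup.zpowers a ⊔ Subgroup.zpowers t : Subgroup G), p * q = q * p := by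
    rw [Subgroup.sup_eq_closure]
    apply QuatChar.comm_closure
    intro p hp q hq
    rcases hp with hp | hp <;> rcases hq with hq | hq
    · obtain ⟨m, rfl⟩ := Subgroup.mem_zpowers_iff.mp hp
      obtain ⟨n, rfl⟩ := Subgroup.mem_zpowers_iff.mp hq
      rw [← zpow_add, ← zpow_add, add_comm]
    · exact hcomm p hp q hq
    · exact (hcomm q hq p hp).symm
    · obtain ⟨m, rfl⟩ := Subgroup.mem_zpowers_iff.mp hp
      obtain ⟨n, rfl⟩ := Subgroup.mem_zpowers_iff.mp hq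
      rw [← zpow_add, ← zpow_add, add_comm]
  have hRcyc : IsCyclic (Subgroup.zpowers a ⊔ Subgroup.zpowers t : Subgroup G) :=
    hF.cyclic_of_comm _ hRcomm
  obtain ⟨r₀, hr₀⟩ := hRcyc.exists_generator
  obtain ⟨n, -, hn⟩ := sylow_conj_into ⊤ S le_top _ le_top hR2
  have h4 : (r₀ : G) ^ 4 = 1 := by
    have := c.pow_four (hn r₀ r₀.2)
    rw [conj_pow] at this
    calc (r₀ : G) ^ 4 = n⁻¹ * (n * (r₀ : G) ^ 4 * n⁻¹) * n := by group
      _ = 1 := by rw [this]; group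
  have hcard : Nat.card (Subgroup.zpowers a ⊔ Subgroup.zpowers t : Subgroup G) ≤ 4 := by
    have h1 : Nat.card (Subgroup.zpowers a ⊔ Subgroup.zpowers t : Subgroup G) = orderOf r₀ := by
      rw [← Nat.card_zpowers]
      have : Subgroup.zpowers r₀ = ⊤ := by
        rw [eq_top_iff]; intro y _; exact hr₀ y
      rw [this, Subgroup.card_top]
    rw [h1, ← Subgroup.orderOf_coe]
    exact Nat.le_of_dvd (by norm_num) (orderOf_dvd_of_pow_eq_one h4)
  have heq : Subgroup.zpowers t = Subgroup.zpowers a ⊔ Subgroup.zpowers t := by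
    apply Subgroup.eq_of_le_of_card_ge le_sup_right
    rw [Nat.card_zpowers, ht]; exact hcard
  rw [heq]
  exact (le_sup_left : Subgroup.zpowers a ≤ _) (Subgroup.mem_zpowers a)

variable {r : ℕ} [Fact r.Prime] {K : Type*} [Field K] [Fintype K] [CharP K r]
  {V : Type*} [AddCommGroup V] [Module K V] {ρ : G →* Module.End K V}

omit c in
/-- the odd part of the centralizer of `i` -/
theorem exists_M (hF : IsFpf.{u, v} G) {i g : G} (d : Data i g) :
    ∃ M : Subgroup G, Odd (Nat.card M) ∧ (∀ b ∈ M, b * i = i * b) ∧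
      (∀ b : G, b * i = i * b → Odd (orderOf b) → b ∈ M) := by
  have hcyc : ∀ P : Sylow 2 (Subgroup.centralizer ({i} : Set G)), IsCyclic P :=
    sylow_centralizer_cyclic hF (data_hz1 d) ⟨2, by simpa using d.hi4⟩
  obtain ⟨M, -, hModd, hMall⟩ := exists_odd_part hcyc
  refine ⟨M.map (Subgroup.subtype _), ?_, ?_, ?_⟩
  · rw [Nat.card_congr (Subgroup.equivMapOfInjective M _ (Subgroup.subtype_injective _)).symm.toEquiv]
    exact hModd
  · rintro _ ⟨b, -, rfl⟩
    exact Subgroup.mem_centralizer_singleton_iff.mp b.2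
  · intro b hbi hodd
    have hbX : b ∈ Subgroup.centralizer ({i} : Set G) :=
      Subgroup.mem_centralizer_singleton_iff.mpr hbi
    refine ⟨⟨b, hbX⟩, hMall _ ?_, rfl⟩
    rw [Subgroup.orderOf_mk]; exact hodd

theorem M_odd {M : Subgroup G} (hMo : Odd (Nat.card M)) {b : G} (hb : b ∈ M) :
    Odd (orderOf b) := by
  have h1 : orderOf (⟨b, hb⟩ : M) ∣ Nat.card M := orderOf_dvd_natCard _
  rw [Subgroup.orderOf_mk] at h1
  exact hMo.of_dvd_nat h1

/-- elements of `M` commute with the group generated by `i` and `g` -/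
theorem M_comm (hF : IsFpf.{u, v} G) (h : IsZRep ρ) (hr : ¬ r ∣ Nat.card G) {M : Subgroup G}
    (hMo : Odd (Nat.card M)) (hMi : ∀ b ∈ M, b * i = i * b) {b : G} (hb : b ∈ M) :
    b * (g * i * g⁻¹) = (g * i * g⁻¹) * b ∧ b * g = g * b := by
  have h1 := odd_cent hF h hr c.d (hMi b hb) (c.M_odd hMo hb)
  exact ⟨h1, commute_g h c.d (hMi b hb) h1⟩

theorem M_comm_fn (hF : IsFpf.{u, v} G) (h : IsZRep ρ) (hr : ¬ r ∣ Nat.card G) {M : Subgroup G}
    (hMo : Odd (Nat.card M)) (hMi : ∀ b ∈ M, b * i = i * b) {b : G} (hb : b ∈ M)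
    (q : QuaternionGroup 2) : c.d.fn q * b = b * c.d.fn q := by
  have hcen : c.d.fn q ∈ Subgroup.centralizer ({b} : Set G) := by
    apply fn_mem_of c.d
    · exact Subgroup.mem_centralizer_singleton_iff.mpr (hMi b hb).symm
    · exact Subgroup.mem_centralizer_singleton_iff.mpr (c.M_comm hF h hr hMo hMi hb).1.symm
  exact Subgroup.mem_centralizer_singleton_iff.mp hcen

/-- the decomposition of the normalizer of the Sylow subgroup -/
theorem decomp (hF : IsFpf.{u, v} G) (h : IsZRep ρ) (hr : ¬ r ∣ Nat.card G) {M : Subgroup G}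
    (hMo : Odd (Nat.card M)) (hMi : ∀ b ∈ M, b * i = i * b)
    (hMall : ∀ b : G, b * i = i * b → Odd (orderOf b) → b ∈ M) {n : G}
    (hn : n ∈ Subgroup.normalizer ((S : Subgroup G) : Set G)) :
    ∃ l b : G, n = l * b ∧ b ∈ M ∧ (∀ b' ∈ M, l * b' = b' * l) ∧
      l ∈ Subgroup.closure ({i, g} : Set G) := by
  have ht : n * i * n⁻¹ ∈ c.d.fn.range := by
    rw [← c.hS]; exact conj_mem_of_mem_normalizer hn c.iS
  have ht2 : (n * i * n⁻¹) * (n * i * n⁻¹) ≠ 1 := by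
    intro e
    apply data_hz1 c.d
    calc i * i = n⁻¹ * ((n * i * n⁻¹) * (n * i * n⁻¹)) * n := by group
      _ = 1 := by rw [e]; group
  obtain ⟨q', k, hl⟩ := conj_of_order_four c.d ht ht2
  obtain ⟨l₀, hl₀⟩ : ∃ l₀, l₀ = c.d.fn q' * g ^ k := ⟨_, rfl⟩
  rw [← hl₀] at hl
  obtain ⟨c', hc'⟩ : ∃ c', c' = l₀⁻¹ * n := ⟨_, rfl⟩
  have hc'i : c' * i = i * c' := by
    have : c' * i * c'⁻¹ = i := by
      calc c' * i * c'⁻¹ = l₀⁻¹ * (n * i * n⁻¹) * l₀ := by rw [hc']; group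
        _ = i := by rw [hl]; group
    calc c' * i = (c' * i * c'⁻¹) * c' := by group
      _ = i * c' := by rw [this]
  obtain ⟨a, b, haz, hbz, hab, ha2, hbodd⟩ := two_odd_decomp c'
  have hzi : ∀ y ∈ Subgroup.zpowers c', y * i = i * y := by
    intro y hy
    obtain ⟨m, rfl⟩ := Subgroup.mem_zpowers_iff.mp hy
    have : Commute c' i := hc'i
    exact (this.zpow_left m).eq
  have haI : a ∈ Subgroup.zpowers i := by
    apply c.two_elem_mem hF _ ha2 (hzi a haz)
    have := c.d.orderOf_i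
    simpa using this
  have hbM : b ∈ M := hMall b (hzi b hbz) hbodd
  have hiG : i ∈ Subgroup.closure ({i, g} : Set G) := Subgroup.subset_closure (by simp)
  have hgG : g ∈ Subgroup.closure ({i, g} : Set G) := Subgroup.subset_closure (by simp)
  have hjG : g * i * g⁻¹ ∈ Subgroup.closure ({i, g} : Set G) :=
    Subgroup.mul_mem _ (Subgroup.mul_mem _ hgG hiG) (Subgroup.inv_mem _ hgG)
  refine ⟨l₀ * a, b, ?_, hbM, ?_, ?_⟩
  · calc n = l₀ * c' := by rw [hc']; group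
      _ = l₀ * a * b := by rw [hab]; group
  · intro b' hb'
    have h1 : c.d.fn q' * b' = b' * c.d.fn q' := c.M_comm_fn hF h hr hMo hMi hb' q'
    have h2 : Commute g b' := (c.M_comm hF h hr hMo hMi hb').2.symm
    have h3 : g ^ k * b' = b' * g ^ k := (h2.pow_left k).eq
    have h4 : a * b' = b' * a := by
      obtain ⟨m, rfl⟩ := Subgroup.mem_zpowers_iff.mp haI
      have : Commute i b' := (hMi b' hb').symm
      exact (this.zpow_left m).eq
    rw [hl₀]
    calc c.d.fn q' * g ^ k * a * b' = c.d.fn q' * g ^ k * (a * b') := by group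
      _ = c.d.fn q' * g ^ k * (b' * a) := by rw [h4]
      _ = c.d.fn q' * (g ^ k * b') * a := by group
      _ = c.d.fn q' * (b' * g ^ k) * a := by rw [h3]
      _ = (c.d.fn q' * b') * g ^ k * a := by group
      _ = (b' * c.d.fn q') * g ^ k * a := by rw [h1]
      _ = b' * (c.d.fn q' * g ^ k * a) := by group
  · rw [hl₀]
    refine Subgroup.mul_mem _ (Subgroup.mul_mem _ ?_ (Subgroup.pow_mem _ hgG k)) ?_
    · exact fn_mem_of c.d _ hiG hjG q'
    · obtain ⟨m, rfl⟩ := Subgroup.mem_zpowers_iff.mp haI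
      exact Subgroup.zpow_mem _ hiG m

omit c in
theorem not_quat_of_odd {H : Type*} [Group H] [Finite H] (hodd : Odd (Nat.card H)) (n : ℕ) :
    ¬ Nonempty (H ≃* QuaternionGroup (2 ^ n)) := by
  rintro ⟨e⟩
  have h1 : Nat.card H = 4 * 2 ^ n := by
    rw [Nat.card_congr e.toEquiv, Nat.card_eq_fintype_card, QuaternionGroup.card]
  rw [h1] at hodd
  exact (Nat.not_even_iff_odd.mpr hodd) ⟨2 * 2 ^ n, by ring⟩

/-- the odd part of the centralizer of `i` is trivial -/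
theorem M_eq_bot (hF : IsFpf.{u, v} G) (h : IsZRep ρ) (hr : ¬ r ∣ Nat.card G)
    (hperf : commutator G = ⊤) {M : Subgroup G}
    (hMo : Odd (Nat.card M)) (hMi : ∀ b ∈ M, b * i = i * b)
    (hMall : ∀ b : G, b * i = i * b → Odd (orderOf b) → b ∈ M) : M = ⊥ := by
  by_contra hne
  have hnt : Nontrivial M := (Subgroup.nontrivial_iff_ne_bot M).mpr hne
  have hFM : IsFpf.{u, v} M := hF.subgroup M
  have hZ : IsZGroup M := by
    refine ⟨fun p hp P => ?_⟩
    have : Fact p.Prime := ⟨hp⟩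
    rcases hFM.sylow p P with hc | ⟨n, hn⟩
    · exact hc
    · exfalso
      have hPodd : Odd (Nat.card P) := hMo.of_dvd_nat (Subgroup.card_subgroup_dvd_card _)
      exact not_quat_of_odd hPodd n hn
  have hlt := IsZGroup.commutator_lt M
  have hidx : (commutator M).index ≠ 1 := by
    intro e
    exact hlt.ne (Subgroup.index_eq_one.mp e)
  obtain ⟨s, hs, hsd⟩ := Nat.exists_prime_and_dvd hidx
  have : Fact s.Prime := ⟨hs⟩
  have hcop := IsZGroup.coprime_commutator_index M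
  have hs_not : ¬ s ∣ Nat.card (commutator M) := by
    intro hd
    have := Nat.dvd_gcd hd hsd
    rw [hcop] at this
    exact hs.one_lt.ne' (Nat.dvd_one.mp this)
  have hsM : s ∣ Nat.card M := hsd.trans (Subgroup.index_dvd_card _)
  have hsodd : Odd s := hMo.of_dvd_nat hsM
  obtain ⟨m₀', hm₀'⟩ := exists_prime_orderOf_dvd_card' s hsM
  obtain ⟨m₀, hm₀⟩ : ∃ m₀ : G, m₀ = (m₀' : G) := ⟨_, rfl⟩
  have hm₀M : m₀ ∈ M := hm₀ ▸ m₀'.2
  have hom₀ : orderOf m₀ = s := by rw [hm₀, Subgroup.orderOf_coe, hm₀']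
  have hm₀1 : m₀ ≠ 1 := by
    intro e
    rw [e, orderOf_one] at hom₀
    exact hs.one_lt.ne hom₀
  have hZs : IsPGroup s (Subgroup.zpowers m₀) := by
    apply IsPGroup.of_card (n := 1)
    rw [Nat.card_zpowers, hom₀, pow_one]
  obtain ⟨P, hP⟩ := hZs.exists_le_sylow
  have hm₀P : m₀ ∈ (P : Subgroup G) := hP (Subgroup.mem_zpowers m₀)
  have hPcyc : IsCyclic P := by
    rcases hF.sylow s P with hc | ⟨n, hn⟩
    · exact hc
    · exfalso
      obtain ⟨k, hk⟩ := IsPGroup.iff_card.mp P.2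
      have hPodd : Odd (Nat.card P) := by rw [hk]; exact hsodd.pow
      exact not_quat_of_odd hPodd n hn
  obtain ⟨u', hu1, hu2⟩ := focal_move hperf P hPcyc hm₀P hm₀1
  obtain ⟨m₁, hm₁⟩ : ∃ m₁, m₁ = u' * m₀ * u'⁻¹ := ⟨_, rfl⟩
  rw [← hm₁] at hu1 hu2
  have hzM : Subgroup.zpowers m₀ ≤ M := by rw [Subgroup.zpowers_le]; exact hm₀M
  have hm₁M : m₁ ∈ M := hzM hu1
  have hSc : ∀ q ∈ (S : Subgroup G), ∀ b ∈ M, q * b = b * q := by
    intro q hq b hb
    rw [c.hS] at hq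
    obtain ⟨q₀, rfl⟩ := hq
    exact c.M_comm_fn hF h hr hMo hMi hb q₀
  have hSN : (S : Subgroup G) ≤ Subgroup.centralizer ({m₁} : Set G) := by
    intro q hq
    exact Subgroup.mem_centralizer_singleton_iff.mpr (hSc q hq m₁ hm₁M)
  have hRN : (S : Subgroup G).map (MulAut.conj u').toMonoidHom ≤
      Subgroup.centralizer ({m₁} : Set G) := by
    rintro _ ⟨q, hq, rfl⟩
    rw [Subgroup.mem_centralizer_singleton_iff]
    have h1 := hSc q hq m₀ hm₀M
    show u' * q * u'⁻¹ * m₁ = m₁ * (u' * q * u'⁻¹)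
    rw [hm₁]
    calc u' * q * u'⁻¹ * (u' * m₀ * u'⁻¹) = u' * (q * m₀) * u'⁻¹ := by group
      _ = u' * (m₀ * q) * u'⁻¹ := by rw [h1]
      _ = u' * m₀ * u'⁻¹ * (u' * q * u'⁻¹) := by group
  have hR2 : IsPGroup 2 ((S : Subgroup G).map (MulAut.conj u').toMonoidHom) := S.2.map _
  obtain ⟨c₁, hc₁N, hc₁⟩ := sylow_conj_into _ S hSN _ hRN hR2
  have hnN : c₁ * u' ∈ Subgroup.normalizer ((S : Subgroup G) : Set G) := by
    apply mem_normalizer_of_conj_mem
    intro q hq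
    have := hc₁ (u' * q * u'⁻¹) ⟨q, hq, rfl⟩
    have e : c₁ * u' * q * (c₁ * u')⁻¹ = c₁ * (u' * q * u'⁻¹) * c₁⁻¹ := by group
    rw [e]; exact this
  have hnm : (c₁ * u') * m₀ * (c₁ * u')⁻¹ = m₁ := by
    have h1 : c₁ * m₁ = m₁ * c₁ := Subgroup.mem_centralizer_singleton_iff.mp hc₁N
    calc (c₁ * u') * m₀ * (c₁ * u')⁻¹ = c₁ * (u' * m₀ * u'⁻¹) * c₁⁻¹ := by group
      _ = c₁ * m₁ * c₁⁻¹ := by rw [hm₁]
      _ = m₁ := by rw [h1]; group
  obtain ⟨l, b, hnlb, hbM, hlM, -⟩ := c.decomp hF h hr hMo hMi hMall hnN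
  have hbm : b * m₀ * b⁻¹ = m₁ := by
    have h1 : l * m₁ = m₁ * l := hlM m₁ hm₁M
    calc b * m₀ * b⁻¹ = l⁻¹ * ((l * b) * m₀ * (l * b)⁻¹) * l := by group
      _ = l⁻¹ * m₁ * l := by rw [← hnlb, hnm]
      _ = l⁻¹ * (m₁ * l) := by group
      _ = l⁻¹ * (l * m₁) := by rw [h1]
      _ = m₁ := by group
  -- the commutator
  have hcomM : (⟨b, hbM⟩ : M) * ⟨m₀, hm₀M⟩ * (⟨b, hbM⟩ : M)⁻¹ * (⟨m₀, hm₀M⟩ : M)⁻¹ ∈
      commutator M := by
    rw [commutator_def]
    exact Subgroup.commutator_mem_commutator (Subgroup.mem_top _) (Subgroup.mem_top _)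
  obtain ⟨cm, hcm⟩ : ∃ cm : M, cm =
      (⟨b, hbM⟩ : M) * ⟨m₀, hm₀M⟩ * (⟨b, hbM⟩ : M)⁻¹ * (⟨m₀, hm₀M⟩ : M)⁻¹ := ⟨_, rfl⟩
  rw [← hcm] at hcomM
  have hcmval : (cm : G) = m₁ * m₀⁻¹ := by
    rw [hcm, ← hbm]; rfl
  have hcm1 : cm ≠ 1 := by
    intro e
    apply hu2
    have : (cm : G) = 1 := by rw [e]; rfl
    rw [hcmval] at this
    calc m₁ = (m₁ * m₀⁻¹) * m₀ := by group
      _ = m₀ := by rw [this, one_mul]
  have hcms : cm ^ s = 1 := by
    apply Subtype.ext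
    rw [Subgroup.coe_pow, hcmval]
    have hmem : m₁ * m₀⁻¹ ∈ Subgroup.zpowers m₀ :=
      Subgroup.mul_mem _ hu1 (Subgroup.inv_mem _ (Subgroup.mem_zpowers m₀))
    obtain ⟨t, ht⟩ := Subgroup.mem_zpowers_iff.mp hmem
    rw [← ht, ← zpow_natCast, ← zpow_mul, mul_comm, zpow_mul, zpow_natCast, ← hom₀,
      pow_orderOf_eq_one, one_zpow]
    rfl
  have hocm : orderOf cm = s := orderOf_eq_prime hcms hcm1
  apply hs_not
  have h1 : orderOf (⟨cm, hcomM⟩ : commutator M) ∣ Nat.card (commutator M) :=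
    orderOf_dvd_natCard _
  rwa [Subgroup.orderOf_mk, hocm] at h1

end Q8c

end Cfsg.Agent.Lib.Helper12.ZO
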