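import Mathlib
import Cfsg.Agent.Lib.Helper12.ZGen
import Cfsg.Agent.S1241

set_option autoImplicit false

/-!
# The Sylow `2`-subgroup is not of order sixteen
-/

namespace Cfsg.Agent.Lib.Helper12.ZQ

open Cfsg.Agent.Lib.Helper20 Cfsg.Agent.Lib.Helper20.SL23 Cfsg.Agent.Lib.Helper12.ZR
  Cfsg.Agent.Lib.Helper12.ZDt Cfsg.Agent.Lib.Helper12.ZF Cfsg.Agent.Lib.Helper12.ZL
  Cfsg.Agent.Lib.Helper12.ZP Cfsg.Agent.Lib.Helper14.Dk Cfsg.Agent.Lib.Helper12.ZG
  Cfsg.Agent.Lib.Helper12.ZY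

universe u v

variable {G : Type u} [Group G] [Finite G]

/-- the configuration of a generalized quaternion Sylow subgroup of order sixteen -/
structure Q16 (S : Sylow 2 G) (A : Subgroup G) (z x g : G) : Prop where
  gq : QuatSec.GQ (S : Subgroup G) A z
  hxA : x ∈ A
  cardA : Nat.card A = 8
  cardS : Nat.card S = 16
  d : Data (x * x) g
  hyS : g * (x * x) * g⁻¹ ∈ (S : Subgroup G)
  hyA : g * (x * x) * g⁻¹ ∉ A

namespace Q16

variable {S : Sylow 2 G} {A : Subgroup G} {z x g : G} (c : Q16 S A z x g)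
include c

theorem x8 : x ^ 8 = 1 := by
  have := pow_card_eq_one' (G := A) (x := ⟨x, c.hxA⟩)
  rw [c.cardA] at this
  have := congrArg Subtype.val this
  simpa using this

theorem x4 : x ^ 4 ≠ 1 := by
  intro e
  apply data_hz1 c.d
  have h2 := c.d.hi2
  exfalso
  apply h2
  rw [← e]; simp only [pow_succ, pow_zero, one_mul, mul_assoc]

theorem orderOf_x : orderOf x = 8 := by
  have : Fact (Nat.Prime 2) := ⟨Nat.prime_two⟩
  have := orderOf_eq_prime_pow (x := x) (p := 2) (n := 2) (by simpa using c.x4)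
    (by simpa using c.x8)
  simpa using this

theorem A_eq : A = Subgroup.zpowers x := by
  symm
  apply Subgroup.eq_of_le_of_card_ge
  · rw [Subgroup.zpowers_le]; exact c.hxA
  · rw [Nat.card_zpowers, c.orderOf_x, c.cardA]

theorem uS : x * x ∈ (S : Subgroup G) := c.gq.le (A.mul_mem c.hxA c.hxA)

theorem uA : x * x ∈ A := A.mul_mem c.hxA c.hxA

theorem z_eq : (x * x) * (x * x) = z := by
  have h1 : (x * x) * (x * x) ∈ (S : Subgroup G) := Subgroup.mul_mem _ c.uS c.uS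
  have h2 : ((x * x) * (x * x)) * ((x * x) * (x * x)) = 1 := by
    have := c.x8
    rw [← this]; simp only [pow_succ, pow_zero, one_mul, mul_assoc]
  rcases c.gq.invol _ h1 h2 with e | e
  · exact absurd e (data_hz1 c.d)
  · exact e

theorem inv_x {t : G} (ht : t ∈ (S : Subgroup G)) (htA : t ∉ A) : t * x * t⁻¹ = x⁻¹ :=
  c.gq.inv t ht htA x c.hxA

theorem inv_u {t : G} (ht : t ∈ (S : Subgroup G)) (htA : t ∉ A) :
    t * (x * x) * t⁻¹ = (x * x)⁻¹ :=
  c.gq.inv t ht htA (x * x) c.uA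

theorem sq {t : G} (ht : t ∈ (S : Subgroup G)) (htA : t ∉ A) : t * t = (x * x) * (x * x) := by
  rw [c.z_eq]; exact c.gq.sq t ht htA

theorem conj_x {t : G} (ht : t ∈ (S : Subgroup G)) (htA : t ∉ A) :
    x * t * x⁻¹ = (x * x) * t := by
  have h1 := c.inv_x ht htA
  have h2 : t * x⁻¹ * t⁻¹ = x := by
    calc t * x⁻¹ * t⁻¹ = (t * x * t⁻¹)⁻¹ := by group
      _ = x := by rw [h1, inv_inv]
  calc x * t * x⁻¹ = x * (t * x⁻¹ * t⁻¹) * t := by group
    _ = x * x * t := by rw [h2]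

theorem wS : x * (g * (x * x) * g⁻¹) ∈ (S : Subgroup G) :=
  Subgroup.mul_mem _ (c.gq.le c.hxA) c.hyS

theorem wA : x * (g * (x * x) * g⁻¹) ∉ A := by
  intro h
  apply c.hyA
  have : g * (x * x) * g⁻¹ = x⁻¹ * (x * (g * (x * x) * g⁻¹)) := by group
  rw [this]
  exact A.mul_mem (A.inv_mem c.hxA) h

theorem S_le : (S : Subgroup G) ≤ Subgroup.closure ({x, g * (x * x) * g⁻¹} : Set G) := by
  intro s hs
  have hx : x ∈ Subgroup.closure ({x, g * (x * x) * g⁻¹} : Set G) :=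
    Subgroup.subset_closure (by simp)
  have hy : g * (x * x) * g⁻¹ ∈ Subgroup.closure ({x, g * (x * x) * g⁻¹} : Set G) :=
    Subgroup.subset_closure (by simp)
  have hA : ∀ a ∈ A, a ∈ Subgroup.closure ({x, g * (x * x) * g⁻¹} : Set G) := by
    intro a ha
    rw [c.A_eq] at ha
    obtain ⟨k, rfl⟩ := Subgroup.mem_zpowers_iff.mp ha
    exact Subgroup.zpow_mem _ hx k
  by_cases hsA : s ∈ A
  · exact hA s hsA
  · have h1 : (g * (x * x) * g⁻¹) * s ∈ A := c.gq.idx s hs _ c.hyS hsA c.hyA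
    have : s = (g * (x * x) * g⁻¹)⁻¹ * ((g * (x * x) * g⁻¹) * s) := by group
    rw [this]
    exact Subgroup.mul_mem _ (Subgroup.inv_mem _ hy) (hA _ h1)

/-- the quaternion subgroup of index two -/
theorem K_le : c.d.fn.range ≤ (S : Subgroup G) := by
  rintro _ ⟨q, rfl⟩
  exact fn_mem_of c.d _ c.uS c.hyS q

theorem w_not_K : x * (g * (x * x) * g⁻¹) ∉ c.d.fn.range := by
  intro h
  have hy : g * (x * x) * g⁻¹ ∈ c.d.fn.range := j_mem_range c.d
  have hx : x ∈ c.d.fn.range := by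
    have e : (x * (g * (x * x) * g⁻¹)) * (g * (x * x) * g⁻¹)⁻¹ = x := by group
    have := Subgroup.mul_mem _ h (Subgroup.inv_mem _ hy)
    rwa [e] at this
  have hle : (S : Subgroup G) ≤ c.d.fn.range := by
    refine c.S_le.trans ?_
    rw [Subgroup.closure_le]
    intro t ht
    rcases ht with rfl | rfl
    · exact hx
    · exact hy
  have := Subgroup.card_le_of_le hle
  rw [c.cardS, card_range_fn] at this
  omega

theorem K_index : (c.d.fn.range.subgroupOf (S : Subgroup G)).index = 2 := by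
  have h1 := (c.d.fn.range.subgroupOf (S : Subgroup G)).card_mul_index
  have e : Nat.card (c.d.fn.range.subgroupOf (S : Subgroup G)) = 8 := by
    rw [Nat.card_congr (Subgroup.subgroupOfEquivOfLe c.K_le).toEquiv, card_range_fn]
  rw [e, c.cardS] at h1
  omega

/-- by transfer, `w = x y` is conjugate to `u = x²` -/
theorem exists_conj (hF : IsFpf.{u, v} G) (hperf : commutator G = ⊤) :
    ∃ b : G, b * (x * (g * (x * x) * g⁻¹)) * b⁻¹ = x * x := by
  have : Fact (Nat.Prime 2) := ⟨Nat.prime_two⟩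
  obtain ⟨y, hy⟩ : ∃ y, y = g * (x * x) * g⁻¹ := ⟨_, rfl⟩
  obtain ⟨w, hw⟩ : ∃ w, w = x * (g * (x * x) * g⁻¹) := ⟨_, rfl⟩
  obtain ⟨Kq, hKq⟩ : ∃ Kq, Kq = c.d.fn.range := ⟨_, rfl⟩
  have hwS : w ∈ (S : Subgroup G) := hw ▸ c.wS
  have hwA : w ∉ A := hw ▸ c.wA
  have hwK : w ∉ Kq := by rw [hKq, hw]; exact c.w_not_K
  have hyS : y ∈ (S : Subgroup G) := hy ▸ c.hyS
  have hyA : y ∉ A := hy ▸ c.hyA
  have hKle : Kq ≤ (S : Subgroup G) := hKq ▸ c.K_le
  have hidx : (Kq.subgroupOf (S : Subgroup G)).index = 2 := by rw [hKq]; exact c.K_index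
  have huK : x * x ∈ Kq := by rw [hKq]; exact i_mem_range c.d
  rw [← hw]
  have hKn : (Kq.subgroupOf (S : Subgroup G)).Normal := Subgroup.normal_of_index_eq_two hidx
  have hmem : ∀ {s t : G} (_ : s ∈ (S : Subgroup G)) (_ : t ∈ (S : Subgroup G)),
      (s * t ∈ Kq ↔ (s ∈ Kq ↔ t ∈ Kq)) := by
    intro s t hs ht
    have := Subgroup.mul_mem_iff_of_index_two hidx (a := ⟨s, hs⟩) (b := ⟨t, ht⟩)
    simpa [Subgroup.mem_subgroupOf] using this
  have hab : ∀ a ∈ (S : Subgroup G), ∀ b ∈ (S : Subgroup G), a * b * a⁻¹ * b⁻¹ ∈ Kq := by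
    intro a ha b hb
    have hS := (S : Subgroup G)
    rw [hmem (Subgroup.mul_mem _ (Subgroup.mul_mem _ ha hb) (Subgroup.inv_mem _ ha))
      (Subgroup.inv_mem _ hb), hmem (Subgroup.mul_mem _ ha hb) (Subgroup.inv_mem _ ha),
      hmem ha hb, inv_mem_iff, inv_mem_iff]
    tauto
  have hcop : Nat.Coprime 2 (S : Subgroup G).index :=
    (Nat.Prime.coprime_iff_not_dvd Nat.prime_two).mpr S.not_dvd_index
  have hww : w * w = (x * x) * (x * x) := c.sq hwS hwA
  have hww1 : w * w ≠ 1 := by rw [hww]; exact data_hz1 c.d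
  have hw4' : w ^ 4 = 1 := by
    have : w ^ 4 = (w * w) * (w * w) := by simp only [pow_succ, pow_zero, one_mul, mul_assoc]
    rw [this, hww]; exact data_hz2 c.d
  have hw4 : orderOf w = 2 ^ 2 := by
    apply orderOf_eq_prime_pow (p := 2) (n := 1)
    · rw [pow_one, pow_two]; exact hww1
    · simpa using hw4'
  have hyu : y * (x * x) * y⁻¹ = (x * x)⁻¹ := c.inv_u hyS hyA
  -- the two fusion patterns
  have hα : ∀ t' ∈ Kq, t' * t' ≠ 1 → ∀ a : G, a * w * a⁻¹ = t' →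
      ∃ b : G, b * w * b⁻¹ = x * x := by
    intro t' ht' ht2 a hat
    rw [hKq] at ht'
    obtain ⟨q', n, hl⟩ := conj_of_order_four c.d ht' ht2
    refine ⟨(c.d.fn q' * g ^ n)⁻¹ * a, ?_⟩
    calc (c.d.fn q' * g ^ n)⁻¹ * a * w * ((c.d.fn q' * g ^ n)⁻¹ * a)⁻¹
        = (c.d.fn q' * g ^ n)⁻¹ * (a * w * a⁻¹) * (c.d.fn q' * g ^ n) := by group
      _ = x * x := by rw [hat, hl]; group
  have hβ : ∀ t' ∈ Kq, t' * t' ≠ 1 → ∀ a : G, a * w⁻¹ * a⁻¹ = t' →
      ∃ b : G, b * w * b⁻¹ = x * x := by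
    intro t' ht' ht2 a hat
    rw [hKq] at ht'
    obtain ⟨q', n, hl⟩ := conj_of_order_four c.d ht' ht2
    refine ⟨(c.d.fn q' * g ^ n * y)⁻¹ * a, ?_⟩
    have h1 : a * w * a⁻¹ = t'⁻¹ := by
      rw [← hat]; group
    calc (c.d.fn q' * g ^ n * y)⁻¹ * a * w * ((c.d.fn q' * g ^ n * y)⁻¹ * a)⁻¹
        = y⁻¹ * ((c.d.fn q' * g ^ n)⁻¹ * (a * w * a⁻¹) * (c.d.fn q' * g ^ n)) * y := by group
      _ = y⁻¹ * (x * x)⁻¹ * y := by rw [h1, hl]; group
      _ = y⁻¹ * (y * (x * x) * y⁻¹) * y := by rw [hyu]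
      _ = x * x := by group
  by_contra hcon
  have hctrl : ∀ (m : ℤ) (a : G), a * w ^ m * a⁻¹ ∈ (S : Subgroup G) →
      (a * w ^ m * a⁻¹) * (w ^ m)⁻¹ ∈ Kq := by
    intro m a haS
    by_contra hnot
    apply hcon
    have hm : w ^ m = w ^ (m % 4) := by
      have := zpow_mod_orderOf w m
      rw [hw4] at this
      rw [← this]; norm_num
    have hr1 : 0 ≤ m % 4 := Int.emod_nonneg _ (by norm_num)
    have hr2 : m % 4 < 4 := Int.emod_lt_of_pos _ (by norm_num)
    have hcentral : ∀ b : G, b * (w * w) * b⁻¹ = w * w := by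
      intro b
      exact central_invol hF hww1 (by rw [hww]; exact data_hz2 c.d) b
    have hwmS : w ^ m ∈ (S : Subgroup G) := Subgroup.zpow_mem _ hwS m
    have hkey := (hmem haS (Subgroup.inv_mem _ hwmS)).not.mp hnot
    rw [inv_mem_iff] at hkey
    rw [hm] at haS hkey
    have hcases : m % 4 = 0 ∨ m % 4 = 1 ∨ m % 4 = 2 ∨ m % 4 = 3 := by omega
    rcases hcases with e | e | e | e
    · exfalso
      rw [e, zpow_zero] at hkey
      apply hkey
      rw [mul_one, mul_inv_cancel]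
    · rw [e, zpow_one] at hkey haS
      have ht' : a * w * a⁻¹ ∈ Kq := by
        by_contra hn
        exact hkey (iff_of_false hn hwK)
      have ht2 : (a * w * a⁻¹) * (a * w * a⁻¹) ≠ 1 := by
        have : (a * w * a⁻¹) * (a * w * a⁻¹) = a * (w * w) * a⁻¹ := by group
        rw [this, hcentral]; exact hww1
      exact hα _ ht' ht2 a rfl
    · exfalso
      have e2 : w ^ (2 : ℤ) = w * w := by
        rw [zpow_ofNat, pow_two]
      rw [e, e2, hcentral] at hkey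
      apply hkey
      have : w * w ∈ Kq := by rw [hww]; exact Subgroup.mul_mem _ huK huK
      exact iff_of_true this this
    · have e3 : w ^ (3 : ℤ) = w⁻¹ := by
        rw [zpow_ofNat]
        apply eq_inv_of_mul_eq_one_left
        rw [← pow_succ]; exact hw4'
      rw [e, e3] at hkey haS
      have hwinvK : w⁻¹ ∉ Kq := by rw [inv_mem_iff]; exact hwK
      have ht' : a * w⁻¹ * a⁻¹ ∈ Kq := by
        by_contra hn
        exact hkey (iff_of_false hn hwinvK)
      have ht2 : (a * w⁻¹ * a⁻¹) * (a * w⁻¹ * a⁻¹) ≠ 1 := by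
        have : (a * w⁻¹ * a⁻¹) * (a * w⁻¹ * a⁻¹) = (a * (w * w) * a⁻¹)⁻¹ := by group
        rw [this, hcentral]
        intro e'
        exact hww1 (inv_eq_one.mp e')
      exact hβ _ ht' ht2 a rfl
  have hfin := Cfsg.Agent.S1241.result (S : Subgroup G) Kq hKle hKn hab hcop w hwS hwK ⟨2, hw4⟩
    hctrl
  rw [hperf] at hfin
  exact hfin (Subgroup.mem_top _)

theorem orderOf_u : orderOf (x * x) = 4 := by
  have := c.d.orderOf_i
  simpa using this

/-- an element normalizing `⟨u⟩` maps `u` to `u` or `u⁻¹` -/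
theorem conj_u_cases {n : G} (hn : n * (x * x) * n⁻¹ ∈ Subgroup.zpowers (x * x)) :
    n * (x * x) * n⁻¹ = x * x ∨ n * (x * x) * n⁻¹ = (x * x)⁻¹ := by
  obtain ⟨k, hk⟩ := Subgroup.mem_zpowers_iff.mp hn
  have hm : (x * x) ^ k = (x * x) ^ (k % 4) := by
    have := zpow_mod_orderOf (x * x) k
    rw [c.orderOf_u] at this
    rw [← this]; norm_num
  have hr1 : 0 ≤ k % 4 := Int.emod_nonneg _ (by norm_num)
  have hr2 : k % 4 < 4 := Int.emod_lt_of_pos _ (by norm_num)
  have hu1 : x * x ≠ 1 := by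
    intro e
    apply data_hz1 c.d
    rw [e, one_mul]
  have hcases : k % 4 = 0 ∨ k % 4 = 1 ∨ k % 4 = 2 ∨ k % 4 = 3 := by omega
  rw [hm] at hk
  rcases hcases with e | e | e | e
  · exfalso
    rw [e, zpow_zero] at hk
    apply hu1
    calc x * x = n⁻¹ * (n * (x * x) * n⁻¹) * n := by group
      _ = 1 := by rw [← hk]; group
  · left; rw [← hk, e, zpow_one]
  · exfalso
    rw [e, zpow_ofNat, pow_two] at hk
    apply data_hz1 c.d
    have h1 : (n * (x * x) * n⁻¹) * (n * (x * x) * n⁻¹) = n * ((x * x) * (x * x)) * n⁻¹ := by group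
    have h2 : ((x * x) * (x * x)) * ((x * x) * (x * x)) = 1 := data_hz2 c.d
    rw [← hk] at h1
    rw [h2] at h1
    have : n * ((x * x) * (x * x)) * n⁻¹ = 1 := h1.symm
    calc x * x * (x * x) = n⁻¹ * (n * ((x * x) * (x * x)) * n⁻¹) * n := by group
      _ = 1 := by rw [this]; group
  · right
    rw [← hk, e, zpow_ofNat]
    apply eq_inv_of_mul_eq_one_left
    rw [← pow_succ]; exact c.d.hi4

/-- a second element acting on the other quaternion subgroup -/
theorem exists_rel (hF : IsFpf.{u, v} G) (hperf : commutator G = ⊤) :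
    ∃ e v : G, v ∈ (S : Subgroup G) ∧ v ∉ A ∧
      (v = x * (g * (x * x) * g⁻¹) ∨ v = (x * (g * (x * x) * g⁻¹))⁻¹) ∧
      e * (x * x) * e⁻¹ = v ∧ QuatSec.Rel (x * x) e := by
  obtain ⟨b₀, hb₀⟩ := c.exists_conj hF hperf
  obtain ⟨w, hw⟩ : ∃ w, w = x * (g * (x * x) * g⁻¹) := ⟨_, rfl⟩
  rw [← hw] at hb₀ ⊢
  have hwS : w ∈ (S : Subgroup G) := hw ▸ c.wS
  have hwA : w ∉ A := hw ▸ c.wA
  obtain ⟨uu, huu⟩ : ∃ uu, uu = x * x := ⟨_, rfl⟩
  have hu4 : uu ^ 4 = 1 := huu ▸ c.d.hi4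
  have huA : uu ∈ A := huu ▸ c.uA
  have huS : uu ∈ (S : Subgroup G) := huu ▸ c.uS
  have hz1 : uu * uu ≠ 1 := huu ▸ data_hz1 c.d
  have hxu : x * uu = uu * x := by rw [huu]; group
  have hinvu : ∀ t ∈ (S : Subgroup G), t ∉ A → t * uu * t⁻¹ = uu⁻¹ := by
    intro t ht htA; rw [huu]; exact c.inv_u ht htA
  have hsq : ∀ t ∈ (S : Subgroup G), t ∉ A → t * t = uu * uu := by
    intro t ht htA; rw [huu]; exact c.sq ht htA
  have hconjx : ∀ t ∈ (S : Subgroup G), t ∉ A → x * t * x⁻¹ = uu * t := by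
    intro t ht htA; rw [huu]; exact c.conj_x ht htA
  have hcases : ∀ n : G, n * uu * n⁻¹ ∈ Subgroup.zpowers uu →
      n * uu * n⁻¹ = uu ∨ n * uu * n⁻¹ = uu⁻¹ := by
    intro n hn; rw [huu] at hn ⊢; exact c.conj_u_cases hn
  rw [← huu] at hb₀ ⊢
  -- the normalizer of `⟨u⟩`
  have hnorm : ∀ n : G, n * uu * n⁻¹ ∈ Subgroup.zpowers uu →
      n ∈ Subgroup.normalizer (Subgroup.zpowers uu : Set G) := by
    intro n hn
    apply mem_normalizer_of_conj_mem
    intro q hq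
    obtain ⟨k, rfl⟩ := Subgroup.mem_zpowers_iff.mp hq
    rw [← conj_zpow]
    exact Subgroup.zpow_mem _ hn k
  have hSN : (S : Subgroup G) ≤ Subgroup.normalizer (Subgroup.zpowers uu : Set G) := by
    intro s hs
    apply hnorm
    by_cases hsA : s ∈ A
    · have := comm_of_cyclic c.gq.cyc hsA huA
      have e : s * uu * s⁻¹ = uu := by rw [this]; group
      rw [e]; exact Subgroup.mem_zpowers uu
    · rw [hinvu s hs hsA]; exact Subgroup.inv_mem _ (Subgroup.mem_zpowers uu)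
  have hwu : w * uu * w⁻¹ = uu⁻¹ := hinvu w hwS hwA
  have hww : w * w = uu * uu := hsq w hwS hwA
  have huw : uu * w * uu⁻¹ = w⁻¹ := by
    have h1 : w * uu⁻¹ * w⁻¹ = uu := by
      calc w * uu⁻¹ * w⁻¹ = (w * uu * w⁻¹)⁻¹ := by group
        _ = uu := by rw [hwu, inv_inv]
    have h2 : uu * w * uu⁻¹ = (uu * uu) * w := by
      calc uu * w * uu⁻¹ = uu * (w * uu⁻¹ * w⁻¹) * w := by group
        _ = uu * uu * w := by rw [h1]
    rw [h2, ← hww]
    apply eq_inv_of_mul_eq_one_left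
    have : w * w * w * w = (w * w) * (w * w) := by group
    rw [this, hww]
    have := hu4
    rw [← this]; simp only [pow_succ, pow_zero, one_mul, mul_assoc]
  have hu₁N : b₀ * uu * b₀⁻¹ ∈ Subgroup.normalizer (Subgroup.zpowers uu : Set G) := by
    apply hnorm
    have : (b₀ * uu * b₀⁻¹) * uu * (b₀ * uu * b₀⁻¹)⁻¹ = uu⁻¹ := by
      calc (b₀ * uu * b₀⁻¹) * uu * (b₀ * uu * b₀⁻¹)⁻¹
          = (b₀ * uu * b₀⁻¹) * (b₀ * w * b₀⁻¹) * (b₀ * uu * b₀⁻¹)⁻¹ := by rw [hb₀]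
        _ = b₀ * (uu * w * uu⁻¹) * b₀⁻¹ := by group
        _ = (b₀ * w * b₀⁻¹)⁻¹ := by rw [huw]; group
        _ = uu⁻¹ := by rw [hb₀]
    rw [this]; exact Subgroup.inv_mem _ (Subgroup.mem_zpowers uu)
  have hu₁2 : ∃ k : ℕ, (b₀ * uu * b₀⁻¹) ^ 2 ^ k = 1 := by
    refine ⟨2, ?_⟩
    rw [conj_pow]
    have : uu ^ 2 ^ 2 = 1 := by simpa using hu4
    rw [this]; group
  obtain ⟨n, hnN, hnS⟩ := sylow_conj_elem _ S hSN hu₁N hu₁2
  have hnu := hcases n (conj_mem_of_mem_normalizer hnN (Subgroup.mem_zpowers uu))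
  -- the element `b`
  obtain ⟨b, hb⟩ : ∃ b, b = n * b₀ := ⟨_, rfl⟩
  have hbu : b * uu * b⁻¹ ∈ (S : Subgroup G) := by
    have : b * uu * b⁻¹ = n * (b₀ * uu * b₀⁻¹) * n⁻¹ := by rw [hb]; group
    rw [this]; exact hnS
  have hbw : b * w * b⁻¹ = n * uu * n⁻¹ := by
    rw [hb, ← hb₀]; group
  obtain ⟨x', hx'⟩ : ∃ x', x' = b⁻¹ * x * b := ⟨_, rfl⟩
  obtain ⟨v, hv⟩ : ∃ v, v = x' * x' := ⟨_, rfl⟩
  have hvb : v = b⁻¹ * uu * b := by rw [hv, hx', huu]; group
  have hvw : v = w ∨ v = w⁻¹ := by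
    rcases hnu with e | e
    · left
      rw [hvb, ← e, ← hbw]; group
    · right
      have : uu = (n * uu * n⁻¹)⁻¹ := by rw [e, inv_inv]
      rw [hvb, this, ← hbw]; group
  have hvS : v ∈ (S : Subgroup G) := by
    rcases hvw with e | e
    · rw [e]; exact hwS
    · rw [e]; exact Subgroup.inv_mem _ hwS
  have hvA : v ∉ A := by
    rcases hvw with e | e
    · rw [e]; exact hwA
    · rw [e, inv_mem_iff]; exact hwA
  have hvu : v * uu * v⁻¹ = uu⁻¹ := hinvu v hvS hvA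
  have hvv : v * v = uu * uu := hsq v hvS hvA
  have hxv : x * v * x⁻¹ = uu * v := hconjx v hvS hvA
  have hx'v : x' * v * x'⁻¹ = v := by rw [hv]; group
  -- `b u b⁻¹` is not in `A`
  have hbuA : b * uu * b⁻¹ ∉ A := by
    intro hmem
    have h1 := comm_of_cyclic c.gq.cyc hmem c.hxA
    have h2 : uu * x' = x' * uu := by
      calc uu * x' = b⁻¹ * ((b * uu * b⁻¹) * x) * b := by rw [hx']; group
        _ = b⁻¹ * (x * (b * uu * b⁻¹)) * b := by rw [h1]
        _ = x' * uu := by rw [hx']; group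
    have h3 : uu * v = v * uu := by
      rw [hv]
      calc uu * (x' * x') = (uu * x') * x' := by group
        _ = (x' * uu) * x' := by rw [h2]
        _ = x' * (uu * x') := by group
        _ = x' * (x' * uu) := by rw [h2]
        _ = x' * x' * uu := by group
    apply hz1
    have h4 : v * uu * v⁻¹ = uu := by rw [← h3]; group
    rw [h4] at hvu
    calc uu * uu = uu * uu⁻¹ := by rw [← hvu]
      _ = 1 := mul_inv_cancel uu
  have hux' : uu * x' * uu⁻¹ = x'⁻¹ := by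
    have h1 := c.inv_x hbu hbuA
    calc uu * x' * uu⁻¹ = b⁻¹ * ((b * uu * b⁻¹) * x * (b * uu * b⁻¹)⁻¹) * b := by rw [hx']; group
      _ = b⁻¹ * x⁻¹ * b := by rw [h1]
      _ = x'⁻¹ := by rw [hx']; group
  have hx'u : x' * uu * x'⁻¹ = v * uu := by
    have h1 : uu * x'⁻¹ * uu⁻¹ = x' := by
      calc uu * x'⁻¹ * uu⁻¹ = (uu * x' * uu⁻¹)⁻¹ := by group
        _ = x' := by rw [hux', inv_inv]
    calc x' * uu * x'⁻¹ = x' * (uu * x'⁻¹ * uu⁻¹) * uu := by group
      _ = x' * x' * uu := by rw [h1]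
      _ = v * uu := by rw [hv]
  have hvu' : v * uu = uu⁻¹ * v := by
    calc v * uu = (v * uu * v⁻¹) * v := by group
      _ = uu⁻¹ * v := by rw [hvu]
  have hxux : x * uu * x⁻¹ = uu := by rw [hxu]; group
  have hev : (x * x') * uu * (x * x')⁻¹ = v := by
    calc (x * x') * uu * (x * x')⁻¹ = x * (x' * uu * x'⁻¹) * x⁻¹ := by group
      _ = x * (v * uu) * x⁻¹ := by rw [hx'u]
      _ = (x * v * x⁻¹) * (x * uu * x⁻¹) := by group
      _ = (uu * v) * uu := by rw [hxv, hxux]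
      _ = uu * (v * uu) := by group
      _ = uu * (uu⁻¹ * v) := by rw [hvu']
      _ = v := by group
  refine ⟨x * x', v, hvS, hvA, hvw, hev, ?_⟩
  refine ⟨hu4, ?_, ?_, ?_, ?_⟩
  · rw [pow_two]; exact hz1
  · rw [hev, hvv, pow_two]
  · rw [hev, hvu]
  · rw [hev]
    calc (x * x') * v * (x * x')⁻¹ = x * (x' * v * x'⁻¹) * x⁻¹ := by group
      _ = x * v * x⁻¹ := by rw [hx'v]
      _ = uu * v := hxv

omit [Finite G] c in
theorem conj_g_mem_range {i g : G} (d : Data i g) {q : G} (hq : q ∈ d.fn.range) :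
    g * q * g⁻¹ ∈ d.fn.range := by
  obtain ⟨q₀, rfl⟩ := hq
  have := d.compat_pow 1 q₀
  rw [pow_one, pow_one] at this
  exact ⟨_, this⟩

theorem K_mul_mem_iff {s t : G} (hs : s ∈ (S : Subgroup G)) (ht : t ∈ (S : Subgroup G)) :
    (s * t ∈ c.d.fn.range ↔ (s ∈ c.d.fn.range ↔ t ∈ c.d.fn.range)) := by
  have := Subgroup.mul_mem_iff_of_index_two c.K_index (a := ⟨s, hs⟩) (b := ⟨t, ht⟩)
  simpa [Subgroup.mem_subgroupOf] using this

theorem S_le_normalizer : (S : Subgroup G) ≤ Subgroup.normalizer (c.d.fn.range : Set G) := by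
  intro s hs
  apply mem_normalizer_of_conj_mem
  intro q hq
  have hqS : q ∈ (S : Subgroup G) := c.K_le hq
  rw [c.K_mul_mem_iff (Subgroup.mul_mem _ hs hqS) (Subgroup.inv_mem _ hs),
    c.K_mul_mem_iff hs hqS, inv_mem_iff]
  tauto

variable {r : ℕ} [Fact r.Prime] {K : Type*} [Field K] [Fintype K] [CharP K r]
  {V : Type*} [AddCommGroup V] [Module K V] {ρ : G →* Module.End K V}

/-- the configuration is impossible in a perfect group -/
theorem false_of (hF : IsFpf.{u, v} G) (h : IsZRep ρ) (hr : ¬ r ∣ Nat.card G)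
    (hperf : commutator G = ⊤) : False := by
  obtain ⟨e, v, hvS, hvA, hvw, hev, hrel⟩ := c.exists_rel hF hperf
  obtain ⟨g₂, hg₂e, hrel₂, a, ha, hord⟩ := rel_three_part hrel
  obtain ⟨y, hy⟩ : ∃ y, y = g * (x * x) * g⁻¹ := ⟨_, rfl⟩
  obtain ⟨uu, huu⟩ : ∃ uu, uu = x * x := ⟨_, rfl⟩
  have hyS : y ∈ (S : Subgroup G) := hy ▸ c.hyS
  have hyA : y ∉ A := hy ▸ c.hyA
  have huS : uu ∈ (S : Subgroup G) := huu ▸ c.uS
  have hz1 : uu * uu ≠ 1 := huu ▸ data_hz1 c.d
  have hvu : v * uu * v⁻¹ = uu⁻¹ := by rw [huu]; exact c.inv_u hvS hvA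
  have hvv : v * v = uu * uu := by rw [huu]; exact c.sq hvS hvA
  have he_u : e * uu * e⁻¹ = v := by rw [huu]; exact hev
  have he_v : e * v * e⁻¹ = uu * v := by
    have := hrel.h3
    rw [hev] at this
    rw [huu]; exact this
  have he_uv : e * (uu * v) * e⁻¹ = uu := by
    have hvu' : v * uu = uu⁻¹ * v := by
      calc v * uu = (v * uu * v⁻¹) * v := by group
        _ = uu⁻¹ * v := by rw [hvu]
    calc e * (uu * v) * e⁻¹ = (e * uu * e⁻¹) * (e * v * e⁻¹) := by group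
      _ = v * (uu * v) := by rw [he_u, he_v]
      _ = (v * uu) * v := by group
      _ = (uu⁻¹ * v) * v := by rw [hvu']
      _ = uu⁻¹ * (v * v) := by group
      _ = uu := by rw [hvv]; group
  have hstab : ∀ k : ℕ, ∀ t : G, (t = uu ∨ t = v ∨ t = uu * v) →
      (e ^ k * t * (e ^ k)⁻¹ = uu ∨ e ^ k * t * (e ^ k)⁻¹ = v ∨
        e ^ k * t * (e ^ k)⁻¹ = uu * v) := by
    intro k
    induction k with
    | zero => intro t ht; simpa using ht
    | succ k ih =>
      intro t ht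
      have e1 : e ^ (k + 1) * t * (e ^ (k + 1))⁻¹ = e * (e ^ k * t * (e ^ k)⁻¹) * e⁻¹ := by
        rw [pow_succ']; group
      rw [e1]
      rcases ih t ht with e2 | e2 | e2
      · rw [e2, he_u]; right; left; rfl
      · rw [e2, he_v]; right; right; rfl
      · rw [e2, he_uv]; left; rfl
  obtain ⟨k, hk⟩ : ∃ k : ℕ, e ^ k = g₂ := by
    have := (mem_powers_iff_mem_zpowers).mpr hg₂e
    exact (Submonoid.mem_powers_iff _ _).mp this
  have hj₂ := hstab k uu (Or.inl rfl)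
  rw [hk] at hj₂
  rw [← huu] at hrel₂
  have hj₂ne : g₂ * uu * g₂⁻¹ ≠ uu := by
    intro e'
    have := hrel₂.h2
    rw [e'] at this
    apply hz1
    have h2 : uu = uu⁻¹ := by
      calc uu = uu * uu * uu⁻¹ := by group
        _ = uu⁻¹ := this
    calc uu * uu = uu * uu⁻¹ := by rw [← h2]
      _ = 1 := mul_inv_cancel uu
  have hj₂' : g₂ * uu * g₂⁻¹ = v ∨ g₂ * uu * g₂⁻¹ = uu * v := by
    rcases hj₂ with e' | e' | e'
    · exact absurd e' hj₂ne
    · exact Or.inl e'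
    · exact Or.inr e'
  have hj₂S : g₂ * uu * g₂⁻¹ ∈ (S : Subgroup G) := by
    rcases hj₂' with e' | e' <;> rw [e']
    · exact hvS
    · exact Subgroup.mul_mem _ huS hvS
  -- the order of `g₂` is three
  have ha1 : a = 1 := by
    by_contra hne
    have ha2 : 2 ≤ a := by omega
    obtain ⟨a₂, ha₂⟩ : ∃ a₂, a₂ = g₂ ^ 3 ^ (a - 1) := ⟨_, rfl⟩
    have h3 : a₂ ^ 3 = 1 := by
      rw [ha₂, ← pow_mul, ← pow_succ, Nat.sub_add_cancel ha, ← hord]
      exact pow_orderOf_eq_one g₂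
    have h1 : a₂ ≠ 1 := by
      intro e'
      rw [ha₂] at e'
      have := orderOf_dvd_of_pow_eq_one e'
      rw [hord] at this
      have := Nat.le_of_dvd (by positivity) this
      have : 3 ^ (a - 1) < 3 ^ a := Nat.pow_lt_pow_right (by norm_num) (by omega)
      omega
    have hc : Commute a₂ uu := by
      have : a₂ = (g₂ ^ 3) ^ 3 ^ (a - 2) := by
        rw [ha₂, ← pow_mul, ← pow_succ']
        congr 2; omega
      rw [this]
      exact hrel₂.commute_cube.pow_left _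
    have hodd : Odd (orderOf a₂) := by
      have := orderOf_dvd_of_pow_eq_one h3
      rcases (Nat.dvd_prime Nat.prime_three).mp this with e' | e' <;> rw [e'] <;> decide
    have d1 := c.d
    rw [← huu] at d1
    have hcy : a₂ * (g * uu * g⁻¹) = (g * uu * g⁻¹) * a₂ := odd_cent hF h hr d1 hc.eq hodd
    exact h1 (no_three h d1 h3 hc.eq hcy)
  rw [ha1, pow_one] at hord
  have d₂ : Data uu g₂ := ZS.data_of_rel hrel₂ hord
  have d₁ : Data uu g := huu ▸ c.d
  -- the embedding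
  have hinvW : ∀ W : Submodule K V, (∀ w ∈ W, ρ x w ∈ W) → (∀ w ∈ W, ρ y w ∈ W) →
      ∀ s ∈ (S : Subgroup G), ∀ w ∈ W, ρ s w ∈ W := by
    intro W hWx hWy s hs
    apply invariant_of_mem_closure W ({x, y} : Set G)
    · intro t ht
      rcases ht with rfl | rfl
      · exact hWx
      · exact hWy
    · rw [hy]; exact c.S_le hs
  have hT : ∀ a ∈ ({g, g₂} : Set G), a ≠ 1 ∧ a ^ 3 = 1 ∧ a * (x * x) ≠ (x * x) * a ∧
      ∀ W : Submodule K V, (∀ w ∈ W, ρ x w ∈ W) → (∀ w ∈ W, ρ y w ∈ W) →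
        ∀ w ∈ W, ρ a w ∈ W := by
    intro a ha
    rcases ha with rfl | rfl
    · refine ⟨d₁.hg1, d₁.hg3, ?_, ?_⟩
      · intro e'
        apply data_j_ne d₁
        rw [huu, e']; group
      · intro W hWx hWy
        apply inv_g h d₁ W
        · exact hinvW W hWx hWy uu huS
        · rw [huu, ← hy]; exact hWy
    · refine ⟨d₂.hg1, d₂.hg3, ?_, ?_⟩
      · intro e'
        apply data_j_ne d₂
        rw [huu, e']; group
      · intro W hWx hWy
        apply inv_g h d₂ W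
        · exact hinvW W hWx hWy uu huS
        · exact hinvW W hWx hWy _ hj₂S
  have hx8 : x ^ 4 * x ^ 4 = 1 := by
    rw [← pow_add]; exact c.x8
  have hyy : y * y = x ^ 4 := by
    rw [hy, c.sq c.hyS c.hyA]; simp only [pow_succ, pow_zero, one_mul, mul_assoc]
  have hyx : y * x * y⁻¹ = x⁻¹ := by rw [hy]; exact c.inv_x c.hyS c.hyA
  have key := emb_q16 h ({g, g₂} : Set G) c.x4 hx8 hyy hyx hT
  obtain ⟨H, hHdef⟩ : ∃ H : Subgroup G, H = Subgroup.closure (({x, y} : Set G) ∪ {g, g₂}) :=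
    ⟨_, rfl⟩
  rw [← hHdef] at key
  obtain ⟨τ, hτ⟩ := key
  have hxH : x ∈ H := by rw [hHdef]; exact Subgroup.subset_closure (by simp)
  have hyH : y ∈ H := by rw [hHdef]; exact Subgroup.subset_closure (by simp)
  have hgH : g ∈ H := by rw [hHdef]; exact Subgroup.subset_closure (by simp)
  have hg₂H : g₂ ∈ H := by rw [hHdef]; exact Subgroup.subset_closure (by simp)
  have huH : uu ∈ H := by rw [huu]; exact H.mul_mem hxH hxH
  have hSH : (S : Subgroup G) ≤ H := by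
    refine c.S_le.trans ?_
    rw [Subgroup.closure_le]
    intro t ht
    rcases ht with rfl | rfl
    · exact hxH
    · rw [← hy]; exact hyH
  have hrH : ¬ r ∣ Nat.card H := fun hd => hr (hd.trans (Subgroup.card_subgroup_dvd_card H))
  rcases ZD.dickson r τ hτ hrH with hA | ⟨hcard, -⟩
  · exact no_abelian_index_two d₁ H huH hgH hA
  · have hzH1 : (⟨uu, huH⟩ : H) * ⟨uu, huH⟩ ≠ 1 := by
      intro e'
      exact hz1 (congrArg Subtype.val e')
    have hzH2 : ((⟨uu, huH⟩ : H) * ⟨uu, huH⟩) * ((⟨uu, huH⟩ : H) * ⟨uu, huH⟩) = 1 :=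
      Subtype.ext (data_hz2 d₁)
    obtain ⟨-, hZ2⟩ := ZD.card_ZZ_eq_two h.two τ hτ hzH1 hzH2
    rw [hZ2] at hcard
    have h16 : 16 ∣ Nat.card H := by
      rw [← c.cardS]; exact Subgroup.card_dvd_of_le hSH
    have h48 : Nat.card H = 48 := by
      rcases hcard with e' | e' | e' <;> rw [e'] at h16 ⊢ <;> omega
    -- the normalizer of the quaternion subgroup
    obtain ⟨N₁, hN₁⟩ : ∃ N₁ : Subgroup G,
        N₁ = Subgroup.normalizer (c.d.fn.range : Set G) ⊓ H := ⟨_, rfl⟩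
    have hSN₁ : (S : Subgroup G) ≤ N₁ := by
      rw [hN₁]; exact le_inf c.S_le_normalizer hSH
    have hgN₁ : g ∈ N₁ := by
      rw [hN₁]
      refine ⟨?_, hgH⟩
      apply mem_normalizer_of_conj_mem
      intro q hq
      exact conj_g_mem_range c.d hq
    have hN₁H : N₁ ≤ H := by rw [hN₁]; exact inf_le_right
    have hd1 : 16 ∣ Nat.card N₁ := by
      rw [← c.cardS]; exact Subgroup.card_dvd_of_le hSN₁
    have hd2 : 3 ∣ Nat.card N₁ := by
      have ho : orderOf g = 3 := orderOf_eq_prime d₁.hg3 d₁.hg1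
      have h1 : orderOf (⟨g, hgN₁⟩ : N₁) ∣ Nat.card N₁ := orderOf_dvd_natCard _
      rwa [Subgroup.orderOf_mk, ho] at h1
    have hd3 : Nat.card N₁ ∣ 48 := by
      rw [← h48]; exact Subgroup.card_dvd_of_le hN₁H
    have hcardN : Nat.card N₁ = 48 := by
      have h48' : 48 ∣ Nat.card N₁ := by
        have : Nat.Coprime 16 3 := by decide
        exact this.mul_dvd_of_dvd_of_dvd hd1 hd2
      exact Nat.dvd_antisymm hd3 h48'
    have hN₁eq : N₁ = H := by
      apply Subgroup.eq_of_le_of_card_ge hN₁H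
      rw [hcardN, h48]
    have hg₂N : g₂ ∈ Subgroup.normalizer (c.d.fn.range : Set G) := by
      have : g₂ ∈ N₁ := hN₁eq ▸ hg₂H
      rw [hN₁] at this
      exact this.1
    have huK : uu ∈ c.d.fn.range := by rw [huu]; exact i_mem_range c.d
    have hj₂K : g₂ * uu * g₂⁻¹ ∈ c.d.fn.range := conj_mem_of_mem_normalizer hg₂N huK
    have hvK : v ∈ c.d.fn.range := by
      rcases hj₂' with e' | e'
      · rw [← e']; exact hj₂K
      · have : v = uu⁻¹ * (g₂ * uu * g₂⁻¹) := by rw [e']; group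
        rw [this]
        exact Subgroup.mul_mem _ (Subgroup.inv_mem _ huK) hj₂K
    apply c.w_not_K
    rcases hvw with e' | e'
    · rw [← e']; exact hvK
    · rw [← inv_mem_iff, ← e']; exact hvK

end Q16

end Cfsg.Agent.Lib.Helper12.ZQ
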