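import Mathlib
import Cfsg.Agent.Lib.Helper12.ZOdd
import Cfsg.Agent.Lib.Helper12.ZQ16
import Cfsg.Agent.S1230
import Cfsg.Agent.S3378
import Cfsg.Agent.S3179

set_option autoImplicit false

/-!
# Recognition of `SL(2,5)`
-/

namespace Cfsg.Agent.Lib.Helper12.ZFin

open Cfsg.Agent.Lib.Helper20 Cfsg.Agent.Lib.Helper20.SL23 Cfsg.Agent.Lib.Helper12.ZR
  Cfsg.Agent.Lib.Helper12.ZDt Cfsg.Agent.Lib.Helper12.ZF Cfsg.Agent.Lib.Helper12.ZL
  Cfsg.Agent.Lib.Helper12.ZP Cfsg.Agent.Lib.Helper14.Dk Cfsg.Agent.Lib.Helper12.ZG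
  Cfsg.Agent.Lib.Helper12.ZY Cfsg.Agent.Lib.Helper12.ZFo Cfsg.Agent.Lib.Helper12.ZO

universe u v

variable {G : Type u} [Group G] [Finite G] {r : ℕ} [Fact r.Prime] {K : Type*} [Field K]
  [Fintype K] [CharP K r] {V : Type*} [AddCommGroup V] [Module K V] {ρ : G →* Module.End K V}
  {S : Sylow 2 G} {i g : G}

/-- the centralizer of `i` is generated by `i` -/
theorem cent_i (hF : IsFpf.{u, v} G) (h : IsZRep ρ) (hr : ¬ r ∣ Nat.card G)
    (hperf : commutator G = ⊤) (c : Q8c S i g) {c' : G} (hc : c' * i = i * c') :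
    c' ∈ Subgroup.zpowers i := by
  obtain ⟨M, hMo, hMi, hMall⟩ := Q8c.exists_M hF c.d
  have hM := c.M_eq_bot hF h hr hperf hMo hMi hMall
  obtain ⟨a, b, haz, hbz, hab, ha2, hbodd⟩ := two_odd_decomp c'
  have hzi : ∀ y ∈ Subgroup.zpowers c', y * i = i * y := by
    intro y hy
    obtain ⟨m, rfl⟩ := Subgroup.mem_zpowers_iff.mp hy
    have : Commute c' i := hc
    exact (this.zpow_left m).eq
  have haI : a ∈ Subgroup.zpowers i := by
    apply c.two_elem_mem hF _ ha2 (hzi a haz)
    have := c.d.orderOf_i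
    simpa using this
  have hbM : b ∈ M := hMall b (hzi b hbz) hbodd
  rw [hM, Subgroup.mem_bot] at hbM
  rw [hab, hbM, mul_one]
  exact haI

/-- the centralizer of an element of order four is generated by it -/
theorem cent_t (hF : IsFpf.{u, v} G) (h : IsZRep ρ) (hr : ¬ r ∣ Nat.card G)
    (hperf : commutator G = ⊤) (c : Q8c S i g) {t : G} (ht : orderOf t = 4) {c' : G}
    (hc : c' * t = t * c') : c' ∈ Subgroup.zpowers t := by
  have ht4 : t ^ 4 = 1 := by rw [← ht]; exact pow_orderOf_eq_one t
  have ht2 : t * t ≠ 1 := by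
    intro e
    have := orderOf_dvd_of_pow_eq_one (show t ^ 2 = 1 by rw [pow_two]; exact e)
    rw [ht] at this
    omega
  obtain ⟨n, -, hn⟩ := sylow_conj_elem ⊤ S le_top (Subgroup.mem_top t) ⟨2, by simpa using ht4⟩
  have hn2 : (n * t * n⁻¹) * (n * t * n⁻¹) ≠ 1 := by
    intro e
    apply ht2
    calc t * t = n⁻¹ * ((n * t * n⁻¹) * (n * t * n⁻¹)) * n := by group
      _ = 1 := by rw [e]; group
  rw [c.hS] at hn
  obtain ⟨q', k, hl⟩ := conj_of_order_four c.d hn hn2
  obtain ⟨p, hp⟩ : ∃ p, p = n⁻¹ * (c.d.fn q' * g ^ k) := ⟨_, rfl⟩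
  have htp : t = p * i * p⁻¹ := by
    calc t = n⁻¹ * (n * t * n⁻¹) * n := by group
      _ = p * i * p⁻¹ := by rw [hl, hp]; group
  have hc'' : (p⁻¹ * c' * p) * i = i * (p⁻¹ * c' * p) := by
    calc (p⁻¹ * c' * p) * i = p⁻¹ * (c' * (p * i * p⁻¹)) * p := by group
      _ = p⁻¹ * ((p * i * p⁻¹) * c') * p := by rw [← htp, hc]
      _ = i * (p⁻¹ * c' * p) := by group
  obtain ⟨m, hm⟩ := Subgroup.mem_zpowers_iff.mp (cent_i hF h hr hperf c hc'')
  have : c' = t ^ m := by
    calc c' = p * (p⁻¹ * c' * p) * p⁻¹ := by group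
      _ = p * i ^ m * p⁻¹ := by rw [hm]
      _ = t ^ m := by rw [htp, conj_zpow]
  rw [this]
  exact Subgroup.zpow_mem _ (Subgroup.mem_zpowers t) m

/-- the normalizer of the Sylow subgroup is generated by `i` and `g` -/
theorem norm_le (hF : IsFpf.{u, v} G) (h : IsZRep ρ) (hr : ¬ r ∣ Nat.card G)
    (hperf : commutator G = ⊤) (c : Q8c S i g) {n : G}
    (hn : n ∈ Subgroup.normalizer ((S : Subgroup G) : Set G)) :
    n ∈ Subgroup.closure ({i, g} : Set G) := by
  obtain ⟨M, hMo, hMi, hMall⟩ := Q8c.exists_M hF c.d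
  have hM := c.M_eq_bot hF h hr hperf hMo hMi hMall
  obtain ⟨l, b, hnlb, hbM, -, hl⟩ := c.decomp hF h hr hMo hMi hMall hn
  rw [hM, Subgroup.mem_bot] at hbM
  rw [hnlb, hbM, mul_one]
  exact hl

/-- the Sylow subgroup is not normal -/
theorem not_normal (hF : IsFpf.{u, v} G) (h : IsZRep ρ) (hr : ¬ r ∣ Nat.card G)
    (hperf : commutator G = ⊤) (c : Q8c S i g) : ¬ (S : Subgroup G).Normal := by
  intro hN
  have htop : Subgroup.normalizer ((S : Subgroup G) : Set G) = ⊤ :=
    Subgroup.normalizer_eq_top_iff.mpr hN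
  have hgen : Subgroup.closure ({i, g} : Set G) = ⊤ := by
    rw [eq_top_iff]
    intro n _
    exact norm_le hF h hr hperf c (htop ▸ Subgroup.mem_top n)
  let e := c.d.equivOfGen hgen
  let f : G →* Multiplicative (ZMod 3) :=
    (SemidirectProduct.rightHom).comp e.symm.toMonoidHom
  have hker := Abelianization.commutator_subset_ker f
  rw [hperf] at hker
  have h1 : f (e (SemidirectProduct.inr (Multiplicative.ofAdd 1))) = 1 :=
    hker (Subgroup.mem_top _)
  have h2 : f (e (SemidirectProduct.inr (Multiplicative.ofAdd 1))) = Multiplicative.ofAdd 1 := by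
    show SemidirectProduct.rightHom (e.symm (e (SemidirectProduct.inr (Multiplicative.ofAdd 1)))) = _
    rw [MulEquiv.symm_apply_apply, SemidirectProduct.rightHom_inr]
  rw [h2] at h1
  exact absurd h1 (by decide)

theorem zpow_cases_of_sq {H : Type*} [Group H] {t : H} (ht : t * t = 1) (k : ℤ) :
    t ^ k = 1 ∨ t ^ k = t := by
  rcases Int.even_or_odd k with ⟨m, hm⟩ | ⟨m, hm⟩
  · left
    rw [hm, ← two_mul, zpow_mul, zpow_two, ht, one_zpow]
  · right
    rw [hm, zpow_add, zpow_one, zpow_mul, zpow_two, ht, one_zpow, one_mul]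

theorem quat_sq_aux : ∀ q : QuaternionGroup 2,
    q * q = 1 ∨ q * q = QuaternionGroup.a 1 * QuaternionGroup.a 1 := by decide

/-- the case of a Sylow subgroup of order eight -/
theorem main_q8 (hF : IsFpf.{u, v} G) (h : IsZRep ρ) (hr : ¬ r ∣ Nat.card G)
    (hperf : commutator G = ⊤) (c : Q8c S i g) :
    Nonempty (G ≃* Matrix.SpecialLinearGroup (Fin 2) (ZMod 5)) := by
  have : Fact (Nat.Prime 2) := ⟨Nat.prime_two⟩
  obtain ⟨z, hz⟩ : ∃ z, z = i * i := ⟨_, rfl⟩
  have hz1 : z ≠ 1 := hz ▸ data_hz1 c.d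
  have hz2 : z * z = 1 := hz ▸ data_hz2 c.d
  have hzc : ∀ x : G, x * z * x⁻¹ = z := central_invol hF hz1 hz2
  have hzc' : ∀ x : G, x * z = z * x := by
    intro x
    calc x * z = (x * z * x⁻¹) * x := by group
      _ = z * x := by rw [hzc]
  have hoz : orderOf z = 2 := orderOf_eq_prime (by rw [pow_two]; exact hz2) hz1
  have huniq : ∀ t : G, t * t = 1 → t = 1 ∨ t = z := by
    intro t ht
    by_cases ht1 : t = 1
    · left; exact ht1
    · right
      have hot : orderOf t = 2 := orderOf_eq_prime (by rw [pow_two]; exact ht) ht1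
      have heven : 2 ∣ Nat.card G := hoz ▸ orderOf_dvd_natCard z
      obtain ⟨z₀, -, hu⟩ := hF.involution heven
      rw [hu t hot, hu z hoz]
  obtain ⟨Z, hZdef⟩ : ∃ Z : Subgroup G, Z = Subgroup.zpowers z := ⟨_, rfl⟩
  have hZmem : ∀ x : G, x ∈ Z ↔ x = 1 ∨ x = z := by
    intro x
    rw [hZdef]
    constructor
    · intro hx
      obtain ⟨k, rfl⟩ := Subgroup.mem_zpowers_iff.mp hx
      exact zpow_cases_of_sq hz2 k
    · rintro (rfl | rfl)
      · exact Subgroup.one_mem _
      · exact Subgroup.mem_zpowers _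
  have hZn : Z.Normal := by
    refine ⟨fun n hn x => ?_⟩
    rw [hZmem] at hn ⊢
    rcases hn with rfl | rfl
    · left; group
    · right; exact hzc x
  have hZcard : Nat.card Z = 2 := by rw [hZdef, Nat.card_zpowers, hoz]
  have hπ : Function.Surjective (QuotientGroup.mk' Z) := QuotientGroup.mk'_surjective Z
  have hker : ∀ x : G, QuotientGroup.mk' Z x = 1 ↔ x ∈ Z := fun x => QuotientGroup.eq_one_iff x
  obtain ⟨T, hTdef⟩ : ∃ T : Sylow 2 (G ⧸ Z), T = S.mapSurjective hπ := ⟨_, rfl⟩
  have hT : (T : Subgroup (G ⧸ Z)) = (S : Subgroup G).map (QuotientGroup.mk' Z) := by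
    rw [hTdef]; exact Sylow.coe_mapSurjective hπ S
  have hzS : z ∈ (S : Subgroup G) := by rw [hz]; exact Subgroup.mul_mem _ c.iS c.iS
  have hZS : Z ≤ (S : Subgroup G) := by rw [hZdef, Subgroup.zpowers_le]; exact hzS
  have hcomap : (T : Subgroup (G ⧸ Z)).comap (QuotientGroup.mk' Z) = (S : Subgroup G) := by
    rw [hT, Subgroup.comap_map_eq, QuotientGroup.ker_mk', sup_eq_left.mpr hZS]
  have hSsq : ∀ s ∈ (S : Subgroup G), s * s ∈ Z := by
    intro s hs
    rw [c.hS] at hs
    obtain ⟨q, rfl⟩ := hs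
    rw [hZmem, ← map_mul]
    rcases quat_sq_aux q with e | e
    · left; rw [e, map_one]
    · right; rw [e, map_mul, c.d.fn_a1, hz]
  -- the Sylow subgroup of the quotient is not cyclic
  have hiZ : i ∉ Z := by
    rw [hZmem]
    rintro (e | e)
    · apply hz1; rw [hz, e, one_mul]
    · apply hz1
      have : i = 1 := by
        calc i = i⁻¹ * (i * i) := by group
          _ = i⁻¹ * i := by rw [← hz, ← e]
          _ = 1 := inv_mul_cancel i
      rw [hz, this, one_mul]
  have hjj : (g * i * g⁻¹) * (g * i * g⁻¹) = z := by rw [data_hv c.d, hz]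
  have hjZ : g * i * g⁻¹ ∉ Z := by
    rw [hZmem]
    rintro (e | e)
    · apply hz1; rw [← hjj, e, one_mul]
    · apply hz1
      have : g * i * g⁻¹ = 1 := by
        calc g * i * g⁻¹ = (g * i * g⁻¹)⁻¹ * ((g * i * g⁻¹) * (g * i * g⁻¹)) := by group
          _ = (g * i * g⁻¹)⁻¹ * (g * i * g⁻¹) := by rw [hjj, ← e]
          _ = 1 := inv_mul_cancel _
      rw [← hjj, this, one_mul]
  have hnc : ¬ IsCyclic (T : Subgroup (G ⧸ Z)) := by
    intro hcyc
    obtain ⟨t', ht'⟩ := hcyc.exists_generator
    have ht'T : (t' : G ⧸ Z) ∈ (S : Subgroup G).map (QuotientGroup.mk' Z) := hT ▸ t'.2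
    obtain ⟨s, hs, hst⟩ := ht'T
    have ht'2 : (t' : G ⧸ Z) * (t' : G ⧸ Z) = 1 := by
      rw [← hst, ← map_mul, hker]; exact hSsq s hs
    have hall : ∀ y ∈ (S : Subgroup G), QuotientGroup.mk' Z y = 1 ∨
        QuotientGroup.mk' Z y = (t' : G ⧸ Z) := by
      intro y hy
      have hyT : QuotientGroup.mk' Z y ∈ (T : Subgroup (G ⧸ Z)) := by
        rw [hT]; exact ⟨y, hy, rfl⟩
      obtain ⟨k, hk⟩ := Subgroup.mem_zpowers_iff.mp (ht' ⟨_, hyT⟩)
      have hk' : (t' : G ⧸ Z) ^ k = QuotientGroup.mk' Z y := by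
        have := congrArg Subtype.val hk
        simpa using this
      rw [← hk']
      exact zpow_cases_of_sq ht'2 k
    have h1 : QuotientGroup.mk' Z i = (t' : G ⧸ Z) := by
      rcases hall i c.iS with e | e
      · exact absurd ((hker i).mp e) hiZ
      · exact e
    have h2 : QuotientGroup.mk' Z (g * i * g⁻¹) = (t' : G ⧸ Z) := by
      rcases hall _ c.jS with e | e
      · exact absurd ((hker _).mp e) hjZ
      · exact e
    have h3 : QuotientGroup.mk' Z (i⁻¹ * (g * i * g⁻¹)) = 1 := by
      rw [map_mul, map_inv, h1, h2, inv_mul_cancel]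
    have h4 := (hker _).mp h3
    rw [hZmem] at h4
    apply c.d.j_not_mem
    rcases h4 with e | e
    · have : g * i * g⁻¹ = i := by
        calc g * i * g⁻¹ = i * (i⁻¹ * (g * i * g⁻¹)) := by group
          _ = i := by rw [e, mul_one]
      rw [this]; exact Subgroup.mem_zpowers i
    · have : g * i * g⁻¹ = i * (i * i) := by
        calc g * i * g⁻¹ = i * (i⁻¹ * (g * i * g⁻¹)) := by group
          _ = i * (i * i) := by rw [e, hz]
      rw [this]
      exact Subgroup.mul_mem _ (Subgroup.mem_zpowers i)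
        (Subgroup.mul_mem _ (Subgroup.mem_zpowers i) (Subgroup.mem_zpowers i))
  have hnn : ¬ (T : Subgroup (G ⧸ Z)).Normal := by
    intro hN
    apply not_normal hF h hr hperf c
    rw [← hcomap]
    exact hN.comap _
  -- centralizers of involutions in the quotient
  have hC : ∀ t' : G ⧸ Z, orderOf t' = 2 →
      IsMulCommutative (Subgroup.centralizer ({t'} : Set (G ⧸ Z))) ∧
        ∀ c' ∈ Subgroup.centralizer ({t'} : Set (G ⧸ Z)), c' ^ 2 = 1 := by
    intro t' ht'
    obtain ⟨t, rfl⟩ := hπ t'
    have htZ : t ∉ Z := by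
      intro hmem
      have := (hker t).mpr hmem
      rw [this, orderOf_one] at ht'
      omega
    have htt : t * t = z := by
      have h1 : QuotientGroup.mk' Z (t * t) = 1 := by
        rw [map_mul, ← pow_two, ← ht', pow_orderOf_eq_one]
      have h2 := (hker _).mp h1
      rw [hZmem] at h2
      rcases h2 with e | e
      · exfalso
        apply htZ
        rw [hZmem]
        exact huniq t e
      · exact e
    have hot : orderOf t = 4 := by
      have := orderOf_eq_prime_pow (x := t) (p := 2) (n := 1)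
        (by rw [pow_one, pow_two, htt]; exact hz1)
        (by
          have : t ^ 2 ^ (1 + 1) = (t * t) * (t * t) := by
            have e4 : (2 : ℕ) ^ (1 + 1) = 4 := by norm_num
            rw [e4]
            simp only [pow_succ, pow_zero, one_mul, mul_assoc]
          rw [this, htt]; exact hz2)
      simpa using this
    have key : ∀ c' : G, QuotientGroup.mk' Z c' ∈
        Subgroup.centralizer ({QuotientGroup.mk' Z t} : Set (G ⧸ Z)) → c' * c' ∈ Z := by
      intro c' hc'
      rw [Subgroup.mem_centralizer_singleton_iff, ← map_mul, ← map_mul] at hc'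
      have h1 : QuotientGroup.mk' Z ((c' * t)⁻¹ * (t * c')) = 1 := by
        rw [map_mul, map_inv, hc', inv_mul_cancel]
      have h2 := (hker _).mp h1
      rw [hZmem] at h2
      rcases h2 with e | e
      · have hct : c' * t = t * c' := by
          calc c' * t = (c' * t) * ((c' * t)⁻¹ * (t * c')) := by rw [e, mul_one]
            _ = t * c' := by group
        obtain ⟨k, hk⟩ := Subgroup.mem_zpowers_iff.mp (cent_t hF h hr hperf c hot hct)
        rw [← hk, ← zpow_add, ← two_mul, zpow_mul, zpow_two, htt, hZdef]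
        exact Subgroup.zpow_mem _ (Subgroup.mem_zpowers z) k
      · have htc : t * c' = c' * t * z := by
          calc t * c' = (c' * t) * ((c' * t)⁻¹ * (t * c')) := by group
            _ = c' * t * z := by rw [e]
        have hcc : (c' * c') * t = t * (c' * c') := by
          symm
          calc t * (c' * c') = (t * c') * c' := by group
            _ = c' * t * z * c' := by rw [htc]
            _ = c' * t * (z * c') := by group
            _ = c' * t * (c' * z) := by rw [hzc' c']
            _ = c' * (t * c') * z := by group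
            _ = c' * (c' * t * z) * z := by rw [htc]
            _ = c' * c' * t * (z * z) := by group
            _ = c' * c' * t := by rw [hz2, mul_one]
        obtain ⟨k, hk⟩ := Subgroup.mem_zpowers_iff.mp (cent_t hF h hr hperf c hot hcc)
        rcases Int.even_or_odd k with ⟨m, hm⟩ | ⟨m, hm⟩
        · rw [← hk, hm, ← two_mul, zpow_mul, zpow_two, htt, hZdef]
          exact Subgroup.zpow_mem _ (Subgroup.mem_zpowers z) m
        · exfalso
          have hk2 : c' * c' = z ^ m * t := by
            rw [← hk, hm, zpow_add, zpow_one, zpow_mul, zpow_two, htt]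
          have hzm : ∀ x : G, x * z ^ m = z ^ m * x := by
            intro x
            have : Commute x z := hzc' x
            exact (this.zpow_right m).eq
          have h3 : c' * (z ^ m * t) = (z ^ m * t) * c' := by
            rw [← hk2]; group
          have h4 : c' * t = t * c' := by
            have h5 : z ^ m * (c' * t) = z ^ m * (t * c') := by
              calc z ^ m * (c' * t) = (c' * z ^ m) * t := by rw [hzm c']; group
                _ = c' * (z ^ m * t) := by group
                _ = (z ^ m * t) * c' := h3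
                _ = z ^ m * (t * c') := by group
            exact mul_left_cancel h5
          apply hz1
          have h6 : c' * t * z = c' * t := by rw [← htc, h4]
          calc z = (c' * t)⁻¹ * (c' * t * z) := by group
            _ = 1 := by rw [h6]; group
    have hsq : ∀ c' ∈ Subgroup.centralizer ({QuotientGroup.mk' Z t} : Set (G ⧸ Z)),
        c' ^ 2 = 1 := by
      intro c' hc'
      obtain ⟨c'', rfl⟩ := hπ c'
      rw [pow_two, ← map_mul, hker]
      exact key c'' hc'
    refine ⟨⟨⟨fun a b => ?_⟩⟩, hsq⟩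
    have ha : a * a = 1 := by
      apply Subtype.ext
      have := hsq a a.2
      rw [pow_two] at this
      exact this
    have hb : b * b = 1 := by
      apply Subtype.ext
      have := hsq b b.2
      rw [pow_two] at this
      exact this
    have hab : (a * b) * (a * b) = 1 := by
      apply Subtype.ext
      have := hsq (a * b) (a * b).2
      rw [pow_two] at this
      exact this
    symm
    calc b * a = (a * a) * (b * a) * (b * b) := by rw [ha, hb, one_mul, mul_one]
      _ = a * ((a * b) * (a * b)) * b := by group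
      _ = a * b := by rw [hab, mul_one]
  obtain ⟨F, iF1, iF2, hFc, ⟨e⟩⟩ := Cfsg.Agent.S1230.result T hnc hnn hC
  -- the order of the group
  have hcardS : Nat.card (S : Subgroup G) = 8 := by rw [c.hS, card_range_fn]
  have hidx : (T : Subgroup (G ⧸ Z)).index = (S : Subgroup G).index := by
    rw [← hcomap, Subgroup.index_comap_of_surjective _ hπ]
  have hG1 : Nat.card (S : Subgroup G) * (S : Subgroup G).index = Nat.card G :=
    Subgroup.card_mul_index _
  have hG2 : Nat.card G = Nat.card (G ⧸ Z) * Nat.card Z :=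
    Subgroup.card_eq_card_quotient_mul_card_subgroup Z
  have hG3 : Nat.card (T : Subgroup (G ⧸ Z)) * (T : Subgroup (G ⧸ Z)).index = Nat.card (G ⧸ Z) :=
    Subgroup.card_mul_index _
  have hidx0 : (S : Subgroup G).index ≠ 0 := Subgroup.index_ne_zero_of_finite
  have hcardT : Nat.card (T : Subgroup (G ⧸ Z)) = 4 := by
    rw [hidx] at hG3
    rw [hcardS] at hG1
    rw [hZcard, ← hG3, ← hG1] at hG2
    have h8 : 8 * (S : Subgroup G).index =
        (Nat.card (T : Subgroup (G ⧸ Z)) * 2) * (S : Subgroup G).index := by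
      rw [hG2]; ring
    have := Nat.eq_of_mul_eq_mul_right (Nat.pos_of_ne_zero hidx0) h8
    omega
  have hF4 : Fintype.card F = 2 ^ 2 := by rw [hFc, hcardT]; norm_num
  have hpsl := Cfsg.Agent.S3179.card_PSL2 (F := F) (n := 2) (by norm_num) hF4
  have hquot : Nat.card (G ⧸ Z) = 60 := by
    rw [Nat.card_congr e.toEquiv, hpsl]; norm_num
  have hcardG : Nat.card G = 120 := by rw [hG2, hquot, hZcard]
  have hnt : Nontrivial G := by
    rw [← Finite.one_lt_card_iff_nontrivial, hcardG]; norm_num
  have hns : ¬ Group.IsSolvable G := by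
    intro hs
    have := Group.IsSolvable.commutator_lt_top_of_nontrivial G
    rw [hperf] at this
    exact lt_irrefl _ this
  have hsyl : ∀ P : Sylow 2 G, Nonempty ((P : Subgroup G) ≃* QuaternionGroup 2) := by
    intro P
    have e1 : (P : Subgroup G) ≃* (S : Subgroup G) := Sylow.equiv P S
    have e2 : (S : Subgroup G) ≃* c.d.fn.range := MulEquiv.subgroupCongr c.hS
    have e3 : QuaternionGroup 2 ≃* c.d.fn.range := MonoidHom.ofInjective c.d.fn_injective
    exact ⟨(e1.trans e2).trans e3.symm⟩
  exact (Cfsg.Agent.S3378.result).1 G hcardG hns hsyl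

end Cfsg.Agent.Lib.Helper12.ZFin
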