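import Mathlib
import Cfsg.Agent.Lib.Helper12.ZRep

set_option autoImplicit false
set_option linter.unusedSectionVars false
set_option linter.style.haveILetI false

/-!
# Construction of a diagonalizable fixed-point-free representation
-/

namespace Cfsg.Agent.Lib.Helper12.ZR

open Polynomial

universe u v

/-- an operator of finite order over a field with enough roots of unity has an eigenvector in
every nonzero invariant subspace -/
theorem exists_eigvec {K V : Type*} [Field K] [AddCommGroup V] [Module K V] (T : Module.End K V)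
    {n : ℕ} (hn : 0 < n) {ζ : K} (hζ : IsPrimitiveRoot ζ n) (hT : T ^ n = 1)
    (W : Submodule K V) (hW : W ≠ ⊥) (hTW : ∀ w ∈ W, T w ∈ W) :
    ∃ w ∈ W, w ≠ 0 ∧ ∃ c : K, T w = c • w := by
  classical
  have key : ∀ s : Finset K, ∀ w ∈ W, w ≠ 0 →
      (Polynomial.aeval T (∏ c ∈ s, (X - C c))) w = 0 →
      ∃ w ∈ W, w ≠ 0 ∧ ∃ c : K, T w = c • w := by
    intro s
    induction s using Finset.induction_on with
    | empty =>
      intro w _ hw h0
      simp at h0
      exact (hw h0).elim
    | insert a s ha ih =>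
      intro w hwW hw h0
      rw [Finset.prod_insert ha, mul_comm, map_mul, Module.End.mul_apply] at h0
      have e : (aeval T (X - C a)) w = T w - a • w := by simp
      rw [e] at h0
      by_cases h1 : T w - a • w = 0
      · exact ⟨w, hwW, hw, a, sub_eq_zero.mp h1⟩
      · exact ih _ (W.sub_mem (hTW w hwW) (W.smul_mem a hwW)) h1 h0
  obtain ⟨w, hwW, hw⟩ := (Submodule.ne_bot_iff W).mp hW
  apply key (nthRootsFinset n 1) w hwW hw
  rw [← X_pow_sub_one_eq_prod hn hζ]
  simp [hT]

/-- a finite field of characteristic `r` with a primitive `n`-th root of unity -/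
theorem exists_field (r : ℕ) [Fact r.Prime] (n : ℕ) (hn : 0 < n) (hc : Nat.Coprime r n) :
    ∃ (K : Type) (_ : Field K) (_ : Fintype K) (_ : CharP K r) (ζ : K), IsPrimitiveRoot ζ n := by
  have hr : r.Prime := Fact.out
  have hd : n.totient ≠ 0 := (Nat.totient_pos.mpr hn).ne'
  have hcard : Nat.card (GaloisField r n.totient) = r ^ n.totient := GaloisField.card r _ hd
  have hdvd : n ∣ r ^ n.totient - 1 := by
    have h1 := Nat.ModEq.pow_totient hc
    exact (Nat.modEq_iff_dvd' (Nat.one_le_pow _ _ hr.pos)).mp h1.symm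
  haveI : Fintype (GaloisField r n.totient) := Fintype.ofFinite _
  obtain ⟨g, hg⟩ := IsCyclic.exists_generator (α := (GaloisField r n.totient)ˣ)
  have hog : orderOf g = r ^ n.totient - 1 := by
    rw [orderOf_eq_card_of_forall_mem_zpowers hg, Nat.card_units, hcard]
  obtain ⟨m, hm⟩ := hdvd
  have hpos : 0 < r ^ n.totient - 1 := by
    rw [← hog]; exact orderOf_pos g
  have hm0 : m ≠ 0 := by
    rintro rfl
    rw [mul_zero] at hm
    omega
  have hoz : orderOf (g ^ m) = n := by
    rw [orderOf_pow_of_dvd hm0 (by rw [hog, hm]; exact dvd_mul_left m n), hog, hm]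
    exact Nat.mul_div_cancel _ (Nat.pos_of_ne_zero hm0)
  refine ⟨GaloisField r n.totient, inferInstance, inferInstance, inferInstance,
    ((g ^ m : (GaloisField r n.totient)ˣ) : GaloisField r n.totient), ?_⟩
  rw [IsPrimitiveRoot.coe_units_iff]
  have h1 := IsPrimitiveRoot.orderOf (g ^ m)
  rw [hoz] at h1
  exact h1

/-- a nonzero additive functional on an elementary abelian group -/
theorem exists_addHom_ne_zero {A : Type*} [AddCommGroup A] (r : ℕ) [Fact r.Prime]
    (hA : ∀ x : A, r • x = 0) (K : Type*) [Field K] [CharP K r] (v : A) (hv : v ≠ 0) :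
    ∃ f : A →+ K, f v ≠ 0 := by
  have inst : Module (ZMod r) A := AddCommGroup.zmodModule hA
  have hex : ∃ φ₀ : Module.Dual (ZMod r) A, φ₀ v ≠ 0 := by
    by_contra hcon
    push Not at hcon
    exact hv ((Module.forall_dual_apply_eq_zero_iff (ZMod r) v).mp hcon)
  obtain ⟨φ₀, hφ₀⟩ := hex
  let ι : ZMod r →+* K := ZMod.castHom (dvd_refl r) K
  refine ⟨(ι : ZMod r →+ K).comp φ₀.toAddMonoidHom, ?_⟩
  intro e
  have h2 : ι (φ₀ v) = 0 := e
  exact hφ₀ ((map_eq_zero ι).mp h2)

/-- the representation attached to a fixed-point-free action of a group of even order -/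
theorem exists_rep {G : Type u} [Group G] [Finite G] {N : Type v} [CommGroup N] [Finite N]
    [Nontrivial N] (φ : G →* MulAut N) (hφ : ∀ g : G, g ≠ 1 → ∀ n : N, φ g n = n → n = 1)
    (heven : 2 ∣ Nat.card G) :
    ∃ (r : ℕ) (_ : Fact r.Prime) (K : Type) (_ : Field K) (_ : Fintype K) (_ : CharP K r)
      (V : Type v) (_ : AddCommGroup V) (_ : Module K V) (ρ : G →* Module.End K V),
      IsZRep ρ ∧ ¬ r ∣ Nat.card G := by
  classical
  have hN1 : Nat.card N ≠ 1 := (Finite.one_lt_card (α := N)).ne'
  obtain ⟨r, hr, hrN⟩ := Nat.exists_prime_and_dvd hN1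
  haveI : Fact r.Prime := ⟨hr⟩
  let V₀ : Subgroup N := (powMonoidHom r : N →* N).ker
  have hV₀ : ∀ x : V₀, (x : N) ^ r = 1 := fun x => x.2
  obtain ⟨x₀, hx₀⟩ := exists_prime_orderOf_dvd_card' r hrN
  have hx₀V : x₀ ∈ V₀ := by
    show x₀ ^ r = 1
    rw [← hx₀]; exact pow_orderOf_eq_one x₀
  have hx₀1 : x₀ ≠ 1 := by
    intro e
    rw [e, orderOf_one] at hx₀
    exact hr.one_lt.ne hx₀
  let act : G → (V₀ →* V₀) := fun g =>
    { toFun := fun x => ⟨φ g x.1, by
        show (φ g x.1) ^ r = 1
        rw [← map_pow, hV₀ x, map_one]⟩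
      map_one' := Subtype.ext (map_one (φ g))
      map_mul' := fun x y => Subtype.ext (map_mul (φ g) x.1 y.1) }
  have act_val : ∀ g (x : V₀), ((act g x : V₀) : N) = φ g x.1 := fun g x => rfl
  have act_mul : ∀ g h (x : V₀), act (g * h) x = act g (act h x) := by
    intro g h x
    apply Subtype.ext
    rw [act_val, act_val, act_val, map_mul]; rfl
  have act_one : ∀ x : V₀, act 1 x = x := by
    intro x
    apply Subtype.ext
    rw [act_val, map_one]; rfl
  have act_fix : ∀ g : G, g ≠ 1 → ∀ x : V₀, act g x = x → x = 1 := by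
    intro g hg x hx
    apply Subtype.ext
    have := congrArg Subtype.val hx
    rw [act_val] at this
    exact hφ g hg x.1 this
  -- `r` does not divide the order of `G`
  have hrG : ¬ r ∣ Nat.card G := by
    intro hdvd
    obtain ⟨g, hg⟩ := exists_prime_orderOf_dvd_card' r hdvd
    have hg1 : g ≠ 1 := by
      intro e
      rw [e, orderOf_one] at hg
      exact hr.one_lt.ne hg
    have hP : IsPGroup r (Subgroup.zpowers g) := by
      apply IsPGroup.of_card (n := 1)
      rw [Nat.card_zpowers, hg, pow_one]
    letI : MulAction (Subgroup.zpowers g) V₀ :=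
      { smul := fun p x => act p.1 x
        one_smul := act_one
        mul_smul := fun a b x => act_mul a.1 b.1 x }
    have hcard : r ∣ Nat.card V₀ := by
      have h1 : orderOf (⟨x₀, hx₀V⟩ : V₀) = r := by
        rw [← hx₀]; exact Subgroup.orderOf_mk x₀ hx₀V
      rw [← h1]; exact orderOf_dvd_natCard _
    have hfix : (1 : V₀) ∈ MulAction.fixedPoints (Subgroup.zpowers g) V₀ := by
      intro p
      exact map_one (act p.1)
    obtain ⟨b, hb, hb1⟩ := hP.exists_fixed_point_of_prime_dvd_card_of_fixed_point V₀ hcard hfix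
    apply hb1
    have := hb ⟨g, Subgroup.mem_zpowers g⟩
    exact (act_fix g hg1 b this).symm
  have hGpos : 0 < Nat.card G := Nat.card_pos
  have hcop : Nat.Coprime r (Nat.card G) := (Nat.Prime.coprime_iff_not_dvd hr).mpr hrG
  obtain ⟨K, iK, iKf, iKc, ζ, hζ⟩ := exists_field r (Nat.card G) hGpos hcop
  -- the additive action
  let α : G → (Additive V₀ →+ Additive V₀) := fun g => MonoidHom.toAdditive (act g)
  have α_apply : ∀ g (x : Additive V₀), α g x = Additive.ofMul (act g (Additive.toMul x)) :=
    fun g x => rfl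
  have α_mul : ∀ g h x, α (g * h) x = α g (α h x) := by
    intro g h x
    rw [α_apply, α_apply, α_apply, act_mul]; rfl
  have α_one : ∀ x, α 1 x = x := by
    intro x
    rw [α_apply, act_one]; rfl
  let ρf : G → Module.End K (Additive V₀ →+ K) := fun g =>
    { toFun := fun f => f.comp (α g⁻¹)
      map_add' := fun f f' => by ext x; rfl
      map_smul' := fun c f => by ext x; rfl }
  have ρf_apply : ∀ g (f : Additive V₀ →+ K) x, ρf g f x = f (α g⁻¹ x) := fun g f x => rfl
  let ρ : G →* Module.End K (Additive V₀ →+ K) :=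
    { toFun := ρf
      map_one' := by
        apply LinearMap.ext
        intro f
        apply DFunLike.ext
        intro x
        rw [ρf_apply, inv_one, α_one]; rfl
      map_mul' := fun g h => by
        apply LinearMap.ext
        intro f
        apply DFunLike.ext
        intro x
        rw [ρf_apply, Module.End.mul_apply, ρf_apply, ρf_apply, mul_inv_rev, α_mul] }
  have ρ_apply : ∀ g (f : Additive V₀ →+ K) x, ρ g f x = f (α g⁻¹ x) := fun g f x => rfl
  refine ⟨r, inferInstance, K, iK, iKf, iKc, (Additive V₀ →+ K), inferInstance, inferInstance, ρ,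
    ⟨?_, ?_, ?_, ?_⟩, hrG⟩
  · -- fixed-point-freeness
    intro g hg f hf
    have hg' : g⁻¹ ≠ 1 := fun e => hg (inv_eq_one.mp e)
    let δ : Additive V₀ →+ Additive V₀ := α g⁻¹ - AddMonoidHom.id _
    have hδinj : Function.Injective δ := by
      rw [injective_iff_map_eq_zero]
      intro x hx
      have h1 : α g⁻¹ x = x := by
        have : α g⁻¹ x - x = 0 := hx
        exact sub_eq_zero.mp this
      rw [α_apply] at h1
      have h2 : act g⁻¹ (Additive.toMul x) = Additive.toMul x := by
        have := congrArg Additive.toMul h1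
        simpa using this
      have := act_fix g⁻¹ hg' _ h2
      have h3 := congrArg Additive.ofMul this
      simpa using h3
    have hδsurj : Function.Surjective δ := Finite.injective_iff_surjective.mp hδinj
    apply DFunLike.ext
    intro y
    obtain ⟨x, rfl⟩ := hδsurj y
    have h1 : f (α g⁻¹ x) = f x := by
      have := DFunLike.congr_fun hf x
      rw [ρ_apply] at this
      exact this
    show f (α g⁻¹ x - x) = 0
    rw [map_sub, h1, sub_self]
  · -- eigenvectors
    intro g W hW hgW
    refine exists_eigvec (ρ g) hGpos hζ ?_ W hW hgW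
    rw [← map_pow, pow_card_eq_one', map_one]
  · -- nontriviality
    have hA : ∀ x : Additive V₀, r • x = 0 := by
      intro x
      have := hV₀ (Additive.toMul x)
      have h2 : (Additive.toMul x) ^ r = 1 := Subtype.ext (by simpa using this)
      exact congrArg Additive.ofMul h2
    let v₀ : Additive V₀ := Additive.ofMul ⟨x₀, hx₀V⟩
    have hv₀ : v₀ ≠ 0 := by
      intro e
      apply hx₀1
      have h2 : (⟨x₀, hx₀V⟩ : V₀) = 1 := congrArg Additive.toMul e
      exact congrArg Subtype.val h2
    obtain ⟨f, hf⟩ := exists_addHom_ne_zero r hA K v₀ hv₀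
    refine ⟨f, ?_⟩
    intro e
    apply hf
    rw [e]; rfl
  · -- characteristic
    intro h2
    have h3 : ((2 : ℕ) : K) = 0 := by exact_mod_cast h2
    rw [CharP.cast_eq_zero_iff K r] at h3
    have : r = 2 := (Nat.prime_dvd_prime_iff_eq hr Nat.prime_two).mp h3
    rw [this] at hrG
    exact hrG heven

end Cfsg.Agent.Lib.Helper12.ZR
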