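import Mathlib
import Cfsg.Agent.Lib.Helper12.ZFinal
import Cfsg.Agent.Lib.Helper12.ZLin

set_option autoImplicit false

/-!
# Zassenhaus' theorem: a perfect nontrivial group acting fixed-point-freely is `SL(2,5)`
-/

namespace Cfsg.Agent.Lib.Helper12.ZT

open Cfsg.Agent.Lib.Helper20 Cfsg.Agent.Lib.Helper20.SL23 Cfsg.Agent.Lib.Helper12.ZR
  Cfsg.Agent.Lib.Helper12.ZDt Cfsg.Agent.Lib.Helper12.ZF Cfsg.Agent.Lib.Helper12.ZL
  Cfsg.Agent.Lib.Helper12.ZP Cfsg.Agent.Lib.Helper12.ZG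
  Cfsg.Agent.Lib.Helper12.ZY Cfsg.Agent.Lib.Helper12.ZO Cfsg.Agent.Lib.Helper12.ZS
  Cfsg.Agent.Lib.Helper12.ZQ Cfsg.Agent.Lib.Helper12.ZFin

universe u v

theorem zassenhaus_rep {G : Type u} [Group G] [Finite G] {r : ℕ} [Fact r.Prime] {K : Type*}
    [Field K] [Fintype K] [CharP K r] {V : Type*} [AddCommGroup V] [Module K V]
    {ρ : G →* Module.End K V} (hF : IsFpf.{u, v} G) (h : IsZRep ρ) (hr : ¬ r ∣ Nat.card G)
    (hperf : commutator G = ⊤) (h2 : 2 ∣ Nat.card G) :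
    Nonempty (G ≃* Matrix.SpecialLinearGroup (Fin 2) (ZMod 5)) := by
  obtain ⟨i, g, d⟩ := exists_data hF h hr hperf h2
  obtain ⟨S, hi, hj⟩ := exists_sylow d
  obtain ⟨A, z, i', hgq, d', hiA, hjS, hjA, hcase⟩ := sylow_cases hF h hr d S hi hj
  rcases hcase with ⟨hA4, hS8⟩ | ⟨hA8, hS16, x, hxA, hxx⟩
  · have hle : d'.fn.range ≤ (S : Subgroup G) := by
      rintro _ ⟨q, rfl⟩
      exact fn_mem_of d' _ (hgq.le hiA) hjS q
    have hS : (S : Subgroup G) = d'.fn.range :=
      (Subgroup.eq_of_le_of_card_ge hle (by rw [hS8, card_range_fn])).symm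
    exact main_q8 hF h hr hperf ⟨d', hS⟩
  · exfalso
    subst hxx
    exact Q16.false_of ⟨hgq, hxA, hA8, hS16, d', hjS, hjA⟩ hF h hr hperf

/-- a perfect group without normal `2`-complement obstruction: the order is even -/
theorem even_card {G : Type u} [Group G] [Finite G] [Nontrivial G]
    (hsyl : ∀ (p : ℕ) [Fact p.Prime] (P : Sylow p G),
      IsCyclic P ∨ ∃ n : ℕ, Nonempty (P ≃* QuaternionGroup (2 ^ n)))
    (hperf : commutator G = ⊤) : 2 ∣ Nat.card G := by
  by_contra hodd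
  have hZ : IsZGroup G := by
    refine ⟨fun p hp P => ?_⟩
    have : Fact p.Prime := ⟨hp⟩
    rcases hsyl p P with hc | ⟨n, ⟨e⟩⟩
    · exact hc
    · exfalso
      apply hodd
      have h1 : Nat.card P = 4 * 2 ^ n := by
        rw [Nat.card_congr e.toEquiv, Nat.card_eq_fintype_card, QuaternionGroup.card]
      have h2 : Nat.card P ∣ Nat.card G := Subgroup.card_subgroup_dvd_card _
      rw [h1] at h2
      exact (Dvd.intro (2 * 2 ^ n) (by ring)).trans h2
  have := IsZGroup.commutator_lt G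
  rw [hperf] at this
  exact lt_irrefl _ this

/-- **Zassenhaus**: a nontrivial perfect group with a fixed-point-free action on a finite abelian
group is isomorphic to `SL(2,5)`. -/
theorem zassenhaus {G : Type u} [Group G] [Nontrivial G] (hF : IsFpf.{u, v} G)
    (hperf : commutator G = ⊤) :
    Nonempty (G ≃* Matrix.SpecialLinearGroup (Fin 2) (ZMod 5)) := by
  have hfin : Finite G := hF.finite
  have heven : 2 ∣ Nat.card G := even_card (fun p _ P => hF.sylow p P) hperf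
  have hF' := hF
  obtain ⟨N, iN, iF, φ, hN, hφ⟩ := hF
  obtain ⟨r, ir, K, iK1, iK2, iK3, V, iV1, iV2, ρ, hρ, hr⟩ := exists_rep φ hφ heven
  exact zassenhaus_rep hF' hρ hr hperf heven

end Cfsg.Agent.Lib.Helper12.ZT
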