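import Mathlib

set_option autoImplicit false

namespace Cfsg.Agent.Lib.Helper12.Sharp2

open MulAction

/-- A finite sharply 2-transitive action (abstract form). -/
structure IsSharp2 (G α : Type*) [Group G] [MulAction G α] [Fintype α] : Prop where
  trans : IsPretransitive G α
  fix2 : ∀ (g : G) (a b : α), a ≠ b → g • a = a → g • b = b → g = 1
  card : Nat.card G = Fintype.card α * (Fintype.card α - 1)
  two_le : 2 ≤ Fintype.card α

section

variable {G α : Type*} [Group G] [MulAction G α] [Fintype α]

/-- fixed-point-free elements -/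
def Fpf (G α : Type*) [Group G] [MulAction G α] (g : G) : Prop := ∀ a : α, g • a ≠ a

theorem finite_of_sharp (h : IsSharp2 G α) : Finite G := by
  apply Nat.finite_of_card_ne_zero
  rw [h.card]
  have := h.two_le
  have h1 : 0 < Fintype.card α := by omega
  have h2 : 0 < Fintype.card α - 1 := by omega
  exact (Nat.mul_pos h1 h2).ne'

theorem fpf_ne_one (h : IsSharp2 G α) {g : G} (hg : Fpf G α g) : g ≠ 1 := by
  rintro rfl
  have : 0 < Fintype.card α := by have := h.two_le; omega
  obtain ⟨a⟩ := Fintype.card_pos_iff.1 this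
  exact hg a (one_smul G a)

theorem fpf_conj {g : G} (hg : Fpf G α g) (k : G) : Fpf G α (k * g * k⁻¹) := by
  intro a ha
  apply hg (k⁻¹ • a)
  rw [mul_smul, mul_smul] at ha
  rw [eq_inv_smul_iff]
  exact ha

/-- number of fixed-point-free elements -/
theorem card_fpf (h : IsSharp2 G α) : Nat.card {g : G // Fpf G α g} = Fintype.card α - 1 := by
  classical
  have hfin := finite_of_sharp h
  let _ : Fintype G := Fintype.ofFinite G
  have := h.trans
  have hn := h.two_le
  obtain ⟨a0⟩ : Nonempty α := Fintype.card_pos_iff.1 (by omega)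
  have hB := sum_card_fixedBy_eq_card_orbits_mul_card_group G α
  have horb : Fintype.card (Quotient (orbitRel G α)) = 1 := by
    rw [Fintype.card_eq_one_iff]
    refine ⟨Quotient.mk'' a0, fun y => ?_⟩
    induction y using Quotient.inductionOn' with
    | h b =>
      apply Quotient.sound'
      exact MulAction.exists_smul_eq G a0 b
  rw [horb, one_mul] at hB
  have key : ∀ g : G, Fintype.card (fixedBy α g) + (if Fpf G α g then 1 else 0) =
      if g = 1 then Fintype.card α else 1 := by
    intro g
    by_cases hg1 : g = 1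
    · subst hg1
      rw [if_pos rfl, if_neg (fun hf => fpf_ne_one h hf rfl), add_zero]
      apply Fintype.card_of_subtype Finset.univ
      intro x
      simp
    · rw [if_neg hg1]
      by_cases hf : Fpf G α g
      · rw [if_pos hf]
        have : IsEmpty (fixedBy α g) := ⟨fun x => hf x.1 x.2⟩
        rw [Fintype.card_eq_zero]
      · rw [if_neg hf, add_zero]
        unfold Fpf at hf
        simp only [not_forall, not_not] at hf
        obtain ⟨a, ha⟩ := hf
        rw [Fintype.card_eq_one_iff]
        refine ⟨⟨a, ha⟩, fun y => ?_⟩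
        apply Subtype.ext
        by_contra hne
        exact hg1 (h.fix2 g y.1 a hne y.2 ha)
  have hsum := Finset.sum_congr (s₁ := (Finset.univ : Finset G)) rfl (fun g _ => key g)
  rw [Finset.sum_add_distrib, hB, Finset.sum_boole, Finset.sum_ite, Finset.sum_const,
    Finset.sum_const] at hsum
  have h1 : (Finset.univ.filter (fun g : G => g = 1)).card = 1 := by
    rw [Finset.filter_eq' Finset.univ (1 : G), if_pos (Finset.mem_univ _), Finset.card_singleton]
  have h2 : (Finset.univ.filter (fun g : G => ¬ g = 1)).card = Fintype.card G - 1 := by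
    rw [Finset.filter_not, Finset.card_sdiff_of_subset (Finset.filter_subset _ _), h1,
      Finset.card_univ]
  rw [h1, h2] at hsum
  simp only [smul_eq_mul, one_mul, mul_one, Nat.cast_id] at hsum
  have hG : Fintype.card G = Fintype.card α * (Fintype.card α - 1) := by
    rw [← Nat.card_eq_fintype_card]; exact h.card
  have hGpos : 1 ≤ Fintype.card G := Fintype.card_pos
  rw [Nat.card_eq_fintype_card, Fintype.card_subtype]
  omega


/-- the centralizer of a fixed-point-free element consists of `1` and fixed-point-free elements -/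
theorem centralizer_sub (h : IsSharp2 G α) {x : G} (hx : Fpf G α x) {y : G}
    (hy : y ∈ Subgroup.centralizer ({x} : Set G)) : y = 1 ∨ Fpf G α y := by
  by_cases hf : Fpf G α y
  · exact Or.inr hf
  · left
    unfold Fpf at hf
    simp only [not_forall, not_not] at hf
    obtain ⟨a, ha⟩ := hf
    rw [Subgroup.mem_centralizer_iff] at hy
    have hc := hy x rfl
    have h2 : y • (x • a) = x • a := by
      rw [← mul_smul, ← hc, mul_smul, ha]
    exact h.fix2 y (x • a) a (hx a) h2 ha

/-- the set `{1} ∪ {fixed-point-free elements}` has `n` elements -/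
theorem ncard_K (h : IsSharp2 G α) : ({g : G | g = 1 ∨ Fpf G α g} : Set G).ncard = Fintype.card α := by
  have hfin := finite_of_sharp h
  have h1 : ({g : G | g = 1 ∨ Fpf G α g} : Set G) = insert 1 {g : G | Fpf G α g} := by
    ext g; simp
  have h2 : (1 : G) ∉ {g : G | Fpf G α g} := fun hf => fpf_ne_one h hf rfl
  rw [h1, Set.ncard_insert_of_notMem h2 (Set.toFinite _)]
  have h3 : ({g : G | Fpf G α g} : Set G).ncard = Fintype.card α - 1 := by
    rw [← card_fpf h]; rfl
  rw [h3]
  have := h.two_le
  omega

theorem centralizer_card (h : IsSharp2 G α) {x : G} (hx : Fpf G α x) :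
    Nat.card (Subgroup.centralizer ({x} : Set G)) = Fintype.card α ∧
    (orbit (ConjAct G) x).ncard = Fintype.card α - 1 := by
  have hfin := finite_of_sharp h
  have hn := h.two_le
  have h1 : (orbit (ConjAct G) x).ncard * Nat.card (Subgroup.centralizer ({x} : Set G)) =
      Fintype.card α * (Fintype.card α - 1) := by
    rw [Subgroup.nat_card_centralizer_nat_card_stabilizer, ← MulAction.index_stabilizer,
      Subgroup.index_mul_card, ← h.card]
    rfl
  have h2 : Nat.card (Subgroup.centralizer ({x} : Set G)) ≤ Fintype.card α := by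
    rw [← ncard_K h]
    have : Nat.card (Subgroup.centralizer ({x} : Set G)) =
        ((Subgroup.centralizer ({x} : Set G) : Subgroup G) : Set G).ncard := rfl
    rw [this]
    apply Set.ncard_le_ncard _ (Set.toFinite _)
    intro y hy
    exact centralizer_sub h hx hy
  have h3 : (orbit (ConjAct G) x).ncard ≤ Fintype.card α - 1 := by
    have h4 : ({g : G | Fpf G α g} : Set G).ncard = Fintype.card α - 1 := by
      rw [← card_fpf h]; rfl
    rw [← h4]
    apply Set.ncard_le_ncard _ (Set.toFinite _)
    rintro y ⟨k, rfl⟩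
    show Fpf G α (k • x)
    rw [ConjAct.smul_def]
    exact fpf_conj hx _
  have hpos : 0 < Fintype.card α - 1 := by omega
  constructor
  · by_contra hne
    have hlt : Nat.card (Subgroup.centralizer ({x} : Set G)) < Fintype.card α :=
      lt_of_le_of_ne h2 hne
    have : (orbit (ConjAct G) x).ncard * Nat.card (Subgroup.centralizer ({x} : Set G)) <
        Fintype.card α * (Fintype.card α - 1) := by
      calc (orbit (ConjAct G) x).ncard * Nat.card (Subgroup.centralizer ({x} : Set G))
          ≤ (Fintype.card α - 1) * Nat.card (Subgroup.centralizer ({x} : Set G)) :=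
            Nat.mul_le_mul_right _ h3
        _ < (Fintype.card α - 1) * Fintype.card α := Nat.mul_lt_mul_of_pos_left hlt hpos
        _ = Fintype.card α * (Fintype.card α - 1) := mul_comm _ _
    omega
  · by_contra hne
    have hlt : (orbit (ConjAct G) x).ncard < Fintype.card α - 1 := lt_of_le_of_ne h3 hne
    have : (orbit (ConjAct G) x).ncard * Nat.card (Subgroup.centralizer ({x} : Set G)) <
        Fintype.card α * (Fintype.card α - 1) := by
      calc (orbit (ConjAct G) x).ncard * Nat.card (Subgroup.centralizer ({x} : Set G))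
          ≤ (orbit (ConjAct G) x).ncard * Fintype.card α := Nat.mul_le_mul_left _ h2
        _ < (Fintype.card α - 1) * Fintype.card α := Nat.mul_lt_mul_of_pos_right hlt (by omega)
        _ = Fintype.card α * (Fintype.card α - 1) := mul_comm _ _
    omega

/-- the centralizer of a fixed-point-free element is exactly `{1} ∪ {fixed-point-free elements}` -/
theorem mem_centralizer_iff (h : IsSharp2 G α) {x : G} (hx : Fpf G α x) (y : G) :
    y ∈ Subgroup.centralizer ({x} : Set G) ↔ (y = 1 ∨ Fpf G α y) := by
  have hfin := finite_of_sharp h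
  have hsub : ((Subgroup.centralizer ({x} : Set G) : Subgroup G) : Set G) ⊆
      {g : G | g = 1 ∨ Fpf G α g} := fun y hy => centralizer_sub h hx hy
  have heq := Set.eq_of_subset_of_ncard_le hsub (by
    rw [ncard_K h, ← (centralizer_card h hx).1]; rfl) (Set.toFinite _)
  constructor
  · intro hy; exact hsub hy
  · intro hy
    have : y ∈ ({g : G | g = 1 ∨ Fpf G α g} : Set G) := hy
    rw [← heq] at this
    exact this

/-- all fixed-point-free elements are conjugate -/
theorem fpf_conj_all (h : IsSharp2 G α) {x y : G} (hx : Fpf G α x) (hy : Fpf G α y) :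
    ∃ k : G, k * x * k⁻¹ = y := by
  have hfin := finite_of_sharp h
  have hsub : orbit (ConjAct G) x ⊆ {g : G | Fpf G α g} := by
    rintro z ⟨k, rfl⟩
    show Fpf G α (k • x)
    rw [ConjAct.smul_def]
    exact fpf_conj hx _
  have h4 : ({g : G | Fpf G α g} : Set G).ncard = Fintype.card α - 1 := by
    rw [← card_fpf h]; rfl
  have heq := Set.eq_of_subset_of_ncard_le hsub (by
    rw [h4, (centralizer_card h hx).2]) (Set.toFinite _)
  have : y ∈ ({g : G | Fpf G α g} : Set G) := hy
  rw [← heq] at this
  obtain ⟨k, hk⟩ := this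
  refine ⟨ConjAct.ofConjAct k, ?_⟩
  rw [← hk]
  exact (ConjAct.smul_def k x).symm


theorem exists_fpf (h : IsSharp2 G α) : ∃ x : G, Fpf G α x := by
  have h1 := card_fpf h
  have hn := h.two_le
  have h2 : Nat.card {g : G // Fpf G α g} ≠ 0 := by omega
  have := (Nat.card_ne_zero.1 h2).1
  obtain ⟨x⟩ := this
  exact ⟨x.1, x.2⟩

/-- the Frobenius kernel of a sharply 2-transitive group -/
noncomputable def kernel (h : IsSharp2 G α) : Subgroup G :=
  Subgroup.centralizer ({Classical.choose (exists_fpf h)} : Set G)

theorem mem_kernel_iff (h : IsSharp2 G α) (y : G) : y ∈ kernel h ↔ (y = 1 ∨ Fpf G α y) :=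
  mem_centralizer_iff h (Classical.choose_spec (exists_fpf h)) y

theorem kernel_normal (h : IsSharp2 G α) : (kernel h).Normal := ⟨by
  intro y hy k
  rw [mem_kernel_iff] at hy ⊢
  rcases hy with rfl | hy
  · left; simp
  · right; exact fpf_conj hy k⟩

theorem kernel_comm (h : IsSharp2 G α) {y z : G} (hy : y ∈ kernel h) (hz : z ∈ kernel h) :
    y * z = z * y := by
  rw [mem_kernel_iff] at hy
  rcases hy with rfl | hy
  · simp
  · have hz' : z ∈ Subgroup.centralizer ({y} : Set G) := by
      rw [mem_centralizer_iff h hy, ← mem_kernel_iff]; exact hz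
    rw [Subgroup.mem_centralizer_iff] at hz'
    exact hz' y rfl

theorem kernel_card (h : IsSharp2 G α) : Nat.card (kernel h) = Fintype.card α :=
  (centralizer_card h (Classical.choose_spec (exists_fpf h))).1

theorem kernel_exp (h : IsSharp2 G α) : ∃ p j : ℕ, p.Prime ∧ 1 ≤ j ∧ Fintype.card α = p ^ j ∧
    ∀ y ∈ kernel h, y ^ p = 1 := by
  have hfin := finite_of_sharp h
  have hn := h.two_le
  obtain ⟨p, hp, hpn⟩ := Nat.exists_prime_and_dvd (show Fintype.card α ≠ 1 by omega)
  have : Fact p.Prime := ⟨hp⟩
  rw [← kernel_card h] at hpn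
  obtain ⟨x, hx⟩ := exists_prime_orderOf_dvd_card' p hpn
  have hx1 : (x : G) ≠ 1 := by
    intro h1
    have : x = 1 := Subtype.ext h1
    rw [this, orderOf_one] at hx
    exact hp.one_lt.ne hx
  have hxf : Fpf G α (x : G) := ((mem_kernel_iff h _).1 x.2).resolve_left hx1
  have hxp : (x : G) ^ p = 1 := by
    have : x ^ p = 1 := by rw [← hx]; exact pow_orderOf_eq_one x
    have h2 := congrArg (fun t : kernel h => (t : G)) this
    simpa using h2
  have hexp : ∀ y ∈ kernel h, y ^ p = 1 := by
    intro y hy
    rcases (mem_kernel_iff h y).1 hy with rfl | hyf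
    · exact one_pow p
    · obtain ⟨k, hk⟩ := fpf_conj_all h hxf hyf
      rw [← hk, conj_pow, hxp]
      simp
  have hP : IsPGroup p (kernel h) := by
    intro g
    refine ⟨1, ?_⟩
    apply Subtype.ext
    rw [pow_one]
    simpa using hexp g g.2
  obtain ⟨j, hj⟩ := hP.exists_card_eq
  rw [kernel_card h] at hj
  refine ⟨p, j, hp, ?_, hj, hexp⟩
  by_contra hj0
  have : j = 0 := by omega
  rw [this, pow_zero] at hj
  omega

theorem kernel_semiregular (h : IsSharp2 G α) (a : α) : stabilizer (kernel h) a = ⊥ := by
  rw [eq_bot_iff]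
  intro y hy
  rw [Subgroup.mem_bot]
  rcases (mem_kernel_iff h _).1 y.2 with h1 | h1
  · exact Subtype.ext h1
  · exact absurd hy (h1 a)

theorem kernel_trans (h : IsSharp2 G α) : IsPretransitive (kernel h) α := by
  have hfin := finite_of_sharp h
  have horb : ∀ a : α, orbit (kernel h) a = Set.univ := by
    intro a
    rw [Set.eq_univ_iff_ncard, ← MulAction.index_stabilizer, kernel_semiregular h a,
      Subgroup.index_bot, kernel_card h, Nat.card_eq_fintype_card]
  refine ⟨fun a b => ?_⟩
  have : b ∈ orbit (kernel h) a := by rw [horb a]; exact Set.mem_univ b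
  exact this

theorem sylow_eq_kernel (h : IsSharp2 G α) {p j : ℕ} [hp : Fact p.Prime] (hj : 1 ≤ j)
    (hcard : Fintype.card α = p ^ j) (hexp : ∀ y ∈ kernel h, y ^ p = 1) (P : Sylow p G) :
    (P : Subgroup G) = kernel h := by
  have hfin := finite_of_sharp h
  have hP : IsPGroup p (kernel h) := by
    intro g
    refine ⟨1, ?_⟩
    apply Subtype.ext
    rw [pow_one]
    simpa using hexp g g.2
  have hidx : (kernel h).index = Fintype.card α - 1 := by
    have h1 := Subgroup.index_mul_card (kernel h)
    rw [kernel_card h, h.card, mul_comm] at h1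
    have hn := h.two_le
    exact Nat.eq_of_mul_eq_mul_left (by omega) h1
  have hnd : ¬ p ∣ (kernel h).index := by
    rw [hidx, hcard]
    intro hdvd
    have h1 : p ∣ p ^ j := dvd_pow_self p (by omega)
    have h2 : 1 ≤ p ^ j := Nat.one_le_pow _ _ hp.out.pos
    have h3 : p ∣ p ^ j - (p ^ j - 1) := Nat.dvd_sub h1 hdvd
    have h4 : p ^ j - (p ^ j - 1) = 1 := by omega
    rw [h4] at h3
    exact hp.out.one_lt.ne' (Nat.dvd_one.1 h3)
  let Q : Sylow p G := hP.toSylow hnd
  have hQ : (Q : Subgroup G) = kernel h := IsPGroup.toSylow_coe hP hnd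
  have hQn : (Q : Subgroup G).Normal := by rw [hQ]; exact kernel_normal h
  obtain ⟨g, hg⟩ := exists_smul_eq G Q P
  rw [Sylow.smul_eq_of_normal] at hg
  rw [← hg, hQ]

end

end Cfsg.Agent.Lib.Helper12.Sharp2
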