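import Mathlib

set_option autoImplicit false
set_option linter.unusedSectionVars false

namespace Cfsg.Agent.Lib.Helper12.ShiftPoly

open Polynomial

section Basic

variable {p : ℕ} [Fact p.Prime] {K : Type*} [Field K] [CharP K p]

/-- the shift operator `f ↦ (j ↦ f (j - 1))` -/
def shiftT (p : ℕ) (K : Type*) [Field K] : Module.End K (ZMod p → K) where
  toFun f := fun j => f (j - 1)
  map_add' _ _ := rfl
  map_smul' _ _ := rfl

/-- evaluation of polynomials on `ZMod p` -/
def evalMap (p : ℕ) (K : Type*) [Field K] : Polynomial K →ₗ[K] (ZMod p → K) where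
  toFun P := fun j => P.eval (ZMod.cast j : K)
  map_add' P Q := by funext j; simp
  map_smul' c P := by funext j; simp

theorem evalMap_apply (P : Polynomial K) (j : ZMod p) :
    evalMap p K P j = P.eval (ZMod.cast j : K) := rfl

theorem shiftT_apply (f : ZMod p → K) (j : ZMod p) : shiftT p K f j = f (j - 1) := rfl

theorem cast_inj : Function.Injective (ZMod.cast : ZMod p → K) := by
  have := ZMod.castHom_injective (n := p) K
  intro a b hab
  apply this
  rw [ZMod.castHom_apply, ZMod.castHom_apply]
  exact hab

theorem shiftT_pow_apply (k : ℕ) (f : ZMod p → K) (j : ZMod p) :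
    (shiftT p K ^ k) f j = f (j - k) := by
  induction k generalizing j with
  | zero => simp
  | succ k ih =>
    rw [pow_succ', Module.End.mul_apply, shiftT_apply, ih]
    congr 1
    push_cast
    ring

theorem shiftT_pow_p : shiftT p K ^ p = 1 := by
  refine LinearMap.ext fun f => funext fun j => ?_
  rw [shiftT_pow_apply]
  simp

instance charP_end : CharP (Module.End K (ZMod p → K)) p := by
  apply charP_of_injective_algebraMap (R := K)
  rw [injective_iff_map_eq_zero]
  intro c hc
  have h1 := congrArg (fun T : Module.End K (ZMod p → K) => T (fun _ => (1 : K)) 0) hc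
  simpa [Algebra.algebraMap_eq_smul_one] using h1

/-- the difference operator -/
def opD (p : ℕ) (K : Type*) [Field K] : Module.End K (ZMod p → K) := shiftT p K - 1

theorem opD_apply (f : ZMod p → K) (j : ZMod p) : opD p K f j = f (j - 1) - f j := rfl

theorem opD_pow_p : opD p K ^ p = 0 := by
  unfold opD
  rw [sub_pow_char_of_commute p (Commute.one_right _), shiftT_pow_p, one_pow, sub_self]

theorem opD_eq_fwdDiff (f : ZMod p → K) : opD p K f = fwdDiff (-1 : ZMod p) f := by
  funext j
  rw [opD_apply, fwdDiff, sub_eq_add_neg j 1]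

theorem opD_pow_eq_fwdDiff (k : ℕ) (f : ZMod p → K) :
    (opD p K ^ k) f = (fwdDiff (-1 : ZMod p))^[k] f := by
  induction k generalizing f with
  | zero => simp
  | succ k ih =>
    rw [pow_succ, Module.End.mul_apply, Function.iterate_succ_apply, ← opD_eq_fwdDiff, ih]

end Basic

section Main

variable {p : ℕ} [Fact p.Prime] {K : Type*} [Field K] [CharP K p]

theorem opD_pow_finrank (W : Submodule K (ZMod p → K)) (hW : ∀ f ∈ W, opD p K f ∈ W)
    (f : ZMod p → K) (hf : f ∈ W) : (opD p K ^ Module.finrank K W) f = 0 := by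
  have hnil : IsNilpotent ((opD p K).restrict hW) := by
    refine ⟨p, ?_⟩
    rw [Module.End.pow_restrict]
    refine LinearMap.ext fun x => Subtype.ext ?_
    rw [LinearMap.coe_restrict_apply, opD_pow_p]
    rfl
  have hchar := IsNilpotent.charpoly_eq_X_pow_finrank hnil
  have hCH := LinearMap.aeval_self_charpoly ((opD p K).restrict hW)
  rw [hchar, map_pow, aeval_X] at hCH
  rw [Module.End.pow_restrict] at hCH
  have h1 := congrArg (fun T : Module.End K W => ((T ⟨f, hf⟩ : W) : ZMod p → K)) hCH
  simp only [LinearMap.coe_restrict_apply, LinearMap.zero_apply, ZeroMemClass.coe_zero] at h1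
  exact h1

/-- the binomial coefficient polynomial in `-X` -/
noncomputable def binomPoly (K : Type*) [Field K] (k : ℕ) : Polynomial K :=
  C ((k.factorial : K)⁻¹) * (descPochhammer K k).comp (-X)

theorem binomPoly_mem (k r : ℕ) (hk : k < r) : binomPoly K k ∈ degreeLT K r := by
  rw [mem_degreeLT]
  have h1 : (binomPoly K k).natDegree ≤ k := by
    unfold binomPoly
    refine le_trans (natDegree_C_mul_le _ _) ?_
    refine le_trans natDegree_comp_le ?_
    rw [descPochhammer_natDegree, natDegree_neg, natDegree_X, mul_one]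
  exact lt_of_le_of_lt (degree_le_of_natDegree_le h1) (by exact_mod_cast hk)

theorem binomPoly_eval (k n : ℕ) (hk : k < p) :
    (binomPoly K k).eval (-(n : K)) = (n.choose k : K) := by
  unfold binomPoly
  rw [eval_mul, eval_C, eval_comp, eval_neg, eval_X, neg_neg, descPochhammer_eval_eq_descFactorial,
    Nat.descFactorial_eq_factorial_mul_choose]
  have hk0 : (k.factorial : K) ≠ 0 := by
    intro h0
    rw [CharP.cast_eq_zero_iff K p] at h0
    have := (Nat.Prime.dvd_factorial (Fact.out : p.Prime)).1 h0
    omega
  push_cast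
  field_simp

theorem newton (r : ℕ) (hr : r ≤ p) (f : ZMod p → K) (hf : (opD p K ^ r) f = 0) :
    ∃ P ∈ degreeLT K r, evalMap p K P = f := by
  have hc : ∀ k, r ≤ k → (opD p K ^ k) f = 0 := by
    intro k hk
    obtain ⟨m, rfl⟩ := Nat.exists_eq_add_of_le hk
    rw [add_comm, pow_add, Module.End.mul_apply, hf, map_zero]
  refine ⟨∑ k ∈ Finset.range r, C ((opD p K ^ k) f 0) * binomPoly K k, ?_, ?_⟩
  · apply Submodule.sum_mem
    intro k hk
    rw [Finset.mem_range] at hk
    have := (degreeLT K r).smul_mem ((opD p K ^ k) f 0) (binomPoly_mem (K := K) k r hk)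
    rwa [smul_eq_C_mul] at this
  · funext j
    rw [evalMap_apply, eval_finsetSum]
    set n := (-j).val with hn
    have hnp : n < p := ZMod.val_lt _
    have hjn : j = 0 + n • (-1 : ZMod p) := by
      rw [zero_add, nsmul_eq_mul, hn, ZMod.natCast_val, ZMod.cast_id', id_eq]
      ring
    have hcast : (ZMod.cast j : K) = -(n : K) := by
      have h1 : j = -((n : ℕ) : ZMod p) := by
        rw [hn, ZMod.natCast_val, ZMod.cast_id', id_eq, neg_neg]
      conv_lhs => rw [h1]
      rw [ZMod.cast_neg (dvd_refl p), ZMod.cast_natCast (dvd_refl p)]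
    have hN := shift_eq_sum_fwdDiff_iter (-1 : ZMod p) f n 0
    rw [← hjn] at hN
    rw [hN]
    have e1 : ∑ k ∈ Finset.range (n + 1), n.choose k • (fwdDiff (-1 : ZMod p))^[k] f 0 =
        ∑ k ∈ Finset.range p, (n.choose k : K) * (opD p K ^ k) f 0 := by
      rw [← Finset.sum_subset (Finset.range_subset_range.2 (by omega : n + 1 ≤ p))]
      · apply Finset.sum_congr rfl
        intro k _
        rw [opD_pow_eq_fwdDiff, nsmul_eq_mul]
      · intro k _ hk
        rw [Finset.mem_range] at hk
        rw [Nat.choose_eq_zero_of_lt (by omega)]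
        simp
    have e2 : ∑ k ∈ Finset.range r, eval (ZMod.cast j : K) (C ((opD p K ^ k) f 0) * binomPoly K k) =
        ∑ k ∈ Finset.range p, (n.choose k : K) * (opD p K ^ k) f 0 := by
      rw [← Finset.sum_subset (Finset.range_subset_range.2 hr)]
      · apply Finset.sum_congr rfl
        intro k hk
        rw [Finset.mem_range] at hk
        rw [eval_mul, eval_C, hcast, binomPoly_eval k n (by omega), mul_comm]
      · intro k _ hk
        rw [Finset.mem_range] at hk
        rw [hc k (by omega)]
        simp
    rw [e1, e2]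

theorem evalMap_injOn (r : ℕ) (hr : r ≤ p) (P : Polynomial K) (hP : P ∈ degreeLT K r)
    (h0 : evalMap p K P = 0) : P = 0 := by
  classical
  rw [mem_degreeLT] at hP
  apply Polynomial.eq_zero_of_degree_lt_of_eval_finset_eq_zero
    (s := Finset.univ.image (ZMod.cast : ZMod p → K))
  · rw [Finset.card_image_of_injective _ cast_inj, Finset.card_univ, ZMod.card]
    exact lt_of_lt_of_le hP (by exact_mod_cast hr)
  · intro x hx
    rw [Finset.mem_image] at hx
    obtain ⟨j, _, rfl⟩ := hx
    exact congrFun h0 j

/-- the space of polynomial functions of degree `< r` -/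
noncomputable def polyFun (p : ℕ) (K : Type*) [Field K] (r : ℕ) : Submodule K (ZMod p → K) :=
  Submodule.map (evalMap p K) (degreeLT K r)

theorem mem_polyFun (r : ℕ) (f : ZMod p → K) :
    f ∈ polyFun p K r ↔ ∃ P : Polynomial K, P.degree < r ∧
      ∀ j : ZMod p, f j = P.eval (ZMod.cast j : K) := by
  unfold polyFun
  rw [Submodule.mem_map]
  constructor
  · rintro ⟨P, hP, rfl⟩
    exact ⟨P, mem_degreeLT.1 hP, fun j => rfl⟩
  · rintro ⟨P, hP, h⟩
    exact ⟨P, mem_degreeLT.2 hP, funext fun j => (h j).symm⟩

theorem finrank_polyFun (r : ℕ) (hr : r ≤ p) : Module.finrank K (polyFun p K r) = r := by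
  have hinj : Function.Injective ((evalMap p K).domRestrict (degreeLT K r)) := by
    rw [injective_iff_map_eq_zero]
    intro P hP
    apply Subtype.ext
    exact evalMap_injOn r hr P.1 P.2 hP
  have h1 := LinearMap.finrank_range_of_inj hinj
  have h2 : LinearMap.range ((evalMap p K).domRestrict (degreeLT K r)) = polyFun p K r := by
    unfold polyFun
    rw [LinearMap.range_domRestrict]
  rw [h2] at h1
  rw [h1, LinearEquiv.finrank_eq (degreeLTEquiv K r)]
  simp

/-- shift-invariant subspaces are spaces of polynomial functions -/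
theorem shift_invariant (W : Submodule K (ZMod p → K))
    (hW : ∀ f ∈ W, (fun j => f (j - 1)) ∈ W) :
    Module.finrank K W ≤ p ∧ W = polyFun p K (Module.finrank K W) := by
  have hle : Module.finrank K W ≤ p := by
    have := Submodule.finrank_le W
    simpa using this
  refine ⟨hle, ?_⟩
  have hD : ∀ f ∈ W, opD p K f ∈ W := by
    intro f hf
    have : opD p K f = (fun j => f (j - 1)) - f := rfl
    rw [this]
    exact W.sub_mem (hW f hf) hf
  have hsub : W ≤ polyFun p K (Module.finrank K W) := by
    intro f hf
    obtain ⟨P, hP, hPf⟩ := newton _ hle f (opD_pow_finrank W hD f hf)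
    exact ⟨P, hP, hPf⟩
  exact Submodule.eq_of_le_of_finrank_eq hsub (finrank_polyFun _ hle).symm

end Main

end Cfsg.Agent.Lib.Helper12.ShiftPoly
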