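import Mathlib
import Cfsg.Agent.Lib.Helper12.ShiftPoly

set_option autoImplicit false
set_option linter.unusedSectionVars false

namespace Cfsg.Agent.Lib.Helper12.ShiftPoly

open Polynomial

section Affine

variable {p : ℕ} [Fact p.Prime] {K : Type*} [Field K] [CharP K p]

theorem natDegree_lt_of_mem_degreeLT (r : ℕ) (hr : 0 < r) (Q : Polynomial K)
    (hQ : Q ∈ degreeLT K r) : Q.natDegree < r := by
  rw [mem_degreeLT] at hQ
  by_cases h0 : Q = 0
  · rw [h0, natDegree_zero]; exact hr
  · exact (natDegree_lt_iff_degree_lt h0).2 hQ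

/-- a permutation of `ZMod p` preserving a space of polynomial functions of degree `< r`
with `2 ≤ r ≤ p / 2` is affine -/
theorem affine_of_invariant (r : ℕ) (hr2 : 2 ≤ r) (hrp : 2 * r ≤ p) (τ : Equiv.Perm (ZMod p))
    (hinv : ∀ F ∈ polyFun p K r, (fun j => F (τ j)) ∈ polyFun p K r) :
    ∃ a b : ZMod p, ∀ j, τ j = a * j + b := by
  -- the polynomials representing the powers of `τ`
  have hQ : ∀ e : ℕ, e < r → ∃ Q ∈ degreeLT K r, ∀ j : ZMod p,
      Q.eval (ZMod.cast j : K) = (ZMod.cast (τ j) : K) ^ e := by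
    intro e he
    have hX : (X : Polynomial K) ^ e ∈ degreeLT K r := by
      rw [mem_degreeLT, degree_X_pow]
      exact_mod_cast he
    have h1 : evalMap p K (X ^ e) ∈ polyFun p K r := ⟨_, hX, rfl⟩
    obtain ⟨Q, hQ, hQe⟩ := hinv _ h1
    refine ⟨Q, hQ, fun j => ?_⟩
    have := congrFun hQe j
    rw [evalMap_apply] at this
    rw [this, evalMap_apply, eval_pow, eval_X]
  obtain ⟨s, hs, hse⟩ := hQ 1 (by omega)
  simp only [pow_one] at hse
  have hd : s.natDegree < r := natDegree_lt_of_mem_degreeLT r (by omega) s hs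
  set d := s.natDegree with hddef
  -- the key degree claim
  have key : ∀ e : ℕ, e < r → d * e < p → d * e < r := by
    intro e he hde
    obtain ⟨Q, hQ, hQe⟩ := hQ e he
    have hse_mem : s ^ e ∈ degreeLT K p := by
      rw [mem_degreeLT]
      refine lt_of_le_of_lt degree_le_natDegree ?_
      rw [natDegree_pow, mul_comm]
      exact_mod_cast hde
    have hQ_mem : Q ∈ degreeLT K p := degreeLT_mono (by omega) hQ
    have hsub : s ^ e - Q ∈ degreeLT K p := Submodule.sub_mem _ hse_mem hQ_mem
    have h0 : evalMap p K (s ^ e - Q) = 0 := by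
      funext j
      rw [evalMap_apply, eval_sub, eval_pow, hse, hQe, sub_self]
      rfl
    have heq : s ^ e = Q := sub_eq_zero.1 (evalMap_injOn p le_rfl _ hsub h0)
    have := natDegree_lt_of_mem_degreeLT r (by omega) Q hQ
    rw [← heq, natDegree_pow, mul_comm] at this
    exact this
  have hd1 : d ≤ 1 := by
    by_contra hcon
    have hd2 : 2 ≤ d := by omega
    by_cases hq : (p - 1) / d ≤ r - 1
    · have h1 : d * ((p - 1) / d) ≤ p - 1 := Nat.mul_div_le _ _
      have h2 : p - 1 < d * ((p - 1) / d) + d := by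
        have := Nat.lt_div_mul_add (a := p - 1) (b := d) (by omega)
        rw [mul_comm] at this
        exact this
      have hp : 2 ≤ p := (Fact.out : p.Prime).two_le
      have h3 := key ((p - 1) / d) (by omega) (by omega)
      omega
    · have hq' : r - 1 ≤ (p - 1) / d := by omega
      have h1 : d * (r - 1) ≤ d * ((p - 1) / d) := Nat.mul_le_mul_left _ hq'
      have h2 : d * ((p - 1) / d) ≤ p - 1 := Nat.mul_div_le _ _
      have hp : 2 ≤ p := (Fact.out : p.Prime).two_le
      have h3 := key (r - 1) (by omega) (by omega)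
      have h4 : 2 * (r - 1) ≤ d * (r - 1) := Nat.mul_le_mul_right _ hd2
      omega
  have hlin := eq_X_add_C_of_natDegree_le_one hd1
  have hval : ∀ j : ZMod p, (ZMod.cast (τ j) : K) = s.coeff 1 * (ZMod.cast j : K) + s.coeff 0 := by
    intro j
    rw [← hse j]
    conv_lhs => rw [hlin]
    simp
  refine ⟨τ 1 - τ 0, τ 0, fun j => ?_⟩
  apply cast_inj (K := K)
  have h0 := hval 0
  have h1 := hval 1
  rw [ZMod.cast_zero, mul_zero, zero_add] at h0
  rw [ZMod.cast_one (dvd_refl p), mul_one] at h1
  have hc1 : s.coeff 1 = (ZMod.cast (τ 1) : K) - (ZMod.cast (τ 0) : K) := by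
    rw [h1, h0]; ring
  rw [hval j, ← h0, hc1]
  rw [ZMod.cast_add (dvd_refl p), ZMod.cast_mul (dvd_refl p), ZMod.cast_sub (dvd_refl p)]

end Affine

end Cfsg.Agent.Lib.Helper12.ShiftPoly
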