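import Mathlib
import Cfsg.Prelude
import Cfsg.Agent.Lib.Helper12.AffinePoly

set_option autoImplicit false
set_option linter.unusedSectionVars false

namespace Cfsg.Agent.Lib.Helper12.BurnsidePrime

open Cfsg.Agent.Lib.Helper12.ShiftPoly
open scoped commutatorElement

section Label

variable {α : Type*} [Fintype α] [DecidableEq α] {p : ℕ} [Fact p.Prime]

/-- a permutation of order `p` on `p` points gives a labeling by `ZMod p` in which it is the
translation by one -/
theorem exists_label (hα : Fintype.card α = p) (t : Equiv.Perm α) (ht : orderOf t = p) :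
    ∃ e : α ≃ ZMod p, ∀ x, e (t x) = e x + 1 := by
  have hp : p.Prime := Fact.out
  have hcyc : t.IsCycle :=
    Equiv.Perm.isCycle_of_prime_order' (by rw [ht]; exact hp) (by
      have := hp.pos
      rw [hα, ht]; omega)
  have hsupp : t.support = Finset.univ := by
    apply Finset.eq_univ_of_card
    rw [← hcyc.orderOf, ht, hα]
  have hmove : ∀ x, t x ≠ x := by
    intro x
    have : x ∈ t.support := by rw [hsupp]; exact Finset.mem_univ x
    exact Equiv.Perm.mem_support.1 this
  have hne : Nonempty α := by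
    rw [← Fintype.card_pos_iff, hα]
    exact hp.pos
  obtain ⟨x₀⟩ := hne
  let φ : ZMod p → α := fun j => (t ^ j.val) x₀
  have hinj : Function.Injective φ := by
    intro i j hij
    have h1 : t ^ i.val = t ^ j.val := hcyc.pow_eq_pow_iff.2 ⟨x₀, hmove x₀, hij⟩
    rw [pow_eq_pow_iff_modEq, ht] at h1
    apply ZMod.val_injective
    exact Nat.ModEq.eq_of_lt_of_lt h1 (ZMod.val_lt i) (ZMod.val_lt j)
  have hbij : Function.Bijective φ := by
    rw [Fintype.bijective_iff_injective_and_card]
    exact ⟨hinj, by rw [ZMod.card, hα]⟩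
  refine ⟨(Equiv.ofBijective φ hbij).symm, fun x => ?_⟩
  obtain ⟨j, rfl⟩ := hbij.2 x
  have h1 : (Equiv.ofBijective φ hbij).symm (φ j) = j :=
    (Equiv.ofBijective φ hbij).symm_apply_apply j
  have h2 : t (φ j) = φ (j + 1) := by
    show t ((t ^ j.val) x₀) = (t ^ (j + 1).val) x₀
    rw [← Equiv.Perm.mul_apply, ← pow_succ']
    congr 1
    rw [pow_eq_pow_iff_modEq, ht, ZMod.val_add]
    have h1 : (1 : ZMod p).val = 1 % p := by
      rw [ZMod.val_one_eq_one_mod]
    rw [h1]
    exact (Nat.ModEq.add_left _ (Nat.mod_modEq 1 p)).symm.trans (Nat.mod_modEq _ _).symm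
  rw [h1, h2]
  exact (Equiv.ofBijective φ hbij).symm_apply_apply (j + 1)

end Label

section Solv

variable {α : Type*} {p : ℕ} [Fact p.Prime]

/-- a permutation group all of whose elements are affine in some labeling is solvable -/
theorem solvable_of_affine (e : α ≃ ZMod p) (G : Subgroup (Equiv.Perm α))
    (haff : ∀ g ∈ G, ∃ a b : ZMod p, ∀ x, e (g x) = a * e x + b) : Group.IsSolvable G := by
  -- the subgroup of translations
  let T : Subgroup G :=
    { carrier := {g | ∃ b : ZMod p, ∀ x, e ((g : Equiv.Perm α) x) = e x + b}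
      one_mem' := ⟨0, fun x => by simp⟩
      mul_mem' := by
        rintro g h ⟨b, hb⟩ ⟨c, hc⟩
        refine ⟨c + b, fun x => ?_⟩
        show e ((g : Equiv.Perm α) ((h : Equiv.Perm α) x)) = _
        rw [hb, hc]; ring
      inv_mem' := by
        rintro g ⟨b, hb⟩
        refine ⟨-b, fun x => ?_⟩
        have := hb (((g : Equiv.Perm α))⁻¹ x)
        have h2 : (g : Equiv.Perm α) (((g : Equiv.Perm α))⁻¹ x) = x := by simp
        rw [h2] at this
        show e (((g : Equiv.Perm α))⁻¹ x) = _
        rw [this]; ring }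
  have hcomm : ∀ g h : G, ⁅g, h⁆ ∈ T := by
    intro g h
    obtain ⟨a, b, hg⟩ := haff g g.2
    obtain ⟨c, d, hh⟩ := haff h h.2
    refine ⟨a * d + b - c * b - d, fun x => ?_⟩
    rw [commutatorElement_def]
    show e ((g : Equiv.Perm α) ((h : Equiv.Perm α) (((g : Equiv.Perm α))⁻¹
      (((h : Equiv.Perm α))⁻¹ x)))) = _
    set z := ((g : Equiv.Perm α))⁻¹ (((h : Equiv.Perm α))⁻¹ x) with hz
    have hx : x = (h : Equiv.Perm α) ((g : Equiv.Perm α) z) := by
      rw [hz]; simp
    rw [hx, hg, hh, hh, hg]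
    ring
  have hTcomm : ∀ g ∈ T, ∀ h ∈ T, g * h = h * g := by
    rintro g ⟨b, hb⟩ h ⟨c, hc⟩
    apply Subtype.ext
    apply Equiv.ext
    intro x
    apply e.injective
    show e ((g : Equiv.Perm α) ((h : Equiv.Perm α) x)) = e ((h : Equiv.Perm α) ((g : Equiv.Perm α) x))
    rw [hb, hc, hc, hb]; ring
  rw [Group.isSolvable_def]
  refine ⟨2, ?_⟩
  have h1 : derivedSeries G 1 ≤ T := by
    rw [derivedSeries_one, commutator_def, Subgroup.commutator_le]
    intro g _ h _
    exact hcomm g h
  have h2 : derivedSeries G 2 ≤ ⁅T, T⁆ := by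
    show ⁅derivedSeries G 1, derivedSeries G 1⁆ ≤ ⁅T, T⁆
    exact Subgroup.commutator_mono h1 h1
  have h3 : ⁅T, T⁆ = ⊥ := by
    rw [Subgroup.commutator_eq_bot_iff_le_centralizer]
    intro g hg h hh
    exact hTcomm h hh g hg
  rw [h3] at h2
  exact le_bot_iff.1 h2

end Solv

section Core

variable {α : Type*} [Fintype α] [DecidableEq α] {p : ℕ} [Fact p.Prime]

/-- in a transitive group of prime degree `p`, the existence of an invariant subspace of the
permutation module in characteristic `p` of dimension between `2` and `p / 2` forces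
solvability -/
theorem solvable_of_subrep (hα : Fintype.card α = p) (G : Subgroup (Equiv.Perm α))
    [MulAction.IsPretransitive G α] {K : Type*} [Field K] [CharP K p]
    (U : Subrepresentation (Cfsg.permRep K G α)) (h2 : 2 ≤ Module.finrank K U.toSubmodule)
    (hp2 : 2 * Module.finrank K U.toSubmodule ≤ p) : Group.IsSolvable G := by
  have hp : p.Prime := Fact.out
  have hne : Nonempty α := by
    rw [← Fintype.card_pos_iff, hα]
    exact hp.pos
  obtain ⟨x₀⟩ := hne
  have hdvd : p ∣ Nat.card G := by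
    have h1 := MulAction.index_stabilizer_of_transitive G x₀
    rw [Nat.card_eq_fintype_card, hα] at h1
    rw [← h1]
    exact Subgroup.index_dvd_card _
  obtain ⟨t, ht⟩ := exists_prime_orderOf_dvd_card' p hdvd
  have ht' : orderOf (t : Equiv.Perm α) = p := by rw [Subgroup.orderOf_coe, ht]
  obtain ⟨e, he⟩ := exists_label hα (t : Equiv.Perm α) ht'
  let Leq : (ZMod p → K) ≃ₗ[K] (α → K) := LinearEquiv.funCongrLeft K K e
  have hLeq : ∀ (F : ZMod p → K) (x : α), Leq F x = F (e x) := fun F x => rfl
  let U' : Submodule K (ZMod p → K) := U.toSubmodule.comap Leq.toLinearMap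
  have hmemU' : ∀ F : ZMod p → K, F ∈ U' ↔ Leq F ∈ U.toSubmodule := fun F => Iff.rfl
  have hfin : Module.finrank K U' = Module.finrank K U.toSubmodule := by
    have h1 : U' = U.toSubmodule.map Leq.symm.toLinearMap :=
      Submodule.comap_equiv_eq_map_symm Leq U.toSubmodule
    rw [h1]
    exact LinearEquiv.finrank_map_eq Leq.symm U.toSubmodule
  -- shift invariance
  have hshift : ∀ F ∈ U', (fun j => F (j - 1)) ∈ U' := by
    intro F hF
    rw [hmemU'] at hF ⊢
    have h1 := U.apply_mem_toSubmodule t hF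
    convert h1 using 1
    funext x
    show F (e x - 1) = F (e ((t⁻¹ : G) • x))
    congr 1
    have h3 := he ((t⁻¹ : G) • x)
    have h4 : (t : Equiv.Perm α) ((t⁻¹ : G) • x) = x := by
      show (t : Equiv.Perm α) (((t : Equiv.Perm α))⁻¹ x) = x
      simp
    rw [h4] at h3
    rw [h3]; ring
  obtain ⟨_, hU'⟩ := shift_invariant U' hshift
  rw [hfin] at hU'
  -- every element is affine
  apply solvable_of_affine e G
  intro g hg
  let τ : Equiv.Perm (ZMod p) := e.symm.trans ((g : Equiv.Perm α).trans e)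
  have hτ : ∀ j, τ j = e (g (e.symm j)) := fun j => rfl
  have hinv : ∀ F ∈ polyFun p K (Module.finrank K U.toSubmodule),
      (fun j => F (τ j)) ∈ polyFun p K (Module.finrank K U.toSubmodule) := by
    intro F hF
    rw [← hU'] at hF ⊢
    rw [hmemU'] at hF ⊢
    have h1 := U.apply_mem_toSubmodule (⟨g, hg⟩ : G)⁻¹ hF
    convert h1 using 1
    funext x
    show F (τ (e x)) = F (e (((⟨g, hg⟩ : G)⁻¹)⁻¹ • x))
    rw [hτ, e.symm_apply_apply, inv_inv]
    rfl
  obtain ⟨a, b, hab⟩ := affine_of_invariant (K := K) _ h2 hp2 τ hinv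
  refine ⟨a, b, fun x => ?_⟩
  have := hab (e x)
  rw [hτ, e.symm_apply_apply] at this
  exact this

end Core

end Cfsg.Agent.Lib.Helper12.BurnsidePrime
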