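import Cfsg.Agent.Lib.Helper75.D4gDefs

/-! # D3 hive (S2183, helper12): `³D₄(q)`, `q` even, has exactly two classes of involutions — definitions

Roots of `D₄` (`p₂` the central node): `18 = p₁`, `14 = p₂`, `13 = p₃`, `12 = p₄`, `19 = p₁+p₂`, `16 = p₂+p₃`, `15 = p₂+p₄`,
`21 = p₁+p₂+p₃`, `17 = p₂+p₃+p₄`, `20 = p₁+p₂+p₄`, `22 = p₁+p₂+p₃+p₄`, `23 = p₁+2p₂+p₃+p₄`, `neg r = 23 - r`.
Graph automorphism `ρ : 18 → 13 → 12 → 18`, `19 → 16 → 15 → 19`, `21 → 17 → 20 → 21`; `φ` the `q`-power map of `K`, `|K| = q³`.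
Twisted roots (`G₂` notation, `a` short, `b` long): `a = {18,13,12}`, `b = {14}`, `a+b = {19,16,15}`, `2a+b = {21,17,20}`,
`3a+b = {22}`, `3a+2b = {23}`.  Characteristic 2 throughout the hive: no signs anywhere. -/

set_option autoImplicit false

namespace Cfsg.Agent.Lib.Helper12.D3

open Cfsg Cfsg.Lie Cfsg.Agent.Lib.Helper36 Cfsg.Agent.Lib.Helper75.D4g

variable (K : Type*) [Field K] (φ : K →+* K)

/-- `x_a(s) = x_{p₁}(s) x_{p₃}(φ s) x_{p₄}(φ² s)` (equal to helper75's `xS`) -/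
noncomputable def xa (s : K) : GL chevD4.Idx K := xg K 18 s * xg K 13 (φ s) * xg K 12 (φ (φ s))

/-- `x_{-a}(s)` (equal to helper75's `xSn`) -/
noncomputable def xma (s : K) : GL chevD4.Idx K := xg K 5 s * xg K 10 (φ s) * xg K 11 (φ (φ s))

/-- `x_{a+b}(s) = x_{p₁+p₂}(s) x_{p₂+p₃}(φ s) x_{p₂+p₄}(φ² s)` -/
noncomputable def xab (s : K) : GL chevD4.Idx K := xg K 19 s * xg K 16 (φ s) * xg K 15 (φ (φ s))

/-- `x_{2a+b}(c) = x_{p₁+p₂+p₃}(c) x_{p₂+p₃+p₄}(φ c) x_{p₁+p₂+p₄}(φ² c)` -/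
noncomputable def x2ab (c : K) : GL chevD4.Idx K := xg K 21 c * xg K 17 (φ c) * xg K 20 (φ (φ c))

/-- `T(c,d,e) = x_{2a+b}(c) x_{3a+b}(d) x_{3a+2b}(e)` -/
noncomputable def T (c d e : K) : GL chevD4.Idx K := x2ab K φ c * xg K 22 d * xg K 23 e

/-- `V(t,S,c,d,e) = x_b(t) x_{a+b}(S) T(c,d,e)` -/
noncomputable def V (t S c d e : K) : GL chevD4.Idx K := xg K 14 t * xab K φ S * T K φ c d e

/-- the twisted normal form `W(s,t,S,c,d,e) = x_a(s) x_b(t) x_{a+b}(S) x_{2a+b}(c) x_{3a+b}(d) x_{3a+2b}(e)` -/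
noncomputable def W (s t S c d e : K) : GL chevD4.Idx K := xa K φ s * V K φ t S c d e

/-- the untwisted shape `T'(c₁,c₂,c₃,d,e) = x_21(c₁) x_17(c₂) x_20(c₃) x_22(d) x_23(e)` -/
noncomputable def T' (c₁ c₂ c₃ d e : K) : GL chevD4.Idx K :=
  xg K 21 c₁ * xg K 17 c₂ * xg K 20 c₃ * xg K 22 d * xg K 23 e

/-- the "trace form" `tr3 x y = φ²x · φ y + φ x · y + x · φ² y` (`= Tr(x φ² y)`) -/
def tr3 (x y : K) : K := φ (φ x) * φ y + φ x * y + x * φ (φ y)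

/-- the norm `N(x) = x φx φ²x` -/
def nm (x : K) : K := x * φ x * φ (φ x)

/-- conjugacy inside `³D₄(q)` -/
def Cj (q : ℕ) (g g' : GL chevD4.Idx K) : Prop := ∃ h ∈ twistedD4 K q, h * g * h⁻¹ = g'

end Cfsg.Agent.Lib.Helper12.D3
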