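import Cfsg.Agent.Lib.Helper12.D3Defs
import Cfsg.Agent.Lib.Helper36.ChevTwD4
import Cfsg.Agent.Lib.Helper36.TwD4Syl
import Cfsg.Agent.S0308
import Cfsg.Agent.S1045
import Cfsg.Agent.Lib.Helper11.D3TRS
import Cfsg.Agent.Lib.Helper13.D3RL3
import Cfsg.Agent.Lib.Helper21.D3H90
import Cfsg.Agent.Lib.Helper24.D3SYL
import Cfsg.Agent.Lib.Helper33.D3MEM
import Cfsg.Agent.Lib.Helper34.D3FIX
import Cfsg.Agent.Lib.Helper35.D3CAB
import Cfsg.Agent.Lib.Helper51.D3RS1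
import Cfsg.Agent.Lib.Helper54.D3NC2
import Cfsg.Agent.Lib.Helper55.D3NF
import Cfsg.Agent.Lib.Helper55.D3UNIQ
import Cfsg.Agent.Lib.Helper61.D3CB
import Cfsg.Agent.Lib.Helper65.D3CMA
import Cfsg.Agent.Lib.Helper69.D3RS2
import Cfsg.Agent.Lib.Helper70.D3C3AB
import Cfsg.Agent.Lib.Helper75.D3NB
import Cfsg.Agent.Lib.Helper77.D3SQRT
import Cfsg.Agent.Lib.Helper78.D3RL1
import Cfsg.Agent.Lib.Helper79.D3RL2
import Cfsg.Agent.Lib.Helper91.D3C2AB
import Cfsg.Agent.Lib.Helper37.D3NC1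
import Cfsg.Agent.Lib.Helper18.D3CA
import Cfsg.Agent.Lib.Helper29.D3INV

/-! # D3 hive (S2183, helper12): `³D₄(q)`, `q` even, has exactly two classes of involutions — assembly

Leaves by helper11 (TRS), helper13 (RL3), helper18 (CA), helper21 (H90), helper24 (SYL), helper29 (INV), helper33 (MEM),
helper34 (FIX), helper35 (CAB), helper36 (Sylow step), helper37 (NC1), helper51 (RS1), helper54 (NC2), helper55 (UNIQ, NF),
helper61 (CB), helper65 (CMA), helper69 (RS2), helper70 (C3AB), helper75 (NB), helper77 (SQRT), helper78 (RL1), helper79 (RL2),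
helper91 (C2AB). -/

set_option autoImplicit false
set_option linter.unusedSectionVars false

namespace Cfsg.Agent.Lib.Helper12.D3

open Cfsg Cfsg.Lie Cfsg.Agent.Lib.Helper36 Cfsg.Agent.Lib.Helper75.D4g

variable (K : Type*) [Field K] (φ : K →+* K)

theorem isPrimePow_q [Fintype K] [CharP K 2] {q : ℕ} (hK : Fintype.card K = q ^ 3) : IsPrimePow q := by
  obtain ⟨e, he, rfl⟩ := twd4syl_q_pow q hK
  exact Nat.prime_two.isPrimePow.pow he.ne'

/-! ## Assembly (helper12) -/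

section asm

variable {K} {φ}

theorem xg_zero (r : ℕ) : xg K r 0 = 1 := xGL_zero chevD4 hD4 K r

theorem xa_zero : xa K φ 0 = 1 := by unfold xa; simp [xg_zero]
theorem xab_zero : xab K φ 0 = 1 := by unfold xab; simp [xg_zero]
theorem x2ab_zero : x2ab K φ 0 = 1 := by unfold x2ab; simp [xg_zero]
theorem W_eq_V (t S c d e : K) : W K φ 0 t S c d e = V K φ t S c d e := by unfold W; rw [xa_zero, one_mul]
theorem V_eq_T (c d e : K) : V K φ 0 0 c d e = T K φ c d e := by unfold V; rw [xg_zero, xab_zero, one_mul, one_mul]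
theorem W_eq_T (c d e : K) : W K φ 0 0 0 c d e = T K φ c d e := by rw [W_eq_V, V_eq_T]
theorem T_eq_x2ab (c : K) : T K φ c 0 0 = x2ab K φ c := by unfold T; rw [xg_zero, xg_zero, mul_one, mul_one]
theorem T_eq_22 (d : K) : T K φ 0 d 0 = xg K 22 d := by unfold T; rw [xg_zero, x2ab_zero, mul_one, one_mul]
theorem T_eq_23 (e : K) : T K φ 0 0 e = xg K 23 e := by unfold T; rw [xg_zero, x2ab_zero, one_mul, one_mul]
theorem T_zero : T K φ 0 0 0 = 1 := by rw [T_eq_23, xg_zero]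
theorem V_eq_xb (t : K) : V K φ t 0 0 0 0 = xg K 14 t := by unfold V; rw [xab_zero, T_zero, mul_one, mul_one]
theorem V_eq_xab (S : K) : V K φ 0 S 0 0 0 = xab K φ S := by unfold V; rw [xg_zero, T_zero, mul_one, one_mul]
theorem W_eq_xa (s : K) : W K φ s 0 0 0 0 0 = xa K φ s := by unfold W; rw [V_eq_T, T_zero, mul_one]

theorem Cj.refl' (q : ℕ) (g : GL chevD4.Idx K) : Cj K q g g := ⟨1, one_mem _, by group⟩

theorem Cj.trans' {q : ℕ} {a b c : GL chevD4.Idx K} (h1 : Cj K q a b) (h2 : Cj K q b c) : Cj K q a c := by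
  obtain ⟨h, hh, rfl⟩ := h1
  obtain ⟨k, hk, rfl⟩ := h2
  exact ⟨k * h, mul_mem hk hh, by group⟩

theorem Cj.of_conj {q : ℕ} {a b : GL chevD4.Idx K} (g : GL chevD4.Idx K) (hg : g ∈ twistedD4 K q)
    (e : g * a * g⁻¹ = b) : Cj K q a b := ⟨g, hg, e⟩

theorem conj_sq {a : GL chevD4.Idx K} (g : GL chevD4.Idx K) (ha : a * a = 1) : (g * a * g⁻¹) * (g * a * g⁻¹) = 1 := by
  calc (g * a * g⁻¹) * (g * a * g⁻¹) = g * (a * a) * g⁻¹ := by group
    _ = 1 := by rw [ha]; group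

theorem conj_memG {q : ℕ} {a g : GL chevD4.Idx K} (hg : g ∈ twistedD4 K q) (ha : a ∈ twistedD4 K q) :
    g * a * g⁻¹ ∈ twistedD4 K q := mul_mem (mul_mem hg ha) (inv_mem hg)

/-- the two targets -/
def Good (φ : K →+* K) (q : ℕ) (u : GL chevD4.Idx K) : Prop := Cj K q u (xa K φ 1) ∨ Cj K q u (xg K 14 1)

theorem Good.of_cj {q : ℕ} {a b : GL chevD4.Idx K} (h : Cj K q a b) (hb : Good φ q b) : Good φ q a := by
  rcases hb with hb | hb
  · exact Or.inl (h.trans' hb)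
  · exact Or.inr (h.trans' hb)

variable [Fintype K] [CharP K 2] {q : ℕ} (hK : Fintype.card K = q ^ 3) (hφ : ∀ t : K, φ t = t ^ q)

include hK hφ

theorem frob3 (x : K) : φ (φ (φ x)) = x := by
  rw [hφ, hφ, hφ, ← pow_mul, ← pow_mul, show q * (q * q) = q ^ 3 by ring, ← hK]
  exact FiniteField.pow_card x

theorem nm_fix (x : K) : φ (nm K φ x) = nm K φ x := by
  unfold nm
  rw [map_mul, map_mul, frob3 hK hφ x]
  ring

omit hK hφ in
theorem nm_ne_zero {x : K} (hx : x ≠ 0) : nm K φ x ≠ 0 := by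
  unfold nm
  have h1 : φ x ≠ 0 := (map_ne_zero φ).2 hx
  have h2 : φ (φ x) ≠ 0 := (map_ne_zero φ).2 h1
  exact mul_ne_zero (mul_ne_zero hx h1) h2

theorem xa_memG (s : K) : xa K φ s ∈ twistedD4 K q := by
  have := W_mem K φ hK hφ s 0 0 0 0 0 (map_zero φ) (map_zero φ) (map_zero φ)
  rwa [W_eq_xa] at this

theorem xb_memG (t : K) (ht : φ t = t) : xg K 14 t ∈ twistedD4 K q := by
  have := W_mem K φ hK hφ 0 t 0 0 0 0 ht (map_zero φ) (map_zero φ)
  rwa [W_eq_V, V_eq_xb] at this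

theorem xab_memG (S : K) : xab K φ S ∈ twistedD4 K q := by
  have := W_mem K φ hK hφ 0 0 S 0 0 0 (map_zero φ) (map_zero φ) (map_zero φ)
  rwa [W_eq_V, V_eq_xab] at this

theorem x2ab_memG (c : K) : x2ab K φ c ∈ twistedD4 K q := by
  have := W_mem K φ hK hφ 0 0 0 c 0 0 (map_zero φ) (map_zero φ) (map_zero φ)
  rwa [W_eq_T, T_eq_x2ab] at this

theorem x22_memG (d : K) (hd : φ d = d) : xg K 22 d ∈ twistedD4 K q := by
  have := W_mem K φ hK hφ 0 0 0 0 d 0 (map_zero φ) hd (map_zero φ)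
  rwa [W_eq_T, T_eq_22] at this

/-- consequences of `u * u = 1` for `u = W s t S c d e` -/
theorem sqinfo (s t S c d e : K) (ht : φ t = t) (h : W K φ s t S c d e * W K φ s t S c d e = 1) :
    S + s * t = S ∧ c + φ S * s + S * φ s + s * φ s * t = c ∧
      d + (φ (φ S) * s * φ s + φ S * s * φ (φ s) + S * φ s * φ (φ s)) + tr3 K φ c s + nm K φ s * t = d := by
  have h3 := frob3 hK hφ
  obtain ⟨e', h1⟩ := conj_a K φ h3 s t ht S c d e
  obtain ⟨e'', h2⟩ := V_inv K φ h3 t S c d e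
  have hinv : (xa K φ s)⁻¹ = xa K φ s := inv_eq_of_mul_eq_one_right (xa_mul_self K φ s)
  have h4 : xa K φ s * V K φ t S c d e * (xa K φ s)⁻¹ = (V K φ t S c d e)⁻¹ := by
    rw [hinv, eq_inv_iff_mul_eq_one]
    unfold W at h
    calc xa K φ s * V K φ t S c d e * xa K φ s * V K φ t S c d e
        = xa K φ s * V K φ t S c d e * (xa K φ s * V K φ t S c d e) := by group
      _ = 1 := h
  rw [h1, h2, ← W_eq_V, ← W_eq_V] at h4
  obtain ⟨-, -, e1, e2, e3, -⟩ := W_inj K φ _ _ _ _ _ _ _ _ _ _ _ _ h4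
  exact ⟨e1, e2, e3⟩

omit hK hφ in
theorem T_ne_one {c d e : K} (h : c ≠ 0 ∨ d ≠ 0 ∨ e ≠ 0) : T K φ c d e ≠ 1 := by
  intro h1
  rw [← W_eq_T, ← T_zero (K := K) (φ := φ), ← W_eq_T] at h1
  obtain ⟨-, -, -, e1, e2, e3⟩ := W_inj K φ _ _ _ _ _ _ _ _ _ _ _ _ h1
  rcases h with h | h | h
  · exact h e1
  · exact h e2
  · exact h e3

/-- the case `s = t = S = 0` -/
theorem caseT (c d e : K) (hd : φ d = d) (he : φ e = e) (hne : T K φ c d e ≠ 1) : Good φ q (T K φ c d e) := by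
  have h3 := frob3 hK hφ
  by_cases hc : c = 0
  · subst hc
    by_cases hd0 : d = 0
    · subst hd0
      have he0 : e ≠ 0 := by
        rintro rfl
        exact hne T_zero
      rw [T_eq_23]
      exact Or.inr (rl3 K φ hK hφ e he0 he)
    · -- kill `e` with `x_b(e/d)`
      have hτ : φ (e / d) = e / d := by rw [map_div₀, hd, he]
      have h1 := conj_b K φ h3 (e / d) hτ 0 0 0 d e
      have e1 : e + d * (e / d) + (φ (φ (0:K)) * 0 * φ 0 + φ (0:K) * 0 * φ (φ 0) + 0 * φ (0:K) * φ (φ 0)) * (e / d) = 0 := by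
        rw [mul_div_cancel₀ _ hd0]
        simp [CharTwo.add_self_eq_zero]
      have e2 : d + nm K φ 0 * (e / d) = d := by simp [nm]
      have e3 : (0 : K) + 0 * φ 0 * (e / d) = 0 := by simp
      have e4 : (0 : K) + 0 * (e / d) = 0 := by simp
      rw [e1, e2, e3, e4, W_eq_T, W_eq_T, T_eq_22] at h1
      exact Good.of_cj (Cj.of_conj _ (xb_memG hK hφ _ hτ) h1) (Or.inr (rl2 K φ hK hφ d hd0 hd))
  · -- `c ≠ 0`
    obtain ⟨σ, hσ⟩ := (tr3_solve K φ h3 c d hc hd).1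
    obtain ⟨e', h1⟩ := conj_a K φ h3 σ 0 (map_zero φ) 0 c d e
    have e1 : (0 : K) + σ * 0 = 0 := by simp
    have e2 : c + φ 0 * σ + 0 * φ σ + σ * φ σ * 0 = c := by simp
    have e3 : d + (φ (φ (0:K)) * σ * φ σ + φ (0:K) * σ * φ (φ σ) + 0 * φ σ * φ (φ σ)) + tr3 K φ c σ + nm K φ σ * 0 = 0 := by
      rw [hσ]
      simp [CharTwo.add_self_eq_zero]
    rw [e1, e2, e3, V_eq_T, V_eq_T] at h1
    have hm1 : T K φ c 0 e' ∈ twistedD4 K q := by
      rw [← h1]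
      refine conj_memG (xa_memG hK hφ σ) ?_
      have := W_mem K φ hK hφ 0 0 0 c d e (map_zero φ) hd he
      rwa [W_eq_T] at this
    have he' : φ e' = e' := by
      rw [← W_eq_T] at hm1
      exact (W_fix K φ hK hφ _ _ _ _ _ _ hm1).2.2
    obtain ⟨σ₂, hσ₂⟩ := (tr3_solve K φ h3 c e' hc he').1
    have h2 := conj_ab K φ h3 σ₂ 0 c 0 e'
    have f1 : c + φ 0 * σ₂ + 0 * φ σ₂ = c := by simp
    have f2 : (0 : K) + (φ 0 * φ (φ 0) * σ₂ + 0 * φ (φ 0) * φ σ₂ + 0 * φ 0 * φ (φ σ₂)) = 0 := by simp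
    have f3 : e' + tr3 K φ c σ₂ + (φ (φ 0) * σ₂ * φ σ₂ + φ 0 * σ₂ * φ (φ σ₂) + 0 * φ σ₂ * φ (φ σ₂)) = 0 := by
      rw [hσ₂]
      simp [CharTwo.add_self_eq_zero]
    rw [f1, f2, f3, W_eq_T, W_eq_T, T_eq_x2ab] at h2
    refine Good.of_cj (Cj.of_conj _ (xa_memG hK hφ σ) h1) ?_
    refine Good.of_cj (Cj.of_conj _ (xab_memG hK hφ σ₂) h2) ?_
    exact Or.inl (rs2 K φ hK hφ c hc)


/-- the case `s ≠ 0` -/
theorem caseA (s S c d e : K) (hs : s ≠ 0) (hm : W K φ s 0 S c d e ∈ twistedD4 K q)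
    (hsq : W K φ s 0 S c d e * W K φ s 0 S c d e = 1) : Cj K q (W K φ s 0 S c d e) (xa K φ 1) := by
  have h3 := frob3 hK hφ
  have hφs : φ s ≠ 0 := (map_ne_zero φ).2 hs
  -- `S = τ s` with `τ` fixed
  obtain ⟨-, hA1, -⟩ := sqinfo hK hφ s 0 S c d e (map_zero φ) hsq
  have hA1' : φ S * s = S * φ s := by
    have : φ S * s + S * φ s = 0 := by
      have h := hA1
      rw [mul_zero, add_zero, add_assoc, add_eq_left] at h
      exact h
    exact CharTwo.add_eq_zero.1 this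
  have hτ : φ (S / s) = S / s := by
    rw [map_div₀, div_eq_div_iff hφs hs, hA1']
  have h1 := conj_b K φ h3 (S / s) hτ s S c d e
  have e1 : S + s * (S / s) = 0 := by
    rw [mul_div_cancel₀ _ hs]
    exact CharTwo.add_self_eq_zero S
  rw [e1] at h1
  generalize c + s * φ s * (S / s) = c₁ at h1
  generalize d + nm K φ s * (S / s) = d₁ at h1
  generalize e + d * (S / s) + (φ (φ S) * s * φ s + φ S * s * φ (φ s) + S * φ s * φ (φ s)) * (S / s) = e₁ at h1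
  have cj1 : Cj K q (W K φ s 0 S c d e) (W K φ s 0 0 c₁ d₁ e₁) := Cj.of_conj _ (xb_memG hK hφ _ hτ) h1
  have hm1 : W K φ s 0 0 c₁ d₁ e₁ ∈ twistedD4 K q := by
    rw [← h1]; exact conj_memG (xb_memG hK hφ _ hτ) hm
  have hsq1 : W K φ s 0 0 c₁ d₁ e₁ * W K φ s 0 0 c₁ d₁ e₁ = 1 := by
    rw [← h1]; exact conj_sq _ hsq
  refine cj1.trans' ?_
  -- kill `c₁`
  obtain ⟨-, -, hB⟩ := sqinfo hK hφ s 0 0 c₁ d₁ e₁ (map_zero φ) hsq1
  have htr : tr3 K φ c₁ s = 0 := by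
    have h := hB
    simp only [map_zero, zero_mul, mul_zero, add_zero] at h
    exact add_eq_left.1 h
  obtain ⟨σ, hσ⟩ := h90 K φ h3 s c₁ hs htr
  have h2 := conj_ab K φ h3 σ s c₁ d₁ e₁
  rw [hσ] at h2
  generalize d₁ + (φ s * φ (φ s) * σ + s * φ (φ s) * φ σ + s * φ s * φ (φ σ)) = d₂ at h2
  generalize e₁ + tr3 K φ c₁ σ + (φ (φ s) * σ * φ σ + φ s * σ * φ (φ σ) + s * φ σ * φ (φ σ)) = e₂ at h2
  have cj2 : Cj K q (W K φ s 0 0 c₁ d₁ e₁) (W K φ s 0 0 0 d₂ e₂) := Cj.of_conj _ (xab_memG hK hφ σ) h2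
  have hm2 : W K φ s 0 0 0 d₂ e₂ ∈ twistedD4 K q := by
    rw [← h2]; exact conj_memG (xab_memG hK hφ σ) hm1
  refine cj2.trans' ?_
  obtain ⟨-, hd₂, he₂⟩ := W_fix K φ hK hφ _ _ _ _ _ _ hm2
  -- kill `e₂`
  obtain ⟨lam, hlam, hl2⟩ := sqrt_fix K φ e₂ (nm K φ s) he₂ (nm_fix hK hφ s) (nm_ne_zero hs)
  have h4 := conj_ab K φ h3 (lam * s) s 0 d₂ e₂
  have f1 : (0 : K) + φ s * (lam * s) + s * φ (lam * s) = 0 := by
    rw [map_mul, hlam, zero_add]
    have : φ s * (lam * s) = s * (lam * φ s) := by ring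
    rw [this]
    exact CharTwo.add_self_eq_zero _
  have f3 : e₂ + tr3 K φ 0 (lam * s) +
      (φ (φ s) * (lam * s) * φ (lam * s) + φ s * (lam * s) * φ (φ (lam * s)) + s * φ (lam * s) * φ (φ (lam * s))) = 0 := by
    have t0 : tr3 K φ 0 (lam * s) = 0 := by simp [tr3]
    rw [t0, add_zero]
    simp only [map_mul, hlam]
    rw [← hl2]
    unfold nm
    have : φ (φ s) * (lam * s) * (lam * φ s) + φ s * (lam * s) * (lam * φ (φ s)) + s * (lam * φ s) * (lam * φ (φ s)) =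
        lam ^ 2 * (s * φ s * φ (φ s)) + (lam ^ 2 * (s * φ s * φ (φ s)) + lam ^ 2 * (s * φ s * φ (φ s))) := by ring
    rw [this, CharTwo.add_self_eq_zero, add_zero]
    exact CharTwo.add_self_eq_zero _
  rw [f1, f3] at h4
  generalize d₂ + (φ s * φ (φ s) * (lam * s) + s * φ (φ s) * φ (lam * s) + s * φ s * φ (φ (lam * s))) = d₃ at h4
  have cj3 : Cj K q (W K φ s 0 0 0 d₂ e₂) (W K φ s 0 0 0 d₃ 0) := Cj.of_conj _ (xab_memG hK hφ _) h4
  have hm3 : W K φ s 0 0 0 d₃ 0 ∈ twistedD4 K q := by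
    rw [← h4]; exact conj_memG (xab_memG hK hφ _) hm2
  refine cj3.trans' ?_
  obtain ⟨-, hd₃, -⟩ := W_fix K φ hK hφ _ _ _ _ _ _ hm3
  -- kill `d₃`
  obtain ⟨ρ, hρ⟩ := (tr3_solve K φ h3 s d₃ hs hd₃).2
  have h5 := conj_2ab K φ h3 ρ s 0 d₃ 0
  rw [hρ, CharTwo.add_self_eq_zero, W_eq_xa] at h5
  exact (Cj.of_conj _ (x2ab_memG hK hφ ρ) h5).trans' (rs1 K φ hK hφ s hs)

/-- the case `s = 0`, `t ≠ 0` -/
theorem caseB (t S c d e : K) (ht : t ≠ 0) (hft : φ t = t) (hm : V K φ t S c d e ∈ twistedD4 K q)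
    (hsq : V K φ t S c d e * V K φ t S c d e = 1) : Good φ q (V K φ t S c d e) := by
  have h3 := frob3 hK hφ
  obtain ⟨e₁, h1⟩ := conj_a K φ h3 (S / t) t hft S c d e
  have e1 : S + S / t * t = 0 := by
    rw [div_mul_cancel₀ _ ht]
    exact CharTwo.add_self_eq_zero S
  rw [e1] at h1
  generalize c + φ S * (S / t) + S * φ (S / t) + S / t * φ (S / t) * t = c₁ at h1
  generalize d + (φ (φ S) * (S / t) * φ (S / t) + φ S * (S / t) * φ (φ (S / t)) + S * φ (S / t) * φ (φ (S / t))) +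
    tr3 K φ c (S / t) + nm K φ (S / t) * t = d₁ at h1
  have cj1 : Cj K q (V K φ t S c d e) (V K φ t 0 c₁ d₁ e₁) := Cj.of_conj _ (xa_memG hK hφ _) h1
  have hm1 : V K φ t 0 c₁ d₁ e₁ ∈ twistedD4 K q := by
    rw [← h1]; exact conj_memG (xa_memG hK hφ _) hm
  have hsq1 : V K φ t 0 c₁ d₁ e₁ * V K φ t 0 c₁ d₁ e₁ = 1 := by
    rw [← h1]; exact conj_sq _ hsq
  refine Good.of_cj cj1 ?_
  obtain ⟨-, hd₁, he₁⟩ := W_fix K φ hK hφ 0 t 0 c₁ d₁ e₁ (by rw [W_eq_V]; exact hm1)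
  -- `d₁ = 0`
  have hVT : V K φ t 0 c₁ d₁ e₁ = xg K 14 t * T K φ c₁ d₁ e₁ := by
    unfold V; rw [xab_zero, mul_one]
  have hxb : xg K 14 t * xg K 14 t = 1 := by
    unfold xg
    rw [← xGL_add, CharTwo.add_self_eq_zero, xGL_zero]
  have hd0 : d₁ = 0 := by
    have h5 := conj_b K φ h3 t hft 0 0 c₁ d₁ e₁
    have g1 : (0 : K) + 0 * t = 0 := by simp
    have g2 : c₁ + 0 * φ 0 * t = c₁ := by simp
    have g3 : d₁ + nm K φ 0 * t = d₁ := by simp [nm]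
    have g4 : e₁ + d₁ * t + (φ (φ (0:K)) * 0 * φ 0 + φ (0:K) * 0 * φ (φ 0) + 0 * φ (0:K) * φ (φ 0)) * t = e₁ + d₁ * t := by simp
    rw [g1, g2, g3, g4, W_eq_T, W_eq_T] at h5
    have hinv : (xg K 14 t)⁻¹ = xg K 14 t := inv_eq_of_mul_eq_one_right hxb
    have hTinv : (T K φ c₁ d₁ e₁)⁻¹ = T K φ c₁ d₁ e₁ := inv_eq_of_mul_eq_one_right (T_mul_self K φ c₁ d₁ e₁)
    have h6 : xg K 14 t * T K φ c₁ d₁ e₁ * (xg K 14 t)⁻¹ = T K φ c₁ d₁ e₁ := by
      rw [hinv]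
      rw [hVT] at hsq1
      calc xg K 14 t * T K φ c₁ d₁ e₁ * xg K 14 t
          = (xg K 14 t * T K φ c₁ d₁ e₁ * (xg K 14 t * T K φ c₁ d₁ e₁)) * (T K φ c₁ d₁ e₁)⁻¹ := by group
        _ = T K φ c₁ d₁ e₁ := by rw [hsq1, one_mul, hTinv]
    rw [h6, ← W_eq_T, ← W_eq_T] at h5
    obtain ⟨-, -, -, -, -, e6⟩ := W_inj K φ _ _ _ _ _ _ _ _ _ _ _ _ h5
    have : d₁ * t = 0 := by
      have h := e6.symm
      exact add_eq_left.1 h
    exact (mul_eq_zero.1 this).resolve_right ht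
  subst hd0
  -- kill `e₁`
  have hδ : φ (e₁ / t) = e₁ / t := by rw [map_div₀, he₁, hft]
  have h7 := conj_3ab K φ (e₁ / t) t c₁ e₁
  have e7 : e₁ + e₁ / t * t = 0 := by
    rw [div_mul_cancel₀ _ ht]
    exact CharTwo.add_self_eq_zero e₁
  rw [e7] at h7
  refine Good.of_cj (Cj.of_conj _ (x22_memG hK hφ _ hδ) h7) ?_
  by_cases hc : c₁ = 0
  · subst hc
    rw [V_eq_xb]
    exact Or.inr (rl1 K φ hK hφ t ht hft)
  · obtain ⟨lam, hlam, hl2⟩ := sqrt_fix K φ t (nm K φ c₁) hft (nm_fix hK hφ c₁) (nm_ne_zero hc)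
    have h8 := conj_ma K φ h3 lam t c₁ hlam
    rw [hl2, CharTwo.add_self_eq_zero, V_eq_T] at h8
    refine Good.of_cj (Cj.of_conj _ (xma_mem K φ hK hφ _) h8) ?_
    have hfix : φ (lam * nm K φ c₁) = lam * nm K φ c₁ := by rw [map_mul, hlam, nm_fix hK hφ]
    exact caseT hK hφ c₁ 0 (lam * nm K φ c₁) (map_zero φ) hfix (T_ne_one (Or.inl hc))

/-- every involution of `U ∩ ³D₄(q)` is conjugate to `x_a(1)` or `x_b(1)` -/
theorem pos_invol (u : GL chevD4.Idx K) (hu : u ∈ chevD4.posUnipotent K) (hG : u ∈ twistedD4 K q)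
    (h2 : u * u = 1) (h1 : u ≠ 1) : Good φ q u := by
  obtain ⟨s, t, S, c, d, e, ht, hd, he, rfl⟩ := nf K φ hK hφ u hu hG
  obtain ⟨hst, -, -⟩ := sqinfo hK hφ s t S c d e ht h2
  have hst' : s * t = 0 := add_eq_left.1 hst
  by_cases hs : s = 0
  · subst hs
    rw [W_eq_V] at h1 h2 hG ⊢
    by_cases ht0 : t = 0
    · subst ht0
      by_cases hS : S = 0
      · subst hS
        rw [V_eq_T] at h1 ⊢
        exact caseT hK hφ c d e hd he h1
      · obtain ⟨n, hn, hnb⟩ := conj_nb K φ hK hφ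
        have h5 := hnb S c d e
        refine Good.of_cj (Cj.of_conj n hn h5) (Or.inl ?_)
        refine caseA hK hφ S 0 c e d hS ?_ ?_
        · rw [← h5]; exact conj_memG hn hG
        · rw [← h5]; exact conj_sq _ h2
    · exact caseB hK hφ t S c d e ht0 ht hG h2
  · have ht0 : t = 0 := (mul_eq_zero.1 hst').resolve_left hs
    subst ht0
    exact Or.inl (caseA hK hφ s S c d e hs hG h2)


theorem tw_le_group : twistedD4 K q ≤ chevD4.group K := by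
  rw [twistedD4_eq K q φ hφ hK]
  exact twGroup_le_group chevD4 hD4 graphD4 orbsD4 fundD4 K φ chkFund_D4

/-- `x_a(1)` and `x_b(1)` are not conjugate, even in `D₄(K)` -/
theorem not_conj : ¬ ∃ g ∈ chevD4.group K, g * xa K φ 1 * g⁻¹ = xg K 14 1 := by
  rintro ⟨g, hg, hc⟩
  have hGle := tw_le_group hK hφ
  obtain ⟨h1, hh1, e1⟩ := rs2 K φ hK hφ 1 one_ne_zero
  obtain ⟨h2, hh2, e2⟩ := rl3 K φ hK hφ 1 one_ne_zero (map_one φ)
  have hk : h2⁻¹ * g * h1 ∈ chevD4.group K := mul_mem (mul_mem (inv_mem (hGle hh2)) hg) (hGle hh1)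
  have hkc : (h2⁻¹ * g * h1) * x2ab K φ 1 * (h2⁻¹ * g * h1)⁻¹ = xg K 23 1 := by
    have : (h2⁻¹ * g * h1) * x2ab K φ 1 * (h2⁻¹ * g * h1)⁻¹ =
        h2⁻¹ * (g * (h1 * x2ab K φ 1 * h1⁻¹) * g⁻¹) * h2 := by group
    rw [this, e1, hc, ← e2]
    group
  have hx : x2ab K φ 1 = T' K 1 1 1 0 0 := by
    unfold x2ab T'
    rw [map_one, map_one, xg_zero, xg_zero, mul_one, mul_one]
  have h45 : ∀ i < chevD4.rank, H45 chevD4 K i := fun i hi => Cfsg.Agent.S1045.result chevD4 hD4 i hi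
  obtain ⟨P, hB, hN, -⟩ := exists_bnPair chevD4 hD4 K h45
  obtain ⟨n, hn, hgn⟩ := Cfsg.Agent.S0308.result P ⟨h2⁻¹ * g * h1, hk⟩
  rw [hN, Subgroup.mem_subgroupOf] at hn
  rw [DoubleCoset.mem_doubleCoset] at hgn
  obtain ⟨x, hx', y, hy, e⟩ := hgn
  rw [SetLike.mem_coe, hB, Subgroup.mem_subgroupOf] at hx' hy
  have e' : h2⁻¹ * g * h1 = (x : GL chevD4.Idx K) * (n : GL chevD4.Idx K) * (y : GL chevD4.Idx K) :=
    congrArg Subtype.val e
  obtain ⟨k₁, k₂, k₃, hk1, hk2, hk3, d', e₁', hy1⟩ := borel_conj_T' K _ hy 1 1 1 0 0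
  obtain ⟨kk, hx1⟩ := borel_conj_23 K _ (inv_mem hx') 1
  rw [inv_inv] at hx1
  have hn1 : (n : GL chevD4.Idx K) * T' K (k₁ * 1) (k₂ * 1) (k₃ * 1) d' e₁' * (n : GL chevD4.Idx K)⁻¹ =
      xg K 23 (kk * 1) := by
    rw [← hy1, ← hx1, ← hkc, hx, e']
    group
  exact monomial_T' K _ hn _ _ _ _ _ _ (by rwa [mul_one]) (by rwa [mul_one]) hn1

omit hK hφ in
theorem W_zero6 : W K φ 0 0 0 0 0 0 = 1 := by rw [W_eq_xa, xa_zero]

omit hK hφ in
theorem xa_one_ne : xa K φ 1 ≠ 1 := by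
  intro h
  rw [← W_eq_xa, ← W_zero6 (K := K) (φ := φ)] at h
  exact one_ne_zero (W_inj K φ _ _ _ _ _ _ _ _ _ _ _ _ h).1

omit hK hφ in
theorem xb_one_ne (φ : K →+* K) : xg K 14 1 ≠ 1 := by
  intro h
  rw [← V_eq_xb (φ := φ), ← W_eq_V, ← W_zero6 (K := K) (φ := φ)] at h
  exact one_ne_zero (W_inj K φ _ _ _ _ _ _ _ _ _ _ _ _ h).2.1

end asm

/-- the statement of S2183 -/
theorem main_result {K : Type*} [Field K] [Fintype K] [CharP K 2] (q : ℕ) (hK : Fintype.card K = q ^ 3) :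
    (ConjClasses.mk '' {g : ↥(Cfsg.Lie.twistedD4 K q) | orderOf g = 2}).ncard = 2 := by
  classical
  have : Fact (Nat.Prime 2) := ⟨Nat.prime_two⟩
  have hq := isPrimePow_q K hK
  obtain ⟨φ, hφ⟩ := exists_frob hq 3 hK
  have hxa : xa K φ 1 ∈ twistedD4 K q := xa_memG hK hφ 1
  have hxb : xg K 14 1 ∈ twistedD4 K q := xb_memG hK hφ 1 (map_one φ)
  have hxb2 : xg K 14 (1 : K) * xg K 14 1 = 1 := by
    unfold xg
    rw [← xGL_add, CharTwo.add_self_eq_zero, xGL_zero]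
  have oa : orderOf (⟨xa K φ 1, hxa⟩ : ↥(twistedD4 K q)) = 2 := by
    apply orderOf_eq_prime
    · apply Subtype.ext
      rw [pow_two]
      exact xa_mul_self K φ 1
    · intro h
      exact xa_one_ne (congrArg Subtype.val h)
  have ob : orderOf (⟨xg K 14 1, hxb⟩ : ↥(twistedD4 K q)) = 2 := by
    apply orderOf_eq_prime
    · apply Subtype.ext
      rw [pow_two]
      exact hxb2
    · intro h
      exact xb_one_ne φ (congrArg Subtype.val h)
  have hne : ConjClasses.mk (⟨xa K φ 1, hxa⟩ : ↥(twistedD4 K q)) ≠ ConjClasses.mk ⟨xg K 14 1, hxb⟩ := by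
    intro h
    rw [ConjClasses.mk_eq_mk_iff_isConj, isConj_iff] at h
    obtain ⟨c, hc⟩ := h
    apply not_conj hK hφ
    refine ⟨c.1, tw_le_group hK hφ c.2, ?_⟩
    have := congrArg Subtype.val hc
    simpa using this
  have key : ConjClasses.mk '' {g : ↥(twistedD4 K q) | orderOf g = 2} =
      {ConjClasses.mk (⟨xa K φ 1, hxa⟩ : ↥(twistedD4 K q)), ConjClasses.mk ⟨xg K 14 1, hxb⟩} := by
    ext C
    constructor
    · rintro ⟨g, hg, rfl⟩
      have hg2 : orderOf g = 2 := hg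
      have hgg : (g : GL chevD4.Idx K) * (g : GL chevD4.Idx K) = 1 := by
        have h : g ^ 2 = 1 := by rw [← hg2]; exact pow_orderOf_eq_one g
        rw [pow_two] at h
        have := congrArg Subtype.val h
        simpa using this
      have hg1 : (g : GL chevD4.Idx K) ≠ 1 := by
        intro h
        have : g = 1 := Subtype.ext h
        rw [this, orderOf_one] at hg2
        omega
      have ho : orderOf (g : GL chevD4.Idx K) = 2 := by
        rw [Subgroup.orderOf_coe]; exact hg2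
      obtain ⟨h, hh, hu⟩ := syl_conj K hK (g : GL chevD4.Idx K) g.2 ho
      have huG : h * (g : GL chevD4.Idx K) * h⁻¹ ∈ twistedD4 K q := conj_memG hh g.2
      have hu1 : h * (g : GL chevD4.Idx K) * h⁻¹ ≠ 1 := by
        intro e
        apply hg1
        calc (g : GL chevD4.Idx K) = h⁻¹ * (h * (g : GL chevD4.Idx K) * h⁻¹) * h := by group
          _ = 1 := by rw [e]; group
      have hconj : ∀ (y : GL chevD4.Idx K) (hy : y ∈ twistedD4 K q),
          Cj K q (h * (g : GL chevD4.Idx K) * h⁻¹) y → ConjClasses.mk g = ConjClasses.mk ⟨y, hy⟩ := by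
        rintro y hy ⟨k, hk, e⟩
        rw [ConjClasses.mk_eq_mk_iff_isConj, isConj_iff]
        refine ⟨⟨k * h, mul_mem hk hh⟩, ?_⟩
        apply Subtype.ext
        simp only [Subgroup.coe_mul, Subgroup.coe_inv]
        rw [← e]
        group
      rcases pos_invol hK hφ _ hu huG (conj_sq h hgg) hu1 with hc | hc
      · exact Or.inl (hconj _ hxa hc)
      · exact Or.inr (hconj _ hxb hc)
    · rintro (rfl | rfl)
      · exact ⟨_, oa, rfl⟩
      · exact ⟨_, ob, rfl⟩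
  rw [key, Set.ncard_pair hne]


end Cfsg.Agent.Lib.Helper12.D3
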