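import Mathlib

/-!
# Transitive groups of degree `p + 1` and order `(p+1) p d`, `d < p`: set-up (helper12)

The Sylow `p`-subgroup `P` fixes exactly one point `a`, is regular on the other points and is
normal in the stabiliser of `a`.
-/

set_option autoImplicit false
set_option linter.style.haveILetI false

namespace Cfsg.Agent.Lib.Helper12.DegP1

open MulAction

/-- a subgroup of order `p` in a group of order `p d`, `d < p`, is normal -/
theorem normal_of_card_lt {H : Type*} [Group H] [Finite H] {p d : ℕ} [hp : Fact p.Prime]
    (hH : Nat.card H = p * d) (hd : d < p) (Q : Subgroup H) (hQ : Nat.card Q = p) : Q.Normal := by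
  have hd0 : d ≠ 0 := by
    rintro rfl
    have := Nat.card_pos (α := H)
    omega
  have hpd : ¬ p ∣ d := fun h => by
    have := Nat.le_of_dvd (Nat.pos_of_ne_zero hd0) h
    omega
  have hfac : (p * d).factorization p = 1 := by
    rw [Nat.factorization_mul hp.out.ne_zero hd0]
    simp [hp.out.factorization_self, Nat.factorization_eq_zero_of_not_dvd hpd]
  let S : Sylow p H := Sylow.ofCard Q (by rw [hQ, hH, hfac, pow_one])
  have hS : (S : Subgroup H) = Q := Sylow.coe_ofCard Q _
  have h1 := card_sylow_modEq_one p H
  have h2 := S.card_dvd_index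
  have hidx : (S : Subgroup H).index = d := by
    have := (S : Subgroup H).card_mul_index
    rw [hS, hQ, hH] at this
    rw [hS]
    exact Nat.eq_of_mul_eq_mul_left hp.out.pos this
  rw [hidx] at h2
  have hle := Nat.le_of_dvd (Nat.pos_of_ne_zero hd0) h2
  have hn : Nat.card (Sylow p H) = 1 := by
    have h3 : Nat.card (Sylow p H) % p = 1 % p := h1
    rw [Nat.mod_eq_of_lt (lt_of_le_of_lt hle hd), Nat.mod_eq_of_lt hp.out.one_lt] at h3
    exact h3
  haveI : Subsingleton (Sylow p H) := (Nat.card_eq_one_iff_unique.mp hn).1
  rw [← hS]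
  exact Sylow.normal_of_subsingleton S

variable {α : Type*} [Fintype α] [DecidableEq α]

/-- the Sylow `p`-subgroup of a transitive group of degree `p+1` and order `(p+1) p d`. -/
theorem exists_P {p d : ℕ} (hp : p.Prime) (hα : Fintype.card α = p + 1)
    (G : Subgroup (Equiv.Perm α)) [MulAction.IsPretransitive G α]
    (hG : Nat.card G = (p + 1) * p * d) (hd : d < p) :
    ∃ (a : α) (P : Subgroup G), Nat.card P = p ∧ P ≤ stabilizer G a ∧
      (∀ b, b ≠ a → ∀ c, c ≠ a → ∃ u ∈ P, u • b = c) ∧
      Nat.card (stabilizer G a) = p * d ∧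
      (∀ g ∈ stabilizer G a, ∀ u ∈ P, g * u * g⁻¹ ∈ P) ∧
      (∀ u v : G, u ∈ P → v ∈ P → u * v = v * u) := by
  classical
  haveI : Fact p.Prime := ⟨hp⟩
  have hd0 : d ≠ 0 := by
    rintro rfl
    have := Nat.card_pos (α := G)
    omega
  obtain ⟨x, hx⟩ := exists_prime_orderOf_dvd_card' (G := G) p
    (by rw [hG]; exact Dvd.dvd.mul_right (Dvd.intro_left _ rfl) _)
  obtain ⟨P, hPdef⟩ : ∃ P : Subgroup G, P = Subgroup.zpowers x := ⟨_, rfl⟩
  have hPcard : Nat.card P = p := by rw [hPdef, Nat.card_zpowers, hx]
  have hPp : IsPGroup p P := IsPGroup.of_card (n := 1) (by rw [hPcard, pow_one])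
  have hcomm : ∀ u v : G, u ∈ P → v ∈ P → u * v = v * u := by
    intro u v hu hv
    rw [hPdef] at hu hv
    obtain ⟨i, rfl⟩ := hu
    obtain ⟨j, rfl⟩ := hv
    exact (Commute.zpow_zpow_self x i j).eq
  -- fixed points
  have hmod := hPp.card_modEq_card_fixedPoints α
  rw [Nat.card_eq_fintype_card, hα] at hmod
  obtain ⟨k, hk⟩ : ∃ k, k = Nat.card (fixedPoints P α) := ⟨_, rfl⟩
  rw [← hk] at hmod
  have hkle : k ≤ p + 1 := by
    rw [hk, ← hα, ← Nat.card_eq_fintype_card]
    exact Nat.card_le_card_of_injective _ Subtype.val_injective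
  have hk1 : k % p = 1 := by
    have h3 : (p + 1) % p = k % p := hmod
    rw [Nat.add_mod_left, Nat.mod_eq_of_lt hp.one_lt] at h3
    exact h3.symm
  have hp2 := hp.two_le
  have hkcases : k = 1 ∨ k = p + 1 := by
    rcases Nat.lt_or_ge k p with h | h
    · rw [Nat.mod_eq_of_lt h] at hk1
      exact Or.inl hk1
    · rcases Nat.eq_or_lt_of_le h with h' | h'
      · rw [← h', Nat.mod_self] at hk1
        omega
      · right; omega
  have hk1' : k = 1 := by
    rcases hkcases with h | h
    · exact h
    · exfalso
      -- all points fixed, so x = 1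
      have hall : ∀ b : α, b ∈ fixedPoints P α := by
        have hfin : (fixedPoints P α).toFinset = Finset.univ := by
          apply Finset.eq_univ_of_card
          rw [Set.toFinset_card, ← Nat.card_eq_fintype_card, ← hk, h, hα]
        intro b
        have := Finset.mem_univ b
        rw [← hfin, Set.mem_toFinset] at this
        exact this
      have hx1 : x = 1 := by
        apply Subtype.ext
        apply Equiv.ext
        intro b
        have := hall b ⟨x, by rw [hPdef]; exact Subgroup.mem_zpowers x⟩
        exact this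
      rw [hx1, orderOf_one] at hx
      omega
  rw [hk] at hk1'
  obtain ⟨hsub, hne⟩ := Nat.card_eq_one_iff_unique.mp hk1'
  obtain ⟨⟨a, ha⟩⟩ := hne
  have hPa : P ≤ stabilizer G a := by
    intro u hu
    rw [mem_stabilizer_iff]
    exact ha ⟨u, hu⟩
  have hfixuniq : ∀ b, b ∈ fixedPoints P α → b = a := by
    intro b hb
    have := hsub.elim ⟨b, hb⟩ ⟨a, ha⟩
    exact congrArg Subtype.val this
  -- transitivity on the complement
  have htrans : ∀ b, b ≠ a → ∀ c, c ≠ a → ∃ u ∈ P, u • b = c := by
    intro b hb c hc
    haveI : Finite P := Nat.finite_of_card_ne_zero (by rw [hPcard]; exact hp.ne_zero)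
    -- the orbit of b under P
    have horb := MulAction.card_orbit_mul_card_stabilizer_eq_card_group P b
    have hdvd : Nat.card (stabilizer P b) ∣ p := by
      rw [← hPcard]
      exact Subgroup.card_subgroup_dvd_card _
    rcases (Nat.dvd_prime hp).mp hdvd with h1 | h1
    · -- orbit has size p
      have hcardorb : Fintype.card (orbit P b) = p := by
        have h4 : Fintype.card (stabilizer P b) = 1 := by
          rw [← Nat.card_eq_fintype_card]; exact h1
        rw [h4, mul_one, ← Nat.card_eq_fintype_card (α := P), hPcard] at horb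
        exact horb
      have hsubset : (orbit P b).toFinset ⊆ Finset.univ.erase a := by
        intro y hy
        rw [Set.mem_toFinset] at hy
        rw [Finset.mem_erase]
        refine ⟨?_, Finset.mem_univ _⟩
        rintro rfl
        obtain ⟨u, hu⟩ := hy
        have h5 : u • b = y := hu
        have h6 : u • y = y := ha u
        have : b = y := by
          have h7 : u • b = u • y := by rw [h5, h6]
          exact smul_left_cancel u h7
        exact hb this
      have heq : (orbit P b).toFinset = Finset.univ.erase a := by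
        apply Finset.eq_of_subset_of_card_le hsubset
        rw [Finset.card_erase_of_mem (Finset.mem_univ _), Finset.card_univ, hα, Set.toFinset_card,
          hcardorb]
        omega
      have hcmem : c ∈ (orbit P b).toFinset := by
        rw [heq, Finset.mem_erase]
        exact ⟨hc, Finset.mem_univ _⟩
      rw [Set.mem_toFinset] at hcmem
      obtain ⟨u, hu⟩ := hcmem
      exact ⟨u.1, u.2, hu⟩
    · -- b is fixed
      exfalso
      apply hb
      apply hfixuniq
      intro u
      have htop : stabilizer P b = ⊤ := by
        apply Subgroup.eq_top_of_card_eq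
        rw [h1, hPcard]
      have : u ∈ stabilizer P b := by rw [htop]; trivial
      exact this
  -- the order of the stabiliser
  have hGa : Nat.card (stabilizer G a) = p * d := by
    have h1 := (stabilizer G a).card_mul_index
    rw [MulAction.index_stabilizer_of_transitive, Nat.card_eq_fintype_card (α := α), hα, hG] at h1
    have h2 : Nat.card (stabilizer G a) * (p + 1) = (p * d) * (p + 1) := by
      rw [h1]; ring
    exact Nat.eq_of_mul_eq_mul_right (by omega) h2
  -- normality
  have hnorm : ∀ g ∈ stabilizer G a, ∀ u ∈ P, g * u * g⁻¹ ∈ P := by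
    intro g hg u hu
    have hQcard : Nat.card (P.subgroupOf (stabilizer G a)) = p := by
      rw [Nat.card_congr (Subgroup.subgroupOfEquivOfLe hPa).toEquiv, hPcard]
    have hN := normal_of_card_lt hGa hd (P.subgroupOf (stabilizer G a)) hQcard
    have := hN.conj_mem ⟨u, hPa hu⟩ (by rw [Subgroup.mem_subgroupOf]; exact hu) ⟨g, hg⟩
    rw [Subgroup.mem_subgroupOf] at this
    exact this
  exact ⟨a, P, hPcard, hPa, htrans, hGa, hnorm, hcomm⟩

end Cfsg.Agent.Lib.Helper12.DegP1
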