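import Mathlib
import Cfsg.Agent.Lib.Helper12.RegLin

/-!
# Linear groups regular on non-zero vectors with an irreducible abelian normal subgroup are
semilinear of dimension one (helper12)
-/

set_option autoImplicit false

namespace Cfsg.Agent.Lib.Helper12.RegSolv

/-- a finite commutative ring without zero divisors is isomorphic to a field living in `Type` -/
theorem exists_field_equiv {R : Type*} [Ring R] [Finite R] [Nontrivial R]
    (hcomm : ∀ a b : R, a * b = b * a) (hnzd : ∀ a b : R, a * b = 0 → a = 0 ∨ b = 0) :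
    ∃ (F : Type) (_ : Field F) (_ : Fintype F), Nonempty (R ≃+* F) := by
  classical
  letI cr : CommRing R := { (inferInstance : Ring R) with mul_comm := hcomm }
  haveI : NoZeroDivisors R := ⟨fun {a b} h => hnzd a b h⟩
  haveI : IsDomain R := NoZeroDivisors.to_isDomain R
  letI : Fintype R := Fintype.ofFinite R
  letI fld : Field R := Fintype.fieldOfDomain R
  obtain ⟨p, hchar⟩ := CharP.exists R
  obtain ⟨n, hp, hcard⟩ := FiniteField.card R p
  haveI : Fact p.Prime := ⟨hp⟩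
  letI : Fintype (GaloisField p n) := Fintype.ofFinite _
  have hcard2 : Fintype.card R = Fintype.card (GaloisField p n) := by
    rw [hcard, ← Nat.card_eq_fintype_card, GaloisField.card p n n.ne_zero]
  exact ⟨GaloisField p n, inferInstance, inferInstance,
    ⟨FiniteField.ringEquivOfCardEq hcard2⟩⟩

section partA
universe u
variable {p : ℕ} [Fact p.Prime] {V : Type u} [AddCommGroup V] [Module (ZMod p) V] [Finite V]
  [Nontrivial V]

/-- conjugation of an endomorphism by a linear equivalence -/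
def cjFun (h : V ≃ₗ[ZMod p] V) (φ : Module.End (ZMod p) V) : Module.End (ZMod p) V :=
  (h : V →ₗ[ZMod p] V) ∘ₗ φ ∘ₗ (h.symm : V →ₗ[ZMod p] V)

theorem cjFun_apply (h : V ≃ₗ[ZMod p] V) (φ : Module.End (ZMod p) V) (v : V) :
    cjFun h φ v = h (φ (h.symm v)) := rfl

theorem gammaL_of_irreducible (H : Subgroup (V ≃ₗ[ZMod p] V)) (A : Subgroup H) (hAn : A.Normal)
    (hAc : ∀ a ∈ A, ∀ b ∈ A, a * b = b * a)
    (hirr : ∀ W : Submodule (ZMod p) V,
      (∀ n ∈ A, ∀ v ∈ W, ((n : H) : V ≃ₗ[ZMod p] V) v ∈ W) → W = ⊥ ∨ W = ⊤) :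
    ∃ (F : Type) (_ : Field F) (_ : Fintype F) (e : V ≃+ F),
      ∀ h : H, ∃ (a : F) (σ : F ≃+* F), ∀ v : V,
        e ((h : V ≃ₗ[ZMod p] V) v) = a * σ (e v) := by
  classical
  have hfinE : Finite (Module.End (ZMod p) V) :=
    Finite.of_injective (fun f => (f : V → V)) DFunLike.coe_injective
  obtain ⟨v₀, hv₀⟩ := exists_ne (0 : V)
  let S : Set (Module.End (ZMod p) V) :=
    Set.range (fun n : A => (((n : H) : V ≃ₗ[ZMod p] V) : V →ₗ[ZMod p] V))
  let D : Subring (Module.End (ZMod p) V) := Subring.centralizer S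
  have hD : ∀ φ : Module.End (ZMod p) V, φ ∈ D ↔
      ∀ n ∈ A, ∀ v, ((n : H) : V ≃ₗ[ZMod p] V) (φ v) = φ (((n : H) : V ≃ₗ[ZMod p] V) v) := by
    intro φ
    rw [Subring.mem_centralizer_iff]
    constructor
    · intro h n hn v
      have := h _ ⟨⟨n, hn⟩, rfl⟩
      exact LinearMap.congr_fun this v
    · rintro h _ ⟨n, rfl⟩
      apply LinearMap.ext
      intro v
      exact h n.1 n.2 v
  have hinj : ∀ φ ∈ D, φ ≠ 0 → Function.Injective φ := by
    intro φ hφ hφ0
    rw [hD] at hφ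
    rw [← LinearMap.ker_eq_bot]
    have hinv : ∀ n ∈ A, ∀ v ∈ LinearMap.ker φ,
        ((n : H) : V ≃ₗ[ZMod p] V) v ∈ LinearMap.ker φ := by
      intro n hn v hv
      rw [LinearMap.mem_ker] at hv ⊢
      rw [← hφ n hn v, hv, map_zero]
    rcases hirr _ hinv with h | h
    · exact h
    · exact absurd (LinearMap.ker_eq_top.mp h) hφ0
  have hcommD := RegLin.comm_of_injective D hinj
  have hAD : ∀ a ∈ A, (((a : H) : V ≃ₗ[ZMod p] V) : V →ₗ[ZMod p] V) ∈ D := by
    intro a ha
    rw [hD]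
    intro n hn v
    have h1 := hAc n hn a ha
    have h2 := congrArg (fun x : H => (x : V ≃ₗ[ZMod p] V) v) h1
    simpa using h2
  -- the ring structure facts on `D`
  have hntD : Nontrivial D := by
    refine ⟨⟨0, 1, ?_⟩⟩
    intro h01
    have h1 : ((0 : D) : Module.End (ZMod p) V) v₀ = ((1 : D) : Module.End (ZMod p) V) v₀ := by
      rw [h01]
    simp at h1
    exact hv₀ h1.symm
  have hcomm' : ∀ a b : D, a * b = b * a := fun a b => Subtype.ext (hcommD a.1 a.2 b.1 b.2)
  have hnzd : ∀ a b : D, a * b = 0 → a = 0 ∨ b = 0 := by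
    intro a b hab
    by_cases ha : a = 0
    · exact Or.inl ha
    · right
      have ha' : (a : Module.End (ZMod p) V) ≠ 0 := fun h0 => ha (Subtype.ext h0)
      have hi := hinj a.1 a.2 ha'
      apply Subtype.ext
      apply LinearMap.ext
      intro v
      have h1 : ((a * b : D) : Module.End (ZMod p) V) v = 0 := by rw [hab]; rfl
      have h2 : (a : Module.End (ZMod p) V) ((b : Module.End (ZMod p) V) v) = 0 := h1
      exact hi (h2.trans (map_zero _).symm)
  obtain ⟨F, fF, ftF, ⟨ψ⟩⟩ := exists_field_equiv (R := D) hcomm' hnzd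
  -- evaluation at `v₀`
  let ev : D →+ V :=
    { toFun := fun φ => (φ : Module.End (ZMod p) V) v₀
      map_zero' := by simp
      map_add' := fun a b => by simp }
  have hev : ∀ φ : D, ev φ = (φ : Module.End (ZMod p) V) v₀ := fun _ => rfl
  have hevinj : Function.Injective ev := by
    rw [injective_iff_map_eq_zero]
    intro φ hφ
    by_contra hne
    have hne' : (φ : Module.End (ZMod p) V) ≠ 0 := fun h0 => hne (Subtype.ext h0)
    have hi := hinj φ.1 φ.2 hne'
    exact hv₀ (hi (hφ.trans (map_zero _).symm))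
  have hevsurj : Function.Surjective ev := by
    let W : Submodule (ZMod p) V := AddSubgroup.toZModSubmodule p ev.range
    have hWinv : ∀ n ∈ A, ∀ v ∈ W, ((n : H) : V ≃ₗ[ZMod p] V) v ∈ W := by
      rintro n hn _ ⟨φ, rfl⟩
      refine ⟨⟨_, hAD n hn⟩ * φ, ?_⟩
      rfl
    have hW0 : W ≠ ⊥ := by
      intro h
      have h1 : v₀ ∈ W := ⟨1, by simp [hev]⟩
      rw [h, Submodule.mem_bot] at h1
      exact hv₀ h1
    rcases hirr W hWinv with h | h
    · exact absurd h hW0
    · intro v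
      have hv : v ∈ W := by rw [h]; trivial
      exact hv
  let evE : D ≃+ V := AddEquiv.ofBijective ev ⟨hevinj, hevsurj⟩
  have hevE : ∀ φ : D, evE φ = (φ : Module.End (ZMod p) V) v₀ := fun _ => rfl
  let e : V ≃+ F := evE.symm.trans ψ.toAddEquiv
  refine ⟨F, fF, ftF, e, ?_⟩
  intro h
  -- conjugation by `h` on `D`
  have hcjmem : ∀ (g : H) (φ : Module.End (ZMod p) V), φ ∈ D →
      cjFun (g : V ≃ₗ[ZMod p] V) φ ∈ D := by
    intro g φ hφ
    rw [hD] at hφ ⊢
    intro n hn v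
    have hn' : g⁻¹ * n * g ∈ A := by
      have := hAn.conj_mem n hn g⁻¹
      simpa using this
    have key := hφ _ hn' ((g : V ≃ₗ[ZMod p] V).symm v)
    have e1 : ∀ w : V, ((g⁻¹ * n * g : H) : V ≃ₗ[ZMod p] V) w =
        (g : V ≃ₗ[ZMod p] V).symm (((n : H) : V ≃ₗ[ZMod p] V) ((g : V ≃ₗ[ZMod p] V) w)) := by
      intro w
      rfl
    rw [e1, e1] at key
    simp only [LinearEquiv.apply_symm_apply] at key
    rw [cjFun_apply, cjFun_apply, ← key, LinearEquiv.apply_symm_apply]
  let cj : D ≃+* D :=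
    { toFun := fun φ => ⟨cjFun (h : V ≃ₗ[ZMod p] V) φ, hcjmem h φ φ.2⟩
      invFun := fun φ => ⟨cjFun ((h⁻¹ : H) : V ≃ₗ[ZMod p] V) φ, hcjmem h⁻¹ φ φ.2⟩
      left_inv := fun φ => by
        apply Subtype.ext
        apply LinearMap.ext
        intro v
        show ((h⁻¹ : H) : V ≃ₗ[ZMod p] V) ((h : V ≃ₗ[ZMod p] V)
          ((φ : Module.End (ZMod p) V) ((h : V ≃ₗ[ZMod p] V).symm
            (((h⁻¹ : H) : V ≃ₗ[ZMod p] V).symm v)))) = (φ : Module.End (ZMod p) V) v
        have e1 : ∀ w : V, ((h⁻¹ : H) : V ≃ₗ[ZMod p] V) w = (h : V ≃ₗ[ZMod p] V).symm w :=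
          fun w => rfl
        have e2 : ∀ w : V, ((h⁻¹ : H) : V ≃ₗ[ZMod p] V).symm w = (h : V ≃ₗ[ZMod p] V) w :=
          fun w => rfl
        rw [e1, e2, LinearEquiv.symm_apply_apply, LinearEquiv.symm_apply_apply]
      right_inv := fun φ => by
        apply Subtype.ext
        apply LinearMap.ext
        intro v
        show (h : V ≃ₗ[ZMod p] V) (((h⁻¹ : H) : V ≃ₗ[ZMod p] V)
          ((φ : Module.End (ZMod p) V) (((h⁻¹ : H) : V ≃ₗ[ZMod p] V).symm
            ((h : V ≃ₗ[ZMod p] V).symm v)))) = (φ : Module.End (ZMod p) V) v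
        have e1 : ∀ w : V, ((h⁻¹ : H) : V ≃ₗ[ZMod p] V) w = (h : V ≃ₗ[ZMod p] V).symm w :=
          fun w => rfl
        have e2 : ∀ w : V, ((h⁻¹ : H) : V ≃ₗ[ZMod p] V).symm w = (h : V ≃ₗ[ZMod p] V) w :=
          fun w => rfl
        rw [e1, e2, LinearEquiv.apply_symm_apply, LinearEquiv.apply_symm_apply]
      map_mul' := fun φ₁ φ₂ => by
        apply Subtype.ext
        apply LinearMap.ext
        intro v
        show (h : V ≃ₗ[ZMod p] V) ((φ₁ : Module.End (ZMod p) V) ((φ₂ : Module.End (ZMod p) V)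
          ((h : V ≃ₗ[ZMod p] V).symm v))) =
          (h : V ≃ₗ[ZMod p] V) ((φ₁ : Module.End (ZMod p) V) ((h : V ≃ₗ[ZMod p] V).symm
            ((h : V ≃ₗ[ZMod p] V) ((φ₂ : Module.End (ZMod p) V)
              ((h : V ≃ₗ[ZMod p] V).symm v)))))
        rw [LinearEquiv.symm_apply_apply]
      map_add' := fun φ₁ φ₂ => by
        apply Subtype.ext
        apply LinearMap.ext
        intro v
        show (h : V ≃ₗ[ZMod p] V) (((φ₁ : Module.End (ZMod p) V) + (φ₂ : Module.End (ZMod p) V))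
          ((h : V ≃ₗ[ZMod p] V).symm v)) = _
        rw [LinearMap.add_apply, map_add]
        rfl }
  have hcj : ∀ (φ : D) (v : V), ((cj φ : D) : Module.End (ZMod p) V) v =
      (h : V ≃ₗ[ZMod p] V) ((φ : Module.End (ZMod p) V) ((h : V ≃ₗ[ZMod p] V).symm v)) :=
    fun _ _ => rfl
  let β : D := evE.symm ((h : V ≃ₗ[ZMod p] V) v₀)
  have hβ : (β : Module.End (ZMod p) V) v₀ = (h : V ≃ₗ[ZMod p] V) v₀ := by
    rw [← hevE]; exact evE.apply_symm_apply _
  refine ⟨ψ β, ψ.symm.trans (cj.trans ψ), ?_⟩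
  intro v
  let φ : D := evE.symm v
  have hφ : (φ : Module.End (ZMod p) V) v₀ = v := by
    rw [← hevE]; exact evE.apply_symm_apply _
  have h1 : evE.symm ((h : V ≃ₗ[ZMod p] V) v) = β * cj φ := by
    apply evE.injective
    rw [AddEquiv.apply_symm_apply, hcomm' β (cj φ), hevE]
    show (h : V ≃ₗ[ZMod p] V) v = ((cj φ : D) : Module.End (ZMod p) V)
      ((β : Module.End (ZMod p) V) v₀)
    rw [hcj, hβ, LinearEquiv.symm_apply_apply, hφ]
  show ψ (evE.symm ((h : V ≃ₗ[ZMod p] V) v)) = ψ β * ψ (cj (ψ.symm (ψ (evE.symm v))))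
  rw [h1, map_mul, RingEquiv.symm_apply_apply]

end partA

end Cfsg.Agent.Lib.Helper12.RegSolv
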