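import Mathlib
import Cfsg.Agent.Lib.Helper12.RegLin
import Cfsg.Agent.Lib.Helper12.RegSolvA

/-!
# Semilinear description with the homomorphism to the field automorphisms (helper12)
-/

set_option autoImplicit false

namespace Cfsg.Agent.Lib.Helper12.RegSolv

section partC
universe u
variable {p : ℕ} [Fact p.Prime] {V : Type u} [AddCommGroup V] [Module (ZMod p) V] [Finite V]
  [Nontrivial V]

theorem gammaL_hom (H : Subgroup (V ≃ₗ[ZMod p] V)) (A : Subgroup H) (hAn : A.Normal)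
    (hAc : ∀ a ∈ A, ∀ b ∈ A, a * b = b * a)
    (hirr : ∀ W : Submodule (ZMod p) V,
      (∀ n ∈ A, ∀ v ∈ W, ((n : H) : V ≃ₗ[ZMod p] V) v ∈ W) → W = ⊥ ∨ W = ⊤) :
    ∃ (F : Type) (_ : Field F) (_ : Fintype F) (e : V ≃+ F) (sg : H →* (F ≃+* F)) (c : H → F),
      ∀ (h : H) (v : V), e ((h : V ≃ₗ[ZMod p] V) v) = c h * sg h (e v) := by
  classical
  have hfinE : Finite (Module.End (ZMod p) V) :=
    Finite.of_injective (fun f => (f : V → V)) DFunLike.coe_injective
  obtain ⟨v₀, hv₀⟩ := exists_ne (0 : V)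
  let S : Set (Module.End (ZMod p) V) :=
    Set.range (fun n : A => (((n : H) : V ≃ₗ[ZMod p] V) : V →ₗ[ZMod p] V))
  let D : Subring (Module.End (ZMod p) V) := Subring.centralizer S
  have hD : ∀ φ : Module.End (ZMod p) V, φ ∈ D ↔
      ∀ n ∈ A, ∀ v, ((n : H) : V ≃ₗ[ZMod p] V) (φ v) = φ (((n : H) : V ≃ₗ[ZMod p] V) v) := by
    intro φ
    rw [Subring.mem_centralizer_iff]
    constructor
    · intro h n hn v
      have := h _ ⟨⟨n, hn⟩, rfl⟩
      exact LinearMap.congr_fun this v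
    · rintro h _ ⟨n, rfl⟩
      apply LinearMap.ext
      intro v
      exact h n.1 n.2 v
  have hinj : ∀ φ ∈ D, φ ≠ 0 → Function.Injective φ := by
    intro φ hφ hφ0
    rw [hD] at hφ
    rw [← LinearMap.ker_eq_bot]
    have hinv : ∀ n ∈ A, ∀ v ∈ LinearMap.ker φ,
        ((n : H) : V ≃ₗ[ZMod p] V) v ∈ LinearMap.ker φ := by
      intro n hn v hv
      rw [LinearMap.mem_ker] at hv ⊢
      rw [← hφ n hn v, hv, map_zero]
    rcases hirr _ hinv with h | h
    · exact h
    · exact absurd (LinearMap.ker_eq_top.mp h) hφ0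
  have hcommD := RegLin.comm_of_injective D hinj
  have hAD : ∀ a ∈ A, (((a : H) : V ≃ₗ[ZMod p] V) : V →ₗ[ZMod p] V) ∈ D := by
    intro a ha
    rw [hD]
    intro n hn v
    have h1 := hAc n hn a ha
    have h2 := congrArg (fun x : H => (x : V ≃ₗ[ZMod p] V) v) h1
    simpa using h2
  -- the ring structure facts on `D`
  have hntD : Nontrivial D := by
    refine ⟨⟨0, 1, ?_⟩⟩
    intro h01
    have h1 : ((0 : D) : Module.End (ZMod p) V) v₀ = ((1 : D) : Module.End (ZMod p) V) v₀ := by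
      rw [h01]
    simp at h1
    exact hv₀ h1.symm
  have hcomm' : ∀ a b : D, a * b = b * a := fun a b => Subtype.ext (hcommD a.1 a.2 b.1 b.2)
  have hnzd : ∀ a b : D, a * b = 0 → a = 0 ∨ b = 0 := by
    intro a b hab
    by_cases ha : a = 0
    · exact Or.inl ha
    · right
      have ha' : (a : Module.End (ZMod p) V) ≠ 0 := fun h0 => ha (Subtype.ext h0)
      have hi := hinj a.1 a.2 ha'
      apply Subtype.ext
      apply LinearMap.ext
      intro v
      have h1 : ((a * b : D) : Module.End (ZMod p) V) v = 0 := by rw [hab]; rfl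
      have h2 : (a : Module.End (ZMod p) V) ((b : Module.End (ZMod p) V) v) = 0 := h1
      exact hi (h2.trans (map_zero _).symm)
  obtain ⟨F, fF, ftF, ⟨ψ⟩⟩ := exists_field_equiv (R := D) hcomm' hnzd
  -- evaluation at `v₀`
  let ev : D →+ V :=
    { toFun := fun φ => (φ : Module.End (ZMod p) V) v₀
      map_zero' := by simp
      map_add' := fun a b => by simp }
  have hev : ∀ φ : D, ev φ = (φ : Module.End (ZMod p) V) v₀ := fun _ => rfl
  have hevinj : Function.Injective ev := by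
    rw [injective_iff_map_eq_zero]
    intro φ hφ
    by_contra hne
    have hne' : (φ : Module.End (ZMod p) V) ≠ 0 := fun h0 => hne (Subtype.ext h0)
    have hi := hinj φ.1 φ.2 hne'
    exact hv₀ (hi (hφ.trans (map_zero _).symm))
  have hevsurj : Function.Surjective ev := by
    let W : Submodule (ZMod p) V := AddSubgroup.toZModSubmodule p ev.range
    have hWinv : ∀ n ∈ A, ∀ v ∈ W, ((n : H) : V ≃ₗ[ZMod p] V) v ∈ W := by
      rintro n hn _ ⟨φ, rfl⟩
      refine ⟨⟨_, hAD n hn⟩ * φ, ?_⟩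
      rfl
    have hW0 : W ≠ ⊥ := by
      intro h
      have h1 : v₀ ∈ W := ⟨1, by simp [hev]⟩
      rw [h, Submodule.mem_bot] at h1
      exact hv₀ h1
    rcases hirr W hWinv with h | h
    · exact absurd h hW0
    · intro v
      have hv : v ∈ W := by rw [h]; trivial
      exact hv
  let evE : D ≃+ V := AddEquiv.ofBijective ev ⟨hevinj, hevsurj⟩
  have hevE : ∀ φ : D, evE φ = (φ : Module.End (ZMod p) V) v₀ := fun _ => rfl
  let e : V ≃+ F := evE.symm.trans ψ.toAddEquiv
  -- conjugation by `h` on `D`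
  have hcjmem : ∀ (g : H) (φ : Module.End (ZMod p) V), φ ∈ D →
      cjFun (g : V ≃ₗ[ZMod p] V) φ ∈ D := by
    intro g φ hφ
    rw [hD] at hφ ⊢
    intro n hn v
    have hn' : g⁻¹ * n * g ∈ A := by
      have := hAn.conj_mem n hn g⁻¹
      simpa using this
    have key := hφ _ hn' ((g : V ≃ₗ[ZMod p] V).symm v)
    have e1 : ∀ w : V, ((g⁻¹ * n * g : H) : V ≃ₗ[ZMod p] V) w =
        (g : V ≃ₗ[ZMod p] V).symm (((n : H) : V ≃ₗ[ZMod p] V) ((g : V ≃ₗ[ZMod p] V) w)) := by
      intro w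
      rfl
    rw [e1, e1] at key
    simp only [LinearEquiv.apply_symm_apply] at key
    rw [cjFun_apply, cjFun_apply, ← key, LinearEquiv.apply_symm_apply]
  let cj : H → (D ≃+* D) := fun h =>
    { toFun := fun φ => ⟨cjFun (h : V ≃ₗ[ZMod p] V) φ, hcjmem h φ φ.2⟩
      invFun := fun φ => ⟨cjFun ((h⁻¹ : H) : V ≃ₗ[ZMod p] V) φ, hcjmem h⁻¹ φ φ.2⟩
      left_inv := fun φ => by
        apply Subtype.ext
        apply LinearMap.ext
        intro v
        show ((h⁻¹ : H) : V ≃ₗ[ZMod p] V) ((h : V ≃ₗ[ZMod p] V)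
          ((φ : Module.End (ZMod p) V) ((h : V ≃ₗ[ZMod p] V).symm
            (((h⁻¹ : H) : V ≃ₗ[ZMod p] V).symm v)))) = (φ : Module.End (ZMod p) V) v
        have e1 : ∀ w : V, ((h⁻¹ : H) : V ≃ₗ[ZMod p] V) w = (h : V ≃ₗ[ZMod p] V).symm w :=
          fun w => rfl
        have e2 : ∀ w : V, ((h⁻¹ : H) : V ≃ₗ[ZMod p] V).symm w = (h : V ≃ₗ[ZMod p] V) w :=
          fun w => rfl
        rw [e1, e2, LinearEquiv.symm_apply_apply, LinearEquiv.symm_apply_apply]
      right_inv := fun φ => by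
        apply Subtype.ext
        apply LinearMap.ext
        intro v
        show (h : V ≃ₗ[ZMod p] V) (((h⁻¹ : H) : V ≃ₗ[ZMod p] V)
          ((φ : Module.End (ZMod p) V) (((h⁻¹ : H) : V ≃ₗ[ZMod p] V).symm
            ((h : V ≃ₗ[ZMod p] V).symm v)))) = (φ : Module.End (ZMod p) V) v
        have e1 : ∀ w : V, ((h⁻¹ : H) : V ≃ₗ[ZMod p] V) w = (h : V ≃ₗ[ZMod p] V).symm w :=
          fun w => rfl
        have e2 : ∀ w : V, ((h⁻¹ : H) : V ≃ₗ[ZMod p] V).symm w = (h : V ≃ₗ[ZMod p] V) w :=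
          fun w => rfl
        rw [e1, e2, LinearEquiv.apply_symm_apply, LinearEquiv.apply_symm_apply]
      map_mul' := fun φ₁ φ₂ => by
        apply Subtype.ext
        apply LinearMap.ext
        intro v
        show (h : V ≃ₗ[ZMod p] V) ((φ₁ : Module.End (ZMod p) V) ((φ₂ : Module.End (ZMod p) V)
          ((h : V ≃ₗ[ZMod p] V).symm v))) =
          (h : V ≃ₗ[ZMod p] V) ((φ₁ : Module.End (ZMod p) V) ((h : V ≃ₗ[ZMod p] V).symm
            ((h : V ≃ₗ[ZMod p] V) ((φ₂ : Module.End (ZMod p) V)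
              ((h : V ≃ₗ[ZMod p] V).symm v)))))
        rw [LinearEquiv.symm_apply_apply]
      map_add' := fun φ₁ φ₂ => by
        apply Subtype.ext
        apply LinearMap.ext
        intro v
        show (h : V ≃ₗ[ZMod p] V) (((φ₁ : Module.End (ZMod p) V) + (φ₂ : Module.End (ZMod p) V))
          ((h : V ≃ₗ[ZMod p] V).symm v)) = _
        rw [LinearMap.add_apply, map_add]
        rfl }
  have hcj : ∀ (h : H) (φ : D) (v : V), ((cj h φ : D) : Module.End (ZMod p) V) v =
      (h : V ≃ₗ[ZMod p] V) ((φ : Module.End (ZMod p) V) ((h : V ≃ₗ[ZMod p] V).symm v)) :=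
    fun _ _ _ => rfl
  have hcj_mul : ∀ (h h' : H) (φ : D), cj (h * h') φ = cj h (cj h' φ) := by
    intro h h' φ
    apply Subtype.ext
    apply LinearMap.ext
    intro v
    rw [hcj, hcj, hcj]
    rfl
  have hcj_one : ∀ φ : D, cj 1 φ = φ := by
    intro φ
    apply Subtype.ext
    apply LinearMap.ext
    intro v
    rw [hcj]
    rfl
  let sg : H →* (F ≃+* F) :=
    { toFun := fun h => ψ.symm.trans ((cj h).trans ψ)
      map_one' := by
        apply RingEquiv.ext
        intro x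
        show ψ (cj 1 (ψ.symm x)) = x
        rw [hcj_one, RingEquiv.apply_symm_apply]
      map_mul' := fun h h' => by
        apply RingEquiv.ext
        intro x
        show ψ (cj (h * h') (ψ.symm x)) = ψ (cj h (ψ.symm (ψ (cj h' (ψ.symm x)))))
        rw [hcj_mul, RingEquiv.symm_apply_apply] }
  have hsg : ∀ (h : H) (x : F), sg h x = ψ (cj h (ψ.symm x)) := fun _ _ => rfl
  refine ⟨F, fF, ftF, e, sg, fun h => ψ (evE.symm ((h : V ≃ₗ[ZMod p] V) v₀)), ?_⟩
  intro h v
  let β : D := evE.symm ((h : V ≃ₗ[ZMod p] V) v₀)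
  have hβ : (β : Module.End (ZMod p) V) v₀ = (h : V ≃ₗ[ZMod p] V) v₀ := by
    rw [← hevE]; exact evE.apply_symm_apply _
  let φ : D := evE.symm v
  have hφ : (φ : Module.End (ZMod p) V) v₀ = v := by
    rw [← hevE]; exact evE.apply_symm_apply _
  have h1 : evE.symm ((h : V ≃ₗ[ZMod p] V) v) = β * cj h φ := by
    apply evE.injective
    rw [AddEquiv.apply_symm_apply, hcomm' β (cj h φ), hevE]
    show (h : V ≃ₗ[ZMod p] V) v = ((cj h φ : D) : Module.End (ZMod p) V)
      ((β : Module.End (ZMod p) V) v₀)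
    rw [hcj, hβ, LinearEquiv.symm_apply_apply, hφ]
  show ψ (evE.symm ((h : V ≃ₗ[ZMod p] V) v)) = ψ β * sg h (ψ (evE.symm v))
  rw [h1, map_mul, hsg, RingEquiv.symm_apply_apply]

end partC

end Cfsg.Agent.Lib.Helper12.RegSolv
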