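import Mathlib
import Cfsg.Prelude.Def_Perm
import Cfsg.Agent.Lib.Helper12.DegP1
import Cfsg.Agent.Lib.Helper12.RegSolvC
import Cfsg.Agent.Lib.Helper78.Sharp2Lin
import Cfsg.Agent.Lib.Helper5.AutPSL2Out

/-!
# Transitive groups of degree `p + 1` and order `(p+1) p d`, `d < p`: the affine case (helper12)

If the group has a regular normal subgroup `N` (and `p` is odd), then `N` is elementary abelian
of order `2 ^ q`, `q` prime, and the group is a group of semi-affine maps of the field with
`2 ^ q` elements.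
-/

set_option autoImplicit false
set_option linter.style.haveILetI false
set_option linter.unusedSectionVars false

namespace Cfsg.Agent.Lib.Helper12.DegP1

open MulAction

section aff

variable {α : Type*} [Fintype α] [DecidableEq α]

/-- the order of a regular subgroup -/
theorem card_of_regular (G : Subgroup (Equiv.Perm α)) (N : Subgroup G)
    (hNt : IsPretransitive N α) (a : α) (hNs : stabilizer N a = ⊥) :
    Nat.card N = Fintype.card α := by
  have h1 := MulAction.index_stabilizer_of_transitive N a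
  rw [hNs, Subgroup.index_bot, Nat.card_eq_fintype_card (α := α)] at h1
  exact h1

/-- in a regular subgroup an element is determined by the image of the base point -/
theorem eq_of_smul_eq (G : Subgroup (Equiv.Perm α)) (N : Subgroup G) (a : α)
    (hNs : stabilizer N a = ⊥) (n₁ n₂ : N) (h : n₁ • a = n₂ • a) : n₁ = n₂ := by
  have h1 : n₂⁻¹ * n₁ ∈ stabilizer N a := by
    rw [mem_stabilizer_iff, mul_smul, h, inv_smul_smul]
  rw [hNs, Subgroup.mem_bot] at h1
  have := congrArg (fun t => n₂ * t) h1
  simpa using this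

/-- `P` is transitive by conjugation on the non-identity elements of the regular normal
subgroup. -/
theorem conj_trans (G : Subgroup (Equiv.Perm α)) (N : Subgroup G) [N.Normal] (a : α)
    (hNs : stabilizer N a = ⊥) (P : Subgroup G) (hPa : P ≤ stabilizer G a)
    (htr : ∀ b, b ≠ a → ∀ c, c ≠ a → ∃ u ∈ P, u • b = c)
    (n₁ n₂ : N) (h₁ : n₁ ≠ 1) (h₂ : n₂ ≠ 1) :
    ∃ u ∈ P, u * (n₁ : G) * u⁻¹ = (n₂ : G) := by
  have hb : ∀ n : N, n ≠ 1 → n • a ≠ a := by
    intro n hn h
    apply hn
    apply eq_of_smul_eq G N a hNs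
    rw [h, one_smul]
  obtain ⟨u, hu, huc⟩ := htr _ (hb n₁ h₁) _ (hb n₂ h₂)
  refine ⟨u, hu, ?_⟩
  have hmem : u * (n₁ : G) * u⁻¹ ∈ N := Subgroup.Normal.conj_mem inferInstance _ n₁.2 u
  have hua : u • a = a := hPa hu
  have huia : u⁻¹ • a = a := by
    rw [inv_smul_eq_iff, hua]
  have := eq_of_smul_eq G N a hNs ⟨_, hmem⟩ n₂ (by
    show (u * (n₁ : G) * u⁻¹) • a = n₂ • a
    rw [mul_smul, mul_smul, huia, ← huc]
    rfl)
  exact congrArg Subtype.val this

/-- the regular normal subgroup has exponent two when `p` is odd -/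
theorem exp_two {p : ℕ} (hp2 : p ≠ 2) (hp : p.Prime) (hα : Fintype.card α = p + 1)
    (G : Subgroup (Equiv.Perm α)) (N : Subgroup G) [N.Normal]
    (hNt : IsPretransitive N α) (a : α)
    (hNs : stabilizer N a = ⊥) (P : Subgroup G) (hPa : P ≤ stabilizer G a)
    (htr : ∀ b, b ≠ a → ∀ c, c ≠ a → ∃ u ∈ P, u • b = c) (n : N) : n ^ 2 = 1 := by
  have hcard := card_of_regular G N hNt a hNs
  rw [hα] at hcard
  have hodd : Odd p := hp.odd_of_ne_two hp2
  have h2 : 2 ∣ Nat.card N := by
    rw [hcard]
    obtain ⟨k, hk⟩ := hodd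
    exact ⟨k + 1, by omega⟩
  haveI : Fact (Nat.Prime 2) := ⟨Nat.prime_two⟩
  obtain ⟨n₀, hn₀⟩ := exists_prime_orderOf_dvd_card' (G := N) 2 h2
  have hn₀1 : n₀ ≠ 1 := by
    rintro rfl
    rw [orderOf_one] at hn₀
    omega
  by_cases hn : n = 1
  · rw [hn, one_pow]
  · obtain ⟨u, _, hu⟩ := conj_trans G N a hNs P hPa htr n₀ n hn₀1 hn
    apply Subtype.ext
    rw [Subgroup.coe_pow, ← hu, conj_pow, Subgroup.coe_one]
    have : (n₀ : G) ^ 2 = 1 := by
      rw [← Subgroup.coe_pow, ← hn₀, pow_orderOf_eq_one, Subgroup.coe_one]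
    rw [this, mul_one, mul_inv_cancel]

/-- arithmetic: `p + 1 = 2 ^ m` with `p` prime forces `m` prime and `m < p` -/
theorem arith_mersenne {p m : ℕ} (hp : p.Prime) (h : p + 1 = 2 ^ m) : m.Prime ∧ m < p := by
  have hm1 : m ≠ 1 := by
    rintro rfl
    have := hp.two_le
    omega
  have hp' : (2 ^ m - 1).Prime := by
    rw [← h]
    simpa using hp
  have hm := (Nat.prime_of_pow_sub_one_prime hm1 hp').2
  refine ⟨hm, ?_⟩
  have h2 := hm.two_le
  have h3 : m - 1 < 2 ^ (m - 1) := Nat.lt_two_pow_self
  have h4 : 2 ^ m = 2 * 2 ^ (m - 1) := by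
    rw [← pow_succ']
    congr 1
    omega
  omega

/-- **The affine case**: a regular normal subgroup forces a semi-affine group over the field
with `2 ^ q` elements. -/
theorem affine_case {p d : ℕ} (hp : p.Prime) (hp2 : p ≠ 2) (hα : Fintype.card α = p + 1)
    (G : Subgroup (Equiv.Perm α)) [MulAction.IsPretransitive G α]
    (hG : Nat.card G = (p + 1) * p * d) (hd : d < p)
    (N : Subgroup G) [N.Normal] (hNt : IsPretransitive N α)
    (hNs : ∀ a : α, stabilizer N a = ⊥) :
    ∃ q : ℕ, q.Prime ∧ p + 1 = 2 ^ q ∧ (d = 1 ∨ d = q) ∧ ∃ e : α ≃ GaloisField 2 q, ∀ g : G,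
      (e.symm.trans (((g : Equiv.Perm α)).trans e)) ∈
        Cfsg.semiaffineGroup (GaloisField 2 q) := by
  classical
  haveI : Fact (Nat.Prime 2) := ⟨Nat.prime_two⟩
  obtain ⟨a, P, hPcard, hPa, htr, hGa, hnorm, hPcomm⟩ := exists_P hp hα G hG hd
  have hNa := hNs a
  have hNcard := card_of_regular G N hNt a hNa
  rw [hα] at hNcard
  have hexp : ∀ n : N, n ^ 2 = 1 := exp_two hp2 hp hα G N hNt a hNa P hPa htr
  haveI : Finite N := Nat.finite_of_card_ne_zero (by rw [hNcard]; omega)
  have h2grp : IsPGroup 2 N := fun n => ⟨1, by rw [pow_one]; exact hexp n⟩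
  obtain ⟨m, hm⟩ := IsPGroup.iff_card.mp h2grp
  rw [hNcard] at hm
  obtain ⟨hmp, hmlt⟩ := arith_mersenne hp hm
  refine ⟨m, hmp, hm, ?_⟩
  -- commutativity
  have hinv : ∀ n : N, n⁻¹ = n := fun n =>
    inv_eq_of_mul_eq_one_right (by rw [← sq]; exact hexp n)
  have hNcomm : ∀ x y : N, x * y = y * x := by
    intro x y
    calc x * y = (x * y)⁻¹ := (hinv _).symm
      _ = y⁻¹ * x⁻¹ := mul_inv_rev _ _
      _ = y * x := by rw [hinv, hinv]
  letI iN : CommGroup N :=
    { (inferInstance : Group N) with mul_comm := hNcomm }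
  let θ : stabilizer G a →* MulAut N :=
    (MulAut.conjNormal (H := N)).comp (stabilizer G a).subtype
  have hθ : ∀ (t : stabilizer G a) (x : N), ((θ t x : N) : G) = t * x * (t : G)⁻¹ :=
    fun t x => rfl
  obtain ⟨iM, ρ, hρ⟩ := Cfsg.Agent.Lib.Helper78.Sharp2Lin.exists_lin 2 hexp θ
  haveI : Nontrivial N := by
    rw [← Finite.one_lt_card_iff_nontrivial, hNcard]
    have := hp.two_le
    omega
  haveI : Finite (Additive N) := inferInstanceAs (Finite N)
  haveI : Nontrivial (Additive N) := inferInstanceAs (Nontrivial N)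
  -- the base-point map
  have hex : ∀ b : α, ∃ n : N, n • a = b := fun b => exists_smul_eq N a b
  choose ν hν using hex
  have hνu : ∀ (n : N) (b : α), n • a = b → ν b = n := by
    intro n b h
    apply eq_of_smul_eq G N a hNa
    rw [hν, h]
  -- injectivity of ρ
  have hρinj : Function.Injective ρ := by
    rw [injective_iff_map_eq_one]
    intro t ht
    have hfix : ∀ b : α, (t : G) • b = b := by
      intro b
      obtain ⟨n, rfl⟩ := exists_smul_eq N a b
      have h1 : θ t n = n := by
        have h3 := hρ t n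
        rw [ht] at h3
        exact (Additive.ofMul.injective h3).symm
      have h2 : (t : G) * n * (t : G)⁻¹ = n := by rw [← hθ, h1]
      have hta : (t : G) • a = a := t.2
      calc (t : G) • (n • a) = ((t : G) * n * (t : G)⁻¹) • ((t : G) • a) := by
            rw [← mul_smul, inv_mul_cancel_right]
            rfl
        _ = n • a := by rw [h2, hta]; rfl
    apply Subtype.ext
    apply Subtype.ext
    apply Equiv.ext
    intro b
    exact hfix b
  -- the linear group
  obtain ⟨H, hHdef⟩ : ∃ H : Subgroup (Additive N ≃ₗ[ZMod 2] Additive N), H = ρ.range := ⟨_, rfl⟩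
  subst hHdef
  obtain ⟨A, hAdef⟩ : ∃ A : Subgroup ρ.range,
    A = (P.subgroupOf (stabilizer G a)).map ρ.rangeRestrict := ⟨_, rfl⟩
  have hAn : A.Normal := by
    rw [hAdef]
    apply Subgroup.Normal.map _ _ ρ.rangeRestrict_surjective
    constructor
    intro u hu g
    rw [Subgroup.mem_subgroupOf] at hu ⊢
    exact hnorm g g.2 u hu
  have hAc : ∀ x ∈ A, ∀ y ∈ A, x * y = y * x := by
    rw [hAdef]
    rintro _ ⟨u, hu, rfl⟩ _ ⟨v, hv, rfl⟩
    rw [← map_mul, ← map_mul]
    congr 1
    apply Subtype.ext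
    exact hPcomm u v hu hv
  have hirr : ∀ W : Submodule (ZMod 2) (Additive N),
      (∀ n ∈ A, ∀ v ∈ W, ((n : ρ.range) : Additive N ≃ₗ[ZMod 2] Additive N) v ∈ W) →
        W = ⊥ ∨ W = ⊤ := by
    intro W hW
    by_cases hbot : W = ⊥
    · exact Or.inl hbot
    · right
      obtain ⟨w, hwW, hw0⟩ := (Submodule.ne_bot_iff W).mp hbot
      rw [eq_top_iff]
      intro v _
      by_cases hv0 : v = 0
      · rw [hv0]; exact W.zero_mem
      · have hw1 : Additive.toMul w ≠ 1 := fun h => hw0 (by
          have := congrArg Additive.ofMul h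
          simpa using this)
        have hv1 : Additive.toMul v ≠ 1 := fun h => hv0 (by
          have := congrArg Additive.ofMul h
          simpa using this)
        obtain ⟨u, hu, huc⟩ := conj_trans G N a hNa P hPa htr _ _ hw1 hv1
        have hmemA : ρ.rangeRestrict ⟨u, hPa hu⟩ ∈ A := by
          rw [hAdef]
          exact ⟨⟨u, hPa hu⟩, by rw [SetLike.mem_coe, Subgroup.mem_subgroupOf]; exact hu, rfl⟩
        have h1 := hW _ hmemA w hwW
        have h2 : ((ρ.rangeRestrict ⟨u, hPa hu⟩ : ρ.range) :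
            Additive N ≃ₗ[ZMod 2] Additive N) w = v := by
          show ρ ⟨u, hPa hu⟩ w = v
          have h3 := hρ ⟨u, hPa hu⟩ (Additive.toMul w)
          rw [ofMul_toMul] at h3
          rw [h3]
          have h4 : θ ⟨u, hPa hu⟩ (Additive.toMul w) = Additive.toMul v := by
            apply Subtype.ext
            rw [hθ]
            exact huc
          rw [h4, ofMul_toMul]
        rw [h2] at h1
        exact h1
  obtain ⟨F, iF, iFt, e₀, sg, c, hc⟩ := RegSolv.gammaL_hom (p := 2) ρ.range A hAn hAc hirr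
  -- cardinalities
  have hHcard : Nat.card ρ.range = p * d := by
    rw [← hGa]
    exact (Nat.card_congr (MonoidHom.ofInjective hρinj).toEquiv).symm
  have hFcard : Fintype.card F = 2 ^ m := by
    rw [← Nat.card_eq_fintype_card, ← Nat.card_congr e₀.toEquiv, ← hm, ← hNcard]
    rfl
  have h2F : (2 : F) = 0 := by
    obtain ⟨v, hv⟩ := e₀.surjective 1
    have hvv : v + v = 0 := by
      have h1 : Additive.ofMul (Additive.toMul v * Additive.toMul v) = 0 := by
        rw [← sq, hexp]
        rfl
      rw [ofMul_mul, ofMul_toMul] at h1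
      exact h1
    have h3 := congrArg e₀ hvv
    rw [map_add, map_zero, hv] at h3
    rw [← h3]
    norm_num
  haveI : CharP F 2 := CharTwo.of_one_ne_zero_of_two_eq_zero one_ne_zero h2F
  have hAut : Nat.card (F ≃+* F) = m := Cfsg.Agent.Lib.Helper5.AutPSL2.card_ringAut 2 hFcard
  have hc0 : ∀ h' : ρ.range, c h' ≠ 0 := by
    intro h' h0
    obtain ⟨v, hv⟩ := exists_ne (0 : Additive N)
    have h3 := hc h' v
    rw [h0, zero_mul] at h3
    have h1 : (h' : Additive N ≃ₗ[ZMod 2] Additive N) v = 0 := by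
      apply e₀.injective
      rw [h3, map_zero]
    exact hv ((LinearEquiv.map_eq_zero_iff _).mp h1)
  constructor
  · -- the value of d
    haveI : Finite (Additive N ≃ₗ[ZMod 2] Additive N) :=
      Finite.of_injective (fun f => (f : Additive N → Additive N)) DFunLike.coe_injective
    haveI : Finite (F ≃+* F) :=
      Finite.of_injective (fun f => (f : F → F)) DFunLike.coe_injective
    have hKle : Nat.card sg.ker ≤ p := by
      have hinj : Function.Injective (fun k : sg.ker => Units.mk0 (c k.1) (hc0 k.1)) := by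
        intro k k' hkk
        have h1 : c k.1 = c k'.1 := congrArg Units.val hkk
        apply Subtype.ext
        apply Subtype.ext
        apply LinearEquiv.ext
        intro v
        apply e₀.injective
        rw [hc, hc, h1, MonoidHom.mem_ker.mp k.2, MonoidHom.mem_ker.mp k'.2]
      have h3 := Nat.card_le_card_of_injective _ hinj
      rw [Nat.card_units, Nat.card_eq_fintype_card (α := F), hFcard, ← hm] at h3
      simpa using h3
    have hmul : Nat.card sg.ker * Nat.card sg.range = p * d := by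
      rw [← hHcard, ← Subgroup.index_ker, Subgroup.card_mul_index]
    have hrdvd : Nat.card sg.range ∣ m := by
      rw [← hAut]
      exact Subgroup.card_subgroup_dvd_card _
    have hrpos : 0 < Nat.card sg.range := Nat.card_pos
    have hrle : Nat.card sg.range ≤ m := Nat.le_of_dvd hmp.pos hrdvd
    have hpk : p ∣ Nat.card sg.ker := by
      have h1 : p ∣ Nat.card sg.ker * Nat.card sg.range := by
        rw [hmul]
        exact dvd_mul_right p d
      rcases (Nat.Prime.dvd_mul hp).mp h1 with h | h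
      · exact h
      · exfalso
        have := Nat.le_of_dvd hrpos h
        omega
    have hkp : Nat.card sg.ker = p := le_antisymm hKle (Nat.le_of_dvd Nat.card_pos hpk)
    rw [hkp] at hmul
    have hdr : Nat.card sg.range = d := Nat.eq_of_mul_eq_mul_left hp.pos hmul
    rw [hdr] at hrdvd
    exact (Nat.dvd_prime hmp).mp hrdvd
  · -- the semi-affine structure
    letI : Fintype (GaloisField 2 m) := Fintype.ofFinite _
    have hGFcard : Fintype.card F = Fintype.card (GaloisField 2 m) := by
      rw [hFcard, ← Nat.card_eq_fintype_card, GaloisField.card 2 m hmp.ne_zero]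
    let ψ : F ≃+* GaloisField 2 m := FiniteField.ringEquivOfCardEq hGFcard
    let eN : α ≃ N :=
      { toFun := ν
        invFun := fun n => n • a
        left_inv := hν
        right_inv := fun n => hνu n _ rfl }
    let e : α ≃ GaloisField 2 m :=
      eN.trans (Additive.ofMul.trans (e₀.toEquiv.trans ψ.toEquiv))
    have he : ∀ b, e b = ψ (e₀ (Additive.ofMul (ν b))) := fun b => rfl
    refine ⟨e, ?_⟩
    intro g
    -- decomposition of g
    have hta : ((ν (g • a) : G)⁻¹ * g) ∈ stabilizer G a := by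
      rw [mem_stabilizer_iff, mul_smul, inv_smul_eq_iff]
      exact (hν (g • a)).symm
    obtain ⟨t, ht⟩ : ∃ t : stabilizer G a, t = ⟨_, hta⟩ := ⟨_, rfl⟩
    have htg : (t : G) = (ν (g • a) : G)⁻¹ * g := by rw [ht]
    have hmain : ∀ b : α, ν (g • b) = ν (g • a) * θ t (ν b) := by
      intro b
      apply hνu
      show ((ν (g • a) * θ t (ν b) : N) : G) • a = g • b
      rw [Subgroup.coe_mul, hθ, htg]
      have h1 : ((ν (g • a) : G)⁻¹ * g)⁻¹ • a = a := by
        rw [inv_smul_eq_iff]
        exact hta.symm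
      rw [mul_smul, mul_smul, mul_smul, h1, mul_smul, smul_inv_smul]
      congr 1
      exact hν b
    have hne : ψ (c (ρ.rangeRestrict t)) ≠ 0 := by
      rw [Ne, map_eq_zero_iff ψ ψ.injective]
      exact hc0 _
    change ∃ a' : (GaloisField 2 m)ˣ, ∃ b' : GaloisField 2 m,
      ∃ φ : GaloisField 2 m ≃+* GaloisField 2 m,
        ∀ x, (e.symm.trans (((g : Equiv.Perm α)).trans e)) x = (a' : GaloisField 2 m) * φ x + b'
    refine ⟨Units.mk0 _ hne, e (g • a), ψ.symm.trans ((sg (ρ.rangeRestrict t)).trans ψ), ?_⟩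
    intro x
    obtain ⟨b, rfl⟩ := e.surjective x
    rw [Equiv.trans_apply, Equiv.trans_apply, Equiv.symm_apply_apply]
    show e (g • b) = ψ (c (ρ.rangeRestrict t)) * ψ (sg (ρ.rangeRestrict t) (ψ.symm (e b))) +
      e (g • a)
    rw [he, he, he, hmain, ofMul_mul, map_add, map_add, RingEquiv.symm_apply_apply,
      ← hρ, ← map_mul, add_comm]
    congr 2
    exact hc (ρ.rangeRestrict t) _

end aff

end Cfsg.Agent.Lib.Helper12.DegP1
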