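import Mathlib
import Cfsg.Agent.S0695
import Cfsg.Agent.S0696

set_option autoImplicit false

namespace Cfsg.Agent.Lib.Helper12.MultTrans

open MulAction SubMulAction

universe u v

section

variable {G : Type u} {α : Type v} [Group G] [MulAction G α]

/-- the stabilizer of a point acts faithfully on the complement of the point -/
theorem faithful_ofStabilizer [FaithfulSMul G α] (a : α) :
    FaithfulSMul (stabilizer G a) (ofStabilizer G a) := ⟨by
  intro g h H
  apply Subtype.ext
  apply FaithfulSMul.eq_of_smul_eq_smul (α := α)
  intro x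
  by_cases hx : x = a
  · subst hx
    have hg : (g : G) • x = x := g.2
    have hh : (h : G) • x = x := h.2
    rw [hg, hh]
  · have hx' : x ∈ ofStabilizer G a := hx
    have := H ⟨x, hx'⟩
    exact congrArg Subtype.val this⟩

/-- a nontrivial normal subgroup of a faithful primitive group is transitive -/
theorem normal_trans [FaithfulSMul G α] [IsPreprimitive G α] (N : Subgroup G) [N.Normal]
    (hN : N ≠ ⊥) : IsPretransitive N α := by
  apply IsQuasiPreprimitive.isPretransitive_of_normal (G := G)
  intro h
  apply hN
  rw [eq_bot_iff]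
  intro n hn
  rw [Subgroup.mem_bot]
  apply FaithfulSMul.eq_of_smul_eq_smul (α := α)
  intro x
  have hx : x ∈ fixedPoints N α := by rw [h]; exact Set.mem_univ x
  have := hx ⟨n, hn⟩
  rw [one_smul]
  exact this

/-- if `N` is transitive and `N_a` is `j`-transitive on the complement of `a`,
then `N` is `(j+1)`-transitive -/
theorem mt_succ_of_stabilizer (N : Subgroup G) (a : α) [IsPretransitive N α] {j : ℕ}
    (h : IsMultiplyPretransitive (N.subgroupOf (stabilizer G a)) (ofStabilizer G a) j) :
    IsMultiplyPretransitive N α (j + 1) := by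
  rw [ofStabilizer.isMultiplyPretransitive (a := a), isMultiplyPretransitive_iff]
  intro x y
  let x' : Fin j ↪ ofStabilizer G a :=
    ⟨fun i => ⟨((x i : ofStabilizer N a) : α), (x i).2⟩, fun i i' hii' => by
      apply x.injective
      apply Subtype.ext
      exact congrArg Subtype.val hii'⟩
  let y' : Fin j ↪ ofStabilizer G a :=
    ⟨fun i => ⟨((y i : ofStabilizer N a) : α), (y i).2⟩, fun i i' hii' => by
      apply y.injective
      apply Subtype.ext
      exact congrArg Subtype.val hii'⟩
  obtain ⟨n, hn⟩ := h.exists_smul_eq x' y'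
  have hnN : ((n : stabilizer G a) : G) ∈ N := n.2
  have hna : (⟨((n : stabilizer G a) : G), hnN⟩ : N) ∈ stabilizer N a := (n : stabilizer G a).2
  refine ⟨⟨⟨((n : stabilizer G a) : G), hnN⟩, hna⟩, ?_⟩
  ext i
  have h1 := congrArg (fun f : Fin j ↪ ofStabilizer G a => ((f i : ofStabilizer G a) : α)) hn
  exact h1


/-- abelian and transitive on the complement of `b` implies semiregular on the complement -/
theorem eq_one_of_fix [FaithfulSMul G α] (N : Subgroup G) (b : α)
    (htr : ∀ c x : α, c ≠ b → x ≠ b → ∃ m ∈ N, m • b = b ∧ m • c = x)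
    (hab : ∀ n ∈ N, ∀ m ∈ N, n • b = b → m • b = b → n * m = m * n)
    {t : G} (ht : t ∈ N) (htb : t • b = b) {c : α} (hcb : c ≠ b) (htc : t • c = c) : t = 1 := by
  apply FaithfulSMul.eq_of_smul_eq_smul (α := α)
  intro x
  rw [one_smul]
  by_cases hx : x = b
  · rw [hx, htb]
  · obtain ⟨m, hm, hmb, hmc⟩ := htr c x hcb hx
    rw [← hmc, ← mul_smul, hab t ht m hm htb hmb, mul_smul, htc]

/-- there is no group on at least 4 points all of whose point stabilizers are abelian of
exponent 2 and transitive on the remaining points -/
theorem no_sharp [FaithfulSMul G α] (N : Subgroup G) (a : α)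
    (hcard : ∀ a b c : α, ∃ d, d ≠ a ∧ d ≠ b ∧ d ≠ c)
    (htr : ∀ a c x : α, c ≠ a → x ≠ a → ∃ m ∈ N, m • a = a ∧ m • c = x)
    (hab : ∀ a : α, ∀ n ∈ N, ∀ m ∈ N, n • a = a → m • a = a → n * m = m * n)
    (hinv : ∀ a : α, ∀ n ∈ N, n • a = a → n ^ 2 = 1) : False := by
  obtain ⟨b, hba, _, _⟩ := hcard a a a
  obtain ⟨c, hca, hcb, _⟩ := hcard a b b
  obtain ⟨s, hs, hsa, hsb⟩ := htr a b c hba hca
  have hsc : s • c = b := by
    rw [← hsb, ← mul_smul, ← pow_two, hinv a s hs hsa, one_smul]
  obtain ⟨d, hda, hdb, hdc⟩ := hcard a b c
  obtain ⟨s', hs', hs'd, hs'b⟩ := htr d b c hdb.symm hdc.symm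
  have hs'c : s' • c = b := by
    rw [← hs'b, ← mul_smul, ← pow_two, hinv d s' hs' hs'd, one_smul]
  have ht : s⁻¹ * s' ∈ N := N.mul_mem (N.inv_mem hs) hs'
  have htb : (s⁻¹ * s') • b = b := by
    rw [mul_smul, hs'b, inv_smul_eq_iff, hsb]
  have htc : (s⁻¹ * s') • c = c := by
    rw [mul_smul, hs'c, inv_smul_eq_iff, hsc]
  have h1 := eq_one_of_fix N b (htr b) (hab b) ht htb hcb htc
  have hss' : s' = s := by
    rw [inv_mul_eq_one] at h1
    exact h1.symm
  have hsd : s • d = d := by rw [← hss']; exact hs'd
  have h2 := eq_one_of_fix N a (htr a) (hab a) hs hsa hda hsd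
  rw [h2, one_smul] at hsb
  exact hcb hsb.symm

end

/-- Jordan: in a `k`-transitive group (`k ≥ 2`) of degree greater than `k`, a nontrivial normal
subgroup is `(k-1)`-transitive, unless `k = 3` and it is an elementary abelian `2`-group. -/
theorem jordan_normal (k : ℕ) (hk : 2 ≤ k) : ∀ (G : Type u) (α : Type v) [Group G] [MulAction G α]
    [FaithfulSMul G α] [Finite α], k < Nat.card α → IsMultiplyPretransitive G α k →
    ∀ (N : Subgroup G) [N.Normal], N ≠ ⊥ →
    (IsMultiplyPretransitive N α (k - 1) ∨ (k = 3 ∧ IsMulCommutative N ∧ ∀ n ∈ N, n ^ 2 = 1)) := by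
  induction k, hk using Nat.le_induction with
  | base =>
    intro G α _ _ _ _ hdeg hG N _ hN
    left
    have := isPreprimitive_of_is_two_pretransitive hG
    have := normal_trans (α := α) N hN
    show IsMultiplyPretransitive N α 1
    rw [is_one_pretransitive_iff]; exact this
  | succ k hk ih =>
    intro G α _ _ _ _ hdeg hG N _ hN
    show IsMultiplyPretransitive N α k ∨ _
    have hG2 : IsMultiplyPretransitive G α 2 :=
      isMultiplyPretransitive_of_le (n := k + 1) (by omega) (by omega)
    have hprim := isPreprimitive_of_is_two_pretransitive hG2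
    have hGtr : IsPretransitive G α := hprim.toIsPretransitive
    have hNtr := normal_trans (α := α) N hN
    have hstab : ∀ a : α, IsMultiplyPretransitive (stabilizer G a) (ofStabilizer G a) k :=
      fun a => (ofStabilizer.isMultiplyPretransitive (a := a)).1 hG
    have hcard : ∀ a : α, k < Nat.card (ofStabilizer G a) := by
      intro a
      have := nat_card_ofStabilizer_add_one_eq G a
      omega
    let _ : Fintype α := Fintype.ofFinite α
    have hc : Nat.card α = Fintype.card α := Nat.card_eq_fintype_card
    by_cases hreg : ∃ a : α, N.subgroupOf (stabilizer G a) = ⊥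
    · -- the regular case
      obtain ⟨a, ha⟩ := hreg
      have hreg' : ∀ x : α, stabilizer N x = ⊥ := by
        intro x
        rw [eq_bot_iff]
        intro m hm
        rw [Subgroup.mem_bot]
        obtain ⟨n0, hn0⟩ := hNtr.exists_smul_eq x a
        have hmx : (m : G) • x = x := hm
        have hn0' : (n0 : G) • x = a := hn0
        have h1 : ((n0 : G) * m * (n0 : G)⁻¹) • a = a := by
          rw [mul_smul, mul_smul, ← hn0', inv_smul_smul, hmx]
        have h2 : (⟨(n0 : G) * m * (n0 : G)⁻¹, h1⟩ : stabilizer G a) ∈
            N.subgroupOf (stabilizer G a) := by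
          rw [Subgroup.mem_subgroupOf]
          exact N.mul_mem (N.mul_mem n0.2 m.2) (N.inv_mem n0.2)
        rw [ha, Subgroup.mem_bot] at h2
        have h3 : (n0 : G) * m * (n0 : G)⁻¹ = 1 := congrArg Subtype.val h2
        have h4 : (m : G) = 1 := by
          have : (m : G) = (n0 : G)⁻¹ * ((n0 : G) * m * (n0 : G)⁻¹) * (n0 : G) := by group
          rw [this, h3]; group
        exact Subtype.ext h4
      by_cases hk2 : k = 2
      · subst hk2
        have h2p : IsMultiplyPreprimitive G α 2 := by
          apply isMultiplyPreprimitive_of_isMultiplyPretransitive_succ G α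
          rw [ENat.card_eq_coe_fintype_card]
          exact_mod_cast (by omega : 3 ≤ Fintype.card α)
        rcases Cfsg.Agent.S0695.result (by omega) h2p N hNtr hreg' with h | ⟨h1, h2, _⟩
        · omega
        · right; exact ⟨rfl, h1, h2⟩
      · exfalso
        have h4 : IsMultiplyPretransitive G α 4 :=
          isMultiplyPretransitive_of_le (n := k + 1) (by omega) (by omega)
        have h3p : IsMultiplyPreprimitive G α 3 := by
          apply isMultiplyPreprimitive_of_isMultiplyPretransitive_succ G α
          rw [ENat.card_eq_coe_fintype_card]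
          exact_mod_cast (by omega : 4 ≤ Fintype.card α)
        rcases Cfsg.Agent.S0696.result (by omega) h3p N hNtr hreg' with h | h <;> omega
    · simp only [not_exists] at hreg
      have ihA := fun a : α => @ih (stabilizer G a) (ofStabilizer G a) _ _
        (faithful_ofStabilizer a) _ (hcard a) (hstab a) (N.subgroupOf (stabilizer G a)) _ (hreg a)
      by_cases hex : ∃ a : α,
          IsMultiplyPretransitive (N.subgroupOf (stabilizer G a)) (ofStabilizer G a) (k - 1)
      · obtain ⟨a, ha⟩ := hex
        left
        have := mt_succ_of_stabilizer N a ha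
        rwa [show k - 1 + 1 = k by omega] at this
      · exfalso
        simp only [not_exists] at hex
        have hB := fun a : α => (ihA a).resolve_left (hex a)
        have hne : Nonempty α := by
          rw [← Fintype.card_pos_iff]; omega
        obtain ⟨a0⟩ := hne
        have hk3 : k = 3 := (hB a0).1
        subst hk3
        have hcard4 : ∀ a b c : α, ∃ d, d ≠ a ∧ d ≠ b ∧ d ≠ c := by
          classical
          intro a b c
          by_contra hcon
          simp only [not_exists, not_and_or, not_not] at hcon
          have hsub : (Finset.univ : Finset α) ⊆ {a, b, c} := by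
            intro d _
            simp only [Finset.mem_insert, Finset.mem_singleton]
            exact hcon d
          have h1 := Finset.card_le_card hsub
          have h2 : ({a, b, c} : Finset α).card ≤ 3 := Finset.card_le_three
          rw [Finset.card_univ] at h1
          omega
        have htr : ∀ a c x : α, c ≠ a → x ≠ a → ∃ m ∈ N, m • a = a ∧ m • c = x := by
          intro a c x hca hxa
          have h2 : IsMultiplyPretransitive (stabilizer G a) (ofStabilizer G a) 2 :=
            @isMultiplyPretransitive_of_le _ _ _ _ 2 3 (hstab a) (by omega)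
              (by have := hcard a; omega) _
          have := isPreprimitive_of_is_two_pretransitive h2
          have := faithful_ofStabilizer (G := G) a
          have htr' := normal_trans (α := ofStabilizer G a) (N.subgroupOf (stabilizer G a)) (hreg a)
          obtain ⟨m, hm⟩ := htr'.exists_smul_eq (⟨c, hca⟩ : ofStabilizer G a) ⟨x, hxa⟩
          refine ⟨((m : stabilizer G a) : G), m.2, (m : stabilizer G a).2, ?_⟩
          exact congrArg Subtype.val hm
        have hab : ∀ a : α, ∀ n ∈ N, ∀ m ∈ N, n • a = a → m • a = a → n * m = m * n := by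
          intro a n hn m hm hna hma
          have hcomm := (hB a).2.1
          have := hcomm.is_comm.comm (⟨⟨n, hna⟩, hn⟩ : N.subgroupOf (stabilizer G a))
            ⟨⟨m, hma⟩, hm⟩
          exact congrArg (fun t : N.subgroupOf (stabilizer G a) => ((t : stabilizer G a) : G)) this
        have hinv : ∀ a : α, ∀ n ∈ N, n • a = a → n ^ 2 = 1 := by
          intro a n hn hna
          have := (hB a).2.2 (⟨n, hna⟩ : stabilizer G a) hn
          exact congrArg Subtype.val this
        exact no_sharp N a0 hcard4 htr hab hinv

end Cfsg.Agent.Lib.Helper12.MultTrans
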