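import Mathlib
import Cfsg.Prelude
import Cfsg.Agent.Lib.Helper12.BurnsidePrime
import Cfsg.Agent.S0671
import Cfsg.Agent.S0674
import Cfsg.Agent.S0675
import Cfsg.Agent.Lib.Helper12.MultTrans

set_option autoImplicit false
set_option linter.unusedSectionVars false

namespace Cfsg.Agent.Lib.Helper12.PrimeDegree

open Cfsg.Agent.Lib.Helper12.BurnsidePrime
open Cfsg.Agent.Lib.Helper12.ShiftPoly

section LemmaA

variable {Ω : Type*} [Fintype Ω] [DecidableEq Ω] {p : ℕ} [Fact p.Prime]

/-- powers of the translation by one -/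
theorem label_pow (e : Ω ≃ ZMod p) (X : Equiv.Perm Ω) (he : ∀ ω, e (X ω) = e ω + 1) (n : ℕ)
    (ω : Ω) : e ((X ^ n) ω) = e ω + n := by
  induction n with
  | zero => simp
  | succ n ih =>
    rw [pow_succ', Equiv.Perm.mul_apply, he, ih]
    push_cast
    ring

theorem label_inv (e : Ω ≃ ZMod p) (X : Equiv.Perm Ω) (he : ∀ ω, e (X ω) = e ω + 1)
    (ω : Ω) : e (X⁻¹ ω) = e ω - 1 := by
  have h := he (X⁻¹ ω)
  have h2 : X (X⁻¹ ω) = ω := by simp
  rw [h2] at h
  rw [h]; ring

theorem label_zpow (e : Ω ≃ ZMod p) (X : Equiv.Perm Ω) (he : ∀ ω, e (X ω) = e ω + 1) (k : ℤ)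
    (ω : Ω) : e ((X ^ k) ω) = e ω + k := by
  induction k using Int.induction_on generalizing ω with
  | zero => simp
  | succ n ih =>
    rw [zpow_add_one, Equiv.Perm.mul_apply, ih, he]
    push_cast
    ring
  | pred n ih =>
    rw [zpow_sub_one, Equiv.Perm.mul_apply, ih, label_inv e X he]
    push_cast
    ring

/-- an involution normalizing a `p`-cycle on `p` points (`p` odd) has exactly one fixed point -/
theorem unique_fixed_of_involution (hΩ : Fintype.card Ω = p) (hp2 : p ≠ 2)
    (X T : Equiv.Perm Ω) (hX : orderOf X = p) (hT1 : T ≠ 1) (hT2 : T * T = 1)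
    (hnorm : T * X * T⁻¹ ∈ Subgroup.zpowers X) : ∃ ω₀ : Ω, ∀ ω, T ω = ω ↔ ω = ω₀ := by
  have hp : p.Prime := Fact.out
  obtain ⟨e, he⟩ := exists_label hΩ X hX
  obtain ⟨k, hk⟩ := Subgroup.mem_zpowers_iff.1 hnorm
  have hTX : ∀ ω, T (X ω) = (X ^ k) (T ω) := by
    intro ω
    rw [hk]
    simp
  set κ : ZMod p := (k : ZMod p) with hκ
  let τ : ZMod p → ZMod p := fun j => e (T (e.symm j))
  set c : ZMod p := τ 0 with hc
  have hsucc : ∀ j, τ (j + 1) = τ j + κ := by
    intro j
    show e (T (e.symm (j + 1))) = e (T (e.symm j)) + κ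
    have h1 : e.symm (j + 1) = X (e.symm j) := by
      apply e.injective
      rw [he, e.apply_symm_apply, e.apply_symm_apply]
    rw [h1, hTX, label_zpow e X he]
  have hnat : ∀ n : ℕ, τ (n : ZMod p) = c + κ * n := by
    intro n
    induction n with
    | zero => simp [hc]
    | succ n ih =>
      push_cast
      rw [hsucc, ih]; ring
  have hτ : ∀ j, τ j = c + κ * j := by
    intro j
    have := hnat j.val
    rwa [ZMod.natCast_zmod_val] at this
  have hinv : ∀ j, τ (τ j) = j := by
    intro j
    show e (T (e.symm (e (T (e.symm j))))) = j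
    rw [e.symm_apply_apply, ← Equiv.Perm.mul_apply, hT2]
    simp
  have h0 := hinv 0
  have h1 := hinv 1
  rw [hτ, hτ] at h0 h1
  have hκ2 : (κ - 1) * (κ + 1) = 0 := by linear_combination h1 - h0
  have h2ne : (2 : ZMod p) ≠ 0 := by
    intro h
    have h' : ((2 : ℕ) : ZMod p) = 0 := by exact_mod_cast h
    rw [ZMod.natCast_eq_zero_iff] at h'
    have := (Nat.prime_dvd_prime_iff_eq hp Nat.prime_two).1 h'
    exact hp2 this
  rcases mul_eq_zero.1 hκ2 with hk1 | hk1
  · exfalso
    have hκ1 : κ = 1 := by linear_combination hk1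
    have hc0 : c = 0 := by
      have : (2 : ZMod p) * c = 0 := by rw [hκ1] at h0; linear_combination h0
      rcases mul_eq_zero.1 this with h | h
      · exact absurd h h2ne
      · exact h
    apply hT1
    ext ω
    apply e.injective
    have := hτ (e ω)
    rw [hκ1, hc0] at this
    show e (T ω) = e ω
    have h3 : τ (e ω) = e (T ω) := by
      show e (T (e.symm (e ω))) = _
      rw [e.symm_apply_apply]
    rw [← h3, this]; ring
  · have hκ1 : κ = -1 := by linear_combination hk1
    refine ⟨e.symm (c / 2), fun ω => ?_⟩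
    have h3 : τ (e ω) = e (T ω) := by
      show e (T (e.symm (e ω))) = _
      rw [e.symm_apply_apply]
    have h4 : e (T ω) = c - e ω := by
      rw [← h3, hτ, hκ1]; ring
    constructor
    · intro hfix
      rw [hfix] at h4
      apply e.injective
      rw [e.apply_symm_apply]
      field_simp
      linear_combination h4
    · intro hω
      apply e.injective
      rw [h4, hω, e.apply_symm_apply]
      field_simp
      ring

end LemmaA

section Dichotomy

variable {α : Type*} [Fintype α] [DecidableEq α] {p : ℕ} [Fact p.Prime]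

/-- all elements of `G` are affine in some labeling of the points by `ZMod p` -/
def AllAffine (p : ℕ) (G : Subgroup (Equiv.Perm α)) : Prop :=
  ∃ e : α ≃ ZMod p, ∀ g ∈ G, ∃ a b : ZMod p, ∀ x, e (g x) = a * e x + b

/-- in a transitive group of prime degree `p`, the existence of an invariant subspace of the
permutation module in characteristic `p` of dimension between `2` and `p / 2` forces
all elements to be affine -/
theorem affine_of_subrep (hα : Fintype.card α = p) (G : Subgroup (Equiv.Perm α))
    [MulAction.IsPretransitive G α] {K : Type*} [Field K] [CharP K p]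
    (U : Subrepresentation (Cfsg.permRep K G α)) (h2 : 2 ≤ Module.finrank K U.toSubmodule)
    (hp2 : 2 * Module.finrank K U.toSubmodule ≤ p) : AllAffine p G := by
  have hp : p.Prime := Fact.out
  have hne : Nonempty α := by
    rw [← Fintype.card_pos_iff, hα]
    exact hp.pos
  obtain ⟨x₀⟩ := hne
  have hdvd : p ∣ Nat.card G := by
    have h1 := MulAction.index_stabilizer_of_transitive G x₀
    rw [Nat.card_eq_fintype_card, hα] at h1
    rw [← h1]
    exact Subgroup.index_dvd_card _
  obtain ⟨t, ht⟩ := exists_prime_orderOf_dvd_card' p hdvd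
  have ht' : orderOf (t : Equiv.Perm α) = p := by rw [Subgroup.orderOf_coe, ht]
  obtain ⟨e, he⟩ := exists_label hα (t : Equiv.Perm α) ht'
  let Leq : (ZMod p → K) ≃ₗ[K] (α → K) := LinearEquiv.funCongrLeft K K e
  have hLeq : ∀ (F : ZMod p → K) (x : α), Leq F x = F (e x) := fun F x => rfl
  let U' : Submodule K (ZMod p → K) := U.toSubmodule.comap Leq.toLinearMap
  have hmemU' : ∀ F : ZMod p → K, F ∈ U' ↔ Leq F ∈ U.toSubmodule := fun F => Iff.rfl
  have hfin : Module.finrank K U' = Module.finrank K U.toSubmodule := by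
    have h1 : U' = U.toSubmodule.map Leq.symm.toLinearMap :=
      Submodule.comap_equiv_eq_map_symm Leq U.toSubmodule
    rw [h1]
    exact LinearEquiv.finrank_map_eq Leq.symm U.toSubmodule
  -- shift invariance
  have hshift : ∀ F ∈ U', (fun j => F (j - 1)) ∈ U' := by
    intro F hF
    rw [hmemU'] at hF ⊢
    have h1 := U.apply_mem_toSubmodule t hF
    convert h1 using 1
    funext x
    show F (e x - 1) = F (e ((t⁻¹ : G) • x))
    congr 1
    have h3 := he ((t⁻¹ : G) • x)
    have h4 : (t : Equiv.Perm α) ((t⁻¹ : G) • x) = x := by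
      show (t : Equiv.Perm α) (((t : Equiv.Perm α))⁻¹ x) = x
      simp
    rw [h4] at h3
    rw [h3]; ring
  obtain ⟨_, hU'⟩ := shift_invariant U' hshift
  rw [hfin] at hU'
  -- every element is affine
  refine ⟨e, ?_⟩
  intro g hg
  let τ : Equiv.Perm (ZMod p) := e.symm.trans ((g : Equiv.Perm α).trans e)
  have hτ : ∀ j, τ j = e (g (e.symm j)) := fun j => rfl
  have hinv : ∀ F ∈ polyFun p K (Module.finrank K U.toSubmodule),
      (fun j => F (τ j)) ∈ polyFun p K (Module.finrank K U.toSubmodule) := by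
    intro F hF
    rw [← hU'] at hF ⊢
    rw [hmemU'] at hF ⊢
    have h1 := U.apply_mem_toSubmodule (⟨g, hg⟩ : G)⁻¹ hF
    convert h1 using 1
    funext x
    show F (τ (e x)) = F (e (((⟨g, hg⟩ : G)⁻¹)⁻¹ • x))
    rw [hτ, e.symm_apply_apply, inv_inv]
    rfl
  obtain ⟨a, b, hab⟩ := affine_of_invariant (K := K) _ h2 hp2 τ hinv
  refine ⟨a, b, fun x => ?_⟩
  have := hab (e x)
  rw [hτ, e.symm_apply_apply] at this
  exact this

/-- if not all elements are affine, the heart of the permutation module is irreducible -/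
theorem heart_of_not_affine (hα : Fintype.card α = p) (G : Subgroup (Equiv.Perm α))
    [MulAction.IsPretransitive G α] (hG : ¬ AllAffine p G) {K : Type*} [Field K] [CharP K p]
    (W : Subrepresentation (Cfsg.permRep K G α))
    (h₁ : (Cfsg.permConstants K G α).toSubmodule ≤ W.toSubmodule)
    (h₂ : W.toSubmodule ≤ (Cfsg.permSumZero K G α).toSubmodule) :
    W = Cfsg.permConstants K G α ∨ W = Cfsg.permSumZero K G α := by
  have hp : p.Prime := Fact.out
  have hne : Nonempty α := by
    rw [← Fintype.card_pos_iff, hα]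
    exact hp.pos
  obtain ⟨x₀⟩ := hne
  have hfinV : Module.finrank K (α → K) = p := by simp [hα]
  -- dimension of the constants
  have hc1 : Module.finrank K (Cfsg.permConstants K G α).toSubmodule = 1 := by
    show Module.finrank K (Submodule.span K {(fun _ => (1 : K) : α → K)}) = 1
    apply finrank_span_singleton
    intro h
    have := congrFun h x₀
    simp at this
  -- the sum-zero functions are a proper subspace
  have hs1 : Module.finrank K (Cfsg.permSumZero K G α).toSubmodule < p := by
    rw [← hfinV]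
    apply Submodule.finrank_lt
    intro htop
    have h1 : (Pi.single x₀ (1 : K) : α → K) ∈ (Cfsg.permSumZero K G α).toSubmodule := by
      rw [htop]; trivial
    have h2 : ∑ x, (Pi.single x₀ (1 : K) : α → K) x = 0 := h1
    rw [Finset.sum_pi_single'] at h2
    simp at h2
  have hr1 : 1 ≤ Module.finrank K W.toSubmodule := by
    rw [← hc1]
    exact Submodule.finrank_mono h₁
  have hr2 : Module.finrank K W.toSubmodule ≤
      Module.finrank K (Cfsg.permSumZero K G α).toSubmodule :=
    Submodule.finrank_mono h₂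
  by_cases hA : Module.finrank K W.toSubmodule = 1
  · left
    apply Subrepresentation.toSubmodule_injective
    exact (Submodule.eq_of_le_of_finrank_eq h₁ (by rw [hc1, hA])).symm
  by_cases hB : Module.finrank K W.toSubmodule = p - 1
  · right
    apply Subrepresentation.toSubmodule_injective
    apply Submodule.eq_of_le_of_finrank_le h₂
    omega
  exfalso
  apply hG
  by_cases hC : 2 * Module.finrank K W.toSubmodule ≤ p
  · exact affine_of_subrep hα G W (by omega) hC
  · have h3 := Cfsg.Agent.S0674.finrank_perp W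
    rw [hα] at h3
    exact affine_of_subrep hα G (Cfsg.Agent.S0674.perp W) (by omega) (by omega)

/-- in degree at most three, everything is affine -/
theorem affine_small (hα : Fintype.card α = p) (hp3 : p ≤ 3) (G : Subgroup (Equiv.Perm α)) :
    AllAffine p G := by
  have hpp : p.Prime := Fact.out
  have h23 : p = 2 ∨ p = 3 := by
    have := hpp.two_le
    omega
  have e : α ≃ ZMod p := Fintype.equivOfCardEq (by rw [hα, ZMod.card])
  refine ⟨e, ?_⟩
  intro g _
  let τ : Equiv.Perm (ZMod p) := e.symm.trans (g.trans e)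
  have hτ : ∀ j, τ j = e (g (e.symm j)) := fun j => rfl
  have haff : ∃ a b : ZMod p, ∀ j, τ j = a * j + b := by
    rcases h23 with rfl | rfl
    · exact Cfsg.Agent.S0675.affine_two τ
    · exact Cfsg.Agent.S0675.affine_three τ
  obtain ⟨a, b, hab⟩ := haff
  refine ⟨a, b, fun x => ?_⟩
  have := hab (e x)
  rw [hτ, e.symm_apply_apply] at this
  exact this

/-- a transitive group of prime degree `p ≥ 5` is affine or doubly transitive -/
theorem affine_or_two_trans (hα : Fintype.card α = p) (hp5 : 5 ≤ p)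
    (G : Subgroup (Equiv.Perm α)) [MulAction.IsPretransitive G α] :
    AllAffine p G ∨ MulAction.IsMultiplyPretransitive G α 2 := by
  by_cases hsolv : AllAffine p G
  · exact Or.inl hsolv
  right
  apply Cfsg.Agent.S0671.result (G := G) (K := ZMod p) (p := p) (f := 1) le_rfl
    (by rw [pow_one]; exact hα)
  intro W W' hcW hWW' hW's
  have hW : W = Cfsg.permConstants (ZMod p) G α ∨ W = Cfsg.permSumZero (ZMod p) G α :=
    heart_of_not_affine (p := p) hα G hsolv W hcW (le_trans hWW'.le hW's)
  have hW' : W' = Cfsg.permConstants (ZMod p) G α ∨ W' = Cfsg.permSumZero (ZMod p) G α :=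
    heart_of_not_affine (p := p) hα G hsolv W' (le_trans hcW hWW'.le) hW's
  have hWc : W = Cfsg.permConstants (ZMod p) G α := by
    rcases hW with h | h
    · exact h
    · exfalso
      rw [h] at hWW'
      exact absurd (le_antisymm hW's hWW'.le) (ne_of_gt hWW')
  have hW's' : W' = Cfsg.permSumZero (ZMod p) G α := by
    rcases hW' with h | h
    · exfalso
      rw [h, hWc] at hWW'
      exact lt_irrefl _ hWW'
    · exact h
  subst hWc
  subst hW's'
  -- choose two points and an element moving one to the other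
  have hcard2 : 1 < Fintype.card α := by omega
  obtain ⟨a, b, hab⟩ := Fintype.exists_pair_of_one_lt_card hcard2
  obtain ⟨g, hg⟩ := MulAction.exists_smul_eq G a b
  let v : α → ZMod p := Pi.single a 1 - Pi.single b 1
  refine ⟨g, v, ?_, ?_⟩
  · show ∑ x, v x = 0
    simp only [v, Pi.sub_apply, Finset.sum_sub_distrib, Finset.sum_pi_single', Finset.mem_univ,
      if_true, sub_self]
  · intro hmem
    have hmem' : (Cfsg.permRep (ZMod p) G α g v - v) ∈
        Submodule.span (ZMod p) {(fun _ => (1 : ZMod p) : α → ZMod p)} := hmem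
    rw [Submodule.mem_span_singleton] at hmem'
    obtain ⟨c, hc⟩ := hmem'
    -- a point outside `{a, b, g • b}`
    have hx : ∃ x : α, x ≠ a ∧ x ≠ b ∧ x ≠ g • b := by
      have hlt : ({a, b, g • b} : Finset α).card < (Finset.univ : Finset α).card := by
        rw [Finset.card_univ]
        have : ({a, b, g • b} : Finset α).card ≤ 3 := Finset.card_le_three
        omega
      obtain ⟨x, _, hx⟩ := Finset.exists_mem_notMem_of_card_lt_card hlt
      simp only [Finset.mem_insert, Finset.mem_singleton, not_or] at hx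
      exact ⟨x, hx.1, hx.2.1, hx.2.2⟩
    obtain ⟨x, hxa, hxb, hxgb⟩ := hx
    have hval : ∀ y : α, (Cfsg.permRep (ZMod p) G α g v - v) y =
        v (g⁻¹ • y) - v y := fun y => rfl
    have hc0 : c = 0 := by
      have h1 := congrFun hc x
      rw [hval] at h1
      have hgx_a : g⁻¹ • x ≠ a := by
        intro h
        apply hxb
        rw [← hg, ← h, smul_inv_smul]
      have hgx_b : g⁻¹ • x ≠ b := by
        intro h
        apply hxgb
        rw [← h, smul_inv_smul]
      simp only [v, Pi.sub_apply, Pi.single_apply, if_neg hgx_a, if_neg hgx_b, if_neg hxa,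
        if_neg hxb, sub_self, Pi.smul_apply, smul_eq_mul, mul_one] at h1
      exact h1
    have h2 := congrFun hc a
    rw [hval, hc0] at h2
    have hga_a : g⁻¹ • a ≠ a := by
      intro h
      apply hab
      have h' : a = g • a := inv_smul_eq_iff.1 h
      exact h'.trans hg
    have hva : v a = 1 := by
      simp [v, hab]
    have hlhs : ((0 : ZMod p) • fun _ : α => (1 : ZMod p)) a = 0 := by simp
    rw [hlhs, hva] at h2
    have h1ne : (1 : ZMod p) ≠ 0 := one_ne_zero
    have h2ne : (2 : ZMod p) ≠ 0 := by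
      intro h
      have h' : ((2 : ℕ) : ZMod p) = 0 := by exact_mod_cast h
      rw [ZMod.natCast_eq_zero_iff] at h'
      have := Nat.le_of_dvd (by norm_num) h'
      omega
    by_cases hb : g⁻¹ • a = b
    · have hvb : v (g⁻¹ • a) = -1 := by
        rw [hb]
        simp [v, Ne.symm hab]
      rw [hvb] at h2
      apply h2ne
      linear_combination h2
    · have hvb : v (g⁻¹ • a) = 0 := by
        simp [v, hga_a, hb]
      rw [hvb] at h2
      apply h1ne
      linear_combination h2

end Dichotomy

section AffineCase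

variable {α : Type*} [Fintype α] [DecidableEq α] {p : ℕ} [Fact p.Prime]

/-- a subgroup of an affine group whose order is prime to `p` fixes a point -/
theorem affine_fixed_point (e : α ≃ ZMod p) (G : Subgroup (Equiv.Perm α))
    (haff : ∀ g ∈ G, ∃ a b : ZMod p, ∀ x, e (g x) = a * e x + b) (H : Subgroup G)
    (hpH : ¬ p ∣ Nat.card H) : ∃ a : α, ∀ h ∈ H, ((h : G) : Equiv.Perm α) a = a := by
  have hp : p.Prime := Fact.out
  -- translations in `H` are trivial
  have htrans : ∀ h ∈ H, ∀ b : ZMod p, (∀ x, e ((h : Equiv.Perm α) x) = e x + b) → h = 1 := by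
    intro h hh b hb
    by_contra hne
    have hpow : ∀ n : ℕ, ∀ x, e (((h : Equiv.Perm α) ^ n) x) = e x + n * b := by
      intro n
      induction n with
      | zero => intro x; simp
      | succ n ih =>
        intro x
        rw [pow_succ', Equiv.Perm.mul_apply, hb, ih]
        push_cast
        ring
    have hhp : h ^ p = 1 := by
      apply Subtype.ext
      rw [Subgroup.coe_pow, Subgroup.coe_one]
      ext x
      apply e.injective
      rw [hpow p x]
      simp
    have hord : orderOf h = p := orderOf_eq_prime hhp hne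
    have hord' : orderOf (⟨h, hh⟩ : H) = p := by
      rw [← Subgroup.orderOf_coe]
      exact hord
    apply hpH
    rw [← hord']
    exact orderOf_dvd_natCard _
  -- slopes are nonzero
  have hslope : ∀ g ∈ G, ∀ a b : ZMod p, (∀ x, e (g x) = a * e x + b) → a ≠ 0 := by
    intro g _ a b hab ha
    have h0 := hab (e.symm 0)
    have h1 := hab (e.symm 1)
    rw [ha] at h0 h1
    have h2 : e.symm (0 : ZMod p) = e.symm 1 := by
      apply g.injective
      apply e.injective
      rw [h0, h1]; ring
    have h3 : (0 : ZMod p) = 1 := e.symm.injective h2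
    exact zero_ne_one h3
  by_cases hH1 : ∀ h ∈ H, h = 1
  · refine ⟨e.symm 0, fun h hh => ?_⟩
    rw [hH1 h hh]
    rfl
  simp only [not_forall] at hH1
  obtain ⟨h₀, hh₀, hne₀⟩ := hH1
  obtain ⟨a₀, b₀, hab₀⟩ := haff h₀ h₀.2
  have ha₀ : a₀ ≠ 1 := by
    intro h
    apply hne₀
    apply htrans h₀ hh₀ b₀
    intro x
    rw [hab₀, h, one_mul]
  have ha₀' : 1 - a₀ ≠ 0 := sub_ne_zero.2 (Ne.symm ha₀)
  -- the unique fixed point of `h₀`
  have hfix₀ : ∀ x, (h₀ : Equiv.Perm α) x = x ↔ e x = b₀ / (1 - a₀) := by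
    intro x
    constructor
    · intro hx
      have := hab₀ x
      rw [hx] at this
      field_simp
      linear_combination this
    · intro hx
      apply e.injective
      rw [hab₀, hx]
      field_simp
      ring
  refine ⟨e.symm (b₀ / (1 - a₀)), fun h hh => ?_⟩
  obtain ⟨a, b, hab⟩ := haff h h.2
  have ha := hslope h h.2 a b hab
  have ha0 := hslope h₀ h₀.2 a₀ b₀ hab₀
  -- the commutator is a translation
  set k : G := h * h₀ * h⁻¹ * h₀⁻¹ with hk
  have hkH : k ∈ H := H.mul_mem (H.mul_mem (H.mul_mem hh hh₀) (H.inv_mem hh)) (H.inv_mem hh₀)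
  obtain ⟨ak, bk, habk⟩ := haff k k.2
  have hkeq : k * h₀ * h = h * h₀ := by rw [hk]; group
  have hkeq' : ∀ x, e ((k : Equiv.Perm α) ((h₀ : Equiv.Perm α) ((h : Equiv.Perm α) x))) =
      e ((h : Equiv.Perm α) ((h₀ : Equiv.Perm α) x)) := by
    intro x
    have : ((k * h₀ * h : G) : Equiv.Perm α) x = ((h * h₀ : G) : Equiv.Perm α) x := by
      rw [hkeq]
    exact congrArg e this
  have hak : ak = 1 := by
    have h0 := hkeq' (e.symm 0)
    have h1 := hkeq' (e.symm 1)
    rw [habk, hab₀, hab, hab, hab₀, e.apply_symm_apply] at h0 h1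
    have h2 : (ak - 1) * (a * a₀) = 0 := by linear_combination h1 - h0
    rcases mul_eq_zero.1 h2 with h3 | h3
    · linear_combination h3
    · exact absurd h3 (mul_ne_zero ha ha0)
  have hk1 : k = 1 := by
    apply htrans k hkH bk
    intro x
    rw [habk, hak, one_mul]
  have hcomm : h * h₀ = h₀ * h := by
    rw [← hkeq, hk1, one_mul]
  have hcomm' : ∀ x, (h : Equiv.Perm α) ((h₀ : Equiv.Perm α) x) =
      (h₀ : Equiv.Perm α) ((h : Equiv.Perm α) x) := by
    intro x
    have : ((h * h₀ : G) : Equiv.Perm α) x = ((h₀ * h : G) : Equiv.Perm α) x := by rw [hcomm]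
    exact this
  have h1 : (h₀ : Equiv.Perm α) (e.symm (b₀ / (1 - a₀))) = e.symm (b₀ / (1 - a₀)) := by
    rw [hfix₀, e.apply_symm_apply]
  have h2 : (h₀ : Equiv.Perm α) ((h : Equiv.Perm α) (e.symm (b₀ / (1 - a₀)))) =
      (h : Equiv.Perm α) (e.symm (b₀ / (1 - a₀))) := by
    rw [← hcomm', h1]
  rw [hfix₀] at h2
  apply e.injective
  rw [h2, e.apply_symm_apply]

end AffineCase

section Design

variable {α : Type*} [Fintype α] [DecidableEq α] {p : ℕ} [Fact p.Prime]

theorem even_card_of_involution {ι : Type*} [DecidableEq ι] (s : Finset ι) (g : ι → ι)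
    (hmem : ∀ a ∈ s, g a ∈ s) (hinv : ∀ a ∈ s, g (g a) = a) (hne : ∀ a ∈ s, g a ≠ a) :
    Even s.card := by
  rw [← ZMod.natCast_eq_zero_iff_even]
  have h := Finset.sum_involution (s := s) (f := fun _ => (1 : ZMod 2)) (fun a _ => g a)
    (fun a ha => by decide) (fun a ha _ => hne a ha) (fun a ha => hmem a ha)
    (fun a ha => hinv a ha)
  simpa using h

/-- the unique fixed point of an involution normalizing an element of order `p`, in a
faithful action on `p` points -/
theorem unique_fixed_hom {Ω : Type*} [Fintype Ω] [DecidableEq Ω] {G : Type*} [Group G]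
    (hΩ : Fintype.card Ω = p) (hp2 : p ≠ 2)
    (φ : G →* Equiv.Perm Ω) (hφ : Function.Injective φ) (x t : G) (hx : orderOf x = p)
    (ht : orderOf t = 2) (hnorm : t * x * t⁻¹ ∈ Subgroup.zpowers x) :
    ∃ ω₀ : Ω, ∀ ω, φ t ω = ω ↔ ω = ω₀ := by
  apply unique_fixed_of_involution hΩ hp2 (φ x) (φ t)
  · rw [orderOf_injective φ hφ, hx]
  · intro h
    have h1 : t = 1 := hφ (by rw [h, map_one])
    rw [h1, orderOf_one] at ht
    omega
  · rw [← map_mul, ← pow_two, ← ht, pow_orderOf_eq_one, map_one]
  · obtain ⟨k, hk⟩ := Subgroup.mem_zpowers_iff.1 hnorm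
    rw [Subgroup.mem_zpowers_iff]
    refine ⟨k, ?_⟩
    rw [← map_zpow, hk, map_mul, map_mul, map_inv]

theorem design_fixed_point (hα : Fintype.card α = p) (hp2 : p ≠ 2)
    (G : Subgroup (Equiv.Perm α)) [MulAction.IsPretransitive G α]
    (h2t : MulAction.IsMultiplyPretransitive G α 2) (H : Subgroup G) (hH : H.index = p)
    (hpH : ¬ p ∣ Nat.card H) (x t : G) (hx : orderOf x = p) (ht : orderOf t = 2)
    (hnorm : t * x * t⁻¹ ∈ Subgroup.zpowers x) : ∃ a : α, ∀ h ∈ H, (h : G) • a = a := by
  classical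
  have hp : p.Prime := Fact.out
  by_contra hno
  simp only [not_exists, not_forall] at hno
  have h2t' : ∀ a b c d : α, a ≠ b → c ≠ d → ∃ g : G, g • a = c ∧ g • b = d := by
    intro a b c d hab hcd
    exact MulAction.is_two_pretransitive_iff.1 h2t hab hcd
  have hne : Nonempty α := by
    rw [← Fintype.card_pos_iff, hα]
    exact hp.pos
  -- the core of `H` is trivial
  have hcore : H.normalCore = ⊥ := by
    by_contra hN
    have : MulAction.IsPreprimitive G α :=
      MulAction.IsPreprimitive.of_prime_card (by rw [Nat.card_eq_fintype_card, hα]; exact hp)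
    have : MulAction.IsPretransitive H.normalCore α :=
      Cfsg.Agent.Lib.Helper12.MultTrans.normal_trans H.normalCore hN
    obtain ⟨a⟩ := hne
    have h1 := MulAction.index_stabilizer_of_transitive H.normalCore a
    rw [Nat.card_eq_fintype_card, hα] at h1
    have h2 : p ∣ Nat.card H.normalCore := by
      rw [← h1]
      exact Subgroup.index_dvd_card _
    exact hpH (h2.trans (Subgroup.card_dvd_of_le (Subgroup.normalCore_le H)))
  have htt' : t * t = 1 := by
    rw [← pow_two, ← ht, pow_orderOf_eq_one]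
  obtain ⟨a₀, ha₀⟩ := unique_fixed_hom hα hp2 G.subtype G.subtype_injective x t hx ht hnorm
  have ha₀' : ∀ a : α, t • a = a ↔ a = a₀ := ha₀
  haveI : Fintype (G ⧸ H) := Fintype.ofFinite _
  have hΩ : Fintype.card (G ⧸ H) = p := by
    rw [← Nat.card_eq_fintype_card, ← Subgroup.index_eq_card, hH]
  have hinj : Function.Injective (MulAction.toPermHom G (G ⧸ H)) := by
    rw [← MonoidHom.ker_eq_bot_iff, ← Subgroup.normalCore_eq_ker, hcore]
  obtain ⟨B₀, hB₀⟩ := unique_fixed_hom hΩ hp2 _ hinj x t hx ht hnorm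
  have hB₀' : ∀ B : G ⧸ H, t • B = B ↔ B = B₀ := hB₀
  obtain ⟨g₀, hg₀⟩ := QuotientGroup.mk_surjective B₀
  obtain ⟨h₁, hh₁, hne₁⟩ := hno (g₀⁻¹ • a₀)
  let Δ : Set α := {a | ∃ h ∈ H, a = h • (g₀⁻¹ • a₀)}
  have hΔinv : ∀ h ∈ H, ∀ a ∈ Δ, h • a ∈ Δ := by
    rintro h hh a ⟨h', hh', rfl⟩
    exact ⟨h * h', H.mul_mem hh hh', (mul_smul _ _ _).symm⟩
  let I : α → G ⧸ H → Prop := fun a B => ∃ g : G, (g : G ⧸ H) = B ∧ g⁻¹ • a ∈ Δ
  have hI : ∀ a B (k : G), I a B → I (k • a) (k • B) := by
    rintro a B k ⟨g, rfl, hg⟩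
    refine ⟨k * g, rfl, ?_⟩
    rw [mul_inv_rev, mul_smul, inv_smul_smul]
    exact hg
  have hI0 : ∀ a, I a B₀ ↔ g₀⁻¹ • a ∈ Δ := by
    intro a
    constructor
    · rintro ⟨g, hg, hmem⟩
      rw [← hg₀] at hg
      have h1 : g⁻¹ * g₀ ∈ H := QuotientGroup.eq.1 hg
      have h2 : g₀⁻¹ • a = (g⁻¹ * g₀)⁻¹ • (g⁻¹ • a) := by
        rw [mul_inv_rev, inv_inv, mul_smul, smul_inv_smul]
      rw [h2]
      exact hΔinv _ (H.inv_mem h1) _ hmem
    · intro h
      exact ⟨g₀, hg₀, h⟩
  let Sa : α → Finset (G ⧸ H) := fun a => Finset.univ.filter (fun B => I a B ∧ I (t • a) B)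
  have hmemSa : ∀ a B, B ∈ Sa a ↔ I a B ∧ I (t • a) B := by
    intro a B
    simp [Sa]
  have htt : ∀ a : α, t • t • a = a := by
    intro a
    rw [← mul_smul, htt', one_smul]
  have httB : ∀ B : G ⧸ H, t • t • B = B := by
    intro B
    rw [← mul_smul, htt', one_smul]
  have htB₀ : t • B₀ = B₀ := (hB₀' B₀).2 rfl
  -- cardinalities agree
  have hle : ∀ a a', a ≠ a₀ → a' ≠ a₀ → (Sa a).card ≤ (Sa a').card := by
    intro a a' ha ha'
    have h1 : a ≠ t • a := fun h => ha ((ha₀' a).1 h.symm)
    have h2 : a' ≠ t • a' := fun h => ha' ((ha₀' a').1 h.symm)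
    obtain ⟨g, hg1, hg2⟩ := h2t' a (t • a) a' (t • a') h1 h2
    apply Finset.card_le_card_of_injOn (fun B => g • B)
    · intro B hB
      rw [Finset.mem_coe, hmemSa] at hB ⊢
      refine ⟨?_, ?_⟩
      · have := hI a B g hB.1
        rwa [hg1] at this
      · have := hI (t • a) B g hB.2
        rwa [hg2] at this
    · intro B _ B' _ h
      exact MulAction.injective g h
  have hcard : ∀ a a', a ≠ a₀ → a' ≠ a₀ → (Sa a).card = (Sa a').card :=
    fun a a' ha ha' => le_antisymm (hle a a' ha ha') (hle a' a ha' ha)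
  -- parity
  have hpar : ∀ a, a ≠ a₀ → (Odd (Sa a).card ↔ I a B₀) := by
    intro a ha
    have hev : Even ((Sa a).erase B₀).card := by
      apply even_card_of_involution _ (fun B => t • B)
      · intro B hB
        rw [Finset.mem_erase, hmemSa] at hB ⊢
        refine ⟨?_, ?_, ?_⟩
        · intro h
          apply hB.1
          have h3 : t • t • B = t • B₀ := by rw [h]
          rw [httB, htB₀] at h3
          exact h3
        · have := hI (t • a) B t hB.2.2
          rwa [htt] at this
        · exact hI a B t hB.2.1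
      · intro B _
        exact httB B
      · intro B hB
        rw [Finset.mem_erase] at hB
        intro h
        exact hB.1 ((hB₀' B).1 h)
    by_cases hmem : B₀ ∈ Sa a
    · have hc := Finset.card_erase_add_one hmem
      constructor
      · intro _
        exact ((hmemSa a _).1 hmem).1
      · intro _
        rw [← hc]
        exact hev.add_one
    · have hc : (Sa a).erase B₀ = Sa a := Finset.erase_eq_of_notMem hmem
      rw [hc] at hev
      constructor
      · intro hodd
        exact absurd hev (Nat.not_even_iff_odd.2 hodd)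
      · intro hI'
        exfalso
        apply hmem
        rw [hmemSa]
        refine ⟨hI', ?_⟩
        have := hI a _ t hI'
        rwa [htB₀] at this
  -- all points different from `a₀` are in the block `B₀`
  have hall : ∀ a, a ≠ a₀ → I a B₀ := by
    intro a ha
    have hb : g₀ • ((h₁ : G) • (g₀⁻¹ • a₀)) ≠ a₀ := by
      intro h
      apply hne₁
      have h3 : g₀⁻¹ • (g₀ • ((h₁ : G) • (g₀⁻¹ • a₀))) = g₀⁻¹ • a₀ := by rw [h]
      rwa [inv_smul_smul] at h3
    have hIb : I (g₀ • ((h₁ : G) • (g₀⁻¹ • a₀))) B₀ := by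
      rw [hI0, inv_smul_smul]
      exact ⟨h₁, hh₁, rfl⟩
    rw [← hpar a ha, hcard a _ ha hb, hpar _ hb]
    exact hIb
  -- so `H` is transitive
  have hΔ : ∀ b : α, b ∈ Δ := by
    intro b
    by_cases hb : b = g₀⁻¹ • a₀
    · rw [hb]
      exact ⟨1, H.one_mem, (one_smul _ _).symm⟩
    · have h1 : g₀ • b ≠ a₀ := by
        intro h
        apply hb
        rw [← h, inv_smul_smul]
      have := (hI0 _).1 (hall _ h1)
      rwa [inv_smul_smul] at this
  have : MulAction.IsPretransitive H α := by
    refine ⟨fun a b => ?_⟩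
    obtain ⟨ha', hha', rfl⟩ := hΔ a
    obtain ⟨hb', hhb', rfl⟩ := hΔ b
    refine ⟨⟨hb' * ha'⁻¹, H.mul_mem hhb' (H.inv_mem hha')⟩, ?_⟩
    show (hb' * ha'⁻¹) • (ha' • (g₀⁻¹ • a₀)) = hb' • (g₀⁻¹ • a₀)
    rw [mul_smul, inv_smul_smul]
  apply hpH
  have h1 := MulAction.index_stabilizer_of_transitive H (g₀⁻¹ • a₀)
  rw [Nat.card_eq_fintype_card, hα] at h1
  rw [← h1]
  exact Subgroup.index_dvd_card _

end Design

end Cfsg.Agent.Lib.Helper12.PrimeDegree
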