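import Mathlib
import Cfsg.Prelude
import Cfsg.Agent.Lib.Helper12.PrimeDegree

set_option autoImplicit false
set_option linter.unusedSectionVars false

namespace Cfsg.Agent.Lib.Helper12.PrimeDegree

open Cfsg.Agent.Lib.Helper12.BurnsidePrime

section Label

variable {Ω : Type*} [Fintype Ω] [DecidableEq Ω] {p : ℕ} [Fact p.Prime]

/-- an involution normalizing the translation by one is a reflection `j ↦ c - j` -/
theorem involution_label (hp2 : p ≠ 2) (e : Ω ≃ ZMod p) (X T : Equiv.Perm Ω)
    (he : ∀ ω, e (X ω) = e ω + 1) (hT1 : T ≠ 1) (hT2 : T * T = 1)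
    (hnorm : T * X * T⁻¹ ∈ Subgroup.zpowers X) : ∃ c : ZMod p, ∀ ω, e (T ω) = c - e ω := by
  have hp : p.Prime := Fact.out
  obtain ⟨k, hk⟩ := Subgroup.mem_zpowers_iff.1 hnorm
  have hTX : ∀ ω, T (X ω) = (X ^ k) (T ω) := by
    intro ω
    rw [hk]
    simp
  set κ : ZMod p := (k : ZMod p) with hκ
  let τ : ZMod p → ZMod p := fun j => e (T (e.symm j))
  set c : ZMod p := τ 0 with hc
  have hsucc : ∀ j, τ (j + 1) = τ j + κ := by
    intro j
    show e (T (e.symm (j + 1))) = e (T (e.symm j)) + κ
    have h1 : e.symm (j + 1) = X (e.symm j) := by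
      apply e.injective
      rw [he, e.apply_symm_apply, e.apply_symm_apply]
    rw [h1, hTX, label_zpow e X he]
  have hnat : ∀ n : ℕ, τ (n : ZMod p) = c + κ * n := by
    intro n
    induction n with
    | zero => simp [hc]
    | succ n ih =>
      push_cast
      rw [hsucc, ih]; ring
  have hτ : ∀ j, τ j = c + κ * j := by
    intro j
    have := hnat j.val
    rwa [ZMod.natCast_zmod_val] at this
  have hinv : ∀ j, τ (τ j) = j := by
    intro j
    show e (T (e.symm (e (T (e.symm j))))) = j
    rw [e.symm_apply_apply, ← Equiv.Perm.mul_apply, hT2]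
    simp
  have h0 := hinv 0
  have h1 := hinv 1
  rw [hτ, hτ] at h0 h1
  have hκ2 : (κ - 1) * (κ + 1) = 0 := by linear_combination h1 - h0
  have h2ne : (2 : ZMod p) ≠ 0 := by
    intro h
    have h' : ((2 : ℕ) : ZMod p) = 0 := by exact_mod_cast h
    rw [ZMod.natCast_eq_zero_iff] at h'
    have := (Nat.prime_dvd_prime_iff_eq hp Nat.prime_two).1 h'
    exact hp2 this
  have h3 : ∀ ω, τ (e ω) = e (T ω) := by
    intro ω
    show e (T (e.symm (e ω))) = _
    rw [e.symm_apply_apply]
  rcases mul_eq_zero.1 hκ2 with hk1 | hk1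
  · exfalso
    have hκ1 : κ = 1 := by linear_combination hk1
    have hc0 : c = 0 := by
      have : (2 : ZMod p) * c = 0 := by rw [hκ1] at h0; linear_combination h0
      rcases mul_eq_zero.1 this with h | h
      · exact absurd h h2ne
      · exact h
    apply hT1
    ext ω
    apply e.injective
    have := hτ (e ω)
    rw [hκ1, hc0] at this
    show e (T ω) = e ω
    rw [← h3, this]; ring
  · have hκ1 : κ = -1 := by linear_combination hk1
    refine ⟨c, fun ω => ?_⟩
    rw [← h3, hτ, hκ1]; ring

end Label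

section Extract

variable {α : Type*} [Fintype α] [DecidableEq α] {p : ℕ} [Fact p.Prime]

/-- a `p`-cycle and an involution normalizing it, from the Sylow normalizer of even order -/
theorem exists_cycle_involution (hα : Fintype.card α = p) (G : Subgroup (Equiv.Perm α))
    [MulAction.IsPretransitive G α] (P : Sylow p G)
    (heven : Even (Nat.card (Subgroup.normalizer ((P : Subgroup G) : Set G)))) :
    ∃ x t : G, orderOf x = p ∧ orderOf t = 2 ∧ t * x * t⁻¹ ∈ Subgroup.zpowers x := by
  have hp : p.Prime := Fact.out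
  have hne : Nonempty α := by
    rw [← Fintype.card_pos_iff, hα]
    exact hp.pos
  obtain ⟨x₀⟩ := hne
  have hdvd : p ∣ Nat.card G := by
    have h1 := MulAction.index_stabilizer_of_transitive G x₀
    rw [Nat.card_eq_fintype_card, hα] at h1
    rw [← h1]
    exact Subgroup.index_dvd_card _
  have hGfact : Nat.card G ∣ p.factorial := by
    have h1 := Subgroup.card_subgroup_dvd_card G
    rwa [Nat.card_eq_fintype_card (α := Equiv.Perm α), Fintype.card_perm, hα] at h1
  have hp2G : ¬ p ^ 2 ∣ Nat.card G := by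
    intro h
    have h1 : p ^ 2 ∣ p.factorial := h.trans hGfact
    rw [← Nat.mul_factorial_pred hp.ne_zero, pow_two] at h1
    have h2 : p ∣ (p - 1).factorial := (Nat.mul_dvd_mul_iff_left hp.pos).1 h1
    rw [hp.dvd_factorial] at h2
    have := hp.pos
    omega
  -- the Sylow subgroup has order `p`
  have hPcard : Nat.card (P : Subgroup G) = p := by
    obtain ⟨n, hn⟩ := IsPGroup.iff_card.1 P.isPGroup'
    have hn0 : n ≠ 0 := by
      intro h0
      rw [h0, pow_zero] at hn
      exact P.ne_bot_of_dvd_card hdvd (Subgroup.eq_bot_of_card_eq _ hn)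
    have hn2 : n < 2 := by
      by_contra hcon
      apply hp2G
      have h1 : p ^ 2 ∣ p ^ n := pow_dvd_pow p (by omega)
      rw [← hn] at h1
      exact h1.trans (Subgroup.card_subgroup_dvd_card _)
    have hn1 : n = 1 := by omega
    rw [hn, hn1, pow_one]
  have hcyc : IsCyclic (P : Subgroup G) := isCyclic_of_prime_card hPcard
  obtain ⟨g, hg⟩ := hcyc.exists_generator
  have hgord : orderOf g = p := by
    rw [orderOf_eq_card_of_forall_mem_zpowers hg, hPcard]
  set x : G := (g : G) with hx
  have hxord : orderOf x = p := by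
    rw [hx, Subgroup.orderOf_coe, hgord]
  -- an involution in the normalizer
  have h2dvd : 2 ∣ Nat.card (Subgroup.normalizer ((P : Subgroup G) : Set G)) :=
    even_iff_two_dvd.1 heven
  obtain ⟨t', ht'⟩ := exists_prime_orderOf_dvd_card' 2 h2dvd
  set t : G := (t' : G) with ht
  have htord : orderOf t = 2 := by
    rw [ht, Subgroup.orderOf_coe, ht']
  refine ⟨x, t, hxord, htord, ?_⟩
  have h1 : t * x * t⁻¹ ∈ (P : Subgroup G) := by
    have h2 := (Subgroup.mem_normalizer_iff.1 t'.2 x).1 g.2
    exact h2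
  obtain ⟨k, hk⟩ := Subgroup.mem_zpowers_iff.1 (hg ⟨t * x * t⁻¹, h1⟩)
  rw [Subgroup.mem_zpowers_iff]
  refine ⟨k, ?_⟩
  have h3 := congrArg (Subtype.val) hk
  rw [Subgroup.coe_zpow] at h3
  exact h3

end Extract

end Cfsg.Agent.Lib.Helper12.PrimeDegree
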