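import Mathlib
import Cfsg.Prelude
import Cfsg.Agent.Lib.Helper12.PrimeDegree2
import Cfsg.Agent.S0676
import Cfsg.Agent.S0680
import Cfsg.Agent.Lib.Helper12.MultTrans
import Cfsg.Agent.S0144

set_option autoImplicit false
set_option linter.unusedSectionVars false

namespace Cfsg.Agent.Lib.Helper12.Degree7

open Cfsg.Agent.Lib.Helper12.PrimeDegree
open Cfsg.Agent.Lib.Helper12.BurnsidePrime

section Perm

variable {α : Type*} [Fintype α] [DecidableEq α]

theorem support_card_add_le (g : Equiv.Perm α) (S : Finset α) (hS : ∀ s ∈ S, g s = s) :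
    g.support.card + S.card ≤ Fintype.card α := by
  have hdisj : Disjoint g.support S := by
    rw [Finset.disjoint_left]
    intro x hx hxS
    exact (Equiv.Perm.mem_support.1 hx) (hS x hxS)
  rw [← Finset.card_union_of_disjoint hdisj]
  exact Finset.card_le_univ _

theorem isSwap_of_order_two (g : Equiv.Perm α) (hg : orderOf g = 2) (hs : g.support.card ≤ 3) :
    g.IsSwap := by
  obtain ⟨n, hn⟩ := Equiv.Perm.cycleType_prime_order (σ := g) (by rw [hg]; exact Nat.prime_two)
  rw [hg] at hn
  have h1 := Equiv.Perm.sum_cycleType g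
  rw [hn, Multiset.sum_replicate, smul_eq_mul] at h1
  rw [← Equiv.Perm.card_support_eq_two]
  omega

theorem isThreeCycle_of_order_three (g : Equiv.Perm α) (hg : orderOf g = 3)
    (hs : g.support.card ≤ 5) : g.IsThreeCycle := by
  obtain ⟨n, hn⟩ := Equiv.Perm.cycleType_prime_order (σ := g) (by rw [hg]; exact Nat.prime_three)
  rw [hg] at hn
  have h1 := Equiv.Perm.sum_cycleType g
  rw [hn, Multiset.sum_replicate, smul_eq_mul] at h1
  rw [← card_support_eq_three_iff]
  omega

end Perm

section Basic

variable {α : Type*} [Fintype α] [DecidableEq α]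

open MulAction

theorem no_swap (G : Subgroup (Equiv.Perm α)) (hprim : IsPreprimitive G α)
    (hA : ¬ alternatingGroup α ≤ G) (g : Equiv.Perm α) (hg : g ∈ G) : ¬ g.IsSwap := by
  intro h
  apply hA
  rw [Equiv.Perm.subgroup_eq_top_of_isPreprimitive_of_isSwap_mem hprim g h hg]
  exact le_top

theorem no_three (G : Subgroup (Equiv.Perm α)) (hprim : IsPreprimitive G α)
    (hA : ¬ alternatingGroup α ≤ G) (g : Equiv.Perm α) (hg : g ∈ G) : ¬ g.IsThreeCycle := by
  intro h
  exact hA (Equiv.Perm.alternatingGroup_le_of_isPreprimitive_of_isThreeCycle_mem hprim h hg)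

/-- no element of order two fixes four points -/
theorem no_order_two (hα : Fintype.card α = 7) (G : Subgroup (Equiv.Perm α))
    (hprim : IsPreprimitive G α) (hA : ¬ alternatingGroup α ≤ G) (g : Equiv.Perm α) (hg : g ∈ G)
    (hord : orderOf g = 2) (S : Finset α) (hS : ∀ s ∈ S, g s = s) (hcard : 4 ≤ S.card) : False := by
  have h1 := support_card_add_le g S hS
  exact no_swap G hprim hA g hg (isSwap_of_order_two g hord (by omega))

/-- no element of order three fixes two points -/
theorem no_order_three (hα : Fintype.card α = 7) (G : Subgroup (Equiv.Perm α))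
    (hprim : IsPreprimitive G α) (hA : ¬ alternatingGroup α ≤ G) (g : Equiv.Perm α) (hg : g ∈ G)
    (hord : orderOf g = 3) (S : Finset α) (hS : ∀ s ∈ S, g s = s) (hcard : 2 ≤ S.card) : False := by
  have h1 := support_card_add_le g S hS
  exact no_three G hprim hA g hg (isThreeCycle_of_order_three g hord (by omega))

/-- the order of a doubly transitive group of degree seven -/
theorem card_eq_mul (hα : Fintype.card α = 7) (G : Subgroup (Equiv.Perm α))
    [IsPretransitive G α]
    (h2t : ∀ a b c d : α, a ≠ b → c ≠ d → ∃ g : G, g • a = c ∧ g • b = d) (a b : α)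
    (hab : a ≠ b) : Nat.card G = 42 * Nat.card (stabilizer (stabilizer G a) b) := by
  have h1 := MulAction.index_stabilizer_of_transitive G a
  rw [Nat.card_eq_fintype_card, hα] at h1
  have h2 := Subgroup.index_mul_card (stabilizer G a)
  rw [h1] at h2
  have h3 := MulAction.index_stabilizer (stabilizer G a) b
  have h4 : orbit (stabilizer G a) b = ({a} : Set α)ᶜ := by
    ext c
    simp only [Set.mem_compl_iff, Set.mem_singleton_iff]
    constructor
    · rintro ⟨g, rfl⟩ h
      apply hab
      have h5 : (g : G) • b = a := h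
      have h6 : (g : G) • a = a := g.2
      exact (MulAction.injective (g : G) (h6.trans h5.symm))
    · intro hc
      obtain ⟨g, hg1, hg2⟩ := h2t a b a c hab (Ne.symm hc)
      exact ⟨⟨g, hg1⟩, hg2⟩
  rw [h4, Set.ncard_compl, Set.ncard_singleton, Nat.card_eq_fintype_card, hα] at h3
  have h5 := Subgroup.index_mul_card (stabilizer (stabilizer G a) b)
  rw [h3] at h5
  rw [← h2, ← h5]
  ring

end Basic

section TwoThree

variable {α : Type*} [Fintype α] [DecidableEq α]

open MulAction

/-- a subgroup of order 8 cannot fix two points -/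
theorem no_two_group (hα : Fintype.card α = 7) (G : Subgroup (Equiv.Perm α))
    (hprim : IsPreprimitive G α) (hA : ¬ alternatingGroup α ≤ G) (Q : Subgroup G)
    (hQ : Nat.card Q = 8) (a b : α) (hab : a ≠ b) (hQa : ∀ q ∈ Q, q • a = a)
    (hQb : ∀ q ∈ Q, q • b = b) : False := by
  have hpg : IsPGroup 2 Q := IsPGroup.of_card (n := 3) (by rw [hQ]; norm_num)
  have hmod := hpg.card_modEq_card_fixedPoints α
  rw [Nat.card_eq_fintype_card, hα] at hmod
  have haF : a ∈ fixedPoints Q α := fun q => hQa q q.2
  have hbF : b ∈ fixedPoints Q α := fun q => hQb q q.2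
  -- a third fixed point
  have hz : ∃ z ∈ fixedPoints Q α, z ≠ a ∧ z ≠ b := by
    by_contra hcon
    simp only [not_exists, not_and] at hcon
    have hF : fixedPoints Q α = {a, b} := by
      ext z
      constructor
      · intro hz
        by_contra hz'
        simp only [Set.mem_insert_iff, Set.mem_singleton_iff, not_or] at hz'
        exact hcon z hz hz'.1 hz'.2
      · rintro (rfl | rfl)
        · exact haF
        · exact hbF
    rw [hF, Nat.card_coe_set_eq, Set.ncard_pair hab] at hmod
    exact absurd hmod (by decide)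
  obtain ⟨z, hzF, hza, hzb⟩ := hz
  -- a further point
  have hy : ∃ y : α, y ≠ a ∧ y ≠ b ∧ y ≠ z := by
    have hlt : ({a, b, z} : Finset α).card < (Finset.univ : Finset α).card := by
      rw [Finset.card_univ]
      have : ({a, b, z} : Finset α).card ≤ 3 := Finset.card_le_three
      omega
    obtain ⟨y, _, hy⟩ := Finset.exists_mem_notMem_of_card_lt_card hlt
    simp only [Finset.mem_insert, Finset.mem_singleton, not_or] at hy
    exact ⟨y, hy.1, hy.2.1, hy.2.2⟩
  obtain ⟨y, hya, hyb, hyz⟩ := hy
  -- the orbit of `y` has at most four points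
  have horb : (orbit Q y).ncard ≤ 4 := by
    have hsub : orbit Q y ⊆ ((({a, b, z} : Finset α) : Set α))ᶜ := by
      rintro _ ⟨q, rfl⟩
      simp only [Finset.coe_insert, Finset.coe_singleton, Set.mem_compl_iff, Set.mem_insert_iff,
        Set.mem_singleton_iff, not_or]
      refine ⟨?_, ?_, ?_⟩
      · intro h
        apply hya
        have h1 : q • y = q • a := by rw [h, haF q]
        exact MulAction.injective q h1
      · intro h
        apply hyb
        have h1 : q • y = q • b := by rw [h, hbF q]
        exact MulAction.injective q h1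
      · intro h
        apply hyz
        have h1 : q • y = q • z := by rw [h, hzF q]
        exact MulAction.injective q h1
    have h1 := Set.ncard_le_ncard hsub (Set.toFinite _)
    rw [Set.ncard_compl, Set.ncard_coe_finset, Nat.card_eq_fintype_card, hα] at h1
    have h3 : ({a, b, z} : Finset α).card = 3 := by
      rw [Finset.card_insert_of_notMem, Finset.card_pair (Ne.symm hzb)]
      simp only [Finset.mem_insert, Finset.mem_singleton, not_or]
      exact ⟨hab, Ne.symm hza⟩
    omega
  have hidx := MulAction.index_stabilizer Q y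
  have hmul := Subgroup.index_mul_card (stabilizer Q y)
  rw [hidx, hQ] at hmul
  have h2dvd : 2 ∣ Nat.card (stabilizer Q y) := by
    have hpos : 0 < (orbit Q y).ncard := by
      rw [Set.ncard_pos (Set.toFinite _)]
      exact ⟨y, mem_orbit_self y⟩
    generalize (orbit Q y).ncard = n at *
    generalize Nat.card (stabilizer Q y) = m at *
    have : n = 1 ∨ n = 2 ∨ n = 3 ∨ n = 4 := by omega
    rcases this with rfl | rfl | rfl | rfl <;> omega
  obtain ⟨u, hu⟩ := exists_prime_orderOf_dvd_card' 2 h2dvd
  have hord : orderOf (((u : Q) : G) : Equiv.Perm α) = 2 := by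
    rw [Subgroup.orderOf_coe, Subgroup.orderOf_coe, Subgroup.orderOf_coe, hu]
  have hS : ∀ s ∈ ({a, b, z, y} : Finset α), (((u : Q) : G) : Equiv.Perm α) s = s := by
    intro s hs
    simp only [Finset.mem_insert, Finset.mem_singleton] at hs
    rcases hs with rfl | rfl | rfl | rfl
    · exact haF (u : Q)
    · exact hbF (u : Q)
    · exact hzF (u : Q)
    · exact u.2
  have hcard : 4 ≤ ({a, b, z, y} : Finset α).card := by
    rw [Finset.card_insert_of_notMem, Finset.card_insert_of_notMem, Finset.card_pair (Ne.symm hyz)]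
    · simp only [Finset.mem_insert, Finset.mem_singleton, not_or]
      exact ⟨Ne.symm hzb, Ne.symm hyb⟩
    · simp only [Finset.mem_insert, Finset.mem_singleton, not_or]
      exact ⟨hab, Ne.symm hza, Ne.symm hya⟩
  exact no_order_two hα G hprim hA _ ((u : Q) : G).2 hord _ hS hcard

end TwoThree

section StabCard

variable {α : Type*} [Fintype α] [DecidableEq α]

open MulAction

theorem arith_h (h : ℕ) (h120 : h ∣ 120) (h3 : ¬ 3 ∣ h) (h8 : ¬ 8 ∣ h) :
    h = 1 ∨ h = 2 ∨ h = 4 ∨ h = 5 ∨ h = 10 ∨ h = 20 := by
  have hle : h ≤ 120 := Nat.le_of_dvd (by norm_num) h120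
  have hpos : 0 < h := Nat.pos_of_dvd_of_pos h120 (by norm_num)
  interval_cases h <;> omega

/-- the possible orders of a two-point stabilizer -/
theorem card_stab_cases (hα : Fintype.card α = 7) (G : Subgroup (Equiv.Perm α))
    [IsPretransitive G α] (hprim : IsPreprimitive G α) (hA : ¬ alternatingGroup α ≤ G)
    (h2t : ∀ a b c d : α, a ≠ b → c ≠ d → ∃ g : G, g • a = c ∧ g • b = d) (a b : α)
    (hab : a ≠ b) :
    Nat.card (stabilizer (stabilizer G a) b) = 1 ∨ Nat.card (stabilizer (stabilizer G a) b) = 2 ∨
    Nat.card (stabilizer (stabilizer G a) b) = 4 ∨ Nat.card (stabilizer (stabilizer G a) b) = 5 ∨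
    Nat.card (stabilizer (stabilizer G a) b) = 10 ∨
    Nat.card (stabilizer (stabilizer G a) b) = 20 := by
  have hG := card_eq_mul hα G h2t a b hab
  set K := stabilizer (stabilizer G a) b with hK
  apply arith_h
  · -- divides 120
    have h1 := Subgroup.card_subgroup_dvd_card G
    rw [Nat.card_eq_fintype_card (α := Equiv.Perm α), Fintype.card_perm, hα, hG] at h1
    have h2 : (7 : ℕ).factorial = 42 * 120 := by decide
    rw [h2] at h1
    exact (Nat.mul_dvd_mul_iff_left (by norm_num)).1 h1
  · -- no element of order three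
    intro h3
    obtain ⟨g, hg⟩ := exists_prime_orderOf_dvd_card' 3 h3
    have hord : orderOf ((((g : K) : stabilizer G a) : G) : Equiv.Perm α) = 3 := by
      rw [Subgroup.orderOf_coe, Subgroup.orderOf_coe, Subgroup.orderOf_coe, hg]
    have hS : ∀ s ∈ ({a, b} : Finset α), ((((g : K) : stabilizer G a) : G) : Equiv.Perm α) s = s := by
      intro s hs
      simp only [Finset.mem_insert, Finset.mem_singleton] at hs
      rcases hs with hs | hs
      · rw [hs]
        exact ((g : K) : stabilizer G a).2
      · rw [hs]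
        exact g.2
    exact no_order_three hα G hprim hA _ (((g : K) : stabilizer G a) : G).2 hord _ hS
      (by rw [Finset.card_pair hab])
  · -- no subgroup of order eight
    intro h8
    obtain ⟨Q₀, hQ₀⟩ := Sylow.exists_subgroup_card_pow_prime 2 (n := 3) (G := K) (by
      norm_num; exact h8)
    let Q : Subgroup G := (Q₀.map K.subtype).map (stabilizer G a).subtype
    have hQ : Nat.card Q = 8 := by
      rw [Subgroup.card_subtype, Subgroup.card_subtype, hQ₀]
      norm_num
    have hQa : ∀ q ∈ Q, q • a = a := by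
      rintro q ⟨q₁, _, rfl⟩
      exact q₁.2
    have hQb : ∀ q ∈ Q, q • b = b := by
      rintro q ⟨q₁, ⟨q₂, _, rfl⟩, rfl⟩
      exact q₂.2
    exact no_two_group hα G hprim hA Q hQ a b hab hQa hQb

end StabCard

section SylowP

variable {α : Type*} [Fintype α] [DecidableEq α] {p : ℕ} [Fact p.Prime]

open MulAction

/-- an element conjugating the translation by one to a power of it is affine -/
theorem affine_of_conj {Ω : Type*} (e : Ω ≃ ZMod p) (X g : Equiv.Perm Ω)
    (he : ∀ ω, e (X ω) = e ω + 1) (k : ℤ) (hk : g * X * g⁻¹ = X ^ k) :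
    ∀ ω, e (g ω) = (k : ZMod p) * e ω + e (g (e.symm 0)) := by
  have hTX : ∀ ω, g (X ω) = (X ^ k) (g ω) := by
    intro ω
    rw [← hk]
    simp
  let τ : ZMod p → ZMod p := fun j => e (g (e.symm j))
  have hsucc : ∀ j, τ (j + 1) = τ j + (k : ZMod p) := by
    intro j
    show e (g (e.symm (j + 1))) = e (g (e.symm j)) + (k : ZMod p)
    have h1 : e.symm (j + 1) = X (e.symm j) := by
      apply e.injective
      rw [he, e.apply_symm_apply, e.apply_symm_apply]
    rw [h1, hTX]
    have hz : ∀ (m : ℤ) (ω : Ω), e ((X ^ m) ω) = e ω + m := by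
      intro m
      induction m using Int.induction_on with
      | zero => intro ω; simp
      | succ n ih =>
        intro ω
        rw [zpow_add_one, Equiv.Perm.mul_apply, ih, he]
        push_cast
        ring
      | pred n ih =>
        intro ω
        have hinv : e (X⁻¹ ω) = e ω - 1 := by
          have h := he (X⁻¹ ω)
          have h2 : X (X⁻¹ ω) = ω := by simp
          rw [h2] at h
          rw [h]; ring
        rw [zpow_sub_one, Equiv.Perm.mul_apply, ih, hinv]
        push_cast
        ring
    rw [hz]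
  have hnat : ∀ n : ℕ, τ (n : ZMod p) = τ 0 + (k : ZMod p) * n := by
    intro n
    induction n with
    | zero => simp
    | succ n ih =>
      push_cast
      rw [hsucc, ih]; ring
  intro ω
  have h1 := hnat (e ω).val
  rw [ZMod.natCast_zmod_val] at h1
  have h2 : τ (e ω) = e (g ω) := by
    show e (g (e.symm (e ω))) = _
    rw [e.symm_apply_apply]
  rw [← h2, h1]
  ring

/-- in prime degree the Sylow subgroup has prime order -/
theorem sylow_card (hα : Fintype.card α = p) (G : Subgroup (Equiv.Perm α))
    [IsPretransitive G α] (P : Sylow p G) : Nat.card (P : Subgroup G) = p := by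
  have hp : p.Prime := Fact.out
  have hne : Nonempty α := by
    rw [← Fintype.card_pos_iff, hα]
    exact hp.pos
  obtain ⟨x₀⟩ := hne
  have hdvd : p ∣ Nat.card G := by
    have h1 := MulAction.index_stabilizer_of_transitive G x₀
    rw [Nat.card_eq_fintype_card, hα] at h1
    rw [← h1]
    exact Subgroup.index_dvd_card _
  have hGfact : Nat.card G ∣ p.factorial := by
    have h1 := Subgroup.card_subgroup_dvd_card G
    rwa [Nat.card_eq_fintype_card (α := Equiv.Perm α), Fintype.card_perm, hα] at h1
  have hp2G : ¬ p ^ 2 ∣ Nat.card G := by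
    intro h
    have h1 : p ^ 2 ∣ p.factorial := h.trans hGfact
    rw [← Nat.mul_factorial_pred hp.ne_zero, pow_two] at h1
    have h2 : p ∣ (p - 1).factorial := (Nat.mul_dvd_mul_iff_left hp.pos).1 h1
    rw [hp.dvd_factorial] at h2
    have := hp.pos
    omega
  obtain ⟨n, hn⟩ := IsPGroup.iff_card.1 P.isPGroup'
  have hn0 : n ≠ 0 := by
    intro h0
    rw [h0, pow_zero] at hn
    exact P.ne_bot_of_dvd_card hdvd (Subgroup.eq_bot_of_card_eq _ hn)
  have hn2 : n < 2 := by
    by_contra hcon
    apply hp2G
    have h1 : p ^ 2 ∣ p ^ n := pow_dvd_pow p (by omega)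
    rw [← hn] at h1
    exact h1.trans (Subgroup.card_subgroup_dvd_card _)
  have hn1 : n = 1 := by omega
  rw [hn, hn1, pow_one]

/-- the Sylow subgroup is self-centralizing -/
theorem centralizer_eq (hα : Fintype.card α = p) (G : Subgroup (Equiv.Perm α))
    [IsPretransitive G α] (P : Sylow p G) :
    Subgroup.centralizer ((P : Subgroup G) : Set G) = (P : Subgroup G) := by
  have hPcard := sylow_card hα G P
  have hcyc : IsCyclic (P : Subgroup G) := isCyclic_of_prime_card hPcard
  obtain ⟨g, hg⟩ := hcyc.exists_generator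
  have hgord : orderOf g = p := by
    rw [orderOf_eq_card_of_forall_mem_zpowers hg, hPcard]
  have hxord : orderOf ((g : G) : Equiv.Perm α) = p := by
    rw [Subgroup.orderOf_coe, Subgroup.orderOf_coe, hgord]
  obtain ⟨e, he⟩ := exists_label hα ((g : G) : Equiv.Perm α) hxord
  have hPmem : ∀ y : G, y ∈ (P : Subgroup G) ↔ ∃ m : ℤ, (g : G) ^ m = y := by
    intro y
    constructor
    · intro hy
      obtain ⟨m, hm⟩ := Subgroup.mem_zpowers_iff.1 (hg ⟨y, hy⟩)
      refine ⟨m, ?_⟩
      have := congrArg Subtype.val hm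
      rwa [Subgroup.coe_zpow] at this
    · rintro ⟨m, rfl⟩
      exact (P : Subgroup G).zpow_mem g.2 m
  apply le_antisymm
  · intro y hy
    rw [Subgroup.mem_centralizer_iff] at hy
    have h1 : (g : G) * y = y * (g : G) := hy (g : G) g.2
    have h2 : (y : Equiv.Perm α) * ((g : G) : Equiv.Perm α) * (y : Equiv.Perm α)⁻¹ =
        ((g : G) : Equiv.Perm α) ^ (1 : ℤ) := by
      rw [zpow_one]
      have h3 : y * (g : G) * y⁻¹ = (g : G) := by rw [← h1]; group
      have := congrArg Subtype.val h3
      exact this
    have h4 := affine_of_conj e ((g : G) : Equiv.Perm α) (y : Equiv.Perm α) he 1 h2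
    rw [hPmem]
    refine ⟨((e ((y : Equiv.Perm α) (e.symm 0))).val : ℤ), ?_⟩
    apply Subtype.ext
    rw [Subgroup.coe_zpow, zpow_natCast]
    ext ω
    apply e.injective
    rw [label_pow e _ he, ZMod.natCast_zmod_val, h4 ω]
    push_cast
    ring
  · intro y hy
    rw [hPmem] at hy
    obtain ⟨m, rfl⟩ := hy
    rw [Subgroup.mem_centralizer_iff]
    intro z hz
    have hz' := (hPmem z).1 hz
    obtain ⟨m', rfl⟩ := hz'
    rw [← zpow_add, ← zpow_add, add_comm]

/-- the numerical data of the Sylow normalizer -/
theorem sylow_numbers (hα : Fintype.card α = p) (G : Subgroup (Equiv.Perm α))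
    [IsPretransitive G α] (P : Sylow p G) :
    (Subgroup.centralizer ((P : Subgroup G) : Set G)).relIndex
      (Subgroup.normalizer ((P : Subgroup G) : Set G)) ∣ p - 1 ∧
    (Subgroup.normalizer ((P : Subgroup G) : Set G)).index % p = 1 ∧
    (Subgroup.centralizer ((P : Subgroup G) : Set G)).relIndex
      (Subgroup.normalizer ((P : Subgroup G) : Set G)) *
      (Subgroup.normalizer ((P : Subgroup G) : Set G)).index * p = Nat.card G := by
  have hp : p.Prime := Fact.out
  have hPcard := sylow_card hα G P
  have hcyc : IsCyclic (P : Subgroup G) := isCyclic_of_prime_card hPcard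
  refine ⟨?_, ?_, ?_⟩
  · have key := Subgroup.card_dvd_of_injective _
      (QuotientGroup.kerLift_injective (P : Subgroup G).normalizerMonoidHom)
    rw [Subgroup.normalizerMonoidHom_ker, ← Subgroup.index, ← Subgroup.relIndex] at key
    rw [IsCyclic.card_mulAut, hPcard, Nat.totient_prime hp] at key
    exact key
  · have h1 := card_sylow_modEq_one p G
    rw [P.card_eq_index_normalizer] at h1
    have h2 : 1 % p = 1 := Nat.mod_eq_of_lt hp.one_lt
    rw [← h2]
    exact h1
  · have h1 := Subgroup.relIndex_mul_index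
      (Subgroup.centralizer_le_normalizer ((P : Subgroup G) : Set G))
    rw [h1, centralizer_eq hα G P]
    have h2 := Subgroup.index_mul_card (P : Subgroup G)
    rw [hPcard] at h2
    exact h2

end SylowP

section BadCases

variable {α : Type*} [Fintype α] [DecidableEq α]

open MulAction

/-- if the Sylow subgroup is normal, the group is solvable -/
theorem solvable_of_normal_sylow {p : ℕ} [Fact p.Prime] (hα : Fintype.card α = p)
    (G : Subgroup (Equiv.Perm α)) [IsPretransitive G α] (P : Sylow p G)
    (hN : Subgroup.normalizer ((P : Subgroup G) : Set G) = ⊤) : Group.IsSolvable G := by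
  have hPcard := sylow_card hα G P
  have hcyc : IsCyclic (P : Subgroup G) := isCyclic_of_prime_card hPcard
  obtain ⟨g, hg⟩ := hcyc.exists_generator
  have hgord : orderOf g = p := by
    rw [orderOf_eq_card_of_forall_mem_zpowers hg, hPcard]
  have hxord : orderOf ((g : G) : Equiv.Perm α) = p := by
    rw [Subgroup.orderOf_coe, Subgroup.orderOf_coe, hgord]
  obtain ⟨e, he⟩ := exists_label hα ((g : G) : Equiv.Perm α) hxord
  apply solvable_of_affine e G
  intro y hy
  have hyN : (⟨y, hy⟩ : G) ∈ Subgroup.normalizer ((P : Subgroup G) : Set G) := by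
    rw [hN]; trivial
  have h1 : (⟨y, hy⟩ : G) * (g : G) * (⟨y, hy⟩ : G)⁻¹ ∈ (P : Subgroup G) :=
    (Subgroup.mem_normalizer_iff.1 hyN (g : G)).1 g.2
  obtain ⟨k, hk⟩ := Subgroup.mem_zpowers_iff.1 (hg ⟨_, h1⟩)
  have h2 : y * ((g : G) : Equiv.Perm α) * y⁻¹ = ((g : G) : Equiv.Perm α) ^ k := by
    have h3 := congrArg Subtype.val hk
    rw [Subgroup.coe_zpow] at h3
    have h4 := congrArg Subtype.val h3
    rw [Subgroup.coe_zpow] at h4
    exact h4.symm
  have h5 := affine_of_conj e ((g : G) : Equiv.Perm α) y he k h2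
  exact ⟨(k : ZMod p), e (y (e.symm 0)), h5⟩

/-- the order 210 is impossible -/
theorem not_card_210 (hα : Fintype.card α = 7) (G : Subgroup (Equiv.Perm α))
    [IsPretransitive G α] (hG : ¬ Group.IsSolvable G) [Fact (Nat.Prime 7)] (P : Sylow 7 G)
    (heven : Even (Nat.card (Subgroup.normalizer ((P : Subgroup G) : Set G))))
    (hcard : Nat.card G = 210) : False := by
  have h3 := Cfsg.Agent.S0676.result (p := 7) hα G hG P heven
  have hne : Nonempty α := by
    rw [← Fintype.card_pos_iff, hα]
    norm_num
  obtain ⟨a⟩ := hne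
  have h2 : IsMultiplyPretransitive (stabilizer G a) (SubMulAction.ofStabilizer G a) 2 :=
    SubMulAction.ofStabilizer.isMultiplyPretransitive.1 h3
  have hstab : Nat.card (stabilizer G a) = 30 := by
    have h1 := MulAction.index_stabilizer_of_transitive G a
    rw [Nat.card_eq_fintype_card, hα] at h1
    have h4 := Subgroup.index_mul_card (stabilizer G a)
    rw [h1, hcard] at h4
    omega
  let _ : Fintype (SubMulAction.ofStabilizer G a) := Fintype.ofFinite _
  have hcard6 : Fintype.card (SubMulAction.ofStabilizer G a) = 6 := by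
    rw [← Nat.card_eq_fintype_card, SubMulAction.nat_card_ofStabilizer_eq,
      Nat.card_eq_fintype_card, hα]
  have hsharp : ∀ x : Fin 2 ↪ SubMulAction.ofStabilizer G a,
      stabilizer (stabilizer G a) x = ⊥ := by
    intro x
    have h1 := MulAction.index_stabilizer_of_transitive (stabilizer G a) x
    have h2' : Nat.card (Fin 2 ↪ SubMulAction.ofStabilizer G a) = 30 := by
      rw [Nat.card_eq_fintype_card, Fintype.card_embedding_eq, Fintype.card_fin, hcard6]
      rfl
    have h4 := Subgroup.index_mul_card (stabilizer (stabilizer G a) x)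
    rw [h1, h2', hstab] at h4
    exact Subgroup.eq_bot_of_card_eq _ (by omega)
  obtain ⟨q, j, hq, hj, hqj, _⟩ := Cfsg.Agent.S0680.main h2 hsharp (by rw [hcard6]; norm_num)
  rw [hcard6] at hqj
  have hd2 : 2 ∣ q ^ j := ⟨3, by omega⟩
  have hd3 : 3 ∣ q ^ j := ⟨2, by omega⟩
  have e2 := (Nat.prime_dvd_prime_iff_eq Nat.prime_two hq).1 (Nat.prime_two.dvd_of_dvd_pow hd2)
  have e3 := (Nat.prime_dvd_prime_iff_eq Nat.prime_three hq).1
    (Nat.prime_three.dvd_of_dvd_pow hd3)
  omega

/-- the Sylow subgroup is not self-normalizing -/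
theorem not_self_normalizing {p : ℕ} [Fact p.Prime] (hα : Fintype.card α = p)
    (G : Subgroup (Equiv.Perm α)) [IsPretransitive G α] (P : Sylow p G)
    (hP : Subgroup.normalizer ((P : Subgroup G) : Set G) ≤
      Subgroup.centralizer ((P : Subgroup G) : Set G)) (hcard : p < Nat.card G) : False := by
  have hp : p.Prime := Fact.out
  have hPcard := sylow_card hα G P
  have hcomp := MonoidHom.ker_transferSylow_isComplement' P hP
  have hnd := MonoidHom.not_dvd_card_ker_transferSylow P hP
  have hmul := hcomp.card_mul_card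
  rw [hPcard] at hmul
  have hKne : (MonoidHom.transferSylow P hP).ker ≠ ⊥ := by
    intro h
    rw [h, Subgroup.card_bot, one_mul] at hmul
    omega
  have hprim : IsPreprimitive G α :=
    IsPreprimitive.of_prime_card (by rw [Nat.card_eq_fintype_card, hα]; exact hp)
  have htrans : IsPretransitive (MonoidHom.transferSylow P hP).ker α :=
    Cfsg.Agent.Lib.Helper12.MultTrans.normal_trans _ hKne
  have hne : Nonempty α := by
    rw [← Fintype.card_pos_iff, hα]
    exact hp.pos
  obtain ⟨a⟩ := hne
  have h1 := MulAction.index_stabilizer_of_transitive (MonoidHom.transferSylow P hP).ker a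
  rw [Nat.card_eq_fintype_card, hα] at h1
  apply hnd
  have h2 := Subgroup.index_dvd_card (stabilizer (MonoidHom.transferSylow P hP).ker a)
  rw [h1] at h2
  exact h2

end BadCases

section Main

variable {α : Type*} [Fintype α] [DecidableEq α]

open MulAction

/-- the order of a non-solvable transitive group of degree seven not containing the
alternating group -/
theorem card_eq_168 (hα : Fintype.card α = 7) (G : Subgroup (Equiv.Perm α))
    [IsPretransitive G α] (hG : ¬ Group.IsSolvable G) (hA : ¬ alternatingGroup α ≤ G) :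
    Nat.card G = 168 := by
  have : Fact (Nat.Prime 7) := ⟨by norm_num⟩
  have h2t : IsMultiplyPretransitive G α 2 := by
    rcases Cfsg.Agent.S0675.result (by rw [hα]; norm_num) G with h | h
    · exact absurd h hG
    · exact h
  have h2t' : ∀ a b c d : α, a ≠ b → c ≠ d → ∃ g : G, g • a = c ∧ g • b = d := by
    intro a b c d hab hcd
    exact MulAction.is_two_pretransitive_iff.1 h2t hab hcd
  have hprim : IsPreprimitive G α :=
    IsPreprimitive.of_prime_card (by rw [Nat.card_eq_fintype_card, hα]; norm_num)
  obtain ⟨a, b, hab⟩ := Fintype.exists_pair_of_one_lt_card (α := α) (by rw [hα]; norm_num)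
  have hG42 := card_eq_mul hα G h2t' a b hab
  have hcases := card_stab_cases hα G hprim hA h2t' a b hab
  generalize Nat.card (stabilizer (stabilizer G a) b) = h at hG42 hcases
  let P : Sylow 7 G := default
  obtain ⟨he, hn, hmul⟩ := sylow_numbers (p := 7) hα G P
  have hidx := Subgroup.index_mul_card (Subgroup.normalizer ((P : Subgroup G) : Set G))
  have hrel : (Subgroup.centralizer ((P : Subgroup G) : Set G)).relIndex
      (Subgroup.normalizer ((P : Subgroup G) : Set G)) = 1 →
      Subgroup.normalizer ((P : Subgroup G) : Set G) ≤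
      Subgroup.centralizer ((P : Subgroup G) : Set G) := fun h => Subgroup.relIndex_eq_one.1 h
  have hidx1 : (Subgroup.normalizer ((P : Subgroup G) : Set G)).index = 1 →
      Subgroup.normalizer ((P : Subgroup G) : Set G) = ⊤ := fun h => Subgroup.index_eq_one.1 h
  generalize (Subgroup.centralizer ((P : Subgroup G) : Set G)).relIndex
      (Subgroup.normalizer ((P : Subgroup G) : Set G)) = e at he hmul hrel
  generalize (Subgroup.normalizer ((P : Subgroup G) : Set G)).index = n at hn hmul hidx hidx1
  rw [hG42] at hmul hidx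
  have he6 : e = 1 ∨ e = 2 ∨ e = 3 ∨ e = 6 := by
    have h6 : e ∣ 6 := he
    have hle := Nat.le_of_dvd (by norm_num) h6
    have hpos := Nat.pos_of_dvd_of_pos h6 (by norm_num)
    interval_cases e <;> omega
  have key : (e = 1 ∧ h = 20 ∧ n = 120) ∨ (e = 2 ∧ h = 5 ∧ n = 15) ∨ (e = 3 ∧ h = 4 ∧ n = 8) ∨
      (e = 6 ∧ h = 1 ∧ n = 1) := by
    rcases he6 with he1 | he1 | he1 | he1 <;>
    rcases hcases with hh1 | hh1 | hh1 | hh1 | hh1 | hh1 <;>
    rw [he1, hh1] at hmul <;> omega
  rcases key with ⟨he1, hh1, hn1⟩ | ⟨he1, hh1, hn1⟩ | ⟨he1, hh1, hn1⟩ | ⟨he1, hh1, hn1⟩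
  · exfalso
    exact not_self_normalizing (p := 7) hα G P (hrel he1) (by rw [hG42, hh1]; norm_num)
  · exfalso
    have hNcard : Nat.card (Subgroup.normalizer ((P : Subgroup G) : Set G)) = 14 := by
      rw [hn1, hh1] at hidx
      omega
    exact not_card_210 hα G hG P (by rw [hNcard]; decide) (by rw [hG42, hh1])
  · rw [hG42, hh1]
  · exfalso
    exact hG (solvable_of_normal_sylow (p := 7) hα G P (hidx1 hn1))

theorem arith24 (m : ℕ) (h : m ∣ 24) : ∃ a b : ℕ, m = 2 ^ a * 3 ^ b := by
  have hle : m ≤ 24 := Nat.le_of_dvd (by norm_num) h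
  have hpos : 0 < m := Nat.pos_of_dvd_of_pos h (by norm_num)
  have hc : m = 1 ∨ m = 2 ∨ m = 3 ∨ m = 4 ∨ m = 6 ∨ m = 8 ∨ m = 12 ∨ m = 24 := by
    interval_cases m <;> omega
  rcases hc with rfl | rfl | rfl | rfl | rfl | rfl | rfl | rfl
  · exact ⟨0, 0, by norm_num⟩
  · exact ⟨1, 0, by norm_num⟩
  · exact ⟨0, 1, by norm_num⟩
  · exact ⟨2, 0, by norm_num⟩
  · exact ⟨1, 1, by norm_num⟩
  · exact ⟨3, 0, by norm_num⟩
  · exact ⟨2, 1, by norm_num⟩
  · exact ⟨3, 1, by norm_num⟩

/-- such a group is simple -/
theorem simple_of_degree_seven (hα : Fintype.card α = 7) (G : Subgroup (Equiv.Perm α))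
    [IsPretransitive G α] (hG : ¬ Group.IsSolvable G) (hA : ¬ alternatingGroup α ≤ G) :
    IsSimpleGroup G := by
  have h168 := card_eq_168 hα G hG hA
  have hnt : Nontrivial G := by
    apply Finite.one_lt_card_iff_nontrivial.1
    rw [h168]; norm_num
  have hprim : IsPreprimitive G α :=
    IsPreprimitive.of_prime_card (by rw [Nat.card_eq_fintype_card, hα]; norm_num)
  refine ⟨fun N hN => ?_⟩
  by_cases hbot : N = ⊥
  · exact Or.inl hbot
  right
  have htransN : IsPretransitive N α := Cfsg.Agent.Lib.Helper12.MultTrans.normal_trans N hbot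
  let N' : Subgroup (Equiv.Perm α) := N.map G.subtype
  have htransN' : IsPretransitive N' α := by
    refine ⟨fun x y => ?_⟩
    obtain ⟨g, hg⟩ := MulAction.exists_smul_eq N x y
    exact ⟨⟨((g : G) : Equiv.Perm α), Subgroup.mem_map.2 ⟨(g : G), g.2, rfl⟩⟩, hg⟩
  have hAN' : ¬ alternatingGroup α ≤ N' := by
    intro h
    apply hA
    refine h.trans ?_
    rintro _ ⟨g, _, rfl⟩
    exact g.2
  have hcardN' : Nat.card N' = Nat.card N := Subgroup.card_subtype G N
  by_cases hsolN : Group.IsSolvable N'
  · exfalso
    apply hG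
    -- `N` is solvable
    have hsolN2 : Group.IsSolvable N :=
      Group.isSolvable_of_isSolvable_injective
        (f := (Subgroup.equivMapOfInjective N G.subtype G.subtype_injective).toMonoidHom)
        (Subgroup.equivMapOfInjective N G.subtype G.subtype_injective).injective
    -- the quotient is solvable
    have h7 : 7 ∣ Nat.card N := by
      obtain ⟨x⟩ : Nonempty α := by
        rw [← Fintype.card_pos_iff, hα]; norm_num
      have h1 := MulAction.index_stabilizer_of_transitive N x
      rw [Nat.card_eq_fintype_card, hα] at h1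
      rw [← h1]
      exact Subgroup.index_dvd_card _
    have hidx := Subgroup.index_mul_card N
    rw [h168] at hidx
    have h24 : N.index ∣ 24 := by
      obtain ⟨k, hk⟩ := h7
      rw [hk] at hidx
      have h8 : 7 * (N.index * k) = 7 * 24 := by
        have h9 : 7 * (N.index * k) = N.index * (7 * k) := by ring
        rw [h9, hidx]
      exact ⟨k, (Nat.eq_of_mul_eq_mul_left (by norm_num) h8).symm⟩
    obtain ⟨a, b, hab⟩ := arith24 _ h24
    have hsolQ : Group.IsSolvable (G ⧸ N) :=
      Cfsg.Agent.S0144.result 2 3 a b Nat.prime_two Nat.prime_three (by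
        rw [← Subgroup.index_eq_card, hab])
    exact Group.isSolvable_of_ker_le_range N.subtype (QuotientGroup.mk' N) (by
      rw [QuotientGroup.ker_mk', Subgroup.range_subtype])
  · have h1 := card_eq_168 hα N' hsolN hAN'
    apply Subgroup.eq_top_of_card_eq
    rw [← hcardN', h1, h168]

end Main

end Cfsg.Agent.Lib.Helper12.Degree7
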