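import Mathlib

/-! # Ef hive (S2211, helper12): pure group theory — commutators of products of involutions

All letters are involutions (`x * x = 1`), as the root elements of a Chevalley group in characteristic 2 are.
`⁅g, h⁆ = g * h * g⁻¹ * h⁻¹` (Mathlib). -/

set_option autoImplicit false

namespace Cfsg.Agent.Lib.Helper12.Ef

open scoped commutatorElement

variable {G : Type*} [Group G]

theorem efg_inv {x : G} (h : x * x = 1) : x⁻¹ = x := inv_eq_of_mul_eq_one_right h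

theorem efg_cancel {x : G} (h : x * x = 1) (z : G) : x * (x * z) = z := by rw [← mul_assoc, h, one_mul]

/-- `⁅x, y⁆ = c` for involutions: `x * y = c * y * x` -/
theorem efg_swap {x y c : G} (hx : x * x = 1) (hy : y * y = 1) (h : ⁅x, y⁆ = c) (z : G) :
    x * (y * z) = c * (y * (x * z)) := by
  rw [← h, commutatorElement_def, efg_inv hx, efg_inv hy]
  simp only [mul_assoc]
  rw [efg_cancel hy, efg_cancel hx]

/-- `⁅x, y⁆ = c` for involutions, `c` an involution commuting with `x`, `y`: `y * x = c * x * y` -/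
theorem efg_swap' {x y c : G} (hx : x * x = 1) (hy : y * y = 1) (hc : c * c = 1) (h : ⁅x, y⁆ = c)
    (z : G) : y * (x * z) = c * (x * (y * z)) := by
  have h1 := efg_swap hx hy h z
  rw [h1, efg_cancel hc]

theorem efg_T11 (A B C : G) (hA : A * A = 1) (hB : B * B = 1) (h : ⁅B, A⁆ = C) :
    B⁻¹ * A⁻¹ * B * A = C := by
  rw [← h, commutatorElement_def, efg_inv hA, efg_inv hB]

/-- `A` long, `B B'` short: `[B B', A] = D C' C` -/
theorem efg_T12 (A B B' C C' D : G) (hA : A * A = 1) (hB : B * B = 1) (hB' : B' * B' = 1)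
    (hC' : C' * C' = 1)
    (hBB : Commute B B') (h1 : ⁅A, B⁆ = C) (h2 : ⁅A, B'⁆ = C') (h3 : ⁅B, C'⁆ = D)
    (hCB : Commute C B) :
    (B * B')⁻¹ * A⁻¹ * (B * B') * A = D * (C' * C) := by
  rw [mul_inv_rev, efg_inv hA, efg_inv hB, efg_inv hB']
  simp only [mul_assoc]
  -- B' B A B B' A
  rw [hBB.symm.left_comm]
  -- B B' A B B' A
  rw [efg_swap' hA hB' hC' h2]
  -- B C' A B' B B' A
  rw [hBB.symm.left_comm, efg_cancel hB']
  -- B C' A B A
  rw [efg_swap hA hB h1, hA, mul_one]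
  -- B C' C B
  rw [hCB.eq, efg_swap hB hC' h3, efg_cancel hB]

/-- `A A'` short, `B` long: `[B, A A'] = C D C'` -/
theorem efg_T21 (A A' B C C' D : G) (hA : A * A = 1) (hA' : A' * A' = 1) (hB : B * B = 1)
    (hC' : C' * C' = 1)
    (hAA : Commute A A') (h1 : ⁅B, A⁆ = C) (h2 : ⁅B, A'⁆ = C') (h3 : ⁅A, C'⁆ = D) :
    B⁻¹ * (A * A')⁻¹ * B * (A * A') = C * (D * C') := by
  rw [mul_inv_rev, efg_inv hA, efg_inv hB, efg_inv hA']
  simp only [mul_assoc]
  -- B A' A B A A'
  rw [hAA.symm.left_comm]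
  -- B A A' B A A'
  rw [efg_swap hB hA h1]
  -- C A B A' B A A'
  rw [efg_swap hB hA' h2, efg_cancel hB]
  -- C A C' A' A A'
  rw [hAA.symm.left_comm, hA', mul_one]
  -- C A C' A
  rw [efg_swap hA hC' h3, hA, mul_one]

/-- `A A'`, `B B'` short, diagonal sums: `[B B', A A'] = C' C` -/
theorem efg_T22 (A A' B B' C C' : G) (hA : A * A = 1) (hA' : A' * A' = 1) (hB : B * B = 1)
    (hB' : B' * B' = 1)
    (hAA : Commute A A') (hBB : Commute B B') (hBA' : Commute B A') (hB'A : Commute B' A)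
    (h1 : ⁅B, A⁆ = C) (h2 : ⁅B', A'⁆ = C') (hC'A : Commute C' A) (hC'B : Commute C' B) :
    (B * B')⁻¹ * (A * A')⁻¹ * (B * B') * (A * A') = C' * C := by
  rw [mul_inv_rev, mul_inv_rev, efg_inv hA, efg_inv hB, efg_inv hA', efg_inv hB']
  simp only [mul_assoc]
  -- B' B A' A B B' A A'
  rw [hBB.symm.left_comm, hAA.symm.left_comm]
  -- B B' A A' B B' A A'
  rw [hB'A.left_comm]
  -- B A B' A' B B' A A'
  rw [efg_swap hB' hA' h2]
  -- B A C' A' B' B B' A A'
  rw [hBB.symm.left_comm, efg_cancel hB']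
  -- B A C' A' B A A'
  rw [hC'A.symm.left_comm, hC'B.symm.left_comm]
  -- C' B A A' B A A'
  rw [hBA'.symm.left_comm]
  -- C' B A B A' A A'
  rw [hAA.symm.left_comm, hA', mul_one]
  -- C' B A B A
  rw [efg_swap hB hA h1, efg_cancel hB, hA, mul_one]

end Cfsg.Agent.Lib.Helper12.Ef
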