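import Cfsg.Agent.Lib.Helper76.E8mDefs
import Cfsg.Agent.Lib.Helper35.Ez_TBASICchk
import Cfsg.Agent.Lib.Helper12.EfGrp
import Cfsg.Prelude.Def_ChevE6
import Cfsg.Prelude.Def_ChevF4
import Cfsg.Prelude.Def_SteinbergCover

/-! # Ef hive (S2211, helper12): `C_{E₆(F)}(graph automorphism) ≅ F₄(F)`, `char F = 2` — definitions

`efTab` : for each root index `s < 48` of `chevF4` the `ρ`-orbit (one root = long, two orthogonal roots = short) of
roots of `chevE6` folding to it (`(n₁,…,n₆) ↦ (n₁+n₆, n₃+n₅, n₄, n₂)`).
In ANY simply laced Steinberg system `S : SLSys chevE6 F G` (helper76's E8m hive), `char F = 2`, the elements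
`Y S s t = ∏_{a ∈ orbit} S.X a t` satisfy the relations (R1), (R2) of `chevF4` (signs disappear, `± 2 = 0`).
The Boolean checker `efChk r s` verifies the combinatorial hypotheses of the template (`EfGrp`) that applies to `(r, s)`. -/

set_option autoImplicit false

namespace Cfsg.Agent.Lib.Helper12.Ef

open Cfsg Cfsg.Lie Cfsg.Agent.Lib.Helper76.E8m

/-- `F₄`-root index ↦ the orbit of `E₆`-root indices folding to it -/
def efTab : List (List ℕ) :=
  [[0],[1],[2],[3,5],[6],[8],[11],[4,16],[7,17],[9,19],[12,26],[10,22],[13,30],[14,33],[15,35],[18],[20],[27],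
   [21,23],[28,31],[29,34],[24],[32],[25],[46],[39],[47],[37,42],[40,43],[48,50],[44],[51],[53],[36,56],[38,57],
   [41,58],[49,61],[45,59],[52,62],[54,64],[55,67],[60],[63],[65],[66,68],[69],[70],[71]]

def ef (s : ℕ) : List ℕ := efTab.getD s []

section sys
variable {F : Type*} [Field F] {G : Type*} [Group G]

/-- the product of the root elements of a list of roots, same parameter -/
def prodX (S : SLSys chevE6 F G) (A : List ℕ) (t : F) : G := (A.map fun a => S.X a t).prod

/-- the root element of the `F₄`-root `s` -/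
def Y (S : SLSys chevE6 F G) (s : ℕ) (t : F) : G := prodX S (ef s) t

/-- product of a word of root elements (image of `stWord`) -/
def wprodY (S : SLSys chevE6 F G) (w : List (ℕ × F)) : G := (w.map fun p => Y S p.1 p.2).prod

end sys

/-- `C` is odd -/
def efOdd (C : ℤ) : Bool := C % 2 == 1

/-- `a + b = e` in `E₆`, with odd structure constant -/
def efSm (a b e : ℕ) : Bool := (sm chevE6 a b == some e) && efOdd (ep chevE6 a b)

/-- `x_a`, `x_b` commute in `E₆` -/
def efCm (a b : ℕ) : Bool := ezb_cm chevE6 a b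

/-- hypotheses of template T12: `A = [a]` long, `B = [b, b']` short, `a + b = c`, `a + b' = c'`, `b + c' = d` -/
def efC12 (a b b' c c' d : ℕ) : Bool :=
  efCm b b' && efSm a b c && efSm a b' c' && efSm b c' d && efCm c b && efCm d c && efCm d c' && efCm c c'

/-- hypotheses of template T21: `A = [a, a']` short, `B = [b]` long, `b + a = c`, `b + a' = c'`, `a + c' = d` -/
def efC21 (a a' b c c' d : ℕ) : Bool :=
  efCm a a' && efSm b a c && efSm b a' c' && efSm a c' d && efCm d c' && efCm c c'

/-- hypotheses of template T22: `b + a = c`, `b' + a' = c'` -/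
def efC22 (a a' b b' c c' : ℕ) : Bool :=
  efCm a a' && efCm b b' && efCm b a' && efCm b' a && efSm b a c && efSm b' a' c' && efCm c' a && efCm c' b &&
    efCm c c'

/-- the checker for the relation (R2) of `F₄` for the pair `(r, s)` in terms of the data -/
def efChkAux : List (ℕ × ℤ × ℕ × ℕ) → List ℕ → List ℕ → Bool
  | [], A, B => A.all fun a => B.all fun b => efCm b a
  | [(k, C, 1, 1)], [a], [b] =>
    match ef k with
    | [e] => efOdd C && efSm b a e
    | _ => false
  | [(k₁, C₁, 1, 1), (k₂, C₂, 1, 2)], [a], [b, b'] =>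
    match ef k₁, ef k₂ with
    | [c₁, c₂], [d] => efOdd C₁ && efOdd C₂ && (efC12 a b b' c₁ c₂ d || efC12 a b b' c₂ c₁ d)
    | _, _ => false
  | [(k₁, C₁, 1, 1), (k₂, C₂, 2, 1)], [a, a'], [b] =>
    match ef k₁, ef k₂ with
    | [c₁, c₂], [d] => efOdd C₁ && efOdd C₂ && (efC21 a a' b c₁ c₂ d || efC21 a a' b c₂ c₁ d)
    | _, _ => false
  | [(k, C, 1, 1)], [a, a'], [b, b'] =>
    match ef k with
    | [c₁, c₂] => efOdd C && (efC22 a a' b b' c₁ c₂ || efC22 a a' b b' c₂ c₁ || efC22 a' a b b' c₁ c₂ ||
        efC22 a' a b b' c₂ c₁)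
    | [d] => !efOdd C && (efC22 a a' b b' d d || efC22 a' a b b' d d)
    | _ => false
  | _, _, _ => false

/-- the checker for the relation (R2) of `F₄` for the pair `(r, s)` -/
def efChk (r s : ℕ) : Bool := efChkAux (chevF4.commTerms r s) (ef r) (ef s)

/-- the checker for (R1) -/
def efChk1 (s : ℕ) : Bool :=
  match ef s with
  | [] => true
  | [_] => true
  | [a, a'] => efCm a a'
  | _ => false

/-- rows `lo ≤ r < hi` of the table -/
def efChkRng (lo hi : ℕ) : Bool :=
  (List.range hi).all fun r => decide (r < lo) ||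
    (List.range 48).all fun s => (s == r) || (s == chevF4.neg r) || efChk r s

end Cfsg.Agent.Lib.Helper12.Ef
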