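import Cfsg.Agent.Lib.Helper12.EfDefs

/-! # Ef hive (S2211, helper12): soundness of the checker `efChkAux` — the relations (R1), (R2) of `F₄` for the folded
root elements `Y S s t` of a simply laced Steinberg system of type `E₆` in characteristic 2 -/

set_option autoImplicit false

namespace Cfsg.Agent.Lib.Helper12.Ef

open Cfsg Cfsg.Lie Cfsg.Agent.Lib.Helper76.E8m
open scoped commutatorElement

variable {F : Type*} [Field F] [CharP F 2] {G : Type*} [Group G] (S : SLSys chevE6 F G)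

theorem efr_odd (C : ℤ) (h : efOdd C = true) : ((C : ℤ) : F) = 1 := by
  have h1 : C % 2 = 1 := by simpa [efOdd] using h
  have h2 : C = 2 * (C / 2) + 1 := by omega
  rw [h2]; push_cast; rw [CharTwo.two_eq_zero]; ring

theorem efr_even (C : ℤ) (h : (!efOdd C) = true) : ((C : ℤ) : F) = 0 := by
  have h1 : C % 2 = 0 := by
    have : ¬ (C % 2 = 1) := by simpa [efOdd] using h
    omega
  have h2 : C = 2 * (C / 2) := by omega
  rw [h2]; push_cast; rw [CharTwo.two_eq_zero]; ring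

theorem efr_zero (a : ℕ) : S.X a 0 = 1 := by
  have := S.X_add a 0 0
  rw [add_zero] at this
  exact mul_left_cancel (a := S.X a 0) (by rw [this, mul_one])

theorem efr_sq (a : ℕ) (t : F) : S.X a t * S.X a t = 1 := by
  rw [S.X_add, CharTwo.add_self_eq_zero, efr_zero]

theorem efr_cm {a b : ℕ} (h : efCm a b = true) (t u : F) : Commute (S.X a t) (S.X b u) :=
  S.X_cm a b ((ezb_cm_iff chevE6 a b).1 h) t u

theorem efr_sm {a b e : ℕ} (h : efSm a b e = true) (t u : F) : ⁅S.X a t, S.X b u⁆ = S.X e (t * u) := by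
  unfold efSm at h
  rw [Bool.and_eq_true, beq_iff_eq] at h
  rw [S.X_sum a b e h.1 t u, efr_odd _ h.2, one_mul]

theorem efr_T12 (a b b' c c' d : ℕ) (h : efC12 a b b' c c' d = true) (t u : F) :
    (S.X b u * S.X b' u)⁻¹ * (S.X a t)⁻¹ * (S.X b u * S.X b' u) * S.X a t =
      S.X c (t * u) * S.X c' (t * u) * S.X d (u * (t * u)) := by
  unfold efC12 at h
  simp only [Bool.and_eq_true] at h
  obtain ⟨⟨⟨⟨⟨⟨⟨h1, h2⟩, h3⟩, h4⟩, h5⟩, h6⟩, h7⟩, h8⟩ := h
  rw [efg_T12 (S.X a t) (S.X b u) (S.X b' u) (S.X c (t * u)) (S.X c' (t * u)) (S.X d (u * (t * u)))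
    (efr_sq S _ _) (efr_sq S _ _) (efr_sq S _ _) (efr_sq S _ _) (efr_cm S h1 u u) (efr_sm S h2 t u)
    (efr_sm S h3 t u) (efr_sm S h4 u (t * u)) (efr_cm S h5 _ _)]
  have e1 := efr_cm S h6 (u * (t * u)) (t * u)
  have e2 := efr_cm S h7 (u * (t * u)) (t * u)
  have e3 := efr_cm S h8 (t * u) (t * u)
  rw [(e2.mul_right e1).eq, e3.eq]

theorem efC12_cc {a b b' c c' d : ℕ} (h : efC12 a b b' c c' d = true) : efCm c c' = true := by
  unfold efC12 at h
  simp only [Bool.and_eq_true] at h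
  exact h.2

theorem efr_T21 (a a' b c c' d : ℕ) (h : efC21 a a' b c c' d = true) (t u : F) :
    (S.X b u)⁻¹ * (S.X a t * S.X a' t)⁻¹ * S.X b u * (S.X a t * S.X a' t) =
      S.X c (u * t) * S.X c' (u * t) * S.X d (t * (u * t)) := by
  unfold efC21 at h
  simp only [Bool.and_eq_true] at h
  obtain ⟨⟨⟨⟨⟨h1, h2⟩, h3⟩, h4⟩, h5⟩, h6⟩ := h
  rw [efg_T21 (S.X a t) (S.X a' t) (S.X b u) (S.X c (u * t)) (S.X c' (u * t)) (S.X d (t * (u * t)))
    (efr_sq S _ _) (efr_sq S _ _) (efr_sq S _ _) (efr_sq S _ _) (efr_cm S h1 t t) (efr_sm S h2 u t)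
    (efr_sm S h3 u t) (efr_sm S h4 t (u * t))]
  have e2 := efr_cm S h5 (t * (u * t)) (u * t)
  rw [e2.eq, mul_assoc]

theorem efC21_cc {a a' b c c' d : ℕ} (h : efC21 a a' b c c' d = true) : efCm c c' = true := by
  unfold efC21 at h
  simp only [Bool.and_eq_true] at h
  exact h.2

theorem efr_T22 (a a' b b' c c' : ℕ) (h : efC22 a a' b b' c c' = true) (t u : F) :
    (S.X b u * S.X b' u)⁻¹ * (S.X a t * S.X a' t)⁻¹ * (S.X b u * S.X b' u) * (S.X a t * S.X a' t) =
      S.X c (u * t) * S.X c' (u * t) := by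
  unfold efC22 at h
  simp only [Bool.and_eq_true] at h
  obtain ⟨⟨⟨⟨⟨⟨⟨⟨h1, h2⟩, h3⟩, h4⟩, h5⟩, h6⟩, h7⟩, h8⟩, h9⟩ := h
  rw [efg_T22 (S.X a t) (S.X a' t) (S.X b u) (S.X b' u) (S.X c (u * t)) (S.X c' (u * t))
    (efr_sq S _ _) (efr_sq S _ _) (efr_sq S _ _) (efr_sq S _ _) (efr_cm S h1 t t) (efr_cm S h2 u u)
    (efr_cm S h3 u t) (efr_cm S h4 u t) (efr_sm S h5 u t) (efr_sm S h6 u t) (efr_cm S h7 _ _) (efr_cm S h8 _ _)]
  exact ((efr_cm S h9 (u * t) (u * t)).eq).symm

theorem efC22_cc {a a' b b' c c' : ℕ} (h : efC22 a a' b b' c c' = true) : efCm c c' = true := by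
  unfold efC22 at h
  simp only [Bool.and_eq_true] at h
  exact h.2

theorem efC22_aa {a a' b b' c c' : ℕ} (h : efC22 a a' b b' c c' = true) : efCm a a' = true := by
  unfold efC22 at h
  simp only [Bool.and_eq_true] at h
  exact h.1.1.1.1.1.1.1.1

theorem efr_sound (ct : List (ℕ × ℤ × ℕ × ℕ)) (A B : List ℕ) (h : efChkAux ct A B = true) (t u : F) :
    (prodX S B u)⁻¹ * (prodX S A t)⁻¹ * prodX S B u * prodX S A t =
      wprodY S (ct.map fun c => (c.1, ((c.2.1 : ℤ) : F) * (-t) ^ c.2.2.1 * u ^ c.2.2.2)) := by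
  unfold efChkAux at h
  split at h
  · -- no commutator terms: everything commutes
    have hc : Commute (prodX S B u) (prodX S A t) := by
      unfold prodX
      apply Commute.list_prod_left
      intro x hx
      apply Commute.list_prod_right
      intro y hy
      obtain ⟨b, hb, rfl⟩ := List.mem_map.1 hx
      obtain ⟨a, ha, rfl⟩ := List.mem_map.1 hy
      rw [List.all_eq_true] at h
      have h1 := h a ha
      rw [List.all_eq_true] at h1
      exact efr_cm S (h1 b hb) u t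
    have h0 : wprodY S (List.map (fun c : ℕ × ℤ × ℕ × ℕ =>
        (c.1, ((c.2.1 : ℤ) : F) * (-t) ^ c.2.2.1 * u ^ c.2.2.2)) []) = 1 := rfl
    rw [h0, mul_assoc, hc.eq]
    group
  · rename_i k C a b
    split at h
    · rename_i e heq
      rw [Bool.and_eq_true] at h
      simp only [prodX, wprodY, Y, List.map_cons, List.map_nil, List.prod_cons, List.prod_nil, mul_one, heq]
      rw [efg_T11 _ _ _ (efr_sq S _ _) (efr_sq S _ _) (efr_sm S h.2 u t), efr_odd C h.1, CharTwo.neg_eq]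
      congr 1
      ring
    · exact absurd h (by simp)
  · rename_i k₁ C₁ k₂ C₂ a b b'
    split at h
    · rename_i c₁ c₂ d heq1 heq2
      simp only [Bool.and_eq_true, Bool.or_eq_true] at h
      obtain ⟨⟨hC1, hC2⟩, h3⟩ := h
      simp only [prodX, wprodY, Y, List.map_cons, List.map_nil, List.prod_cons, List.prod_nil, mul_one, heq1,
        heq2]
      rw [efr_odd C₁ hC1, efr_odd C₂ hC2, CharTwo.neg_eq]
      have hv1 : (1 : F) * t ^ 1 * u ^ 1 = t * u := by ring
      have hv2 : (1 : F) * t ^ 1 * u ^ 2 = u * (t * u) := by ring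
      rw [hv1, hv2]
      rcases h3 with h3 | h3
      · exact efr_T12 S a b b' c₁ c₂ d h3 t u
      · rw [efr_T12 S a b b' c₂ c₁ d h3 t u, (efr_cm S (efC12_cc h3) (t * u) (t * u)).eq]
    · exact absurd h (by simp)
  · rename_i k₁ C₁ k₂ C₂ a a' b
    split at h
    · rename_i c₁ c₂ d heq1 heq2
      simp only [Bool.and_eq_true, Bool.or_eq_true] at h
      obtain ⟨⟨hC1, hC2⟩, h3⟩ := h
      simp only [prodX, wprodY, Y, List.map_cons, List.map_nil, List.prod_cons, List.prod_nil, mul_one, heq1,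
        heq2]
      rw [efr_odd C₁ hC1, efr_odd C₂ hC2, CharTwo.neg_eq]
      have hv1 : (1 : F) * t ^ 1 * u ^ 1 = u * t := by ring
      have hv2 : (1 : F) * t ^ 2 * u ^ 1 = t * (u * t) := by ring
      rw [hv1, hv2]
      rcases h3 with h3 | h3
      · exact efr_T21 S a a' b c₁ c₂ d h3 t u
      · rw [efr_T21 S a a' b c₂ c₁ d h3 t u, (efr_cm S (efC21_cc h3) (u * t) (u * t)).eq]
    · exact absurd h (by simp)
  · rename_i k C a a' b b'
    split at h
    · rename_i c₁ c₂ heq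
      simp only [Bool.and_eq_true, Bool.or_eq_true] at h
      obtain ⟨hC, h3⟩ := h
      simp only [prodX, wprodY, Y, List.map_cons, List.map_nil, List.prod_cons, List.prod_nil, mul_one, heq]
      rw [efr_odd C hC, CharTwo.neg_eq]
      have hv1 : (1 : F) * t ^ 1 * u ^ 1 = u * t := by ring
      rw [hv1]
      rcases h3 with ((h3 | h3) | h3) | h3
      · exact efr_T22 S a a' b b' c₁ c₂ h3 t u
      · rw [efr_T22 S a a' b b' c₂ c₁ h3 t u, (efr_cm S (efC22_cc h3) (u * t) (u * t)).eq]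
      · rw [← (efr_cm S (efC22_aa h3) t t).eq]
        exact efr_T22 S a' a b b' c₁ c₂ h3 t u
      · rw [← (efr_cm S (efC22_aa h3) t t).eq, efr_T22 S a' a b b' c₂ c₁ h3 t u,
          (efr_cm S (efC22_cc h3) (u * t) (u * t)).eq]
    · rename_i d heq
      simp only [Bool.and_eq_true, Bool.or_eq_true] at h
      obtain ⟨hC, h3⟩ := h
      simp only [prodX, wprodY, Y, List.map_cons, List.map_nil, List.prod_cons, List.prod_nil, mul_one, heq]
      rw [efr_even C hC, zero_mul, zero_mul, efr_zero]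
      rcases h3 with h3 | h3
      · rw [efr_T22 S a a' b b' d d h3 t u, efr_sq]
      · rw [← (efr_cm S (efC22_aa h3) t t).eq, efr_T22 S a' a b b' d d h3 t u, efr_sq]
    · exact absurd h (by simp)
  · exact absurd h (by simp)

end Cfsg.Agent.Lib.Helper12.Ef
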