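import Cfsg.Agent.Lib.Helper12.EfRel

/-! # Ef hive (S2211, helper12): the table check, and the relations (R1), (R2) of `F₄` for the folded root elements;
the homomorphism `Ψ` from the Steinberg cover of `F₄` -/

set_option autoImplicit false

namespace Cfsg.Agent.Lib.Helper12.Ef

open Cfsg Cfsg.Lie Cfsg.Agent.Lib.Helper76.E8m
open scoped commutatorElement

theorem efChk_r0 : efChkRng 0 8 = true := by decide +kernel
theorem efChk_r1 : efChkRng 8 16 = true := by decide +kernel
theorem efChk_r2 : efChkRng 16 24 = true := by decide +kernel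
theorem efChk_r3 : efChkRng 24 32 = true := by decide +kernel
theorem efChk_r4 : efChkRng 32 40 = true := by decide +kernel
theorem efChk_r5 : efChkRng 40 48 = true := by decide +kernel

theorem efChkRng_spec (lo hi : ℕ) (h : efChkRng lo hi = true) (r s : ℕ) (h1 : lo ≤ r) (h2 : r < hi)
    (hs : s < 48) (hsr : s ≠ r) (hsn : s ≠ chevF4.neg r) : efChk r s = true := by
  unfold efChkRng at h
  rw [List.all_eq_true] at h
  have h3 := h r (List.mem_range.2 h2)
  rw [Bool.or_eq_true, decide_eq_true_eq] at h3
  rcases h3 with h3 | h3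
  · omega
  · rw [List.all_eq_true] at h3
    have h4 := h3 s (List.mem_range.2 hs)
    simp only [Bool.or_eq_true, beq_iff_eq] at h4
    rcases h4 with (h4 | h4) | h4
    · exact absurd h4 hsr
    · exact absurd h4 hsn
    · exact h4

theorem efChk_all (r s : ℕ) (hr : r < 48) (hs : s < 48) (hsr : s ≠ r) (hsn : s ≠ chevF4.neg r) :
    efChk r s = true := by
  by_cases c1 : r < 8
  · exact efChkRng_spec 0 8 efChk_r0 r s (by omega) c1 hs hsr hsn
  by_cases c2 : r < 16
  · exact efChkRng_spec 8 16 efChk_r1 r s (by omega) c2 hs hsr hsn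
  by_cases c3 : r < 24
  · exact efChkRng_spec 16 24 efChk_r2 r s (by omega) c3 hs hsr hsn
  by_cases c4 : r < 32
  · exact efChkRng_spec 24 32 efChk_r3 r s (by omega) c4 hs hsr hsn
  by_cases c5 : r < 40
  · exact efChkRng_spec 32 40 efChk_r4 r s (by omega) c5 hs hsr hsn
  · exact efChkRng_spec 40 48 efChk_r5 r s (by omega) hr hs hsr hsn

theorem efChk1_tab : (List.range 48).all efChk1 = true := by decide +kernel

theorem ef_of_ge (s : ℕ) (h : 48 ≤ s) : ef s = [] := by
  unfold ef
  exact List.getD_eq_default _ _ (by unfold efTab; simpa using h)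

theorem efChk1_all (s : ℕ) : efChk1 s = true := by
  by_cases h : s < 48
  · have := efChk1_tab
    rw [List.all_eq_true] at this
    exact this s (List.mem_range.2 h)
  · unfold efChk1
    rw [ef_of_ge s (by omega)]

section sys
variable {F : Type*} [Field F] [CharP F 2] {G : Type*} [Group G] (S : SLSys chevE6 F G)

/-- (R1) -/
theorem Y_add (s : ℕ) (t u : F) : Y S s t * Y S s u = Y S s (t + u) := by
  have h := efChk1_all s
  unfold efChk1 at h
  unfold Y
  split at h
  · rename_i heq
    rw [heq]
    simp [prodX]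
  · rename_i a heq
    rw [heq]
    simp only [prodX, List.map_cons, List.map_nil, List.prod_cons, List.prod_nil, mul_one]
    exact S.X_add a t u
  · rename_i a a' heq
    rw [heq]
    simp only [prodX, List.map_cons, List.map_nil, List.prod_cons, List.prod_nil, mul_one]
    have hc := efr_cm S h u t
    calc S.X a t * S.X a' t * (S.X a u * S.X a' u)
        = S.X a t * (S.X a' t * S.X a u) * S.X a' u := by simp only [mul_assoc]
      _ = S.X a t * (S.X a u * S.X a' t) * S.X a' u := by rw [hc.eq]
      _ = (S.X a t * S.X a u) * (S.X a' t * S.X a' u) := by simp only [mul_assoc]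
      _ = S.X a (t + u) * S.X a' (t + u) := by rw [S.X_add, S.X_add]
  · exact absurd h (by simp)

theorem Y_of_ge (s : ℕ) (h : 48 ≤ s) (t : F) : Y S s t = 1 := by
  unfold Y
  rw [ef_of_ge s h]
  rfl

/-- (R2) -/
theorem rel2 (r s : ℕ) (hr : r < 48) (hs : s < 48) (hsr : s ≠ r) (hsn : s ≠ chevF4.neg r) (t u : F) :
    (Y S s u)⁻¹ * (Y S r t)⁻¹ * Y S s u * Y S r t = wprodY S (chevF4.commWord F r s t u) :=
  efr_sound S (chevF4.commTerms r s) (ef r) (ef s) (efChk_all r s hr hs hsr hsn) t u

/-- the images of the free generators -/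
def psiGen (p : Fin chevF4.nroots × F) : G := Y S (p.1 : ℕ) p.2

theorem psi_lift_stX (r : ℕ) (t : F) : FreeGroup.lift (psiGen S) (chevF4.stX r t) = Y S r t := by
  unfold ChevalleyDatum.stX
  split_ifs with h
  · rw [FreeGroup.lift_apply_of]; rfl
  · rw [map_one, Y_of_ge S r (by have : chevF4.nroots = 48 := rfl; omega)]

theorem psi_lift_stWord (w : List (ℕ × F)) :
    FreeGroup.lift (psiGen S) (chevF4.stWord w) = wprodY S w := by
  unfold ChevalleyDatum.stWord wprodY
  induction w with
  | nil => simp
  | cons p w ih =>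
    rw [List.map_cons, List.prod_cons, map_mul, ih, psi_lift_stX, List.map_cons, List.prod_cons]

/-- EF-PSI: the homomorphism from the group presented by (R1), (R2) of `F₄` -/
theorem exists_psi : ∃ ψ : chevF4.SteinbergCover F →* G, ∀ (r : ℕ) (t : F), ψ (chevF4.scGen F r t) = Y S r t := by
  have hrel : ∀ r ∈ chevF4.steinbergRelsAB F, FreeGroup.lift (psiGen S) r = 1 := by
    rintro _ (⟨r, t₁, t₂, -, rfl⟩ | ⟨r, s, t, u, hr, hs, hsr, hsn, rfl⟩)
    · rw [map_mul, map_mul, map_inv, psi_lift_stX, psi_lift_stX, psi_lift_stX, mul_inv_eq_one]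
      exact Y_add S r t₁ t₂
    · simp only [map_mul, map_inv, psi_lift_stX, psi_lift_stWord]
      rw [mul_inv_eq_one]
      exact rel2 S r s hr hs hsr hsn t u
  refine ⟨PresentedGroup.toGroup hrel, ?_⟩
  intro r t
  show (PresentedGroup.toGroup hrel) (PresentedGroup.mk _ (chevF4.stX r t)) = Y S r t
  rw [← psi_lift_stX S r t]
  rfl

end sys

end Cfsg.Agent.Lib.Helper12.Ef
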