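import Mathlib

/-!
# Elements of Zsigmondy prime order act irreducibly (helper12)
-/

set_option autoImplicit false
set_option linter.unusedSectionVars false
set_option linter.style.haveILetI false

namespace Cfsg.Agent.Lib.Helper12.Hup

section zsig

variable {q : ℕ} [Fact q.Prime] {V : Type*} [AddCommGroup V] [Module (ZMod q) V] [Finite V]

/-- the submodule of fixed vectors -/
def fixSub (g : V ≃ₗ[ZMod q] V) : Submodule (ZMod q) V :=
  LinearMap.eqLocus (g : V →ₗ[ZMod q] V) LinearMap.id

theorem mem_fixSub (g : V ≃ₗ[ZMod q] V) (v : V) : v ∈ fixSub g ↔ g v = v := by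
  unfold fixSub
  rw [LinearMap.mem_eqLocus]
  rfl

/-- counting modulo `r` on an invariant submodule -/
theorem card_modEq_fixed (g : V ≃ₗ[ZMod q] V) {r : ℕ} [Fact r.Prime] (hgr : g ^ r = 1)
    (W : Submodule (ZMod q) V) (hW : ∀ v ∈ W, g v ∈ W) :
    Nat.card W ≡ Nat.card (W ⊓ fixSub g : Submodule (ZMod q) V) [MOD r] := by
  classical
  haveI : Fintype W := Fintype.ofFinite _
  let f : Function.End W := fun w => ⟨g w.1, hW w.1 w.2⟩
  have hpow : ∀ (k : ℕ) (w : W), ((f ^ k) w : V) = (g ^ k) w.1 := by
    intro k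
    induction k with
    | zero => intro w; rfl
    | succ k ih =>
      intro w
      rw [pow_succ', pow_succ']
      show ((f ((f ^ k) w) : W) : V) = g ((g ^ k) w.1)
      rw [← ih w]
  have hf : f ^ r ^ 1 = 1 := by
    rw [pow_one]
    funext w
    apply Subtype.ext
    rw [hpow, hgr]
    rfl
  have h1 := Equiv.Perm.card_fixedPoints_modEq (p := r) (n := 1) hf
  rw [← Nat.card_eq_fintype_card, ← Nat.card_eq_fintype_card] at h1
  refine h1.trans ?_
  have heq : Nat.card (Function.fixedPoints f) =
      Nat.card (W ⊓ fixSub g : Submodule (ZMod q) V) := by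
    apply Nat.card_congr
    refine
      { toFun := fun w => ⟨w.1.1, ?_⟩
        invFun := fun v => ⟨⟨v.1, v.2.1⟩, ?_⟩
        left_inv := fun w => rfl
        right_inv := fun v => rfl }
    · refine ⟨w.1.2, ?_⟩
      apply (mem_fixSub g _).mpr
      have := w.2
      exact congrArg Subtype.val this
    · show f ⟨v.1, v.2.1⟩ = ⟨v.1, v.2.1⟩
      apply Subtype.ext
      exact (mem_fixSub g v.1).mp v.2.2
  rw [heq]

theorem card_submodule (W : Submodule (ZMod q) V) :
    Nat.card W = q ^ Module.finrank (ZMod q) W := by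
  rw [Module.natCard_eq_pow_finrank (K := ZMod q) (V := W), Nat.card_zmod]

/-- **An element of Zsigmondy prime order acts irreducibly.** -/
theorem zsig_irreducible (n : ℕ) (hn : Module.finrank (ZMod q) V = n) (g : V ≃ₗ[ZMod q] V)
    (r : ℕ) (hr : r.Prime) (hg : orderOf g = r) (hrn : r ∣ q ^ n - 1)
    (hprim : ∀ k, 0 < k → k < n → ¬ r ∣ q ^ k - 1)
    (W : Submodule (ZMod q) V) (hW : ∀ v ∈ W, g v ∈ W) : W = ⊥ ∨ W = ⊤ := by
  haveI : Fact r.Prime := ⟨hr⟩
  have hq : q.Prime := Fact.out
  have hgr : g ^ r = 1 := by rw [← hg]; exact pow_orderOf_eq_one g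
  have hq1 : 1 ≤ q := hq.one_lt.le
  rcases Nat.eq_zero_or_pos n with hn0 | hn0
  · left
    apply Submodule.finrank_eq_zero.mp
    have := Submodule.finrank_le W
    omega
  have hrq : ¬ r ∣ q := by
    intro h
    have h1 : r ∣ q ^ n := dvd_pow h (by omega)
    have h2 : r ∣ 1 := by
      have h3 : 1 ≤ q ^ n := Nat.one_le_pow _ _ (by omega)
      have h4 : q ^ n - (q ^ n - 1) = 1 := by omega
      rw [← h4]
      exact Nat.dvd_sub h1 hrn
    exact hr.one_lt.ne' (Nat.dvd_one.mp h2)
  -- general consequence of a congruence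
  have key : ∀ a b : ℕ, b ≤ a → q ^ a ≡ q ^ b [MOD r] → r ∣ q ^ (a - b) - 1 := by
    intro a b hba h
    have h1 : r ∣ q ^ a - q ^ b := (Nat.modEq_iff_dvd' (Nat.pow_le_pow_right hq1 hba)).mp h.symm
    have h2 : q ^ a - q ^ b = q ^ b * (q ^ (a - b) - 1) := by
      rw [Nat.mul_sub, mul_one, ← pow_add]
      congr 2
      omega
    rw [h2] at h1
    exact (Nat.Coprime.dvd_mul_left
      (Nat.Coprime.pow_right b ((Nat.Prime.coprime_iff_not_dvd hr).mpr hrq))).mp h1
  -- no nonzero fixed vectors
  have hfix : fixSub g = ⊥ := by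
    have h1 := card_modEq_fixed g hgr ⊤ (fun v _ => Submodule.mem_top)
    rw [top_inf_eq, card_submodule, card_submodule, finrank_top, hn] at h1
    have hj : Module.finrank (ZMod q) (fixSub g) ≤ n := by
      rw [← hn]; exact Submodule.finrank_le _
    have h2 := key _ _ hj h1
    by_contra hne
    have hj0 : 0 < Module.finrank (ZMod q) (fixSub g) := by
      rw [Nat.pos_iff_ne_zero]
      intro h0
      exact hne (Submodule.finrank_eq_zero.mp h0)
    rcases Nat.eq_or_lt_of_le hj with hjn | hjn
    · -- all vectors fixed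
      have htop : fixSub g = ⊤ := Submodule.eq_top_of_finrank_eq (by rw [hjn, hn])
      have hg1 : g = 1 := by
        apply LinearEquiv.ext
        intro v
        have : v ∈ fixSub g := by rw [htop]; trivial
        exact (mem_fixSub g v).mp this
      rw [hg1, orderOf_one] at hg
      exact hr.one_lt.ne hg
    · exact hprim _ (by omega) (by omega) h2
  by_cases hk0 : Module.finrank (ZMod q) W = 0
  · exact Or.inl (Submodule.finrank_eq_zero.mp hk0)
  · right
    have hk : Module.finrank (ZMod q) W ≤ n := by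
      rw [← hn]; exact Submodule.finrank_le _
    rcases Nat.eq_or_lt_of_le hk with hkn | hkn
    · exact Submodule.eq_top_of_finrank_eq (by rw [hkn, hn])
    · exfalso
      have h1 := card_modEq_fixed g hgr W hW
      rw [hfix, inf_bot_eq, card_submodule, card_submodule, finrank_bot] at h1
      have h2 := key _ _ (Nat.zero_le _) h1
      rw [Nat.sub_zero] at h2
      exact hprim _ (Nat.pos_of_ne_zero hk0) hkn h2

end zsig

end Cfsg.Agent.Lib.Helper12.Hup
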