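import Mathlib
import Cfsg.Agent.Lib.Helper12.RegSolvC
import Cfsg.Agent.Lib.Helper5.AutPSL2Out

/-!
# Order of a linear group with an irreducible normal abelian subgroup (helper12)

Such a group lies in `ΓL(1, p^d)`, so its order divides `(p^d - 1) d`.
-/

set_option autoImplicit false
set_option linter.unusedSectionVars false
set_option linter.style.haveILetI false

namespace Cfsg.Agent.Lib.Helper12.Hup

section cardB
universe u
variable {p : ℕ} [Fact p.Prime] {V : Type u} [AddCommGroup V] [Module (ZMod p) V] [Finite V]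
  [Nontrivial V]

/-- the order of a subgroup of `ΓL(1, p^d)` given by the semilinear description -/
theorem card_dvd_of_semilinear (H : Subgroup (V ≃ₗ[ZMod p] V)) (F : Type) [Field F] [Fintype F]
    (e : V ≃+ F) (sg : H →* (F ≃+* F)) (c : H → F)
    (hc : ∀ (h : H) (v : V), e ((h : V ≃ₗ[ZMod p] V) v) = c h * sg h (e v)) :
    Nat.card H ∣ (Nat.card V - 1) * Module.finrank (ZMod p) V := by
  classical
  have hp : p.Prime := Fact.out
  have hVcard : Nat.card V = p ^ Module.finrank (ZMod p) V := by
    rw [Module.natCard_eq_pow_finrank (K := ZMod p) (V := V), Nat.card_zmod]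
  have hFcard : Fintype.card F = p ^ Module.finrank (ZMod p) V := by
    rw [← hVcard, ← Nat.card_eq_fintype_card]
    exact (Nat.card_congr e.toEquiv).symm
  have hpF : (p : F) = 0 := by
    obtain ⟨v, hv⟩ := e.surjective 1
    have h1 : p • v = 0 := by
      have : (p : ZMod p) • v = 0 := by rw [ZMod.natCast_self, zero_smul]
      rwa [Nat.cast_smul_eq_nsmul] at this
    have h2 := congrArg e h1
    rw [map_nsmul, map_zero, hv, nsmul_eq_mul, mul_one] at h2
    exact h2
  haveI : CharP F p := (CharP.charP_iff_prime_eq_zero hp).mpr hpF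
  have hAut : Nat.card (F ≃+* F) = Module.finrank (ZMod p) V :=
    Cfsg.Agent.Lib.Helper5.AutPSL2.card_ringAut p hFcard
  have hc0 : ∀ h' : H, c h' ≠ 0 := by
    intro h' h0
    obtain ⟨v, hv⟩ := exists_ne (0 : V)
    have h3 := hc h' v
    rw [h0, zero_mul] at h3
    have h1 : (h' : V ≃ₗ[ZMod p] V) v = 0 := by
      apply e.injective
      rw [h3, map_zero]
    exact hv ((LinearEquiv.map_eq_zero_iff _).mp h1)
  haveI : Finite (V ≃ₗ[ZMod p] V) :=
    Finite.of_injective (fun f => (f : V → V)) DFunLike.coe_injective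
  haveI : Finite (F ≃+* F) :=
    Finite.of_injective (fun f => (f : F → F)) DFunLike.coe_injective
  -- the kernel embeds into the multiplicative group
  have h1x : ∀ x : F, (1 : F ≃+* F) x = x := fun x => rfl
  have hmulc : ∀ k k' : sg.ker, c (k.1 * k'.1) = c k.1 * c k'.1 := by
    intro k k'
    obtain ⟨v, hv⟩ := e.surjective 1
    have h1 := hc (k.1 * k'.1) v
    have h2 : ((k.1 * k'.1 : H) : V ≃ₗ[ZMod p] V) v =
        (k.1 : V ≃ₗ[ZMod p] V) ((k'.1 : V ≃ₗ[ZMod p] V) v) := rfl
    rw [h2, hc, hc, map_mul, MonoidHom.mem_ker.mp k.2, MonoidHom.mem_ker.mp k'.2, hv] at h1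
    rw [map_one (sg (k.1 * k'.1)), mul_one] at h1
    rw [h1x, h1x, h1x, mul_one] at h1
    exact h1.symm
  let φ : sg.ker →* Fˣ :=
    { toFun := fun k => Units.mk0 (c k.1) (hc0 k.1)
      map_one' := by
        apply Units.ext
        show c (1 : H) = 1
        obtain ⟨v, hv⟩ := e.surjective 1
        have h1 := hc 1 v
        rw [map_one, h1x, hv, mul_one] at h1
        have h2 : ((1 : H) : V ≃ₗ[ZMod p] V) v = v := rfl
        rw [h2, hv] at h1
        exact h1.symm
      map_mul' := fun k k' => by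
        apply Units.ext
        exact hmulc k k' }
  have hφinj : Function.Injective φ := by
    intro k k' hkk
    have h1 : c k.1 = c k'.1 := congrArg Units.val hkk
    apply Subtype.ext
    apply Subtype.ext
    apply LinearEquiv.ext
    intro v
    apply e.injective
    rw [hc, hc, h1, MonoidHom.mem_ker.mp k.2, MonoidHom.mem_ker.mp k'.2]
  have hkdvd : Nat.card sg.ker ∣ Nat.card V - 1 := by
    have h3 := Subgroup.card_dvd_of_injective φ hφinj
    rw [Nat.card_units, Nat.card_eq_fintype_card (α := F), hFcard, ← hVcard] at h3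
    exact h3
  have hrdvd : Nat.card sg.range ∣ Module.finrank (ZMod p) V := by
    rw [← hAut]
    exact Subgroup.card_subgroup_dvd_card _
  have hmul : Nat.card sg.ker * Nat.card sg.range = Nat.card H := by
    rw [← Subgroup.index_ker, Subgroup.card_mul_index]
  rw [← hmul]
  exact Nat.mul_dvd_mul hkdvd hrdvd

/-- **A linear group with an irreducible normal abelian subgroup has order dividing
`(p^d - 1) d`.** -/
theorem card_dvd_of_irreducible_normal (H : Subgroup (V ≃ₗ[ZMod p] V)) (A : Subgroup H)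
    (hAn : A.Normal) (hAc : ∀ a ∈ A, ∀ b ∈ A, a * b = b * a)
    (hirr : ∀ W : Submodule (ZMod p) V,
      (∀ n ∈ A, ∀ v ∈ W, ((n : H) : V ≃ₗ[ZMod p] V) v ∈ W) → W = ⊥ ∨ W = ⊤) :
    Nat.card H ∣ (Nat.card V - 1) * Module.finrank (ZMod p) V := by
  obtain ⟨F, iF, iFt, e, sg, c, hc⟩ :=
    Cfsg.Agent.Lib.Helper12.RegSolv.gammaL_hom H A hAn hAc hirr
  exact card_dvd_of_semilinear H F e sg c hc

end cardB

end Cfsg.Agent.Lib.Helper12.Hup
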