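import Mathlib

/-!
# Huppert's theorem: the arithmetic endgame (helper12)
-/

set_option autoImplicit false

namespace Cfsg.Agent.Lib.Helper12.Hup

theorem pow_ineq (k : ℕ) (hk : 4 ≤ k) : 2 * k * 2 ^ (4 * k) < 3 ^ (2 ^ k - 1) := by
  induction k, hk using Nat.le_induction with
  | base => norm_num
  | succ k hk ih =>
    have h1 : 2 * (k + 1) * 2 ^ (4 * (k + 1)) ≤ 32 * (2 * k * 2 ^ (4 * k)) := by
      have h2 : 2 ^ (4 * (k + 1)) = 16 * 2 ^ (4 * k) := by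
        rw [show 4 * (k + 1) = 4 * k + 4 by ring, pow_add]
        ring
      rw [h2]
      have h3 : k + 1 ≤ 2 * k := by omega
      calc 2 * (k + 1) * (16 * 2 ^ (4 * k)) = 16 * (2 * (k + 1) * 2 ^ (4 * k)) := by ring
        _ ≤ 16 * (2 * (2 * k) * 2 ^ (4 * k)) := by gcongr
        _ = 32 * (2 * k * 2 ^ (4 * k)) := by ring
    have h4 : 32 ≤ 3 ^ (2 ^ k) := by
      have h5 : 2 ^ 4 ≤ 2 ^ k := Nat.pow_le_pow_right (by norm_num) hk
      calc 32 ≤ 3 ^ (2 ^ 4) := by norm_num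
        _ ≤ 3 ^ (2 ^ k) := Nat.pow_le_pow_right (by norm_num) h5
    have h6 : 3 ^ (2 ^ (k + 1) - 1) = 3 ^ (2 ^ k) * 3 ^ (2 ^ k - 1) := by
      rw [← pow_add]
      congr 1
      have : 1 ≤ 2 ^ k := Nat.one_le_two_pow
      rw [pow_succ]
      omega
    rw [h6]
    calc 2 * (k + 1) * 2 ^ (4 * (k + 1)) ≤ 32 * (2 * k * 2 ^ (4 * k)) := h1
      _ < 32 * 3 ^ (2 ^ k - 1) := by
        apply Nat.mul_lt_mul_of_pos_left ih (by norm_num)
      _ ≤ 3 ^ (2 ^ k) * 3 ^ (2 ^ k - 1) := Nat.mul_le_mul_right _ h4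

/-- **The arithmetic endgame of Huppert's theorem.** -/
theorem endgame (q k : ℕ) (hq : q.Prime) (hq2 : q ≠ 2) (hk : 0 < k) (hr : (2 ^ k + 1).Prime)
    (hdvd : q ^ (2 ^ k) - 1 ∣ (q - 1) * ((2 ^ k) ^ 2 * ((2 ^ k) ^ 2 - 1) * (2 * k))) :
    q ^ (2 ^ k) ∈ ({9, 25, 49, 121, 529, 81} : Set ℕ) := by
  have hq3 : 3 ≤ q := by
    have := hq.two_le
    omega
  obtain ⟨S, hS⟩ : ∃ S, S = ∑ i ∈ Finset.range (2 ^ k), q ^ i := ⟨_, rfl⟩
  have hgeom : S * (q - 1) = q ^ (2 ^ k) - 1 := by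
    rw [hS]
    exact geom_sum_mul_of_one_le (by omega) _
  have hSdvd : S ∣ (2 ^ k) ^ 2 * ((2 ^ k) ^ 2 - 1) * (2 * k) := by
    rw [← hgeom, mul_comm S] at hdvd
    exact Nat.dvd_of_mul_dvd_mul_left (by omega) hdvd
  have hMpos : 0 < (2 ^ k) ^ 2 * ((2 ^ k) ^ 2 - 1) * (2 * k) := by
    have h1 : 2 ≤ 2 ^ k := by
      calc 2 = 2 ^ 1 := by norm_num
        _ ≤ 2 ^ k := Nat.pow_le_pow_right (by norm_num) hk
    have h2 : 4 ≤ (2 ^ k) ^ 2 := by nlinarith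
    have h3 : 0 < (2 ^ k) ^ 2 - 1 := by omega
    positivity
  have hSle := Nat.le_of_dvd hMpos hSdvd
  have hSge : q ^ (2 ^ k - 1) ≤ S := by
    rw [hS]
    exact Finset.single_le_sum (f := fun i => q ^ i) (fun i _ => Nat.zero_le _)
      (Finset.mem_range.mpr (Nat.sub_lt Nat.one_le_two_pow (by norm_num)))
  have hk4 : k = 1 ∨ k = 2 ∨ k = 3 ∨ 4 ≤ k := by omega
  rcases hk4 with rfl | rfl | rfl | hk4
  · -- n = 2
    have hS2 : S = q + 1 := by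
      rw [hS]
      simp [Finset.sum_range_succ]
      ring
    rw [hS2] at hSdvd
    norm_num at hSdvd
    have hle : q + 1 ≤ 24 := Nat.le_of_dvd (by norm_num) hSdvd
    have hq24 : q ≤ 23 := by omega
    norm_num
    interval_cases q <;> simp_all
  · -- n = 4
    have hS4 : S = 1 + q + q ^ 2 + q ^ 3 := by
      rw [hS]
      simp [Finset.sum_range_succ]
    rw [hS4] at hSdvd hSle
    norm_num at hSdvd hSle
    have hq9 : q ≤ 9 := by
      by_contra h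
      push Not at h
      have : 1000 ≤ q ^ 3 := by
        calc 1000 = 10 ^ 3 := by norm_num
          _ ≤ q ^ 3 := Nat.pow_le_pow_left h 3
      omega
    norm_num
    interval_cases q <;> simp_all
  · exfalso
    norm_num at hr
  · exfalso
    have h1 := pow_ineq k hk4
    have h2 : 3 ^ (2 ^ k - 1) ≤ q ^ (2 ^ k - 1) := Nat.pow_le_pow_left hq3 _
    have h3 : (2 ^ k) ^ 2 * ((2 ^ k) ^ 2 - 1) * (2 * k) ≤ 2 * k * 2 ^ (4 * k) := by
      have h4 : (2 ^ k) ^ 2 * ((2 ^ k) ^ 2 - 1) ≤ 2 ^ (4 * k) := by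
        have h5 : (2 : ℕ) ^ (4 * k) = (2 ^ k) ^ 2 * (2 ^ k) ^ 2 := by
          rw [← pow_mul, ← pow_add]
          congr 1
          ring
        rw [h5]
        exact Nat.mul_le_mul_left _ (Nat.sub_le _ _)
      calc (2 ^ k) ^ 2 * ((2 ^ k) ^ 2 - 1) * (2 * k) ≤ 2 ^ (4 * k) * (2 * k) :=
            Nat.mul_le_mul_right _ h4
        _ = 2 * k * 2 ^ (4 * k) := by ring
    omega

end Cfsg.Agent.Lib.Helper12.Hup
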