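import Mathlib

/-!
# Class two groups with cyclic commutator subgroup of prime order: the symplectic bound (helper12)
-/

set_option autoImplicit false
set_option linter.unusedSectionVars false
set_option linter.style.haveILetI false

namespace Cfsg.Agent.Lib.Helper12.Hup

open Subgroup
open scoped commutatorElement

section comm

variable {X : Type*} [Group X]

theorem comm_mul_left (hc : ∀ x y : X, ⁅x, y⁆ ∈ center X) (x x' y : X) :
    ⁅x * x', y⁆ = ⁅x, y⁆ * ⁅x', y⁆ := by
  have h1 := hc x' y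
  rw [Subgroup.mem_center_iff] at h1
  have h2 : ⁅x * x', y⁆ = x * ⁅x', y⁆ * (y * x⁻¹ * y⁻¹) := by
    simp only [commutatorElement_def]
    group
  rw [h2, h1 x, mul_assoc, h1]
  simp only [commutatorElement_def]
  group

theorem comm_mul_right (hc : ∀ x y : X, ⁅x, y⁆ ∈ center X) (x y y' : X) :
    ⁅x, y * y'⁆ = ⁅x, y⁆ * ⁅x, y'⁆ := by
  have h1 := hc x y'
  rw [Subgroup.mem_center_iff] at h1
  have h2 : ⁅x, y * y'⁆ = x * y * x⁻¹ * (⁅x, y'⁆ * y⁻¹) := by
    simp only [commutatorElement_def]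
    group
  rw [h2, ← h1 y⁻¹]
  simp only [commutatorElement_def]
  group

theorem comm_one_left (x : X) : ⁅(1 : X), x⁆ = 1 := by
  simp [commutatorElement_def]

theorem comm_one_right (x : X) : ⁅x, (1 : X)⁆ = 1 := by
  simp [commutatorElement_def]

theorem comm_inv_left (hc : ∀ x y : X, ⁅x, y⁆ ∈ center X) (x y : X) :
    ⁅x⁻¹, y⁆ = ⁅x, y⁆⁻¹ := by
  have h := comm_mul_left hc x x⁻¹ y
  rw [mul_inv_cancel, comm_one_left] at h
  exact (inv_eq_of_mul_eq_one_right h.symm).symm

theorem comm_inv_right (hc : ∀ x y : X, ⁅x, y⁆ ∈ center X) (x y : X) :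
    ⁅x, y⁻¹⁆ = ⁅x, y⁆⁻¹ := by
  have h := comm_mul_right hc x y y⁻¹
  rw [mul_inv_cancel, comm_one_right] at h
  exact (inv_eq_of_mul_eq_one_right h.symm).symm

theorem comm_pow_left (hc : ∀ x y : X, ⁅x, y⁆ ∈ center X) (x y : X) (n : ℕ) :
    ⁅x ^ n, y⁆ = ⁅x, y⁆ ^ n := by
  induction n with
  | zero => simp
  | succ n ih => rw [pow_succ, comm_mul_left hc, ih, pow_succ]

theorem comm_pow_right (hc : ∀ x y : X, ⁅x, y⁆ ∈ center X) (x y : X) (n : ℕ) :
    ⁅x, y ^ n⁆ = ⁅x, y⁆ ^ n := by
  induction n with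
  | zero => simp
  | succ n ih => rw [pow_succ, comm_mul_right hc, ih, pow_succ]

theorem comm_swap (x y : X) : ⁅x, y⁆ = ⁅y, x⁆⁻¹ := (commutatorElement_inv y x).symm

/-- the homomorphism `g ↦ ⁅g, y⁆` -/
def commHom (hc : ∀ x y : X, ⁅x, y⁆ ∈ center X) (y : X) : X →* X where
  toFun g := ⁅g, y⁆
  map_one' := comm_one_left y
  map_mul' a b := comm_mul_left hc a b y

end comm

section sq

universe u

/-- **A class two group whose commutators lie in a central subgroup of prime order `s` has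
`|X : Z(X)| = s ^ (2 e)`.** -/
theorem index_center_eq_pow : ∀ (c : ℕ) {X : Type u} [Group X] [Finite X] {s : ℕ} [Fact s.Prime]
    (z : X), z ∈ center X → z ^ s = 1 → (∀ x y : X, ⁅x, y⁆ ∈ zpowers z) → Nat.card X = c →
    ∃ e : ℕ, (center X).index = s ^ (2 * e) := by
  intro c
  induction c using Nat.strong_induction_on with
  | _ c ih =>
  intro X _ _ s _ z hz hzs hcomm hcard
  have hs : s.Prime := Fact.out
  have hc : ∀ x y : X, ⁅x, y⁆ ∈ center X := fun x y => (zpowers_le.mpr hz) (hcomm x y)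
  by_cases htop : center X = ⊤
  · exact ⟨0, by rw [htop, index_top]; simp⟩
  -- a non-commuting pair
  obtain ⟨x, hx⟩ : ∃ x : X, x ∉ center X := by
    by_contra h
    push Not at h
    exact htop (eq_top_iff.mpr fun g _ => h g)
  obtain ⟨y, hxy⟩ : ∃ y : X, ⁅x, y⁆ ≠ 1 := by
    by_contra h
    push Not at h
    apply hx
    rw [Subgroup.mem_center_iff]
    intro g
    have := h g
    rw [commutatorElement_eq_one_iff_commute] at this
    exact this.eq.symm
  obtain ⟨t, ht⟩ : ∃ t : X, t = ⁅x, y⁆ := ⟨_, rfl⟩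
  have htz : t ∈ zpowers z := by rw [ht]; exact hcomm x y
  have ht1 : t ≠ 1 := by rw [ht]; exact hxy
  -- the order of z
  have hz1 : z ≠ 1 := by
    rintro rfl
    rw [zpowers_one_eq_bot, mem_bot] at htz
    exact ht1 htz
  have hordz : orderOf z = s := by
    have h1 : orderOf z ∣ s := orderOf_dvd_of_pow_eq_one hzs
    rcases (Nat.dvd_prime hs).mp h1 with h | h
    · exact absurd (orderOf_eq_one_iff.mp h) hz1
    · exact h
  have hcardZ : Nat.card (zpowers z) = s := by rw [Nat.card_zpowers, hordz]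
  -- t generates
  have hgen : ∀ a ∈ zpowers z, ∃ i : ℤ, t ^ i = a := by
    intro a ha
    have h1 : zpowers (⟨t, htz⟩ : zpowers z) = ⊤ :=
      zpowers_eq_top_of_prime_card hcardZ (fun h => ht1 (congrArg Subtype.val h))
    have h2 : (⟨a, ha⟩ : zpowers z) ∈ zpowers (⟨t, htz⟩ : zpowers z) := by rw [h1]; trivial
    obtain ⟨i, hi⟩ := h2
    exact ⟨i, by simpa using congrArg Subtype.val hi⟩
  -- the homomorphism
  let Φ : X →* X × X := (commHom hc x).prod (commHom hc y)
  have hΦ : ∀ g, Φ g = (⁅g, x⁆, ⁅g, y⁆) := fun g => rfl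
  have hΦval : ∀ m l : ℤ, Φ (y ^ m * x ^ l) = (t ^ (-m), t ^ l) := by
    intro m l
    rw [map_mul, map_zpow, map_zpow, hΦ, hΦ]
    have e1 : ⁅y, x⁆ = t⁻¹ := by rw [ht]; exact comm_swap y x
    have e2 : ⁅y, y⁆ = 1 := commutatorElement_self y
    have e3 : ⁅x, x⁆ = 1 := commutatorElement_self x
    rw [e1, e2, e3, ← ht]
    simp only [Prod.pow_mk, one_zpow, Prod.mk_mul_mk, mul_one, one_mul, inv_zpow, zpow_neg]
  have hrange : Φ.range = (zpowers z).prod (zpowers z) := by
    apply le_antisymm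
    · rintro _ ⟨g, rfl⟩
      rw [hΦ, Subgroup.mem_prod]
      exact ⟨hcomm g x, hcomm g y⟩
    · rintro ⟨a, b⟩ hab
      rw [Subgroup.mem_prod] at hab
      obtain ⟨i, hi⟩ := hgen a hab.1
      obtain ⟨j, hj⟩ := hgen b hab.2
      refine ⟨y ^ (-i) * x ^ j, ?_⟩
      rw [hΦval, neg_neg, hi, hj]
  have hindex : Φ.ker.index = s * s := by
    rw [Subgroup.index_ker, hrange, Nat.card_congr (Subgroup.prodEquiv _ _).toEquiv, Nat.card_prod,
      hcardZ]
  have hker : ∀ g, g ∈ Φ.ker ↔ ⁅g, x⁆ = 1 ∧ ⁅g, y⁆ = 1 := by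
    intro g
    rw [MonoidHom.mem_ker, hΦ, Prod.mk_eq_one]
  have hcenle : center X ≤ Φ.ker := by
    intro g hg
    rw [Subgroup.mem_center_iff] at hg
    rw [hker]
    constructor
    · rw [commutatorElement_eq_one_iff_commute]; exact (hg x).symm
    · rw [commutatorElement_eq_one_iff_commute]; exact (hg y).symm
  -- the centre of the kernel
  have hcen : (center X).subgroupOf Φ.ker = center Φ.ker := by
    ext c
    rw [Subgroup.mem_subgroupOf, Subgroup.mem_center_iff, Subgroup.mem_center_iff]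
    constructor
    · intro h g
      exact Subtype.ext (h g.1)
    · intro h g
      obtain ⟨⟨a, b⟩, hab⟩ : ∃ ab : X × X, ab = Φ g := ⟨_, rfl⟩
      have hmem : Φ g ∈ (zpowers z).prod (zpowers z) := by rw [← hrange]; exact ⟨g, rfl⟩
      rw [← hab, Subgroup.mem_prod] at hmem
      obtain ⟨i, hi⟩ := hgen a hmem.1
      obtain ⟨j, hj⟩ := hgen b hmem.2
      have h1 : Φ (y ^ (-i) * x ^ j) = Φ g := by rw [hΦval, neg_neg, hi, hj, hab]
      have h2 : (y ^ (-i) * x ^ j)⁻¹ * g ∈ Φ.ker := by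
        rw [MonoidHom.mem_ker, map_mul, map_inv, h1, inv_mul_cancel]
      have hcx : ⁅(c : X), x⁆ = 1 := ((hker c.1).mp c.2).1
      have hcy : ⁅(c : X), y⁆ = 1 := ((hker c.1).mp c.2).2
      rw [commutatorElement_eq_one_iff_commute] at hcx hcy
      have h3 := congrArg Subtype.val (h ⟨_, h2⟩)
      have h4 : Commute (c : X) ((y ^ (-i) * x ^ j)⁻¹ * g) := h3.symm
      have h5 : Commute (c : X) (y ^ (-i) * x ^ j) :=
        (hcy.zpow_right _).mul_right (hcx.zpow_right _)
      have h6 : Commute (c : X) ((y ^ (-i) * x ^ j) * ((y ^ (-i) * x ^ j)⁻¹ * g)) :=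
        h5.mul_right h4
      rw [mul_inv_cancel_left] at h6
      exact h6.eq.symm
  -- induction
  have hs2 : 2 ≤ s := hs.two_le
  have hlt : Nat.card Φ.ker < c := by
    have h1 := Φ.ker.card_mul_index
    rw [hindex, hcard] at h1
    have hpos : 0 < Nat.card Φ.ker := Nat.card_pos
    have h4 : 4 ≤ s * s := by nlinarith
    have h5 : Nat.card Φ.ker * 4 ≤ Nat.card Φ.ker * (s * s) := Nat.mul_le_mul_left _ h4
    omega
  have hzker : z ∈ Φ.ker := hcenle hz
  have hz2 : (⟨z, hzker⟩ : Φ.ker) ∈ center Φ.ker := by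
    rw [← hcen, Subgroup.mem_subgroupOf]
    exact hz
  have hzs2 : (⟨z, hzker⟩ : Φ.ker) ^ s = 1 := Subtype.ext (by simpa using hzs)
  have hcomm2 : ∀ a b : Φ.ker, ⁅a, b⁆ ∈ zpowers (⟨z, hzker⟩ : Φ.ker) := by
    intro a b
    obtain ⟨i, hi⟩ := hcomm a.1 b.1
    refine ⟨i, Subtype.ext ?_⟩
    have h7 : ((⁅a, b⁆ : Φ.ker) : X) = ⁅(a : X), (b : X)⁆ := rfl
    rw [h7, ← hi]
    simp
  obtain ⟨e, he⟩ := ih _ hlt (⟨z, hzker⟩ : Φ.ker) hz2 hzs2 hcomm2 rfl
  refine ⟨e + 1, ?_⟩
  rw [← Subgroup.relIndex_mul_index hcenle, Subgroup.relIndex, hcen, he, hindex]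
  ring

end sq

section symp

universe u

variable {N : Type u} [Group N] [Finite N]

/-- **The symplectic bound.**  An automorphism of prime order `r ≠ s` of a class two group
with commutators in a central subgroup `⟨z⟩` of order `s`, trivial on the centre but not
modulo the centre, satisfies `r ∣ s ^ (2 e) - 1` for some `e ≥ 1` with
`s ^ (2 e) ∣ |N : Z(N)|`. -/
theorem symplectic_bound {s r : ℕ} [Fact s.Prime] (hr : r.Prime) (hrs : r ≠ s)
    (z : N) (hz : z ∈ center N) (hzs : z ^ s = 1) (hcomm : ∀ x y : N, ⁅x, y⁆ ∈ zpowers z)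
    (φ : MulAut N) (hφr : φ ^ r = 1) (hφZ : ∀ a ∈ center N, φ a = a)
    (hφ : ∃ x : N, φ x * x⁻¹ ∉ center N) :
    ∃ e : ℕ, 0 < e ∧ s ^ (2 * e) ∣ (center N).index ∧ r ∣ s ^ (2 * e) - 1 := by
  classical
  have hs : s.Prime := Fact.out
  haveI : Fact r.Prime := ⟨hr⟩
  have hc : ∀ x y : N, ⁅x, y⁆ ∈ center N := fun x y => (zpowers_le.mpr hz) (hcomm x y)
  -- the quotient is commutative of exponent s
  have hQcomm : ∀ a b : N ⧸ center N, a * b = b * a := by
    intro a b
    induction a using QuotientGroup.induction_on with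
    | H x =>
    induction b using QuotientGroup.induction_on with
    | H y =>
    rw [← QuotientGroup.mk_mul, ← QuotientGroup.mk_mul, QuotientGroup.eq]
    have h1 : (x * y)⁻¹ * (y * x) = ⁅y⁻¹, x⁻¹⁆ := by
      simp only [commutatorElement_def]
      group
    rw [h1]
    exact hc _ _
  have hcs : ∀ x y : N, ⁅x, y⁆ ^ s = 1 := by
    intro x y
    obtain ⟨i, hi⟩ := hcomm x y
    rw [← hi, ← zpow_natCast, ← zpow_mul, mul_comm, zpow_mul, zpow_natCast, hzs, one_zpow]
  have hQexp : ∀ a : N ⧸ center N, a ^ s = 1 := by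
    intro a
    induction a using QuotientGroup.induction_on with
    | H x =>
    rw [← QuotientGroup.mk_pow, QuotientGroup.eq_one_iff, Subgroup.mem_center_iff]
    intro g
    have h1 : ⁅x ^ s, g⁆ = 1 := by rw [comm_pow_left hc, hcs]
    rw [commutatorElement_eq_one_iff_commute] at h1
    exact h1.eq.symm
  -- the induced automorphism
  have hmap : Subgroup.map (φ : N ≃* N).toMonoidHom (center N) = center N :=
    Subgroup.characteristic_iff_map_eq.mp Subgroup.centerCharacteristic φ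
  let φb : (N ⧸ center N) ≃* (N ⧸ center N) :=
    QuotientGroup.congr (center N) (center N) φ hmap
  have hφb : ∀ x : N, φb (x : N ⧸ center N) = ((φ x : N) : N ⧸ center N) := fun x =>
    QuotientGroup.congr_mk (center N) (center N) φ hmap x
  have hφbpow : ∀ (i : ℕ) (x : N), (φb ^ i) (x : N ⧸ center N) = (((φ ^ i) x : N) : N ⧸ center N) := by
    intro i
    induction i with
    | zero => intro x; rfl
    | succ i ih =>
      intro x
      rw [pow_succ', pow_succ', MulAut.mul_apply, MulAut.mul_apply, ih, hφb]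
  have hφbr : ∀ a : N ⧸ center N, (φb ^ r) a = a := by
    intro a
    induction a using QuotientGroup.induction_on with
    | H x => rw [hφbpow, hφr]; rfl
  -- the difference homomorphism
  let δ : N →* N ⧸ center N :=
    { toFun := fun x => ((φ x * x⁻¹ : N) : N ⧸ center N)
      map_one' := by simp
      map_mul' := fun x y => by
        show ((φ (x * y) * (x * y)⁻¹ : N) : N ⧸ center N) =
          ((φ x * x⁻¹ : N) : N ⧸ center N) * ((φ y * y⁻¹ : N) : N ⧸ center N)
        rw [map_mul, mul_inv_rev]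
        simp only [QuotientGroup.mk_mul]
        rw [mul_assoc, mul_assoc]
        congr 1
        rw [hQcomm ((φ y : N) : N ⧸ center N), mul_assoc]
        rw [hQcomm ((y⁻¹ : N) : N ⧸ center N), mul_assoc] }
  have hδ : ∀ x : N, δ x = ((φ x * x⁻¹ : N) : N ⧸ center N) := fun x => rfl
  have hδ' : ∀ x : N, φb (x : N ⧸ center N) = δ x * (x : N ⧸ center N) := by
    intro x
    rw [hφb, hδ, ← QuotientGroup.mk_mul, inv_mul_cancel_right]
  have hWinv : ∀ w ∈ δ.range, φb w ∈ δ.range := by
    rintro _ ⟨x, rfl⟩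
    refine ⟨φ x, ?_⟩
    rw [hδ, hδ, hφb, map_mul, map_inv]
  -- fixed point freeness
  have hfpf : ∀ w ∈ δ.range, φb w = w → w = 1 := by
    rintro _ ⟨u, rfl⟩ hfix
    have hiter : ∀ i : ℕ, (φb ^ i) (u : N ⧸ center N) = (δ u) ^ i * (u : N ⧸ center N) := by
      intro i
      induction i with
      | zero => simp
      | succ i ih =>
        rw [pow_succ', MulAut.mul_apply, ih, map_mul, map_pow, hfix, hδ', pow_succ, mul_assoc]
    have h1 := hiter r
    rw [hφbr] at h1
    have h2 : (δ u) ^ r = 1 := by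
      have := congrArg (fun t => t * ((u : N ⧸ center N))⁻¹) h1
      simpa using this.symm
    have h3 : (δ u) ^ s = 1 := hQexp _
    have h4 : orderOf (δ u) ∣ Nat.gcd r s :=
      Nat.dvd_gcd (orderOf_dvd_of_pow_eq_one h2) (orderOf_dvd_of_pow_eq_one h3)
    rw [(Nat.coprime_primes hr hs).mpr hrs, Nat.dvd_one] at h4
    exact orderOf_eq_one_iff.mp h4
  -- counting
  have hcount : r ∣ Nat.card δ.range - 1 := by
    haveI : Fintype δ.range := Fintype.ofFinite _
    let f : Function.End δ.range := fun w => ⟨φb w.1, hWinv w.1 w.2⟩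
    have hpow : ∀ (k : ℕ) (w : δ.range), ((f ^ k) w : N ⧸ center N) = (φb ^ k) w.1 := by
      intro k
      induction k with
      | zero => intro w; rfl
      | succ k ih =>
        intro w
        rw [pow_succ', pow_succ']
        show ((f ((f ^ k) w) : δ.range) : N ⧸ center N) = φb ((φb ^ k) w.1)
        rw [← ih w]
    have hf : f ^ r ^ 1 = 1 := by
      rw [pow_one]
      funext w
      apply Subtype.ext
      rw [hpow, hφbr]
      rfl
    have h1 := Equiv.Perm.card_fixedPoints_modEq (p := r) (n := 1) hf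
    have h2 : Fintype.card (Function.fixedPoints f) = 1 := by
      rw [Fintype.card_eq_one_iff]
      refine ⟨⟨1, ?_⟩, ?_⟩
      · show f 1 = 1
        apply Subtype.ext
        show φb ((1 : δ.range) : N ⧸ center N) = ((1 : δ.range) : N ⧸ center N)
        simp
      · rintro ⟨w, hw⟩
        apply Subtype.ext
        apply Subtype.ext
        have h3 : f w = w := hw
        exact hfpf w.1 w.2 (congrArg Subtype.val h3)
    rw [h2, ← Nat.card_eq_fintype_card] at h1
    exact (Nat.modEq_iff_dvd' Nat.card_pos).mp h1.symm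
  -- the preimage
  obtain ⟨NW, hNW⟩ : ∃ NW : Subgroup N, NW = δ.range.comap (QuotientGroup.mk' (center N)) :=
    ⟨_, rfl⟩
  have hmemNW : ∀ x : N, x ∈ NW ↔ (x : N ⧸ center N) ∈ δ.range := by
    intro x; rw [hNW]; rfl
  have hcenNW : center N ≤ NW := by
    intro x hx
    rw [hmemNW, (QuotientGroup.eq_one_iff x).mpr hx]
    exact one_mem _
  have hrel : (center N).relIndex NW = Nat.card δ.range := by
    have h1 := Subgroup.relIndex_mul_index hcenNW
    have h2 : NW.index = δ.range.index := by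
      rw [hNW]
      exact Subgroup.index_comap_of_surjective _ (QuotientGroup.mk'_surjective _)
    have h3 := δ.range.card_mul_index
    rw [← Subgroup.index_eq_card, ← h1, h2] at h3
    have hpos : 0 < δ.range.index := Nat.pos_of_ne_zero Subgroup.index_ne_zero_of_finite
    exact (Nat.eq_of_mul_eq_mul_right hpos h3).symm
  -- the centre of the preimage
  have hcen : (center N).subgroupOf NW = center NW := by
    ext c
    rw [Subgroup.mem_subgroupOf, Subgroup.mem_center_iff, Subgroup.mem_center_iff]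
    constructor
    · intro h g
      exact Subtype.ext (h g.1)
    · intro h
      have hcomm1 : ∀ x : N, ⁅(c : N), φ x⁆ = ⁅(c : N), x⁆ := by
        intro x
        have hmem : φ x * x⁻¹ ∈ NW := by
          rw [hmemNW]
          exact ⟨x, rfl⟩
        have h1 := congrArg Subtype.val (h ⟨_, hmem⟩)
        have h2 : ⁅(c : N), φ x * x⁻¹⁆ = 1 := by
          rw [commutatorElement_eq_one_iff_commute]
          exact h1.symm
        rw [comm_mul_right hc, comm_inv_right hc, mul_inv_eq_one] at h2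
        exact h2
      have hcomm2 : ∀ y : N, ⁅φ (c : N), y⁆ = ⁅(c : N), y⁆ := by
        intro y
        obtain ⟨x, rfl⟩ := (φ : N ≃* N).surjective y
        have h1 : φ ⁅(c : N), x⁆ = ⁅φ (c : N), φ x⁆ := map_commutatorElement φ _ _
        rw [← h1, hφZ _ (hc _ _), hcomm1]
      have hcen1 : φ (c : N) * (c : N)⁻¹ ∈ center N := by
        rw [Subgroup.mem_center_iff]
        intro y
        have h1 : ⁅φ (c : N) * (c : N)⁻¹, y⁆ = 1 := by
          rw [comm_mul_left hc, comm_inv_left hc, hcomm2, mul_inv_cancel]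
        rw [commutatorElement_eq_one_iff_commute] at h1
        exact h1.eq.symm
      have hfix : φb ((c : N) : N ⧸ center N) = ((c : N) : N ⧸ center N) := by
        rw [hδ', hδ, (QuotientGroup.eq_one_iff _).mpr hcen1, one_mul]
      have h1 := hfpf _ ((hmemNW c.1).mp c.2) hfix
      have h2 : (c : N) ∈ center N := (QuotientGroup.eq_one_iff _).mp h1
      rw [Subgroup.mem_center_iff] at h2
      exact h2
  -- apply the square lemma
  have hzNW : z ∈ NW := hcenNW hz
  have hz2 : (⟨z, hzNW⟩ : NW) ∈ center NW := by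
    rw [← hcen, Subgroup.mem_subgroupOf]
    exact hz
  have hzs2 : (⟨z, hzNW⟩ : NW) ^ s = 1 := Subtype.ext (by simpa using hzs)
  have hcomm2 : ∀ a b : NW, ⁅a, b⁆ ∈ zpowers (⟨z, hzNW⟩ : NW) := by
    intro a b
    obtain ⟨i, hi⟩ := hcomm a.1 b.1
    refine ⟨i, Subtype.ext ?_⟩
    have h7 : ((⁅a, b⁆ : NW) : N) = ⁅(a : N), (b : N)⁆ := rfl
    rw [h7, ← hi]
    simp
  obtain ⟨e, he⟩ := index_center_eq_pow (Nat.card NW) (⟨z, hzNW⟩ : NW) hz2 hzs2 hcomm2 rfl
  rw [← hcen, ← Subgroup.relIndex, hrel] at he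
  have hWne : 1 < Nat.card δ.range := by
    obtain ⟨x, hx⟩ := hφ
    rw [Finite.one_lt_card_iff_nontrivial]
    refine ⟨⟨⟨δ x, ⟨x, rfl⟩⟩, 1, ?_⟩⟩
    intro h
    have h1 : δ x = 1 := congrArg Subtype.val h
    rw [hδ, QuotientGroup.eq_one_iff] at h1
    exact hx h1
  refine ⟨e, ?_, ?_, ?_⟩
  · rw [Nat.pos_iff_ne_zero]
    rintro rfl
    rw [he] at hWne
    simp at hWne
  · rw [← he, ← hrel]
    exact Subgroup.relIndex_dvd_index_of_le hcenNW
  · rw [← he]
    exact hcount

end symp

end Cfsg.Agent.Lib.Helper12.Hup
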