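import Mathlib
import Cfsg.Agent.Lib.Helper12.RegSolvA
import Cfsg.Agent.Lib.Helper5.AutPSL2Out

/-!
# The field generated by an abelian normal subgroup of a linear group transitive on the
non-zero vectors (helper12)

If `H ≤ GL(V)` is transitive on the non-zero vectors and `A ⊴ H` is abelian, then the subring of
`End V` generated by `A` is a field `F`; `V` is an `F`-vector space, `A` acts by scalars,
`C_H(A)` acts `F`-linearly and `|H : C_H(A)|` divides `log_q |F|`.
-/

set_option autoImplicit false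
set_option linter.unusedSectionVars false
set_option linter.style.haveILetI false

namespace Cfsg.Agent.Lib.Helper12.Hup

open Cfsg.Agent.Lib.Helper12.RegSolv

section qp
universe u
variable {q : ℕ} [Fact q.Prime] {V : Type u} [AddCommGroup V] [Module (ZMod q) V] [Finite V]
  [Nontrivial V]

/-- **Annihilator counting.**  A commutative subring of `End V` normalised by a group transitive
on the non-zero vectors has no non-zero non-injective element. -/
theorem injective_of_conj_invariant (H : Subgroup (V ≃ₗ[ZMod q] V))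
    (htrans : ∀ v w : V, v ≠ 0 → w ≠ 0 → ∃ h : H, (h : V ≃ₗ[ZMod q] V) v = w)
    (R : Subring (Module.End (ZMod q) V))
    (hcomm : ∀ φ ∈ R, ∀ ψ ∈ R, φ * ψ = ψ * φ)
    (hconj : ∀ (h : H), ∀ φ ∈ R, cjFun (h : V ≃ₗ[ZMod q] V) φ ∈ R) :
    ∀ φ ∈ R, φ ≠ 0 → Function.Injective φ := by
  classical
  have hfinE : Finite (Module.End (ZMod q) V) :=
    Finite.of_injective (fun f => (f : V → V)) DFunLike.coe_injective
  let ann : V → Set (Module.End (ZMod q) V) := fun v => {φ | φ ∈ R ∧ φ v = 0}
  have hle : ∀ v w : V, v ≠ 0 → w ≠ 0 → (ann v).ncard ≤ (ann w).ncard := by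
    intro v w hv hw
    obtain ⟨h, hh⟩ := htrans v w hv hw
    apply Set.ncard_le_ncard_of_injOn (fun φ => cjFun (h : V ≃ₗ[ZMod q] V) φ)
    · intro φ hφ
      refine ⟨hconj h φ hφ.1, ?_⟩
      rw [cjFun_apply, ← hh, LinearEquiv.symm_apply_apply, hφ.2, map_zero]
    · intro φ _ ψ _ hφψ
      apply LinearMap.ext
      intro x
      have h1 := LinearMap.congr_fun hφψ ((h : V ≃ₗ[ZMod q] V) x)
      rw [cjFun_apply, cjFun_apply, LinearEquiv.symm_apply_apply] at h1
      exact (h : V ≃ₗ[ZMod q] V).injective h1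
  have heq : ∀ v w : V, v ≠ 0 → w ≠ 0 → ann v ⊆ ann w → ann v = ann w := fun v w hv hw hsub =>
    Set.eq_of_subset_of_ncard_le hsub (hle w v hw hv) (Set.toFinite _)
  have hall : ∀ v w : V, v ≠ 0 → w ≠ 0 → ann v = ann w := by
    intro v w hv hw
    by_contra hne
    have hV : ∀ (x u : V), x ≠ 0 → u ≠ 0 → (∀ φ ∈ ann x, φ u = 0) → ann u = ann x := by
      intro x u hx hu h
      exact (heq x u hx hu (fun φ hφ => ⟨hφ.1, h φ hφ⟩)).symm
    have hinter : ∀ u : V, (∀ φ ∈ ann v, φ u = 0) → (∀ φ ∈ ann w, φ u = 0) → u = 0 := by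
      intro u h1 h2
      by_contra hu
      exact hne ((hV v u hv hu h1).symm.trans (hV w u hw hu h2))
    have hvw : v + w ≠ 0 := by
      intro h0
      have hw' : w = -v := by
        rw [eq_neg_iff_add_eq_zero, add_comm]
        exact h0
      apply hw
      apply hinter w
      · intro φ hφ
        rw [hw', map_neg, hφ.2, neg_zero]
      · intro φ hφ
        exact hφ.2
    have key : ∀ φ ∈ ann (v + w), φ v = 0 := by
      intro φ hφ
      have h3 : φ v = - φ w := by
        have h4 := hφ.2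
        rw [map_add] at h4
        exact eq_neg_of_add_eq_zero_left h4
      apply hinter
      · intro ψ hψ
        have h2 := LinearMap.congr_fun (hcomm ψ hψ.1 φ hφ.1) v
        rw [Module.End.mul_apply, Module.End.mul_apply] at h2
        rw [h2, hψ.2, map_zero]
      · intro ψ hψ
        have h2 := LinearMap.congr_fun (hcomm ψ hψ.1 φ hφ.1) w
        rw [Module.End.mul_apply, Module.End.mul_apply] at h2
        rw [h3, map_neg, h2, hψ.2, map_zero, neg_zero]
    have key2 : ∀ φ ∈ ann (v + w), φ w = 0 := by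
      intro φ hφ
      have h4 := hφ.2
      rw [map_add, key φ hφ, zero_add] at h4
      exact h4
    have e1 := heq (v + w) v hvw hv (fun φ hφ => ⟨hφ.1, key φ hφ⟩)
    have e2 := heq (v + w) w hvw hw (fun φ hφ => ⟨hφ.1, key2 φ hφ⟩)
    exact hne (e1.symm.trans e2)
  intro φ hφ hφ0
  rw [injective_iff_map_eq_zero]
  intro x hx
  by_contra hx0
  apply hφ0
  apply LinearMap.ext
  intro y
  by_cases hy : y = 0
  · rw [hy, map_zero, map_zero]
  · have h1 : φ ∈ ann y := by
      rw [← hall x y hx0 hy]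
      exact ⟨hφ, hx⟩
    exact h1.2

/-- **The field generated by an abelian normal subgroup.** -/
theorem field_of_abelian_normal (H : Subgroup (V ≃ₗ[ZMod q] V))
    (htrans : ∀ v w : V, v ≠ 0 → w ≠ 0 → ∃ h : H, (h : V ≃ₗ[ZMod q] V) v = w)
    (A : Subgroup H) (hAn : A.Normal) (hAc : ∀ a ∈ A, ∀ b ∈ A, a * b = b * a) :
    ∃ (F : Type) (_ : Field F) (_ : Fintype F) (_ : Module F V) (m : ℕ),
      Fintype.card F = q ^ m ∧ IsCyclic A ∧ Nat.card A ∣ q ^ m - 1 ∧
      (∀ a ∈ A, ∃ c : F, ∀ v : V, ((a : H) : V ≃ₗ[ZMod q] V) v = c • v) ∧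
      (∀ h : H, h ∈ Subgroup.centralizer (A : Set H) → ∀ (c : F) (v : V),
        (h : V ≃ₗ[ZMod q] V) (c • v) = c • (h : V ≃ₗ[ZMod q] V) v) ∧
      (Subgroup.centralizer (A : Set H)).index ∣ m ∧
      (∀ W : Submodule (ZMod q) V,
        (∀ a ∈ A, ∀ v ∈ W, ((a : H) : V ≃ₗ[ZMod q] V) v ∈ W) → ∀ (c : F), ∀ v ∈ W, c • v ∈ W) := by
  classical
  have hq : q.Prime := Fact.out
  have hfinE : Finite (Module.End (ZMod q) V) :=
    Finite.of_injective (fun f => (f : V → V)) DFunLike.coe_injective
  haveI : Finite (V ≃ₗ[ZMod q] V) :=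
    Finite.of_injective (fun f => (f : V → V)) DFunLike.coe_injective
  obtain ⟨v₀, hv₀⟩ := exists_ne (0 : V)
  let S : Set (Module.End (ZMod q) V) :=
    Set.range (fun n : A => (((n : H) : V ≃ₗ[ZMod q] V) : V →ₗ[ZMod q] V))
  obtain ⟨R, hR⟩ : ∃ R : Subring (Module.End (ZMod q) V), R = Subring.closure S := ⟨_, rfl⟩
  have hSR : ∀ a ∈ A, (((a : H) : V ≃ₗ[ZMod q] V) : V →ₗ[ZMod q] V) ∈ R := by
    intro a ha
    rw [hR]
    exact Subring.subset_closure ⟨⟨a, ha⟩, rfl⟩
  have hScomm : ∀ x ∈ S, ∀ y ∈ S, x * y = y * x := by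
    rintro _ ⟨a, rfl⟩ _ ⟨b, rfl⟩
    apply LinearMap.ext
    intro v
    have h1 := hAc a.1 a.2 b.1 b.2
    have h2 := congrArg (fun x : H => (x : V ≃ₗ[ZMod q] V) v) h1
    exact h2
  have hcomm : ∀ φ ∈ R, ∀ ψ ∈ R, φ * ψ = ψ * φ := by
    have h0 : ∀ φ ∈ R, ∀ x ∈ S, x * φ = φ * x := by
      intro φ hφ
      have h1 : Subring.closure S ≤ Subring.centralizer S := by
        rw [Subring.closure_le]
        intro y hy
        rw [SetLike.mem_coe, Subring.mem_centralizer_iff]
        intro x hx
        exact hScomm x hx y hy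
      rw [hR] at hφ
      have h2 := h1 hφ
      rw [Subring.mem_centralizer_iff] at h2
      exact h2
    intro φ hφ ψ hψ
    have h1 : Subring.closure S ≤ Subring.centralizer {φ} := by
      rw [Subring.closure_le]
      intro x hx
      rw [SetLike.mem_coe, Subring.mem_centralizer_iff]
      intro g hg
      rw [Set.mem_singleton_iff] at hg
      rw [hg]
      exact (h0 φ hφ x hx).symm
    rw [hR] at hψ
    have h2 := h1 hψ
    rw [Subring.mem_centralizer_iff] at h2
    exact h2 φ (Set.mem_singleton _)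
  have hconj : ∀ (h : H), ∀ φ ∈ R, cjFun (h : V ≃ₗ[ZMod q] V) φ ∈ R := by
    intro h φ hφ
    have h1 : Subring.closure S ≤ R.comap ((h : V ≃ₗ[ZMod q] V).conjRingEquiv).toRingHom := by
      rw [Subring.closure_le]
      rintro _ ⟨a, rfl⟩
      rw [SetLike.mem_coe, Subring.mem_comap]
      have hmem : h * a.1 * h⁻¹ ∈ A := hAn.conj_mem a.1 a.2 h
      have h2 := hSR _ hmem
      exact h2
    rw [hR] at hφ
    exact h1 hφ
  have hinj := injective_of_conj_invariant H htrans R hcomm hconj
  -- the ring structure facts on `R`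
  have hcomm' : ∀ a b : R, a * b = b * a := fun a b => Subtype.ext (hcomm a.1 a.2 b.1 b.2)
  have hntR : Nontrivial R := by
    refine ⟨⟨0, 1, ?_⟩⟩
    intro h01
    have h1 : ((0 : R) : Module.End (ZMod q) V) v₀ = ((1 : R) : Module.End (ZMod q) V) v₀ := by
      rw [h01]
    simp at h1
    exact hv₀ h1.symm
  have hnzd : ∀ a b : R, a * b = 0 → a = 0 ∨ b = 0 := by
    intro a b hab
    by_cases ha : a = 0
    · exact Or.inl ha
    · right
      have ha' : (a : Module.End (ZMod q) V) ≠ 0 := fun h0 => ha (Subtype.ext h0)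
      have hi := hinj a.1 a.2 ha'
      apply Subtype.ext
      apply LinearMap.ext
      intro v
      have h1 : ((a * b : R) : Module.End (ZMod q) V) v = 0 := by rw [hab]; rfl
      have h2 : (a : Module.End (ZMod q) V) ((b : Module.End (ZMod q) V) v) = 0 := h1
      exact hi (h2.trans (map_zero _).symm)
  obtain ⟨F, fF, ftF, ⟨ψ⟩⟩ := exists_field_equiv (R := R) hcomm' hnzd
  -- the module structure
  let fhom : F →+* Module.End (ZMod q) V := (Subring.subtype R).comp (ψ.symm : F →+* R)
  letI modF : Module F V := Module.compHom V fhom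
  have hsmul : ∀ (c : F) (v : V), c • v = ((ψ.symm c : R) : Module.End (ZMod q) V) v :=
    fun _ _ => rfl
  -- the characteristic
  have hqF : (q : F) = 0 := by
    have h1 : ((q : R) : Module.End (ZMod q) V) = 0 := by
      apply LinearMap.ext
      intro v
      have h2 : ((q : R) : Module.End (ZMod q) V) = (q : Module.End (ZMod q) V) := by
        push_cast
        rfl
      rw [h2, LinearMap.zero_apply]
      have h3 : ((q : Module.End (ZMod q) V)) v = (q : ZMod q) • v := by
        rw [Nat.cast_smul_eq_nsmul]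
        simp
      rw [h3, ZMod.natCast_self, zero_smul]
    have h2 : (q : R) = 0 := Subtype.ext h1
    have h3 := congrArg ψ h2
    rw [map_natCast, map_zero] at h3
    exact h3
  haveI : CharP F q := (CharP.charP_iff_prime_eq_zero hq).mpr hqF
  obtain ⟨⟨m, hmpos⟩, -, hFcard⟩ := FiniteField.card F q
  have hFcard' : Fintype.card F = q ^ m := hFcard
  -- the embedding of `A`
  let ι : A →* F :=
    { toFun := fun a => ψ ⟨_, hSR a.1 a.2⟩
      map_one' := by
        rw [← map_one ψ]
        congr 1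
      map_mul' := fun a b => by
        rw [← map_mul ψ]
        congr 1 }
  have hι : ∀ a : A, ι a = ψ ⟨_, hSR a.1 a.2⟩ := fun _ => rfl
  have hιinj : Function.Injective ι := by
    intro a b hab
    rw [hι, hι] at hab
    have h1 := ψ.injective hab
    have h2 : (((a : H) : V ≃ₗ[ZMod q] V) : V →ₗ[ZMod q] V) =
        (((b : H) : V ≃ₗ[ZMod q] V) : V →ₗ[ZMod q] V) := congrArg Subtype.val h1
    apply Subtype.ext
    apply Subtype.ext
    apply LinearEquiv.ext
    intro v
    exact LinearMap.congr_fun h2 v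
  have hcyc : IsCyclic A := isCyclic_of_injective_ringHom ι hιinj
  have hAcard : Nat.card A ∣ q ^ m - 1 := by
    have hu : Function.Injective ι.toHomUnits := by
      intro a b hab
      apply hιinj
      have := congrArg Units.val hab
      exact this
    have h3 := Subgroup.card_dvd_of_injective ι.toHomUnits hu
    rw [Nat.card_units, Nat.card_eq_fintype_card (α := F), hFcard'] at h3
    exact h3
  -- scalars
  have hscal : ∀ a ∈ A, ∃ c : F, ∀ v : V, ((a : H) : V ≃ₗ[ZMod q] V) v = c • v := by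
    intro a ha
    refine ⟨ψ ⟨_, hSR a ha⟩, fun v => ?_⟩
    rw [hsmul, RingEquiv.symm_apply_apply]
    rfl
  -- the centraliser commutes with `R`
  have hcentR : ∀ h : H, h ∈ Subgroup.centralizer (A : Set H) → ∀ φ ∈ R, ∀ v : V,
      (h : V ≃ₗ[ZMod q] V) (φ v) = φ ((h : V ≃ₗ[ZMod q] V) v) := by
    intro h hh φ hφ v
    have h1 : Subring.closure S ≤
        Subring.centralizer {((h : V ≃ₗ[ZMod q] V) : V →ₗ[ZMod q] V)} := by
      rw [Subring.closure_le]
      rintro _ ⟨a, rfl⟩
      rw [SetLike.mem_coe, Subring.mem_centralizer_iff]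
      intro g hg
      rw [Set.mem_singleton_iff] at hg
      rw [hg]
      apply LinearMap.ext
      intro w
      rw [Subgroup.mem_centralizer_iff] at hh
      have h2 := hh a.1 a.2
      have h3 := congrArg (fun x : H => (x : V ≃ₗ[ZMod q] V) w) h2
      exact h3.symm
    rw [hR] at hφ
    have h4 := h1 hφ
    rw [Subring.mem_centralizer_iff] at h4
    have h5 := h4 _ (Set.mem_singleton _)
    exact LinearMap.congr_fun h5 v
  have hlin : ∀ h : H, h ∈ Subgroup.centralizer (A : Set H) → ∀ (c : F) (v : V),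
      (h : V ≃ₗ[ZMod q] V) (c • v) = c • (h : V ≃ₗ[ZMod q] V) v := by
    intro h hh c v
    rw [hsmul, hsmul]
    exact hcentR h hh _ (ψ.symm c).2 v
  -- invariant subspaces
  have hWinv : ∀ W : Submodule (ZMod q) V,
      (∀ a ∈ A, ∀ v ∈ W, ((a : H) : V ≃ₗ[ZMod q] V) v ∈ W) → ∀ (c : F), ∀ v ∈ W, c • v ∈ W := by
    intro W hW c v hv
    rw [hsmul]
    have h1 : ∀ φ ∈ Subring.closure S, ∀ w ∈ W, φ w ∈ W := by
      intro φ hφ
      induction hφ using Subring.closure_induction with
      | mem x hx =>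
        obtain ⟨a, rfl⟩ := hx
        intro w hw
        exact hW a.1 a.2 w hw
      | zero => intro w _; rw [LinearMap.zero_apply]; exact W.zero_mem
      | one => intro w hw; exact hw
      | add x y _ _ hx hy =>
        intro w hw
        rw [LinearMap.add_apply]
        exact W.add_mem (hx w hw) (hy w hw)
      | neg x _ hx =>
        intro w hw
        rw [LinearMap.neg_apply]
        exact W.neg_mem (hx w hw)
      | mul x y _ _ hx hy =>
        intro w hw
        rw [Module.End.mul_apply]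
        exact hx _ (hy w hw)
    exact h1 _ (hR.le (ψ.symm c).2) v hv
  -- conjugation on `R`
  let cj : H → (R ≃+* R) := fun h =>
    { toFun := fun φ => ⟨cjFun (h : V ≃ₗ[ZMod q] V) φ, hconj h φ φ.2⟩
      invFun := fun φ => ⟨cjFun ((h⁻¹ : H) : V ≃ₗ[ZMod q] V) φ, hconj h⁻¹ φ φ.2⟩
      left_inv := fun φ => by
        apply Subtype.ext
        apply LinearMap.ext
        intro v
        show ((h⁻¹ : H) : V ≃ₗ[ZMod q] V) ((h : V ≃ₗ[ZMod q] V)
          ((φ : Module.End (ZMod q) V) ((h : V ≃ₗ[ZMod q] V).symm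
            (((h⁻¹ : H) : V ≃ₗ[ZMod q] V).symm v)))) = (φ : Module.End (ZMod q) V) v
        have e1 : ∀ w : V, ((h⁻¹ : H) : V ≃ₗ[ZMod q] V) w = (h : V ≃ₗ[ZMod q] V).symm w :=
          fun w => rfl
        have e2 : ∀ w : V, ((h⁻¹ : H) : V ≃ₗ[ZMod q] V).symm w = (h : V ≃ₗ[ZMod q] V) w :=
          fun w => rfl
        rw [e1, e2, LinearEquiv.symm_apply_apply, LinearEquiv.symm_apply_apply]
      right_inv := fun φ => by
        apply Subtype.ext
        apply LinearMap.ext
        intro v
        show (h : V ≃ₗ[ZMod q] V) (((h⁻¹ : H) : V ≃ₗ[ZMod q] V)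
          ((φ : Module.End (ZMod q) V) (((h⁻¹ : H) : V ≃ₗ[ZMod q] V).symm
            ((h : V ≃ₗ[ZMod q] V).symm v)))) = (φ : Module.End (ZMod q) V) v
        have e1 : ∀ w : V, ((h⁻¹ : H) : V ≃ₗ[ZMod q] V) w = (h : V ≃ₗ[ZMod q] V).symm w :=
          fun w => rfl
        have e2 : ∀ w : V, ((h⁻¹ : H) : V ≃ₗ[ZMod q] V).symm w = (h : V ≃ₗ[ZMod q] V) w :=
          fun w => rfl
        rw [e1, e2, LinearEquiv.apply_symm_apply, LinearEquiv.apply_symm_apply]
      map_mul' := fun φ₁ φ₂ => by
        apply Subtype.ext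
        apply LinearMap.ext
        intro v
        show (h : V ≃ₗ[ZMod q] V) ((φ₁ : Module.End (ZMod q) V) ((φ₂ : Module.End (ZMod q) V)
          ((h : V ≃ₗ[ZMod q] V).symm v))) =
          (h : V ≃ₗ[ZMod q] V) ((φ₁ : Module.End (ZMod q) V) ((h : V ≃ₗ[ZMod q] V).symm
            ((h : V ≃ₗ[ZMod q] V) ((φ₂ : Module.End (ZMod q) V)
              ((h : V ≃ₗ[ZMod q] V).symm v)))))
        rw [LinearEquiv.symm_apply_apply]
      map_add' := fun φ₁ φ₂ => by
        apply Subtype.ext
        apply LinearMap.ext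
        intro v
        show (h : V ≃ₗ[ZMod q] V) (((φ₁ : Module.End (ZMod q) V) + (φ₂ : Module.End (ZMod q) V))
          ((h : V ≃ₗ[ZMod q] V).symm v)) = _
        rw [LinearMap.add_apply, map_add]
        rfl }
  have hcj : ∀ (h : H) (φ : R) (v : V), ((cj h φ : R) : Module.End (ZMod q) V) v =
      (h : V ≃ₗ[ZMod q] V) ((φ : Module.End (ZMod q) V) ((h : V ≃ₗ[ZMod q] V).symm v)) :=
    fun _ _ _ => rfl
  have hcj_mul : ∀ (h h' : H) (φ : R), cj (h * h') φ = cj h (cj h' φ) := by
    intro h h' φ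
    apply Subtype.ext
    apply LinearMap.ext
    intro v
    rw [hcj, hcj, hcj]
    rfl
  have hcj_one : ∀ φ : R, cj 1 φ = φ := by
    intro φ
    apply Subtype.ext
    apply LinearMap.ext
    intro v
    rw [hcj]
    rfl
  let sg : H →* (F ≃+* F) :=
    { toFun := fun h => ψ.symm.trans ((cj h).trans ψ)
      map_one' := by
        apply RingEquiv.ext
        intro x
        show ψ (cj 1 (ψ.symm x)) = x
        rw [hcj_one, RingEquiv.apply_symm_apply]
      map_mul' := fun h h' => by
        apply RingEquiv.ext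
        intro x
        show ψ (cj (h * h') (ψ.symm x)) = ψ (cj h (ψ.symm (ψ (cj h' (ψ.symm x)))))
        rw [hcj_mul, RingEquiv.symm_apply_apply] }
  have hsg : ∀ (h : H) (x : F), sg h x = ψ (cj h (ψ.symm x)) := fun _ _ => rfl
  have hker : sg.ker ≤ Subgroup.centralizer (A : Set H) := by
    intro h hh
    rw [MonoidHom.mem_ker] at hh
    rw [Subgroup.mem_centralizer_iff]
    intro a ha
    have h1 : sg h (ψ ⟨_, hSR a ha⟩) = ψ ⟨_, hSR a ha⟩ := by
      rw [hh]
      rfl
    rw [hsg, RingEquiv.symm_apply_apply] at h1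
    have h2 := ψ.injective h1
    apply Subtype.ext
    apply LinearEquiv.ext
    intro v
    have h3 := congrArg (fun φ : R => (φ : Module.End (ZMod q) V) ((h : V ≃ₗ[ZMod q] V) v)) h2
    simp only [hcj, LinearEquiv.symm_apply_apply] at h3
    exact h3.symm
  haveI : Finite (F ≃+* F) :=
    Finite.of_injective (fun f => (f : F → F)) DFunLike.coe_injective
  have hindex : (Subgroup.centralizer (A : Set H)).index ∣ m := by
    have h1 : (Subgroup.centralizer (A : Set H)).index ∣ sg.ker.index :=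
      Subgroup.index_dvd_of_le hker
    have h2 : sg.ker.index = Nat.card sg.range := Subgroup.index_ker sg
    have h3 : Nat.card sg.range ∣ Nat.card (F ≃+* F) := Subgroup.card_subgroup_dvd_card _
    have h4 : Nat.card (F ≃+* F) = m :=
      Cfsg.Agent.Lib.Helper5.AutPSL2.card_ringAut q hFcard'
    rw [h2] at h1
    rw [h4] at h3
    exact h1.trans h3
  exact ⟨F, fF, ftF, modF, m, hFcard', hcyc, hAcard, hscal, hlin, hindex, hWinv⟩

end qp

end Cfsg.Agent.Lib.Helper12.Hup
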