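import Mathlib

/-!
# Span counting for groups of class two acting linearly with scalar commutators (helper12)

If a finite group `N` acts linearly on a finite dimensional `K`-space `V`, all commutators act as
scalars, and an element all of whose commutators act trivially is central, then
`|N : Z(N)| ≤ (dim V)^2`: coset representatives of the centre are linearly independent
(Dedekind independence of the characters `y ↦ [y, x]`).
-/

set_option autoImplicit false
set_option linter.unusedSectionVars false
set_option linter.style.haveILetI false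

namespace Cfsg.Agent.Lib.Helper12.Hup

open scoped commutatorElement

theorem index_center_le_sq {K V N : Type*} [Field K] [AddCommGroup V] [Module K V]
    [Module.Finite K V] [Nontrivial V] [Group N] [Finite N] (ρ : N →* (V ≃ₗ[K] V))
    (hsc : ∀ x y : N, ∃ c : K, ∀ v : V, ρ ⁅x, y⁆ v = c • v)
    (hfaith : ∀ x : N, (∀ y : N, ρ ⁅x, y⁆ = 1) → x ∈ Subgroup.center N) :
    (Subgroup.center N).index ≤ (Module.finrank K V) ^ 2 := by
  classical
  choose c hc using hsc
  obtain ⟨w₀, hw₀⟩ := exists_ne (0 : V)
  have einv : ∀ (g : V ≃ₗ[K] V) (u : V), g⁻¹ (g u) = u := fun g u => g.symm_apply_apply u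
  have einv' : ∀ (g : V ≃ₗ[K] V) (u : V), g (g⁻¹ u) = u := fun g u => g.apply_symm_apply u
  have eone : ∀ u : V, (1 : V ≃ₗ[K] V) u = u := fun _ => rfl
  have hrel : ∀ (y x : N) (w : V), ρ y (ρ x w) = c y x • ρ x (ρ y w) := by
    intro y x w
    have h1 := hc y x (ρ x (ρ y w))
    rw [commutatorElement_def, map_mul, map_mul, map_mul, map_inv, map_inv] at h1
    simp only [LinearEquiv.mul_apply, einv] at h1
    exact h1
  have hne : ∀ (x y : N), ρ x (ρ y w₀) ≠ 0 := by
    intro x y h
    apply hw₀
    have h1 := (LinearEquiv.map_eq_zero_iff _).mp h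
    exact (LinearEquiv.map_eq_zero_iff _).mp h1
  have hmulL : ∀ y y' x : N, c (y * y') x = c y x * c y' x := by
    intro y y' x
    have h1 := hrel (y * y') x w₀
    have h2 : ρ (y * y') (ρ x w₀) = (c y x * c y' x) • ρ x (ρ (y * y') w₀) := by
      rw [map_mul, LinearEquiv.mul_apply, hrel y' x, map_smul, hrel y x, smul_smul,
        LinearEquiv.mul_apply, mul_comm]
    rw [h1] at h2
    exact smul_left_injective K (hne x (y * y')) h2
  have hmulR : ∀ y x x' : N, c y (x * x') = c y x * c y x' := by
    intro y x x'
    have h1 := hrel y (x * x') w₀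
    have h2 : ρ y (ρ (x * x') w₀) = (c y x * c y x') • ρ (x * x') (ρ y w₀) := by
      rw [map_mul, LinearEquiv.mul_apply, hrel y x, hrel y x', map_smul, smul_smul,
        LinearEquiv.mul_apply]
    rw [h1] at h2
    exact smul_left_injective K (hne (x * x') y) h2
  have honeL : ∀ x : N, c 1 x = 1 := by
    intro x
    have h1 := hrel 1 x w₀
    rw [map_one, eone, eone] at h1
    have h2 : (1 : K) • ρ x w₀ = c 1 x • ρ x w₀ := by rw [one_smul]; exact h1
    have hne' : ρ x w₀ ≠ 0 := fun h => hw₀ ((LinearEquiv.map_eq_zero_iff _).mp h)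
    exact (smul_left_injective K hne' h2).symm
  have honeR : ∀ y : N, c y 1 = 1 := by
    intro y
    have h1 := hrel y 1 w₀
    rw [map_one, eone, eone] at h1
    have h2 : (1 : K) • ρ y w₀ = c y 1 • ρ y w₀ := by rw [one_smul]; exact h1
    have hne' : ρ y w₀ ≠ 0 := fun h => hw₀ ((LinearEquiv.map_eq_zero_iff _).mp h)
    exact (smul_left_injective K hne' h2).symm
  -- the characters
  let χ : N → (N →* K) := fun x =>
    { toFun := fun y => c y x
      map_one' := honeL x
      map_mul' := fun y y' => hmulL y y' x }
  have hχ : ∀ x y : N, χ x y = c y x := fun _ _ => rfl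
  have hcen : ∀ x : N, (∀ y : N, c y x = 1) → x ∈ Subgroup.center N := by
    intro x hx
    apply hfaith
    intro y
    apply LinearEquiv.ext
    intro w
    rw [commutatorElement_def, map_mul, map_mul, map_mul, map_inv, map_inv]
    simp only [LinearEquiv.mul_apply, eone]
    have h1 := hrel y x ((ρ x)⁻¹ ((ρ y)⁻¹ w))
    rw [hx y, one_smul, einv', einv'] at h1
    exact h1.symm
  have hχinj : ∀ x x' : N, χ x = χ x' → x⁻¹ * x' ∈ Subgroup.center N := by
    intro x x' h
    apply hcen
    intro y
    have h1 : c y x = c y x' := by rw [← hχ, ← hχ, h]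
    have h2 : c y x⁻¹ * c y x = 1 := by rw [← hmulR, inv_mul_cancel, honeR]
    rw [hmulR, ← h1, h2]
  -- the family
  let T : N ⧸ Subgroup.center N → (V →ₗ[K] V) := fun t => ((ρ t.out : V ≃ₗ[K] V) : V →ₗ[K] V)
  have hT : ∀ (t : N ⧸ Subgroup.center N) (w : V), T t w = ρ t.out w := fun _ _ => rfl
  haveI : Fintype (N ⧸ Subgroup.center N) := Fintype.ofFinite _
  have hli : LinearIndependent K T := by
    rw [Fintype.linearIndependent_iff]
    intro g hsum
    have h1 : ∀ (y : N) (w : V), ∑ t, (g t * c y t.out) • T t w = 0 := by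
      intro y w
      have h2 := LinearMap.congr_fun hsum ((ρ y)⁻¹ w)
      rw [LinearMap.sum_apply, LinearMap.zero_apply] at h2
      have h3 := congrArg (ρ y) h2
      rw [map_sum, map_zero] at h3
      rw [← h3]
      apply Finset.sum_congr rfl
      intro t _
      rw [LinearMap.smul_apply, map_smul, hT, hT, hrel, einv', smul_smul]
    -- Dedekind
    have hchar := linearIndependent_monoidHom N K
    have hinj : Function.Injective (fun t : N ⧸ Subgroup.center N => χ t.out) := by
      intro t t' h
      have h2 := hχinj _ _ h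
      rw [← QuotientGroup.eq] at h2
      rwa [QuotientGroup.out_eq', QuotientGroup.out_eq'] at h2
    have hchar2 := hchar.comp _ hinj
    rw [Fintype.linearIndependent_iff] at hchar2
    intro t₀
    by_contra hg
    have hTne : T t₀ w₀ ≠ 0 := fun h => hw₀ ((LinearEquiv.map_eq_zero_iff _).mp h)
    obtain ⟨f, hf⟩ : ∃ f : Module.Dual K V, f (T t₀ w₀) ≠ 0 := by
      by_contra hcon
      simp only [not_exists, not_not] at hcon
      exact hTne ((Module.forall_dual_apply_eq_zero_iff K _).mp hcon)
    have h4 := hchar2 (fun t => g t * f (T t w₀)) (by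
      funext y
      have h5 := congrArg f (h1 y w₀)
      rw [map_sum, map_zero] at h5
      rw [Finset.sum_apply, Pi.zero_apply, ← h5]
      apply Finset.sum_congr rfl
      intro t _
      rw [Pi.smul_apply, Function.comp_apply, map_smul, smul_eq_mul, smul_eq_mul]
      show g t * f (T t w₀) * χ t.out y = g t * c y t.out * f (T t w₀)
      rw [hχ]
      ring) t₀
    rcases mul_eq_zero.mp h4 with h | h
    · exact hg h
    · exact hf h
  have h5 := hli.fintype_card_le_finrank
  rw [Module.finrank_linearMap, ← Nat.card_eq_fintype_card, ← Subgroup.index_eq_card] at h5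
  rw [pow_two]
  exact h5

end Cfsg.Agent.Lib.Helper12.Hup
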