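import Mathlib
import Cfsg.Agent.Lib.Helper12.HupD

/-!
# The prime divisors of a group with a class two normal subgroup over a maximal abelian normal
subgroup (helper12)

Abstract group theory glue for Huppert's theorem: `claimP`.
-/

set_option autoImplicit false
set_option linter.unusedSectionVars false
set_option linter.style.haveILetI false

namespace Cfsg.Agent.Lib.Helper12.Hup

open Subgroup
open scoped commutatorElement

section claimP
universe u
variable {G : Type u} [Group G] [Finite G]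

theorem center_eq_subgroupOf (A N : Subgroup G) (hNcent : N ≤ centralizer (A : Set G))
    (hZ : ∀ x ∈ N, (∀ y ∈ N, x * y = y * x) → x ∈ A) : center N = A.subgroupOf N := by
  ext x
  rw [Subgroup.mem_center_iff, Subgroup.mem_subgroupOf]
  constructor
  · intro h
    apply hZ x.1 x.2
    intro y hy
    have h1 := h ⟨y, hy⟩
    exact (congrArg Subtype.val h1).symm
  · intro h g
    apply Subtype.ext
    have h1 := hNcent g.2
    rw [Subgroup.mem_centralizer_iff] at h1
    exact (h1 x.1 h).symm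

/-- the central element of order `s` generating all commutators -/
theorem exists_z (A N : Subgroup G) (s : ℕ) [Fact s.Prime]
    (hAcyc : IsCyclic A) (hNcent : N ≤ centralizer (A : Set G))
    (hcomm : ∀ x ∈ N, ∀ y ∈ N, ⁅x, y⁆ ∈ A) (hexp : ∀ x ∈ N, x ^ s ∈ A)
    (hZ : ∀ x ∈ N, (∀ y ∈ N, x * y = y * x) → x ∈ A)
    (hnab : ∃ x ∈ N, ∃ y ∈ N, x * y ≠ y * x) :
    ∃ z : N, z ∈ center N ∧ z ^ s = 1 ∧ z ≠ 1 ∧ (z : G) ∈ A ∧
      (∀ x y : N, ⁅x, y⁆ ∈ zpowers z) := by
  classical
  have hs : s.Prime := Fact.out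
  have hcen := center_eq_subgroupOf A N hNcent hZ
  have hc : ∀ x y : N, ⁅x, y⁆ ∈ center N := by
    intro x y
    rw [hcen, Subgroup.mem_subgroupOf]
    exact hcomm x.1 x.2 y.1 y.2
  have hcs : ∀ x y : N, ⁅x, y⁆ ^ s = 1 := by
    intro x y
    rw [← comm_pow_left hc, commutatorElement_eq_one_iff_commute]
    have h1 : x ^ s ∈ center N := by
      rw [hcen, Subgroup.mem_subgroupOf]
      exact hexp x.1 x.2
    rw [Subgroup.mem_center_iff] at h1
    exact (h1 y).symm
  obtain ⟨x, hx, y, hy, hxy⟩ := hnab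
  obtain ⟨z, hzdef⟩ : ∃ z : N, z = ⁅(⟨x, hx⟩ : N), ⟨y, hy⟩⁆ := ⟨_, rfl⟩
  have hz1 : z ≠ 1 := by
    rw [hzdef]
    intro h
    rw [commutatorElement_eq_one_iff_commute] at h
    exact hxy (congrArg Subtype.val h.eq)
  have hzA : (z : G) ∈ A := by
    rw [hzdef]
    exact hcomm x hx y hy
  have hzs : z ^ s = 1 := by rw [hzdef]; exact hcs _ _
  refine ⟨z, by rw [hzdef]; exact hc _ _, hzs, hz1, hzA, ?_⟩
  -- the cyclic counting
  haveI : Fintype A := Fintype.ofFinite _
  let zA : A := ⟨z, hzA⟩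
  have hzAs : zA ^ s = 1 := by
    apply Subtype.ext
    have := congrArg (fun t : N => (t : G)) hzs
    simpa using this
  have hzA1 : zA ≠ 1 := by
    intro h
    apply hz1
    have h2 : ((zA : A) : G) = ((1 : A) : G) := congrArg Subtype.val h
    exact Subtype.ext h2
  have hord : orderOf zA = s := orderOf_eq_prime hzAs hzA1
  have hle := IsCyclic.card_pow_eq_one_le (α := A) hs.pos
  have hsub : (Finset.univ.filter (fun a : A => a ∈ zpowers zA)) ⊆
      (Finset.univ.filter (fun a : A => a ^ s = 1)) := by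
    intro a ha
    rw [Finset.mem_filter] at ha ⊢
    refine ⟨ha.1, ?_⟩
    obtain ⟨i, hi⟩ := ha.2
    rw [← hi, ← zpow_natCast, ← zpow_mul, mul_comm, zpow_mul, zpow_natCast, hzAs, one_zpow]
  have hcardZ : (Finset.univ.filter (fun a : A => a ∈ zpowers zA)).card = s := by
    rw [← hord, ← Nat.card_zpowers, Nat.card_eq_fintype_card, Fintype.card_subtype]
  have heq := Finset.eq_of_subset_of_card_le hsub (by rw [hcardZ]; exact hle)
  intro a b
  have hab : ((⁅a, b⁆ : N) : G) ∈ A := hcomm a.1 a.2 b.1 b.2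
  have h1 : (⟨_, hab⟩ : A) ∈ Finset.univ.filter (fun a : A => a ^ s = 1) := by
    rw [Finset.mem_filter]
    refine ⟨Finset.mem_univ _, ?_⟩
    apply Subtype.ext
    have := congrArg (fun t : N => (t : G)) (hcs a b)
    simpa using this
  rw [← heq, Finset.mem_filter] at h1
  obtain ⟨i, hi⟩ := h1.2
  refine ⟨i, ?_⟩
  apply Subtype.ext
  have h2 := congrArg (fun t : A => (t : G)) hi
  simpa [zA] using h2

/-- **Claim P.** -/
theorem claimP (A N : Subgroup G) [N.Normal] (s r : ℕ) [Fact s.Prime] (hr : r.Prime)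
    (hAcyc : IsCyclic A) (hNcent : N ≤ centralizer (A : Set G))
    (hcomm : ∀ x ∈ N, ∀ y ∈ N, ⁅x, y⁆ ∈ A) (hexp : ∀ x ∈ N, x ^ s ∈ A)
    (hZ : ∀ x ∈ N, (∀ y ∈ N, x * y = y * x) → x ∈ A)
    (hnab : ∃ x ∈ N, ∃ y ∈ N, x * y ≠ y * x)
    (hCN : ∀ g : G, (∀ x ∈ N, g * x = x * g) → g ∈ A)
    (g : G) (hg : orderOf g = r) (hgA : g ∈ centralizer (A : Set G)) (hrA : ¬ r ∣ Nat.card A) :
    ∃ e, 0 < e ∧ s ^ (2 * e) ∣ A.relIndex N ∧ r ∣ s ^ (2 * e) - 1 := by
  classical
  have hs : s.Prime := Fact.out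
  haveI : Fact r.Prime := ⟨hr⟩
  have hcen := center_eq_subgroupOf A N hNcent hZ
  obtain ⟨z, hzc, hzs, hz1, hzA, hzcomm⟩ := exists_z A N s hAcyc hNcent hcomm hexp hZ hnab
  have hgr : g ^ r = 1 := by rw [← hg]; exact pow_orderOf_eq_one g
  -- r ≠ s
  have hrs : r ≠ s := by
    intro h
    apply hrA
    have hord : orderOf (⟨z, hzA⟩ : A) = s := by
      apply orderOf_eq_prime
      · apply Subtype.ext
        have := congrArg (fun t : N => (t : G)) hzs
        simpa using this
      · intro h1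
        apply hz1
        have h2 : (((⟨z, hzA⟩ : A) : A) : G) = ((1 : A) : G) := congrArg Subtype.val h1
        exact Subtype.ext h2
    rw [h, ← hord]
    exact orderOf_dvd_natCard _
  -- elements of `A` commute with `g`
  have hgcomm : ∀ a ∈ A, g * a * g⁻¹ = a := by
    intro a ha
    rw [Subgroup.mem_centralizer_iff] at hgA
    rw [← hgA a ha, mul_inv_cancel_right]
  let φ : MulAut N := MulAut.conjNormal g
  have hφ : ∀ x : N, ((φ x : N) : G) = g * x * g⁻¹ := fun x => MulAut.conjNormal_apply g x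
  have hφr : φ ^ r = 1 := by
    show (MulAut.conjNormal g : MulAut N) ^ r = 1
    rw [← map_pow, hgr, map_one]
  have hφZ : ∀ a ∈ center N, φ a = a := by
    intro a ha
    rw [hcen, Subgroup.mem_subgroupOf] at ha
    apply Subtype.ext
    rw [hφ]
    exact hgcomm _ ha
  have hφne : ∃ x : N, φ x * x⁻¹ ∉ center N := by
    by_contra hcon
    simp only [not_exists, not_not] at hcon
    apply hrA
    have hgA' : g ∈ A := by
      apply hCN
      intro x hx
      have h1 := hcon ⟨x, hx⟩
      rw [hcen, Subgroup.mem_subgroupOf] at h1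
      have h2 : ((φ ⟨x, hx⟩ * (⟨x, hx⟩ : N)⁻¹ : N) : G) = g * x * g⁻¹ * x⁻¹ := by
        rw [Subgroup.coe_mul, hφ]
        rfl
      rw [h2] at h1
      obtain ⟨a, ha⟩ : ∃ a : G, a = g * x * g⁻¹ * x⁻¹ := ⟨_, rfl⟩
      rw [← ha] at h1
      have hax : (MulAut.conj g) x = a * x := by
        rw [MulAut.conj_apply, ha, inv_mul_cancel_right]
      have haa : (MulAut.conj g) a = a := by
        rw [MulAut.conj_apply]
        exact hgcomm a h1
      have hiter : ∀ k : ℕ, ((MulAut.conj g) ^ k) x = a ^ k * x := by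
        intro k
        induction k with
        | zero => simp
        | succ k ih =>
          rw [pow_succ', MulAut.mul_apply, ih, map_mul, map_pow, haa, hax, pow_succ, mul_assoc]
      have h3 := hiter r
      rw [← map_pow, hgr, map_one, MulAut.one_apply] at h3
      have har : a ^ r = 1 := by
        have := congrArg (fun t => t * x⁻¹) h3
        simpa using this.symm
      have hcardA : a ^ Nat.card A = 1 := by
        have h4 : (⟨a, h1⟩ : A) ^ Nat.card A = 1 := pow_card_eq_one'
        have h4' : (((⟨a, h1⟩ : A) ^ Nat.card A : A) : G) = ((1 : A) : G) :=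
          congrArg Subtype.val h4
        exact h4'
      have h5 : orderOf a ∣ Nat.gcd r (Nat.card A) :=
        Nat.dvd_gcd (orderOf_dvd_of_pow_eq_one har) (orderOf_dvd_of_pow_eq_one hcardA)
      rw [(Nat.Prime.coprime_iff_not_dvd hr).mpr hrA, Nat.dvd_one, orderOf_eq_one_iff] at h5
      rw [h5] at ha
      have h6 : g * x * g⁻¹ = x := by
        have := congrArg (fun t => t * x) ha
        simpa using this.symm
      calc g * x = g * x * g⁻¹ * g := by group
        _ = x * g := by rw [h6]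
    have h7 : orderOf (⟨g, hgA'⟩ : A) = r := by
      rw [← hg]
      exact Subgroup.orderOf_mk g hgA'
    rw [← h7]
    exact orderOf_dvd_natCard _
  obtain ⟨e, he0, he1, he2⟩ :=
    symplectic_bound hr hrs z hzc hzs hzcomm φ hφr hφZ hφne
  refine ⟨e, he0, ?_, he2⟩
  rw [Subgroup.relIndex, ← hcen]
  exact he1

end claimP

end Cfsg.Agent.Lib.Helper12.Hup
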