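import Mathlib

/-!
# Huppert's theorem: arithmetic lemmas for the assembly (helper12)
-/

set_option autoImplicit false

namespace Cfsg.Agent.Lib.Helper12.Hup

/-- a primitive prime divisor `r` of `q^n - 1` satisfies `n ∣ r - 1` -/
theorem zsig_dvd_sub_one (q n r : ℕ) (hq : 1 < q) (hn : 0 < n) (hr : r.Prime)
    (hdvd : r ∣ q ^ n - 1) (hprim : ∀ k, 0 < k → k < n → ¬ r ∣ q ^ k - 1) : n ∣ r - 1 := by
  have : Fact r.Prime := ⟨hr⟩
  have hone : ∀ k, 1 ≤ q ^ k := fun k => Nat.one_le_pow _ _ (by omega)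
  have key : ∀ k : ℕ, ((q : ZMod r)) ^ k = 1 ↔ r ∣ q ^ k - 1 := by
    intro k
    rw [← (ZMod.natCast_eq_zero_iff (q ^ k - 1) r), Nat.cast_sub (hone k), Nat.cast_pow,
      Nat.cast_one, sub_eq_zero]
  have hqn : ((q : ZMod r)) ^ n = 1 := (key n).mpr hdvd
  have hq0 : (q : ZMod r) ≠ 0 := by
    intro h
    rw [h, zero_pow hn.ne'] at hqn
    exact zero_ne_one hqn
  have hord : orderOf (q : ZMod r) = n := by
    rw [orderOf_eq_iff hn]
    refine ⟨hqn, ?_⟩
    intro k hk hk0 h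
    exact hprim k hk0 hk ((key k).mp h)
  rw [← hord]
  exact orderOf_dvd_of_pow_eq_one (ZMod.pow_card_sub_one_eq_one hq0)

/-- a prime dividing `x^2 - 1` divides `x - 1` or `x + 1` -/
theorem prime_dvd_sq_sub_one (r x : ℕ) (hr : r.Prime) (hx : 1 ≤ x) (h : r ∣ x ^ 2 - 1) :
    r ∣ x - 1 ∨ r ∣ x + 1 := by
  have h1 : x ^ 2 - 1 = (x - 1) * (x + 1) := by
    obtain ⟨y, rfl⟩ : ∃ y, x = y + 1 := ⟨x - 1, by omega⟩
    simp only [Nat.add_sub_cancel]
    have : (y + 1) ^ 2 = y * (y + 1 + 1) + 1 := by ring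
    rw [this, Nat.add_sub_cancel]
  rw [h1] at h
  exact (Nat.Prime.dvd_mul hr).mp h

/-- the inequality chain for the Zsigmondy prime -/
theorem zsig_chain (m d n s e0 e r : ℕ) (hn : n = m * d) (_hd : 2 ≤ d) (hm : 0 < m)
    (hs : s.Prime) (hle : s ^ e0 ≤ d) (he : 1 ≤ e) (hee : e ≤ e0) (hr : r.Prime)
    (hrdvd : r ∣ s ^ (2 * e) - 1) (hnr : n ∣ r - 1) :
    m = 1 ∧ e = e0 ∧ d = s ^ e0 ∧ r = s ^ e0 + 1 := by
  have hs2 := hs.two_le
  have hr2 := hr.two_le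
  have hse : s ^ e ≤ s ^ e0 := Nat.pow_le_pow_right (by omega) hee
  have hse2 : 2 ≤ s ^ e := by
    calc 2 ≤ s := hs2
      _ = s ^ 1 := (pow_one s).symm
      _ ≤ s ^ e := Nat.pow_le_pow_right (by omega) he
  have hnle : n ≤ r - 1 := Nat.le_of_dvd (by omega) hnr
  have hdn : d ≤ n := by
    rw [hn]
    exact Nat.le_mul_of_pos_left d hm
  have h1 : s ^ (2 * e) = (s ^ e) ^ 2 := by rw [mul_comm, pow_mul]
  rw [h1] at hrdvd
  rcases prime_dvd_sq_sub_one r (s ^ e) hr (by omega) hrdvd with h | h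
  · exfalso
    have := Nat.le_of_dvd (by omega) h
    omega
  · have h2 := Nat.le_of_dvd (by omega) h
    have h3 : r = s ^ e + 1 := by omega
    have h4 : s ^ e = s ^ e0 := by omega
    have h5 : d = s ^ e0 := by omega
    have h6 : n = d := by omega
    refine ⟨?_, ?_, h5, by omega⟩
    · rw [hn] at h6
      have h7 : m * d = 1 * d := by omega
      exact Nat.eq_of_mul_eq_mul_right (by omega) h7
    · exact Nat.pow_right_injective hs2 h4

/-- if `s^e0 + 1 ≥ 4` is prime then `s = 2` -/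
theorem s_eq_two (s e0 : ℕ) (hs : s.Prime) (h3 : 3 ≤ s ^ e0) (hr : (s ^ e0 + 1).Prime) : s = 2 := by
  by_contra hne
  have hodd : Odd s := hs.odd_of_ne_two hne
  have h1 : Odd (s ^ e0) := hodd.pow
  have h2 : Even (s ^ e0 + 1) := h1.add_one
  have h4 := (Nat.Prime.even_iff hr).mp h2
  omega

/-- two consecutive exponents cannot both give Fermat primes beyond `k = 2` -/
theorem fermat_consecutive (k : ℕ) (hk : 3 ≤ k) (h1 : (2 ^ (k - 1) + 1).Prime)
    (h2 : (2 ^ k + 1).Prime) : False := by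
  obtain ⟨a, ha⟩ := Nat.pow_of_pow_add_prime (by norm_num) (by omega) h1
  obtain ⟨b, hb⟩ := Nat.pow_of_pow_add_prime (by norm_num) (by omega) h2
  have ha1 : a ≠ 0 := by
    rintro rfl
    simp at ha
    omega
  have hb1 : b ≠ 0 := by
    rintro rfl
    simp at hb
    omega
  have e1 : Even (k - 1) := by
    rw [ha]
    exact (Nat.even_pow' ha1).mpr even_two
  have e2 : Even k := by
    rw [hb]
    exact (Nat.even_pow' hb1).mpr even_two
  obtain ⟨x, hx⟩ := e1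
  obtain ⟨y, hy⟩ := e2
  omega

/-- the second Zsigmondy prime -/
theorem second_prime (k r2 e' : ℕ) (hk : 2 ≤ k) (hr2 : r2.Prime) (hdvd1 : 2 ^ (k - 1) ∣ r2 - 1)
    (he1 : 1 ≤ e') (he2 : e' ≤ k) (hdvd2 : r2 ∣ 2 ^ (2 * e') - 1) (hne : r2 ≠ 2 ^ k + 1) :
    r2 = 2 ^ (k - 1) + 1 := by
  have hr22 := hr2.two_le
  have hpk : 2 ^ k = 2 * 2 ^ (k - 1) := by
    rw [← pow_succ']
    congr 1
    omega
  have hpos : 1 ≤ 2 ^ (k - 1) := Nat.one_le_two_pow
  have hle : 2 ^ e' ≤ 2 ^ k := Nat.pow_le_pow_right (by norm_num) he2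
  have hge : 2 ≤ 2 ^ e' := by
    calc 2 = 2 ^ 1 := by norm_num
      _ ≤ 2 ^ e' := Nat.pow_le_pow_right (by norm_num) he1
  have h1 : 2 ^ (2 * e') = (2 ^ e') ^ 2 := by rw [mul_comm, pow_mul]
  rw [h1] at hdvd2
  have hbound : r2 ≤ 2 ^ k + 1 := by
    rcases prime_dvd_sq_sub_one r2 (2 ^ e') hr2 (by omega) hdvd2 with h | h
    · have := Nat.le_of_dvd (by omega) h
      omega
    · have := Nat.le_of_dvd (by omega) h
      omega
  obtain ⟨j, hj⟩ := hdvd1
  have hj1 : 1 ≤ j := by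
    rcases Nat.eq_zero_or_pos j with h | h
    · rw [h] at hj
      omega
    · exact h
  have hj3 : j < 3 := by
    by_contra hcon
    have h3 : 3 ≤ j := by omega
    have : 2 ^ (k - 1) * 3 ≤ 2 ^ (k - 1) * j := Nat.mul_le_mul_left _ h3
    omega
  interval_cases j
  · omega
  · exfalso
    apply hne
    omega

/-- the case `n = 2` -/
theorem case_two (q a : ℕ) (hq : q.Prime) (hodd : 2 ∣ q - 1) (ha : a ∣ q - 1)
    (hdvd : q ^ 2 - 1 ∣ a * 24) : q ^ 2 ∈ ({9, 25, 49, 121, 529, 81} : Set ℕ) := by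
  have hq2 := hq.two_le
  have h1 : q ^ 2 - 1 = (q - 1) * (q + 1) := by
    obtain ⟨y, rfl⟩ : ∃ y, q = y + 1 := ⟨q - 1, by omega⟩
    simp only [Nat.add_sub_cancel]
    have : (y + 1) ^ 2 = y * (y + 1 + 1) + 1 := by ring
    rw [this, Nat.add_sub_cancel]
  have h2 : (q - 1) * (q + 1) ∣ (q - 1) * 24 := by
    rw [← h1]
    exact hdvd.trans (Nat.mul_dvd_mul_right ha 24)
  have h3 : q + 1 ∣ 24 := Nat.dvd_of_mul_dvd_mul_left (by omega) h2
  have h4 : q + 1 ≤ 24 := Nat.le_of_dvd (by norm_num) h3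
  have h5 : q ≤ 23 := by omega
  simp only [Set.mem_insert_iff, Set.mem_singleton_iff]
  interval_cases q <;> omega

/-- the case `n = 4` -/
theorem case_four (q a : ℕ) (hq : q.Prime) (hodd : 2 ∣ q - 1) (ha : a ∣ q - 1)
    (hdvd : q ^ 4 - 1 ∣ a * 322560) : q = 3 := by
  have hq2 := hq.two_le
  have h1 : q ^ 4 - 1 = (q - 1) * ((q + 1) * (q ^ 2 + 1)) := by
    obtain ⟨y, rfl⟩ : ∃ y, q = y + 1 := ⟨q - 1, by omega⟩
    simp only [Nat.add_sub_cancel]
    have : (y + 1) ^ 4 = y * ((y + 1 + 1) * ((y + 1) ^ 2 + 1)) + 1 := by ring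
    rw [this, Nat.add_sub_cancel]
  have h2 : (q - 1) * ((q + 1) * (q ^ 2 + 1)) ∣ (q - 1) * 322560 := by
    rw [← h1]
    exact hdvd.trans (Nat.mul_dvd_mul_right ha 322560)
  have h3 : (q + 1) * (q ^ 2 + 1) ∣ 322560 := Nat.dvd_of_mul_dvd_mul_left (by omega) h2
  have h4 : (q + 1) * (q ^ 2 + 1) ≤ 322560 := Nat.le_of_dvd (by norm_num) h3
  have h5 : q ≤ 68 := by
    by_contra hcon
    have h6 : 69 ≤ q := by omega
    have h7 : 69 * (69 ^ 2 + 1) ≤ (q + 1) * (q ^ 2 + 1) := by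
      apply Nat.mul_le_mul (by omega)
      have : 69 ^ 2 ≤ q ^ 2 := Nat.pow_le_pow_left h6 2
      omega
    omega
  interval_cases q <;> first | rfl | omega

/-- the case `(q, n) = (2, 6)`: the structure constants -/
theorem case_two_six (m d s e0 : ℕ) (h6 : 6 = m * d) (hd : 2 ≤ d) (hs : s.Prime)
    (hsdvd : s ∣ 2 ^ m - 1) (hle : s ^ e0 ≤ d) (he0 : 1 ≤ e0) :
    m = 2 ∧ s = 3 ∧ d = 3 ∧ e0 = 1 := by
  have hs2 := hs.two_le
  have hm : m ∣ 6 := ⟨d, h6⟩
  have hm6 : m ≤ 6 := Nat.le_of_dvd (by norm_num) hm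
  have hse : s ≤ s ^ e0 := by
    calc s = s ^ 1 := (pow_one s).symm
      _ ≤ s ^ e0 := Nat.pow_le_pow_right (by omega) he0
  interval_cases m
  · omega
  · -- m = 1
    norm_num at hsdvd
    omega
  · -- m = 2
    have hd3 : d = 3 := by omega
    have hs3 : s ∣ 3 := by simpa using hsdvd
    have hs3' : s = 3 := by
      have := Nat.le_of_dvd (by norm_num) hs3
      interval_cases s <;> simp_all
    refine ⟨rfl, hs3', hd3, ?_⟩
    rw [hs3', hd3] at hle
    by_contra hne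
    have h2 : 2 ≤ e0 := by omega
    have : 3 ^ 2 ≤ 3 ^ e0 := Nat.pow_le_pow_right (by norm_num) h2
    omega
  · -- m = 3
    have hd2 : d = 2 := by omega
    have hs7 : s ∣ 7 := by simpa using hsdvd
    have hs7' : s = 7 := by
      have := (Nat.prime_dvd_prime_iff_eq hs (by norm_num : (7 : ℕ).Prime)).mp hs7
      exact this
    omega
  · omega
  · omega
  · -- m = 6
    omega

end Cfsg.Agent.Lib.Helper12.Hup
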