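import Mathlib
import Cfsg.Agent.Lib.Helper12.RegLin
import Cfsg.Agent.Lib.Helper12.HupD
import Cfsg.Agent.Lib.Helper12.HupE
import Cfsg.Agent.Lib.Helper12.HupF
import Cfsg.Agent.Lib.Helper12.HupG
import Cfsg.Agent.Lib.Helper81.HupCF
import Cfsg.Agent.Lib.Helper81.HupI

/-!
# Huppert's theorem: the structure half (helper12)

A solvable linear group transitive on the non-zero vectors without an irreducible abelian normal
subgroup has a class two normal subgroup `N` over a maximal abelian normal subgroup `A`; we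
extract the numerical constants the arithmetic half needs.
-/

set_option autoImplicit false
set_option linter.unusedSectionVars false
set_option linter.style.haveILetI false

namespace Cfsg.Agent.Lib.Helper12.Hup

open Subgroup
open scoped commutatorElement

theorem hC_arith (q m d : ℕ) (hq : 2 ≤ q) (hm : 0 < m) (hd : 2 ≤ d) :
    (q ^ m - 1) * m < q ^ (m * d) - 1 := by
  have hx : m < q ^ m := Nat.lt_pow_self hq
  have h1 : q ^ (m * 2) ≤ q ^ (m * d) :=
    Nat.pow_le_pow_right (by omega) (Nat.mul_le_mul_left m hd)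
  have h2 : q ^ (m * 2) = q ^ m * q ^ m := by rw [pow_mul, pow_two]
  obtain ⟨x, hxdef⟩ : ∃ x, x = q ^ m := ⟨_, rfl⟩
  rw [← hxdef] at hx h2 ⊢
  have h3 : (x - 1) * m < x * x - 1 := by
    obtain ⟨y, rfl⟩ : ∃ y, x = y + 1 := ⟨x - 1, by omega⟩
    simp only [Nat.add_sub_cancel]
    have h4 : (y + 1) * (y + 1) - 1 = y * (y + 2) := by
      have : (y + 1) * (y + 1) = y * (y + 2) + 1 := by ring
      rw [this, Nat.add_sub_cancel]
    rw [h4]
    have hy : 0 < y := by omega
    exact Nat.mul_lt_mul_of_pos_left (by omega) hy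
  omega

section structure'
universe u
variable {q : ℕ} [Fact q.Prime] {V : Type u} [AddCommGroup V] [Module (ZMod q) V] [Finite V]
  [Nontrivial V]

/-- transitivity on the non-zero vectors gives `|V| - 1 ∣ |H|` -/
theorem card_sub_one_dvd (H : Subgroup (V ≃ₗ[ZMod q] V))
    (htrans : ∀ v w : V, v ≠ 0 → w ≠ 0 → ∃ h : H, (h : V ≃ₗ[ZMod q] V) v = w) :
    Nat.card V - 1 ∣ Nat.card H := by
  classical
  haveI : Finite (V ≃ₗ[ZMod q] V) :=
    Finite.of_injective (fun f => (f : V → V)) DFunLike.coe_injective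
  obtain ⟨v₀, hv₀⟩ := exists_ne (0 : V)
  let act : H →* Equiv.Perm {v : V // v ≠ 0} :=
    { toFun := fun h =>
        { toFun := fun v => ⟨(h : V ≃ₗ[ZMod q] V) v.1,
            fun h0 => v.2 ((LinearEquiv.map_eq_zero_iff _).mp h0)⟩
          invFun := fun v => ⟨(h : V ≃ₗ[ZMod q] V).symm v.1,
            fun h0 => v.2 ((LinearEquiv.map_eq_zero_iff _).mp h0)⟩
          left_inv := fun v => Subtype.ext (LinearEquiv.symm_apply_apply _ _)
          right_inv := fun v => Subtype.ext (LinearEquiv.apply_symm_apply _ _) }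
      map_one' := by
        ext v
        rfl
      map_mul' := fun a b => by
        ext v
        rfl }
  letI : MulAction H {v : V // v ≠ 0} := MulAction.compHom _ act
  have hsmul : ∀ (h : H) (x : {v : V // v ≠ 0}), ((h • x : {v : V // v ≠ 0}) : V) =
      (h : V ≃ₗ[ZMod q] V) x.1 := fun _ _ => rfl
  haveI : MulAction.IsPretransitive H {v : V // v ≠ 0} := ⟨fun x y => by
    obtain ⟨h, hh⟩ := htrans x.1 y.1 x.2 y.2
    exact ⟨h, Subtype.ext (by rw [hsmul]; exact hh)⟩⟩
  have h1 := MulAction.index_stabilizer_of_transitive H (⟨v₀, hv₀⟩ : {v : V // v ≠ 0})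
  have h2 : Nat.card {v : V // v ≠ 0} = Nat.card V - 1 := by
    letI : Fintype V := Fintype.ofFinite V
    rw [Nat.card_eq_fintype_card, Fintype.card_subtype, Finset.filter_ne',
      Finset.card_erase_of_mem (Finset.mem_univ _), Finset.card_univ, Nat.card_eq_fintype_card]
  rw [← h2, ← h1]
  exact Subgroup.index_dvd_card _

/-- **The structure half of Huppert's theorem.** -/
theorem huppert_structure (H : Subgroup (V ≃ₗ[ZMod q] V)) (hsol : Group.IsSolvable H)
    (htrans : ∀ v w : V, v ≠ 0 → w ≠ 0 → ∃ h : H, (h : V ≃ₗ[ZMod q] V) v = w)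
    (hno : ∀ A : Subgroup H, A.Normal → (∀ a ∈ A, ∀ b ∈ A, a * b = b * a) →
      ¬ (∀ W : Submodule (ZMod q) V,
        (∀ a ∈ A, ∀ v ∈ W, ((a : H) : V ≃ₗ[ZMod q] V) v ∈ W) → W = ⊥ ∨ W = ⊤)) :
    ∃ (m d s e0 cardA : ℕ), Module.finrank (ZMod q) V = m * d ∧ 2 ≤ d ∧ 0 < m ∧
      cardA ∣ q ^ m - 1 ∧ s.Prime ∧ s ∣ cardA ∧ 1 ≤ e0 ∧ s ^ e0 ≤ d ∧
      (∀ r : ℕ, r.Prime → r ∣ Nat.card H → ¬ r ∣ cardA → ¬ r ∣ m →
        ∃ e, 1 ≤ e ∧ e ≤ e0 ∧ r ∣ s ^ (2 * e) - 1) ∧
      (m = 1 → Nat.card H ∣ cardA * s ^ (2 * e0) *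
        ∏ i ∈ Finset.range (2 * e0), (s ^ (2 * e0) - s ^ i)) := by
  classical
  have hq : q.Prime := Fact.out
  haveI : Finite (V ≃ₗ[ZMod q] V) :=
    Finite.of_injective (fun f => (f : V → V)) DFunLike.coe_injective
  -- (S1) a maximal abelian normal subgroup
  obtain ⟨A, -, hAmax⟩ := Finite.exists_le_maximal
    (p := fun B : Subgroup H => B.Normal ∧ ∀ a ∈ B, ∀ b ∈ B, a * b = b * a) (a := ⊥)
    ⟨inferInstance, fun a ha b hb => by
      rw [Subgroup.mem_bot] at ha hb
      rw [ha, hb]⟩
  have hAn : A.Normal := hAmax.prop.1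
  have hAc : ∀ a ∈ A, ∀ b ∈ A, a * b = b * a := hAmax.prop.2
  have hmax : ∀ B : Subgroup H, B.Normal → (∀ a ∈ B, ∀ b ∈ B, a * b = b * a) → A ≤ B → B = A :=
    fun B hBn hBc hAB => le_antisymm (hAmax.le_of_ge ⟨hBn, hBc⟩ hAB) hAB
  haveI := hAn
  -- (S2) the field
  obtain ⟨F, fF, ftF, modF, m, hFcard, hAcyc, hAcard, hscal, hlin, hindex, hWinv⟩ :=
    field_of_abelian_normal H htrans A hAn hAc
  haveI : Module.Finite F V := Module.Finite.of_finite
  obtain ⟨d, hd⟩ : ∃ d, d = Module.finrank F V := ⟨_, rfl⟩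
  have hVF : Nat.card V = (q ^ m) ^ d := by
    rw [Module.natCard_eq_pow_finrank (K := F) (V := V), Nat.card_eq_fintype_card, hFcard, hd]
  have hVq : Nat.card V = q ^ Module.finrank (ZMod q) V := by
    rw [Module.natCard_eq_pow_finrank (K := ZMod q) (V := V), Nat.card_zmod]
  have hn : Module.finrank (ZMod q) V = m * d := by
    rw [hVq, ← pow_mul] at hVF
    exact Nat.pow_right_injective hq.two_le hVF
  have hm : 0 < m := by
    rcases Nat.eq_zero_or_pos m with h | h
    · rw [h, pow_zero] at hFcard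
      have := Fintype.one_lt_card (α := F)
      omega
    · exact h
  have hd0 : d ≠ 0 := by
    intro h
    rw [h, pow_zero] at hVF
    have := Finite.one_lt_card (α := V)
    omega
  have hd1 : d ≠ 1 := by
    intro h
    apply hno A hAn hAc
    intro W hW
    by_cases hWb : W = ⊥
    · exact Or.inl hWb
    · right
      obtain ⟨w, hw, hw0⟩ := Submodule.exists_mem_ne_zero_of_ne_bot hWb
      rw [eq_top_iff]
      intro v _
      obtain ⟨c, hc⟩ := (finrank_eq_one_iff_of_nonzero' w hw0).mp (hd ▸ h) v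
      rw [← hc]
      exact hWinv W hW c w hw
  have hd2 : 2 ≤ d := by omega
  -- (S3) the centraliser is bigger
  have hdvdH := card_sub_one_dvd H htrans
  have hHpos : 0 < Nat.card H := Nat.card_pos
  have hqm1 : 0 < q ^ m - 1 := by
    have : 2 ≤ q ^ m := by
      calc 2 ≤ q := hq.two_le
        _ = q ^ 1 := (pow_one q).symm
        _ ≤ q ^ m := Nat.pow_le_pow_right hq.pos hm
    omega
  have hC : ∃ c ∈ Subgroup.centralizer (A : Set H), c ∉ A := by
    by_contra hcon
    simp only [not_exists, not_and, not_not] at hcon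
    have h1 : Nat.card (Subgroup.centralizer (A : Set H)) ≤ Nat.card A :=
      Subgroup.card_le_of_le (fun c hc => hcon c hc)
    have h2 := Subgroup.card_mul_index (Subgroup.centralizer (A : Set H))
    have h3 : (Subgroup.centralizer (A : Set H)).index ≤ m := Nat.le_of_dvd hm hindex
    have h4 : Nat.card A ≤ q ^ m - 1 := Nat.le_of_dvd hqm1 hAcard
    have h5 : Nat.card H ≤ (q ^ m - 1) * m := by
      rw [← h2]
      exact Nat.mul_le_mul (h1.trans h4) h3
    have h6 : Nat.card V - 1 ≤ Nat.card H := Nat.le_of_dvd hHpos hdvdH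
    have h7 := hC_arith q m d hq.two_le hm hd2
    rw [hVF, ← pow_mul] at h6
    omega
  -- (S4) the chief factor
  obtain ⟨N, s, hNn, hs, hAN, hNC, hNA, hcomm, hexp, hZ⟩ :=
    Cfsg.Agent.Lib.Helper55.HupSpec.exists_chief_class_two hsol A hAc hmax hC
  haveI := hNn
  haveI : Fact s.Prime := ⟨hs⟩
  -- (S5) `N` is not abelian
  have hnab : ∃ x ∈ N, ∃ y ∈ N, x * y ≠ y * x := by
    by_contra hcon
    simp only [not_exists, not_and, not_not] at hcon
    have h1 := hmax N hNn (fun a ha b hb => hcon a ha b hb) hAN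
    obtain ⟨x, hx, hxA⟩ := hNA
    rw [h1] at hx
    exact hxA hx
  have hnab' : ¬ IsMulCommutative N := by
    intro h
    obtain ⟨x, hx, y, hy, hxy⟩ := hnab
    have h1 := h.is_comm.comm (⟨x, hx⟩ : N) ⟨y, hy⟩
    exact hxy (congrArg Subtype.val h1)
  -- (S6) the centraliser of `N`
  have hirrN := Cfsg.Agent.Lib.Helper12.RegLin.normal_irreducible H htrans N hnab'
  have hCN : ∀ g : H, (∀ x ∈ N, g * x = x * g) → g ∈ A := by
    have hBA : Subgroup.centralizer (N : Set H) = A := by
      apply hmax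
      · exact Subgroup.normal_centralizer
      · intro a ha b hb
        exact Cfsg.Agent.Lib.Helper12.RegLin.centralizer_comm H N hirrN a b ha hb
      · intro a ha
        rw [Subgroup.mem_centralizer_iff]
        intro n hn
        have h1 := hNC hn
        rw [Subgroup.mem_centralizer_iff] at h1
        exact (h1 a ha).symm
    intro g hg
    rw [← hBA, Subgroup.mem_centralizer_iff]
    intro x hx
    exact (hg x hx).symm
  -- (S7) the centre of `N`
  have hcen := center_eq_subgroupOf A N hNC hZ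
  obtain ⟨z, hzc, hzs, hz1, hzA, hzcomm⟩ := exists_z A N s hAcyc hNC hcomm hexp hZ hnab
  obtain ⟨e0, he0⟩ := index_center_eq_pow (Nat.card N) z hzc hzs hzcomm rfl
  have hrel : A.relIndex N = s ^ (2 * e0) := by
    rw [Subgroup.relIndex, ← hcen]
    exact he0
  have he01 : 1 ≤ e0 := by
    rcases Nat.eq_zero_or_pos e0 with h | h
    · exfalso
      rw [h, mul_zero, pow_zero, Subgroup.index_eq_one] at he0
      obtain ⟨x, hx, y, hy, hxy⟩ := hnab
      have h1 : (⟨x, hx⟩ : N) ∈ center N := by rw [he0]; trivial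
      rw [Subgroup.mem_center_iff] at h1
      have h2 := h1 ⟨y, hy⟩
      exact hxy (congrArg Subtype.val h2).symm
    · exact h
  have hsA : s ∣ Nat.card A := by
    have hord : orderOf (⟨z, hzA⟩ : A) = s := by
      apply orderOf_eq_prime
      · apply Subtype.ext
        have h4' : (((z ^ s : N) : H)) = ((1 : N) : H) := congrArg Subtype.val hzs
        exact h4'
      · intro h1
        apply hz1
        have h2 : (((⟨z, hzA⟩ : A) : A) : H) = ((1 : A) : H) := congrArg Subtype.val h1
        exact Subtype.ext h2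
    rw [← hord]
    exact orderOf_dvd_natCard _
  -- (S8) span counting
  let ρN : N →* (V ≃ₗ[F] V) :=
    { toFun := fun x =>
        { toFun := fun v => ((x : H) : V ≃ₗ[ZMod q] V) v
          map_add' := fun v w => map_add _ v w
          map_smul' := fun c v => hlin x.1 (hNC x.2) c v
          invFun := fun v => ((x : H) : V ≃ₗ[ZMod q] V).symm v
          left_inv := fun v => LinearEquiv.symm_apply_apply _ v
          right_inv := fun v => LinearEquiv.apply_symm_apply _ v }
      map_one' := by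
        apply LinearEquiv.ext
        intro v
        rfl
      map_mul' := fun x y => by
        apply LinearEquiv.ext
        intro v
        rfl }
  have hρN : ∀ (x : N) (v : V), ρN x v = ((x : H) : V ≃ₗ[ZMod q] V) v := fun _ _ => rfl
  have hspan : (center N).index ≤ d ^ 2 := by
    rw [hd]
    apply index_center_le_sq ρN
    · intro x y
      obtain ⟨c, hc⟩ := hscal _ (hcomm x.1 x.2 y.1 y.2)
      exact ⟨c, fun v => by rw [hρN]; exact hc v⟩
    · intro x hx
      rw [Subgroup.mem_center_iff]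
      intro y
      have h1 : ⁅x, y⁆ = 1 := by
        apply Subtype.ext
        apply Subtype.ext
        apply LinearEquiv.ext
        intro v
        have h2 := LinearEquiv.congr_fun (hx y) v
        rw [hρN] at h2
        exact h2
      rw [commutatorElement_eq_one_iff_commute] at h1
      exact h1.eq.symm
  have hsd : s ^ e0 ≤ d := by
    rw [he0, mul_comm, pow_mul] at hspan
    exact (Nat.pow_le_pow_iff_left two_ne_zero).mp hspan
  -- (S9) Claim P
  have hP : ∀ r : ℕ, r.Prime → r ∣ Nat.card H → ¬ r ∣ Nat.card A → ¬ r ∣ m →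
      ∃ e, 1 ≤ e ∧ e ≤ e0 ∧ r ∣ s ^ (2 * e) - 1 := by
    intro r hr hrH hrA hrm
    haveI : Fact r.Prime := ⟨hr⟩
    obtain ⟨g, hg⟩ := exists_prime_orderOf_dvd_card' r hrH
    haveI hCn : (Subgroup.centralizer (A : Set H)).Normal := Subgroup.normal_centralizer
    have hgC : g ∈ Subgroup.centralizer (A : Set H) := by
      have h1 : (QuotientGroup.mk g : H ⧸ Subgroup.centralizer (A : Set H)) ^ r = 1 := by
        rw [← QuotientGroup.mk_pow, ← hg, pow_orderOf_eq_one, QuotientGroup.mk_one]
      have h2 := orderOf_dvd_of_pow_eq_one h1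
      rcases (Nat.dvd_prime hr).mp h2 with h3 | h3
      · rw [orderOf_eq_one_iff] at h3
        exact (QuotientGroup.eq_one_iff g).mp h3
      · exfalso
        apply hrm
        have h4 := orderOf_dvd_natCard
          (QuotientGroup.mk g : H ⧸ Subgroup.centralizer (A : Set H))
        rw [h3, ← Subgroup.index_eq_card] at h4
        exact h4.trans hindex
    obtain ⟨e, he1, he2, he3⟩ :=
      claimP A N s r hr hAcyc hNC hcomm hexp hZ hnab hCN g hg hgC hrA
    refine ⟨e, he1, ?_, he3⟩
    rw [hrel, Nat.pow_dvd_pow_iff_le_right hs.one_lt] at he2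
    omega
  -- (S10) the order bound
  have hI : m = 1 → Nat.card H ∣ Nat.card A * s ^ (2 * e0) *
      ∏ i ∈ Finset.range (2 * e0), (s ^ (2 * e0) - s ^ i) := by
    intro hm1
    have hCtop : Subgroup.centralizer (A : Set H) = ⊤ := by
      rw [← Subgroup.index_eq_one]
      rw [hm1] at hindex
      exact Nat.dvd_one.mp hindex
    have hAcen : ∀ a ∈ A, ∀ h : H, h * a = a * h := by
      intro a ha h
      have h1 : h ∈ Subgroup.centralizer (A : Set H) := by rw [hCtop]; trivial
      rw [Subgroup.mem_centralizer_iff] at h1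
      exact (h1 a ha).symm
    exact Cfsg.Agent.Lib.Helper55.HupSpec.card_dvd_of_class_two_normal N A s (2 * e0) hs hAN hAcen
      hAcyc hcomm hexp hrel hCN
  exact ⟨m, d, s, e0, Nat.card A, hn, hd2, hm, hAcard, hs, hsA, he01, hsd, hP, hI⟩

end structure'

end Cfsg.Agent.Lib.Helper12.Hup
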