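import Mathlib
import Cfsg.Agent.S2904
import Cfsg.Agent.Lib.Helper12.HupH

/-!
# Huppert's theorem: the arithmetic half (helper12)
-/

set_option autoImplicit false

namespace Cfsg.Agent.Lib.Helper12.Hup

/-- Huppert's theorem: the whole arithmetic case analysis, from the structure constants. -/
theorem huppert_arith (q n m d s e0 cardH cardA : ℕ) (hq : q.Prime) (hn : n = m * d)
    (hd : 2 ≤ d) (hm : 0 < m) (hHdvd : q ^ n - 1 ∣ cardH)
    (hA : cardA ∣ q ^ m - 1) (hs : s.Prime) (hsA : s ∣ cardA)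
    (he0 : 1 ≤ e0) (hle : s ^ e0 ≤ d)
    (hP : ∀ r : ℕ, r.Prime → r ∣ cardH → ¬ r ∣ cardA → ¬ r ∣ m →
      ∃ e, 1 ≤ e ∧ e ≤ e0 ∧ r ∣ s ^ (2 * e) - 1)
    (hI : m = 1 → cardH ∣ cardA * s ^ (2 * e0) *
      ∏ i ∈ Finset.range (2 * e0), (s ^ (2 * e0) - s ^ i)) :
    q ^ n ∈ ({9, 25, 49, 121, 529, 81} : Set ℕ) := by
  have hq2 := hq.two_le
  have hs2 := hs.two_le
  have hn2 : 2 ≤ n := by
    rw [hn]
    calc 2 ≤ d := hd
      _ ≤ m * d := Nat.le_mul_of_pos_left d hm
  have hmn : m < n := by
    rw [hn]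
    calc m = m * 1 := (mul_one m).symm
      _ < m * d := Nat.mul_lt_mul_of_pos_left (by omega) hm
  have hse : s ≤ s ^ e0 := by
    calc s = s ^ 1 := (pow_one s).symm
      _ ≤ s ^ e0 := Nat.pow_le_pow_right (by omega) he0
  have hqm1 : 0 < q ^ m - 1 := by
    have : 2 ≤ q ^ m := by
      calc 2 ≤ q := hq2
        _ = q ^ 1 := (pow_one q).symm
        _ ≤ q ^ m := Nat.pow_le_pow_right hq.pos hm
    omega
  have hA0 : 0 < cardA := Nat.pos_of_dvd_of_pos hA hqm1
  by_cases hn2' : n = 2
  · -- case n = 2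
    have hd2 : d = 2 ∧ m = 1 := by
      rw [hn2'] at hn
      have h1 : d ∣ 2 := ⟨m, by rw [hn, mul_comm]⟩
      have h2 : d ≤ 2 := Nat.le_of_dvd (by norm_num) h1
      have h3 : d = 2 := by omega
      rw [h3] at hn
      exact ⟨h3, by omega⟩
    obtain ⟨hd2, hm1⟩ := hd2
    have hs2' : s = 2 := by omega
    have he1 : e0 = 1 := by
      rw [hs2', hd2] at hle
      by_contra hne
      have h2 : 2 ≤ e0 := by omega
      have : 2 ^ 2 ≤ 2 ^ e0 := Nat.pow_le_pow_right (by norm_num) h2
      omega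
    have h24 := hI hm1
    rw [hs2', he1] at h24
    have hprod : (2 : ℕ) ^ (2 * 1) * ∏ i ∈ Finset.range (2 * 1), (2 ^ (2 * 1) - 2 ^ i) = 24 := by
      norm_num [Finset.prod_range_succ]
    rw [mul_assoc, hprod] at h24
    rw [hn2']
    have hqA : cardA ∣ q - 1 := by
      rw [hm1, pow_one] at hA
      exact hA
    have hodd : 2 ∣ q - 1 := by
      rw [← hs2']
      exact hsA.trans hqA
    rw [hn2'] at hHdvd
    exact case_two q cardA hq hodd hqA (hHdvd.trans h24)
  · have hn3 : 3 ≤ n := by omega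
    by_cases h26 : q = 2 ∧ n = 6
    · -- case (2, 6)
      exfalso
      obtain ⟨hq2', hn6⟩ := h26
      rw [hq2'] at hA
      obtain ⟨hm2, hs3, hd3, he1⟩ :=
        case_two_six m d s e0 (by rw [← hn6, hn]) hd hs (hsA.trans hA) hle he0
      rw [hm2] at hA
      have hA3 : cardA ∣ 3 := by simpa using hA
      have hA3' : cardA ≤ 3 := Nat.le_of_dvd (by norm_num) hA3
      have h63 : (7 : ℕ) ∣ cardH := by
        rw [hq2', hn6] at hHdvd
        exact (by norm_num : (7 : ℕ) ∣ 2 ^ 6 - 1).trans hHdvd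
      have h7A : ¬ 7 ∣ cardA := by
        intro h
        have := Nat.le_of_dvd hA0 h
        omega
      have h7m : ¬ 7 ∣ m := by
        rw [hm2]
        norm_num
      obtain ⟨e, he1', he2, he3⟩ := hP 7 (by norm_num) h63 h7A h7m
      have : e = 1 := by omega
      rw [this, hs3] at he3
      norm_num at he3
    · -- the Zsigmondy case
      obtain ⟨r, hr, hrdvd, hrprim⟩ := Cfsg.Agent.S2904.result q n (by omega) (by omega) h26
        (by rintro ⟨h, -⟩; exact hn2' h)
      have hnr := zsig_dvd_sub_one q n r (by omega) (by omega) hr hrdvd hrprim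
      have hr2 := hr.two_le
      have hnle : n ≤ r - 1 := Nat.le_of_dvd (by omega) hnr
      have hrH : r ∣ cardH := hrdvd.trans hHdvd
      have hrA : ¬ r ∣ cardA := fun h => hrprim m hm hmn (h.trans hA)
      have hrm : ¬ r ∣ m := by
        intro h
        have := Nat.le_of_dvd hm h
        omega
      obtain ⟨e, he1, he2, he3⟩ := hP r hr hrH hrA hrm
      obtain ⟨hm1, hee, hds, hrs⟩ := zsig_chain m d n s e0 e r hn hd hm hs hle he1 he2 hr he3 hnr
      have hnd : n = d := by rw [hn, hm1, one_mul]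
      have hs2' : s = 2 := by
        apply s_eq_two s e0 hs
        · rw [← hds, ← hnd]
          exact hn3
        · rw [← hrs]
          exact hr
      rw [hs2'] at hds hrs hle
      have hqA : cardA ∣ q - 1 := by
        rw [hm1, pow_one] at hA
        exact hA
      have hodd : 2 ∣ q - 1 := by
        rw [← hs2']
        exact hsA.trans hqA
      have hk2 : 2 ≤ e0 := by
        by_contra hcon
        have h1 : e0 = 1 := by omega
        rw [h1] at hds
        omega
      by_cases hk : e0 = 2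
      · -- n = 4
        have hn4 : n = 4 := by rw [hnd, hds, hk]; norm_num
        have h1 := hI hm1
        rw [hs2', hk] at h1
        have hprod : (2 : ℕ) ^ (2 * 2) * ∏ i ∈ Finset.range (2 * 2), (2 ^ (2 * 2) - 2 ^ i)
            = 322560 := by
          norm_num [Finset.prod_range_succ]
        rw [mul_assoc, hprod] at h1
        rw [hn4] at hHdvd ⊢
        have hq3 := case_four q cardA hq hodd hqA (hHdvd.trans h1)
        rw [hq3]
        norm_num
      · -- e0 ≥ 3
        exfalso
        have hk3 : 3 ≤ e0 := by omega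
        have hpk : 2 ^ e0 = 2 * 2 ^ (e0 - 1) := by
          rw [← pow_succ']
          congr 1
          omega
        have h4 : 4 ≤ 2 ^ (e0 - 1) := by
          calc 4 = 2 ^ 2 := by norm_num
            _ ≤ 2 ^ (e0 - 1) := Nat.pow_le_pow_right (by norm_num) (by omega)
        have hne6 : (2 : ℕ) ^ (e0 - 1) ≠ 6 := by
          intro h
          have h2 : (2 : ℕ) ^ 2 ∣ 2 ^ (e0 - 1) := pow_dvd_pow 2 (by omega)
          rw [h] at h2
          norm_num at h2
        obtain ⟨r2, hr2p, hr2dvd, hr2prim⟩ := Cfsg.Agent.S2904.result q (2 ^ (e0 - 1)) (by omega)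
          (by omega) (by rintro ⟨-, h⟩; exact hne6 h) (by rintro ⟨h, -⟩; omega)
        have hnr2 := zsig_dvd_sub_one q (2 ^ (e0 - 1)) r2 (by omega) (by omega) hr2p hr2dvd hr2prim
        have hdvdn : q ^ (2 ^ (e0 - 1)) - 1 ∣ q ^ n - 1 := by
          rw [hnd, hds]
          exact Nat.pow_sub_one_dvd_pow_sub_one q ⟨2, by rw [hpk, mul_comm]⟩
        have hr2H : r2 ∣ cardH := (hr2dvd.trans hdvdn).trans hHdvd
        have hr2A : ¬ r2 ∣ cardA := by
          intro h
          apply hr2prim 1 (by norm_num) (by omega)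
          rw [pow_one]
          exact h.trans hqA
        have hr2m : ¬ r2 ∣ m := by
          rw [hm1, Nat.dvd_one]
          exact hr2p.one_lt.ne'
        obtain ⟨e', he1', he2', he3'⟩ := hP r2 hr2p hr2H hr2A hr2m
        rw [hs2'] at he3'
        have hne : r2 ≠ 2 ^ e0 + 1 := by
          intro h
          rw [← hrs] at h
          rw [h] at hr2dvd
          exact hrprim (2 ^ (e0 - 1)) (by omega) (by rw [hnd, hds, hpk]; omega) hr2dvd
        have hr2eq := second_prime e0 r2 e' hk2 hr2p hnr2 he1' he2' he3' hne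
        rw [hr2eq] at hr2p
        rw [hrs] at hr
        exact fermat_consecutive e0 hk3 hr2p hr

end Cfsg.Agent.Lib.Helper12.Hup
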