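import Mathlib
import Cfsg.Agent.Lib.Helper12.RegSolvA
import Cfsg.Agent.Lib.Helper12.HupJ
import Cfsg.Agent.Lib.Helper12.HupK

/-!
# Huppert's theorem on solvable linear groups transitive on the non-zero vectors (helper12)
-/

set_option autoImplicit false
set_option linter.unusedSectionVars false
set_option linter.style.haveILetI false

namespace Cfsg.Agent.Lib.Helper12.Hup

section core
universe u
variable {q : ℕ} [Fact q.Prime] {V : Type u} [AddCommGroup V] [Module (ZMod q) V] [Finite V]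
  [Nontrivial V]

/-- **Huppert's theorem**, subgroup form. -/
theorem huppert_core (H : Subgroup (V ≃ₗ[ZMod q] V)) (hsol : Group.IsSolvable H)
    (htrans : ∀ v w : V, v ≠ 0 → w ≠ 0 → ∃ h : H, (h : V ≃ₗ[ZMod q] V) v = w) :
    (∃ (F : Type) (_ : Field F) (_ : Fintype F) (e : V ≃+ F),
      ∀ h : H, ∃ (a : F) (σ : F ≃+* F), ∀ v : V,
        e ((h : V ≃ₗ[ZMod q] V) v) = a * σ (e v)) ∨
    Nat.card V ∈ ({9, 25, 49, 121, 529, 81} : Set ℕ) := by
  classical
  have hq : q.Prime := Fact.out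
  by_cases hex : ∃ A : Subgroup H, A.Normal ∧ (∀ a ∈ A, ∀ b ∈ A, a * b = b * a) ∧
      (∀ W : Submodule (ZMod q) V,
        (∀ a ∈ A, ∀ v ∈ W, ((a : H) : V ≃ₗ[ZMod q] V) v ∈ W) → W = ⊥ ∨ W = ⊤)
  · left
    obtain ⟨A, hAn, hAc, hirr⟩ := hex
    exact Cfsg.Agent.Lib.Helper12.RegSolv.gammaL_of_irreducible H A hAn hAc hirr
  · right
    have hno : ∀ A : Subgroup H, A.Normal → (∀ a ∈ A, ∀ b ∈ A, a * b = b * a) →
        ¬ (∀ W : Submodule (ZMod q) V,
          (∀ a ∈ A, ∀ v ∈ W, ((a : H) : V ≃ₗ[ZMod q] V) v ∈ W) → W = ⊥ ∨ W = ⊤) :=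
      fun A h1 h2 h3 => hex ⟨A, h1, h2, h3⟩
    obtain ⟨m, d, s, e0, cardA, hn, hd, hm, hA, hs, hsA, he0, hle, hP, hI⟩ :=
      huppert_structure H hsol htrans hno
    have hV : Nat.card V = q ^ Module.finrank (ZMod q) V := by
      rw [Module.natCard_eq_pow_finrank (K := ZMod q) (V := V), Nat.card_zmod]
    have hdvd := card_sub_one_dvd H htrans
    rw [hV] at hdvd ⊢
    exact huppert_arith q _ m d s e0 (Nat.card H) cardA hq hn hd hm hdvd hA hs hsA he0 hle hP hI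

end core

end Cfsg.Agent.Lib.Helper12.Hup
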