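import Mathlib

set_option autoImplicit false

namespace Cfsg.Agent.Lib.Helper12

/-- Model of 2x2 matrices with natural number entries. -/
structure M2 where
  a : ℕ
  b : ℕ
  c : ℕ
  d : ℕ
deriving DecidableEq

namespace M2

def one : M2 := ⟨1, 0, 0, 1⟩

def mul (p : ℕ) (x y : M2) : M2 :=
  ⟨(x.a * y.a + x.b * y.c) % p, (x.a * y.b + x.b * y.d) % p,
   (x.c * y.a + x.d * y.c) % p, (x.c * y.b + x.d * y.d) % p⟩

def toMat (p : ℕ) (x : M2) : Matrix (Fin 2) (Fin 2) (ZMod p) :=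
  !![(x.a : ZMod p), (x.b : ZMod p); (x.c : ZMod p), (x.d : ZMod p)]

def wf (p : ℕ) (x : M2) : Bool :=
  decide (x.a < p) && decide (x.b < p) && decide (x.c < p) && decide (x.d < p)

def col1 (x : M2) : ℕ × ℕ := (x.a, x.c)

theorem toMat_one (p : ℕ) : toMat p one = 1 := by
  ext i j
  fin_cases i <;> fin_cases j <;> simp [toMat, one]

theorem toMat_mul (p : ℕ) (x y : M2) : toMat p (mul p x y) = toMat p x * toMat p y := by
  ext i j
  fin_cases i <;> fin_cases j <;>
    simp [toMat, mul, Matrix.mul_apply, Fin.sum_univ_two, ZMod.natCast_mod]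

theorem col1_eq_of_toMat_eq (p : ℕ) {x y : M2} (hx : wf p x = true) (hy : wf p y = true)
    (h : (toMat p x).mulVec ![1, 0] = (toMat p y).mulVec ![1, 0]) : col1 x = col1 y := by
  simp only [wf, Bool.and_eq_true, decide_eq_true_eq] at hx hy
  have h0 := congrFun h 0
  have h1 := congrFun h 1
  simp [toMat, Matrix.mulVec, dotProduct, Fin.sum_univ_two] at h0 h1
  rw [ZMod.natCast_eq_natCast_iff'] at h0 h1
  rw [Nat.mod_eq_of_lt hx.1.1.1, Nat.mod_eq_of_lt hy.1.1.1] at h0
  rw [Nat.mod_eq_of_lt hx.1.2, Nat.mod_eq_of_lt hy.1.2] at h1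
  simp [col1, h0, h1]

/-- Check that each listed element is `one` or a generator times an earlier element. -/
def chk (p : ℕ) (gens : List M2) : List M2 → List M2 → Bool
  | _, [] => true
  | acc, m :: rest =>
    (decide (m = one) || gens.any fun g => acc.any fun m' => decide (mul p g m' = m)) &&
      chk p gens (m :: acc) rest

end M2

open M2

section General

variable (p : ℕ) [Fact p.Prime]

theorem closure_sub (S : Set (Matrix.GeneralLinearGroup (Fin 2) (ZMod p))) (gens L : List M2)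
    (hS : ∀ x ∈ S, ∃ g ∈ gens, (x : Matrix (Fin 2) (Fin 2) (ZMod p)) = toMat p g)
    (hone : one ∈ L)
    (hcl : ∀ g ∈ gens, ∀ m ∈ L, mul p g m ∈ L) :
    ∀ h ∈ Subgroup.closure S, ∃ m ∈ L, (h : Matrix (Fin 2) (Fin 2) (ZMod p)) = toMat p m := by
  intro h hh
  have hh' : h ∈ Submonoid.closure S := by
    rw [← Subgroup.closure_toSubmonoid_of_finite]
    exact hh
  induction hh' using Submonoid.closure_induction_left with
  | one => exact ⟨one, hone, by rw [toMat_one]; rfl⟩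
  | mul_left x hx y _ ih =>
    obtain ⟨g, hg, hxg⟩ := hS x hx
    obtain ⟨m, hm, hym⟩ := ih (by
      rw [← Subgroup.mem_toSubmonoid, Subgroup.closure_toSubmonoid_of_finite]; assumption)
    exact ⟨mul p g m, hcl g hg m hm, by rw [toMat_mul, ← hxg, ← hym]; rfl⟩

theorem sub_closure_aux (S : Set (Matrix.GeneralLinearGroup (Fin 2) (ZMod p))) (gens : List M2)
    (hS : ∀ g ∈ gens, ∃ x ∈ S, (x : Matrix (Fin 2) (Fin 2) (ZMod p)) = toMat p g) :
    ∀ (rest acc : List M2),
      (∀ m ∈ acc, ∃ h ∈ Subgroup.closure S, (h : Matrix (Fin 2) (Fin 2) (ZMod p)) = toMat p m) →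
      chk p gens acc rest = true →
      ∀ m ∈ rest, ∃ h ∈ Subgroup.closure S, (h : Matrix (Fin 2) (Fin 2) (ZMod p)) = toMat p m := by
  intro rest
  induction rest with
  | nil => intro acc _ _ m hm; simp at hm
  | cons m0 rest ih =>
    intro acc hacc hchk m hm
    simp only [chk, Bool.and_eq_true, Bool.or_eq_true, decide_eq_true_eq, List.any_eq_true] at hchk
    have hm0 : ∃ h ∈ Subgroup.closure S, (h : Matrix (Fin 2) (Fin 2) (ZMod p)) = toMat p m0 := by
      rcases hchk.1 with h1 | ⟨g, hg, m', hm', hgm⟩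
      · exact ⟨1, one_mem _, by rw [h1, toMat_one]; rfl⟩
      · obtain ⟨x, hx, hxg⟩ := hS g hg
        obtain ⟨y, hy, hym⟩ := hacc m' hm'
        exact ⟨x * y, mul_mem (Subgroup.subset_closure hx) hy, by
          rw [← hgm, toMat_mul, ← hxg, ← hym]; rfl⟩
    rcases List.mem_cons.1 hm with rfl | hm
    · exact hm0
    · refine ih (m0 :: acc) ?_ hchk.2 m hm
      intro m1 hm1
      rcases List.mem_cons.1 hm1 with rfl | hm1
      · exact hm0
      · exact hacc m1 hm1

theorem sub_closure (S : Set (Matrix.GeneralLinearGroup (Fin 2) (ZMod p))) (gens L : List M2)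
    (hS : ∀ g ∈ gens, ∃ x ∈ S, (x : Matrix (Fin 2) (Fin 2) (ZMod p)) = toMat p g)
    (hchk : chk p gens [] L = true) :
    ∀ m ∈ L, ∃ h ∈ Subgroup.closure S, (h : Matrix (Fin 2) (Fin 2) (ZMod p)) = toMat p m :=
  sub_closure_aux p S gens hS L [] (by simp) hchk

/-- Cardinality of the closure, and injectivity of the action on the first basis vector. -/
theorem card_closure (S : Set (Matrix.GeneralLinearGroup (Fin 2) (ZMod p))) (gens L : List M2)
    (hS1 : ∀ x ∈ S, ∃ g ∈ gens, (x : Matrix (Fin 2) (Fin 2) (ZMod p)) = toMat p g)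
    (hS2 : ∀ g ∈ gens, ∃ x ∈ S, (x : Matrix (Fin 2) (Fin 2) (ZMod p)) = toMat p g)
    (hone : one ∈ L)
    (hcl : ∀ g ∈ gens, ∀ m ∈ L, mul p g m ∈ L)
    (hchk : chk p gens [] L = true)
    (hwf : ∀ m ∈ L, wf p m = true)
    (hnd : (L.map col1).Nodup) :
    Nat.card (Subgroup.closure S) = L.length ∧
    ∀ h h' : Subgroup.closure S,
      ((h : Matrix.GeneralLinearGroup (Fin 2) (ZMod p)) : Matrix (Fin 2) (Fin 2) (ZMod p)).mulVec ![1, 0] =
      ((h' : Matrix.GeneralLinearGroup (Fin 2) (ZMod p)) : Matrix (Fin 2) (Fin 2) (ZMod p)).mulVec ![1, 0] → h = h' := by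
  have hsub := closure_sub p S gens L hS1 hone hcl
  have hsup := sub_closure p S gens L hS2 hchk
  have hinj : ∀ h h' : Subgroup.closure S,
      ((h : Matrix.GeneralLinearGroup (Fin 2) (ZMod p)) : Matrix (Fin 2) (Fin 2) (ZMod p)).mulVec ![1, 0] =
      ((h' : Matrix.GeneralLinearGroup (Fin 2) (ZMod p)) : Matrix (Fin 2) (Fin 2) (ZMod p)).mulVec ![1, 0] → h = h' := by
    intro h h' hv
    obtain ⟨m, hm, hhm⟩ := hsub h h.2
    obtain ⟨m', hm', hhm'⟩ := hsub h' h'.2
    rw [hhm, hhm'] at hv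
    have hc := col1_eq_of_toMat_eq p (hwf m hm) (hwf m' hm') hv
    have : m = m' := List.inj_on_of_nodup_map hnd hm hm' hc
    apply Subtype.ext
    apply Units.ext
    rw [hhm, hhm', this]
  refine ⟨?_, hinj⟩
  -- cardinality
  have hLnd : L.Nodup := List.Nodup.of_map _ hnd
  -- bijection between closure and elements of L
  have hex : ∀ h : Subgroup.closure S, ∃ m : {m // m ∈ L},
      ((h : Matrix.GeneralLinearGroup (Fin 2) (ZMod p)) : Matrix (Fin 2) (Fin 2) (ZMod p)) = toMat p m.1 := by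
    intro h
    obtain ⟨m, hm, hhm⟩ := hsub h h.2
    exact ⟨⟨m, hm⟩, hhm⟩
  choose f hf using hex
  have hfinj : Function.Injective f := by
    intro h h' hff
    apply Subtype.ext
    apply Units.ext
    rw [hf h, hf h', hff]
  have hfsurj : Function.Surjective f := by
    rintro ⟨m, hm⟩
    obtain ⟨h, hh, hhm⟩ := hsup m hm
    refine ⟨⟨h, hh⟩, ?_⟩
    apply Subtype.ext
    have h1 := hf ⟨h, hh⟩
    have h2 : toMat p (f ⟨h, hh⟩).1 = toMat p m := by rw [← h1]; exact hhm
    have hv : (toMat p (f ⟨h, hh⟩).1).mulVec ![1, 0] = (toMat p m).mulVec ![1, 0] := by rw [h2]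
    have hc := col1_eq_of_toMat_eq p (hwf _ (f ⟨h, hh⟩).2) (hwf m hm) hv
    exact List.inj_on_of_nodup_map hnd (f ⟨h, hh⟩).2 hm hc
  rw [Nat.card_congr (Equiv.ofBijective f ⟨hfinj, hfsurj⟩)]
  have hequiv : {m // m ∈ L} ≃ {m // m ∈ L.toFinset} :=
    Equiv.subtypeEquivRight (fun x => by simp)
  rw [Nat.card_congr hequiv, Nat.card_eq_fintype_card, Fintype.card_coe,
    List.toFinset_card_of_nodup hLnd]

/-- Regularity on nonzero vectors, from cardinality and injectivity on the first basis vector. -/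
theorem regular_of_card (H : Subgroup (Matrix.GeneralLinearGroup (Fin 2) (ZMod p)))
    (hcard : Nat.card H = p ^ 2 - 1)
    (hinj : ∀ h h' : H,
      ((h : Matrix.GeneralLinearGroup (Fin 2) (ZMod p)) : Matrix (Fin 2) (Fin 2) (ZMod p)).mulVec ![1, 0] =
      ((h' : Matrix.GeneralLinearGroup (Fin 2) (ZMod p)) : Matrix (Fin 2) (Fin 2) (ZMod p)).mulVec ![1, 0] → h = h') :
    ∀ v w : Fin 2 → ZMod p, v ≠ 0 → w ≠ 0 → ∃! h : H,
      Matrix.mulVec ((h : Matrix.GeneralLinearGroup (Fin 2) (ZMod p)) : Matrix (Fin 2) (Fin 2) (ZMod p)) v = w := by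
  classical
  have hp : (1 : ZMod p) ≠ 0 := one_ne_zero
  have he1 : (![1, 0] : Fin 2 → ZMod p) ≠ 0 := by
    intro h
    have := congrFun h 0
    simp at this
  -- invertible matrices preserve nonzero vectors
  have hne : ∀ (g : Matrix.GeneralLinearGroup (Fin 2) (ZMod p)) (v : Fin 2 → ZMod p), v ≠ 0 →
      (g : Matrix (Fin 2) (Fin 2) (ZMod p)).mulVec v ≠ 0 := by
    intro g v hv h0
    apply hv
    have : ((g⁻¹ : Matrix.GeneralLinearGroup (Fin 2) (ZMod p)) : Matrix (Fin 2) (Fin 2) (ZMod p)).mulVec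
        ((g : Matrix (Fin 2) (Fin 2) (ZMod p)).mulVec v) = v := by
      rw [Matrix.mulVec_mulVec, ← Units.val_mul, inv_mul_cancel, Units.val_one, Matrix.one_mulVec]
    rw [← this, h0, Matrix.mulVec_zero]
  let φ : H → {v : Fin 2 → ZMod p // v ≠ 0} := fun h =>
    ⟨((h : Matrix.GeneralLinearGroup (Fin 2) (ZMod p)) : Matrix (Fin 2) (Fin 2) (ZMod p)).mulVec ![1, 0],
      hne _ _ he1⟩
  have hφinj : Function.Injective φ := by
    intro h h' hh
    exact hinj h h' (congrArg Subtype.val hh)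
  have hcardX : Nat.card {v : Fin 2 → ZMod p // v ≠ 0} = p ^ 2 - 1 := by
    rw [Nat.card_eq_fintype_card]
    have := Set.card_ne_eq (0 : Fin 2 → ZMod p)
    simp only [Set.coe_ofPred] at this
    rw [this]
    simp [ZMod.card]
  have hφbij : Function.Bijective φ :=
    (Nat.bijective_iff_injective_and_card φ).2 ⟨hφinj, by rw [hcard, hcardX]⟩
  have htrans : ∀ v : Fin 2 → ZMod p, v ≠ 0 → ∃ g : H,
      ((g : Matrix.GeneralLinearGroup (Fin 2) (ZMod p)) : Matrix (Fin 2) (Fin 2) (ZMod p)).mulVec ![1, 0] = v := by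
    intro v hv
    obtain ⟨g, hg⟩ := hφbij.2 ⟨v, hv⟩
    exact ⟨g, congrArg Subtype.val hg⟩
  intro v w hv hw
  obtain ⟨gv, hgv⟩ := htrans v hv
  obtain ⟨gw, hgw⟩ := htrans w hw
  refine ⟨gw * gv⁻¹, ?_, ?_⟩
  · show Matrix.mulVec (((gw * gv⁻¹ : H) : Matrix.GeneralLinearGroup (Fin 2) (ZMod p)) : Matrix (Fin 2) (Fin 2) (ZMod p)) v = w
    rw [← hgv, Matrix.mulVec_mulVec, ← Units.val_mul, ← Subgroup.coe_mul, inv_mul_cancel_right, hgw]
  · intro h hh
    have hh' : Matrix.mulVec ((h : Matrix.GeneralLinearGroup (Fin 2) (ZMod p)) : Matrix (Fin 2) (Fin 2) (ZMod p)) v = w := hh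
    have : h * gv = gw := by
      apply hinj
      rw [Subgroup.coe_mul, Units.val_mul, ← Matrix.mulVec_mulVec, hgv, hh', hgw]
    rw [← this, mul_inv_cancel_right]

end General

end Cfsg.Agent.Lib.Helper12
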