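import Mathlib

set_option autoImplicit false

namespace Cfsg.Agent.Lib.Helper12

/-- Regularity on nonzero vectors, from cardinality and semiregularity. -/
theorem regular_of_semiregular (p : ℕ) [Fact p.Prime]
    (H : Subgroup (Matrix.GeneralLinearGroup (Fin 2) (ZMod p)))
    (hcard : Nat.card H = p ^ 2 - 1)
    (hsemi : ∀ h : H, ∀ v : Fin 2 → ZMod p, v ≠ 0 →
      ((h : Matrix.GeneralLinearGroup (Fin 2) (ZMod p)) : Matrix (Fin 2) (Fin 2) (ZMod p)).mulVec v = v →
        h = 1) :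
    ∀ v w : Fin 2 → ZMod p, v ≠ 0 → w ≠ 0 → ∃! h : H,
      Matrix.mulVec ((h : Matrix.GeneralLinearGroup (Fin 2) (ZMod p)) : Matrix (Fin 2) (Fin 2) (ZMod p)) v = w := by
  classical
  -- invertible matrices preserve nonzero vectors
  have hne : ∀ (g : Matrix.GeneralLinearGroup (Fin 2) (ZMod p)) (v : Fin 2 → ZMod p), v ≠ 0 →
      (g : Matrix (Fin 2) (Fin 2) (ZMod p)).mulVec v ≠ 0 := by
    intro g v hv h0
    apply hv
    have : ((g⁻¹ : Matrix.GeneralLinearGroup (Fin 2) (ZMod p)) : Matrix (Fin 2) (Fin 2) (ZMod p)).mulVec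
        ((g : Matrix (Fin 2) (Fin 2) (ZMod p)).mulVec v) = v := by
      rw [Matrix.mulVec_mulVec, ← Units.val_mul, inv_mul_cancel, Units.val_one, Matrix.one_mulVec]
    rw [← this, h0, Matrix.mulVec_zero]
  have hcardX : Nat.card {v : Fin 2 → ZMod p // v ≠ 0} = p ^ 2 - 1 := by
    rw [Nat.card_eq_fintype_card]
    have := Set.card_ne_eq (0 : Fin 2 → ZMod p)
    simp only [Set.coe_ofPred] at this
    rw [this]
    simp [ZMod.card]
  intro v w hv hw
  let φ : H → {v : Fin 2 → ZMod p // v ≠ 0} := fun h =>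
    ⟨((h : Matrix.GeneralLinearGroup (Fin 2) (ZMod p)) : Matrix (Fin 2) (Fin 2) (ZMod p)).mulVec v,
      hne _ _ hv⟩
  have hφinj : Function.Injective φ := by
    intro h h' hh
    have hh' : ((h : Matrix.GeneralLinearGroup (Fin 2) (ZMod p)) : Matrix (Fin 2) (Fin 2) (ZMod p)).mulVec v =
        ((h' : Matrix.GeneralLinearGroup (Fin 2) (ZMod p)) : Matrix (Fin 2) (Fin 2) (ZMod p)).mulVec v :=
      congrArg Subtype.val hh
    have h1 : h'⁻¹ * h = 1 := by
      apply hsemi _ v hv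
      rw [Subgroup.coe_mul, Units.val_mul, ← Matrix.mulVec_mulVec, hh', Matrix.mulVec_mulVec,
        ← Units.val_mul, ← Subgroup.coe_mul, inv_mul_cancel, Subgroup.coe_one, Units.val_one,
        Matrix.one_mulVec]
    exact (inv_mul_eq_one.1 h1).symm
  have hφbij : Function.Bijective φ :=
    (Nat.bijective_iff_injective_and_card φ).2 ⟨hφinj, by rw [hcard, hcardX]⟩
  obtain ⟨h, hh⟩ := hφbij.2 ⟨w, hw⟩
  refine ⟨h, congrArg Subtype.val hh, ?_⟩
  intro h' hh'
  apply hφinj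
  rw [hh]
  exact Subtype.ext hh'

end Cfsg.Agent.Lib.Helper12
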