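import Mathlib
import Cfsg.Agent.Lib.Helper12.MultTrans

set_option autoImplicit false

namespace Cfsg.Agent.Lib.Helper12.MultPrim

open MulAction SubMulAction
open Cfsg.Agent.Lib.Helper12.MultTrans

universe u v

section

variable {G : Type u} {α : Type v} [Group G] [MulAction G α]

theorem subgroupOf_ne_bot_of_stab (N : Subgroup G) (b : α) (h : stabilizer N b ≠ ⊥) :
    N.subgroupOf (stabilizer G b) ≠ ⊥ := by
  intro hbot
  apply h
  rw [eq_bot_iff]
  intro m hm
  rw [Subgroup.mem_bot]
  have hmb : (m : G) • b = b := hm
  have h2 : (⟨(m : G), hmb⟩ : stabilizer G b) ∈ N.subgroupOf (stabilizer G b) := by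
    rw [Subgroup.mem_subgroupOf]
    exact m.2
  rw [hbot, Subgroup.mem_bot] at h2
  have h3 : (m : G) = 1 := congrArg Subtype.val h2
  exact Subtype.ext h3

theorem stab_ne_bot_of_trans (N : Subgroup G) [IsPretransitive N α] {a : α}
    (h : stabilizer N a ≠ ⊥) (b : α) : stabilizer N b ≠ ⊥ := by
  obtain ⟨n, hn⟩ := exists_smul_eq N a b
  rw [← hn, stabilizer_smul_eq_stabilizer_map_conj]
  intro hbot
  apply h
  exact (Subgroup.map_eq_bot_iff_of_injective _ (MulAut.conj n).injective).1 hbot

end

/-- In a `k`-primitive group which is not `(n-1)`-transitive (`n` the degree), a nontrivial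
non-semiregular normal subgroup is `k`-transitive. -/
theorem normal_mult_trans (k : ℕ) (hk : 1 ≤ k) : ∀ (G : Type u) (α : Type v) [Group G]
    [MulAction G α] [FaithfulSMul G α] [Finite α], k ≤ Nat.card α → IsMultiplyPreprimitive G α k →
    ¬ IsMultiplyPretransitive G α (Nat.card α - 1) →
    ∀ (N : Subgroup G) [N.Normal], N ≠ ⊥ → (∃ a : α, stabilizer N a ≠ ⊥) →
    IsMultiplyPretransitive N α k := by
  induction k, hk using Nat.le_induction with
  | base =>
    intro G α _ _ _ _ hdeg hG hnot N _ hN _
    have := (is_one_preprimitive_iff G α).1 hG
    have := normal_trans (α := α) N hN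
    rw [is_one_pretransitive_iff]; exact this
  | succ k hk ih =>
    intro G α _ _ _ _ hdeg hG hnot N _ hN hnr
    let _ : Fintype α := Fintype.ofFinite α
    have hc : Nat.card α = Fintype.card α := Nat.card_eq_fintype_card
    have hcE : ENat.card α = (Fintype.card α : ENat) := ENat.card_eq_coe_fintype_card
    have hGt : IsMultiplyPretransitive G α (k + 1) := IsMultiplyPreprimitive.isMultiplyPretransitive ..
    have hG1 : IsMultiplyPretransitive G α 1 :=
      isMultiplyPretransitive_of_le (n := k + 1) (by omega) (by omega)
    have hGtr : IsPretransitive G α := is_one_pretransitive_iff.1 hG1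
    have hprim : IsPreprimitive G α := by
      rw [← is_one_preprimitive_iff]
      apply isMultiplyPreprimitive_of_le G α hG (by omega)
      rw [hcE]; exact_mod_cast (by omega : k + 1 ≤ Fintype.card α)
    have hNtr := normal_trans (α := α) N hN
    have hstabP : ∀ a : α, IsMultiplyPreprimitive (stabilizer G a) (ofStabilizer G a) k :=
      fun a => isMultiplyPreprimitive_ofStabilizer G α
    have hcard : ∀ a : α, Nat.card (ofStabilizer G a) + 1 = Nat.card α :=
      fun a => nat_card_ofStabilizer_add_one_eq G a
    have hnot' : ∀ a : α, ¬ IsMultiplyPretransitive (stabilizer G a) (ofStabilizer G a)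
        (Nat.card (ofStabilizer G a) - 1) := by
      intro a h
      apply hnot
      have h1 := (ofStabilizer.isMultiplyPretransitive (G := G) (a := a)
        (n := Nat.card (ofStabilizer G a) - 1)).2 h
      have h2 : (Nat.card (ofStabilizer G a) - 1).succ = Nat.card α - 1 := by
        have := hcard a; omega
      rwa [h2] at h1
    obtain ⟨a1, ha1⟩ := hnr
    have hstabN : ∀ b : α, stabilizer N b ≠ ⊥ := stab_ne_bot_of_trans N ha1
    have hNa : ∀ b : α, N.subgroupOf (stabilizer G b) ≠ ⊥ :=
      fun b => subgroupOf_ne_bot_of_stab N b (hstabN b)
    have hprimS : ∀ a : α, IsPreprimitive (stabilizer G a) (ofStabilizer G a) := by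
      intro a
      rw [← is_one_preprimitive_iff]
      apply isMultiplyPreprimitive_of_le _ _ (hstabP a) hk
      rw [ENat.card_eq_coe_natCard]
      have := hcard a
      exact_mod_cast (by omega : k ≤ Nat.card (ofStabilizer G a))
    have htrS : ∀ a : α, IsPretransitive (N.subgroupOf (stabilizer G a)) (ofStabilizer G a) := by
      intro a
      have := hprimS a
      have := faithful_ofStabilizer (G := G) a
      exact normal_trans (α := ofStabilizer G a) (N.subgroupOf (stabilizer G a)) (hNa a)
    by_cases hex : ∃ a : α, ∃ b : ofStabilizer G a,
        stabilizer (N.subgroupOf (stabilizer G a)) b ≠ ⊥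
    · obtain ⟨a, hb⟩ := hex
      have h1 := @ih (stabilizer G a) (ofStabilizer G a) _ _ (faithful_ofStabilizer a) _
        (by have := hcard a; omega) (hstabP a) (hnot' a) (N.subgroupOf (stabilizer G a)) _
        (hNa a) hb
      exact mt_succ_of_stabilizer N a h1
    · simp only [not_exists, not_not] at hex
      by_cases hk1 : k = 1
      · subst hk1
        obtain ⟨a0⟩ : Nonempty α := by
          rw [← Fintype.card_pos_iff]; omega
        have h1 : IsMultiplyPretransitive (N.subgroupOf (stabilizer G a0)) (ofStabilizer G a0) 1 :=
          is_one_pretransitive_iff.2 (htrS a0)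
        exact mt_succ_of_stabilizer N a0 h1
      · exfalso
        have hk2 : 2 ≤ k := by omega
        -- each point stabilizer of `N` is an elementary abelian 2-group
        have hB : ∀ a : α, IsMulCommutative (N.subgroupOf (stabilizer G a)) ∧
            ∀ n ∈ N.subgroupOf (stabilizer G a), n ^ 2 = 1 := by
          intro a
          let _ : Fintype (ofStabilizer G a) := Fintype.ofFinite _
          have hca : Nat.card (ofStabilizer G a) = Fintype.card (ofStabilizer G a) :=
            Nat.card_eq_fintype_card
          have h2p : IsMultiplyPreprimitive (stabilizer G a) (ofStabilizer G a) 2 := by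
            apply isMultiplyPreprimitive_of_le _ _ (hstabP a) hk2
            rw [ENat.card_eq_coe_natCard]
            have := hcard a
            exact_mod_cast (by omega : k ≤ Nat.card (ofStabilizer G a))
          have := hcard a
          rcases Cfsg.Agent.S0695.result (by omega) h2p (N.subgroupOf (stabilizer G a)) (htrS a)
            (hex a) with h | ⟨h1, h2, _⟩
          · exfalso
            apply hnot
            have h4 : Nat.card α = 4 := by omega
            rw [h4]
            exact isMultiplyPretransitive_of_le (n := k + 1) (by omega) (by omega)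
          · exact ⟨h1, h2⟩
        have h4 : 4 ≤ Fintype.card α := by
          by_contra hlt
          apply hnot
          have h3 : Nat.card α = 3 := by omega
          rw [h3]
          exact isMultiplyPretransitive_of_le (n := k + 1) (by omega) (by omega)
        obtain ⟨a0⟩ : Nonempty α := by
          rw [← Fintype.card_pos_iff]; omega
        have hcard4 : ∀ a b c : α, ∃ d, d ≠ a ∧ d ≠ b ∧ d ≠ c := by
          classical
          intro a b c
          by_contra hcon
          simp only [not_exists, not_and_or, not_not] at hcon
          have hsub : (Finset.univ : Finset α) ⊆ {a, b, c} := by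
            intro d _
            simp only [Finset.mem_insert, Finset.mem_singleton]
            exact hcon d
          have h1 := Finset.card_le_card hsub
          have h2 : ({a, b, c} : Finset α).card ≤ 3 := Finset.card_le_three
          rw [Finset.card_univ] at h1
          omega
        have htr : ∀ a c x : α, c ≠ a → x ≠ a → ∃ m ∈ N, m • a = a ∧ m • c = x := by
          intro a c x hca hxa
          obtain ⟨m, hm⟩ := (htrS a).exists_smul_eq (⟨c, hca⟩ : ofStabilizer G a) ⟨x, hxa⟩
          refine ⟨((m : stabilizer G a) : G), m.2, (m : stabilizer G a).2, ?_⟩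
          exact congrArg Subtype.val hm
        have hab : ∀ a : α, ∀ n ∈ N, ∀ m ∈ N, n • a = a → m • a = a → n * m = m * n := by
          intro a n hn m hm hna hma
          have hcomm := (hB a).1
          have := hcomm.is_comm.comm (⟨⟨n, hna⟩, hn⟩ : N.subgroupOf (stabilizer G a))
            ⟨⟨m, hma⟩, hm⟩
          exact congrArg (fun t : N.subgroupOf (stabilizer G a) => ((t : stabilizer G a) : G)) this
        have hinv : ∀ a : α, ∀ n ∈ N, n • a = a → n ^ 2 = 1 := by
          intro a n hn hna
          have := (hB a).2 (⟨n, hna⟩ : stabilizer G a) hn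
          exact congrArg Subtype.val this
        exact no_sharp N a0 hcard4 htr hab hinv

end Cfsg.Agent.Lib.Helper12.MultPrim
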