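import Mathlib
import Cfsg.Agent.Lib.Helper12.PermChar
import Cfsg.Agent.Lib.Helper3.CharOps

set_option autoImplicit false

namespace Cfsg.Agent.Lib.Helper12.PermChar

open Cfsg
open scoped ComplexConjugate

section Rank

variable {G : Type*} [Group G] [Fintype G] {Ω : Type*} [Fintype Ω] [DecidableEq Ω]
  [MulAction G Ω]

/-- the permutation character -/
noncomputable def permChar (G : Type*) [Group G] (Ω : Type*) [MulAction G Ω] : G → ℂ :=
  fun g => (Nat.card (MulAction.fixedBy Ω g) : ℂ)

omit [Fintype G] in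
theorem isCharacter_permChar : IsCharacter G (permChar G Ω) := by
  have h := Cfsg.Agent.Lib.Helper3.isCharacter_character (Representation.ofMulAction ℂ G Ω)
  convert h using 1
  funext g
  rw [Cfsg.Agent.Lib.Helper3.ofMulAction_character]
  unfold permChar
  rw [Nat.card_eq_fintype_card]

omit [Fintype G] in
theorem permChar_class (g k : G) : permChar G Ω (k * g * k⁻¹) = permChar G Ω g :=
  Cfsg.Agent.Lib.Helper3.IsCharacter.isClassFunction isCharacter_permChar g k

omit [DecidableEq Ω] [Fintype G] [Fintype Ω] in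
theorem permChar_conj (g : G) : conj (permChar G Ω g) = permChar G Ω g := by
  unfold permChar
  exact Complex.conj_natCast _

omit [DecidableEq Ω] [Fintype G] in
theorem permChar_one : permChar G Ω 1 = (Fintype.card Ω : ℂ) := by
  unfold permChar
  congr 1
  rw [← Nat.card_eq_fintype_card]
  apply Nat.card_congr
  exact ⟨fun x => x.1, fun x => ⟨x, by simp⟩, fun x => rfl, fun x => rfl⟩

/-- the multiplicity of the trivial character is one -/
theorem classInner_permChar_one [MulAction.IsPretransitive G Ω] (a : Ω) :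
    classInner (permChar G Ω) (fun _ => (1 : ℂ)) = 1 := by
  have h := classInner_perm (G := G) a (fun _ => (1 : ℂ)) (fun _ _ => rfl)
  unfold permChar
  rw [h]
  have hH : ((Hset G a).card : ℂ) ≠ 0 := by exact_mod_cast (Hset_card_pos a).ne'
  simp only [map_one, Finset.sum_const, nsmul_eq_mul, mul_one]
  exact inv_mul_cancel₀ hH

/-- the number of suborbits is the norm of the permutation character -/
theorem classInner_permChar_self [MulAction.IsPretransitive G Ω] (a : Ω) :
    classInner (permChar G Ω) (permChar G Ω) =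
      (Nat.card (MulAction.orbitRel.Quotient (MulAction.stabilizer G a) Ω) : ℂ) := by
  classical
  have h := classInner_perm (G := G) a (permChar G Ω) (fun g k => permChar_class g k)
  unfold permChar at h ⊢
  rw [h]
  have hH : ((Hset G a).card : ℂ) ≠ 0 := by exact_mod_cast (Hset_card_pos a).ne'
  let _ : Fintype (MulAction.orbitRel.Quotient (MulAction.stabilizer G a) Ω) := Fintype.ofFinite _
  have hB := MulAction.sum_card_fixedBy_eq_card_orbits_mul_card_group (MulAction.stabilizer G a) Ω
  have hsum : ∑ h ∈ Hset G a, conj ((Nat.card (MulAction.fixedBy Ω h) : ℂ)) =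
      ((∑ h : MulAction.stabilizer G a, Fintype.card (MulAction.fixedBy Ω h) : ℕ) : ℂ) := by
    push_cast
    have : Hset G a = Finset.univ.filter (fun x : G => x ∈ MulAction.stabilizer G a) := by
      ext x; simp [mem_Hset]
    rw [this, Finset.sum_subtype (Finset.univ.filter (fun x : G => x ∈ MulAction.stabilizer G a))
      (p := fun x => x ∈ MulAction.stabilizer G a) (by intro x; simp)]
    apply Finset.sum_congr rfl
    intro x _
    rw [Complex.conj_natCast, Nat.card_eq_fintype_card]
    rfl
  have hcardH : Fintype.card (MulAction.stabilizer G a) = (Hset G a).card := by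
    rw [Fintype.card_subtype]
    congr 1
  rw [hsum, hB, hcardH, Nat.card_eq_fintype_card]
  push_cast
  field_simp

end Rank


section Struct

variable {G : Type*} [Group G] [Fintype G] {Ω : Type*} [Fintype Ω] [DecidableEq Ω]
  [MulAction G Ω] [MulAction.IsPretransitive G Ω]

/-- the trivial irreducible character -/
noncomputable def trivIrr (G : Type*) [Group G] : IrrCharacter G :=
  ⟨fun _ => 1, Cfsg.Agent.Lib.Helper3.isIrrCharacter_one⟩

theorem perm_struct [Fintype (IrrCharacter G)] (a : Ω) : ∃ m : IrrCharacter G → ℕ,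
    (∀ ψ : IrrCharacter G, classInner (permChar G Ω) (ψ : G → ℂ) = (m ψ : ℂ)) ∧
    m (trivIrr G) = 1 ∧
    ∑ ψ : IrrCharacter G, m ψ ^ 2 =
      Nat.card (MulAction.orbitRel.Quotient (MulAction.stabilizer G a) Ω) ∧
    (Fintype.card Ω : ℂ) = ∑ ψ : IrrCharacter G, (m ψ : ℂ) * (ψ : G → ℂ) 1 := by
  obtain ⟨m, hm, hsum⟩ := Cfsg.Agent.Lib.Helper3.IsCharacter.exists_mult
    (isCharacter_permChar (G := G) (Ω := Ω))
  refine ⟨m, hm, ?_, ?_, ?_⟩
  · have h1 := hm (trivIrr G)
    have h2 : classInner (permChar G Ω) ((trivIrr G : IrrCharacter G) : G → ℂ) = 1 :=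
      classInner_permChar_one a
    rw [h2] at h1
    exact_mod_cast h1.symm
  · have h1 := classInner_permChar_self (G := G) a
    have h2 : classInner (permChar G Ω) (permChar G Ω) =
        ∑ ψ : IrrCharacter G, (m ψ : ℂ) * conj ((m ψ : ℂ)) := by
      conv_lhs => rw [hsum]
      exact Cfsg.Agent.Lib.Helper3.classInner_sum_sum _ _
    rw [h2] at h1
    have h3 : ((∑ ψ : IrrCharacter G, m ψ ^ 2 : ℕ) : ℂ) =
        (Nat.card (MulAction.orbitRel.Quotient (MulAction.stabilizer G a) Ω) : ℂ) := by
      rw [← h1]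
      push_cast
      apply Finset.sum_congr rfl
      intro ψ _
      rw [Complex.conj_natCast, pow_two]
    exact_mod_cast h3
  · rw [← permChar_one (G := G)]
    have := congrFun hsum 1
    rw [this, Finset.sum_apply]
    apply Finset.sum_congr rfl
    intro ψ _
    rw [Pi.smul_apply, smul_eq_mul]

omit [Fintype G] [DecidableEq Ω] [MulAction.IsPretransitive G Ω] in
theorem card_eq_sum_orbits (H : Type*) [Group H] [MulAction H Ω]
    [Fintype (MulAction.orbitRel.Quotient H Ω)] :
    Fintype.card Ω = ∑ q : MulAction.orbitRel.Quotient H Ω, Nat.card (MulAction.orbit H q.out) := by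
  rw [← Nat.card_eq_fintype_card, Nat.card_congr (MulAction.selfEquivSigmaOrbits H Ω),
    Nat.card_sigma]

end Struct


section PartA

variable {G : Type*} [Group G] [Fintype G] {Ω : Type*} [Fintype Ω] [DecidableEq Ω]
  [MulAction G Ω] [MulAction.IsPretransitive G Ω]

omit [Fintype G] [Fintype Ω] [DecidableEq Ω] [MulAction.IsPretransitive G Ω] in
theorem orbit_stab_self (a : Ω) (x : Ω) (hx : x ∈ MulAction.orbit (MulAction.stabilizer G a) a) :
    x = a := by
  obtain ⟨k, rfl⟩ := hx
  exact k.2

theorem partA (a : Ω) (f : ℕ)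
    (hf : ∀ χ : G → ℂ, IsIrrCharacter G χ → χ ≠ (fun _ => 1) →
      classInner (permChar G Ω) χ ≠ 0 → χ 1 = f) :
    (∀ χ : G → ℂ, IsIrrCharacter G χ →
      classInner (permChar G Ω) χ = 0 ∨ classInner (permChar G Ω) χ = 1) ∧
    ∀ b : Ω, b ≠ a → Nat.card (MulAction.orbit (MulAction.stabilizer G a) b) = f := by
  classical
  have hfinI : Finite (IrrCharacter G) := Cfsg.Agent.Lib.Helper81.finite_irrCharacter
  let _ : Fintype (IrrCharacter G) := Fintype.ofFinite _
  obtain ⟨m, hm, hm1, hrank, hdeg⟩ := perm_struct (G := G) a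
  have hmf : ∀ χ : G → ℂ, ∀ hχ : IsIrrCharacter G χ, (∀ ψ : IrrCharacter G, m ψ ≤ 1) →
      classInner (permChar G Ω) χ = 0 ∨ classInner (permChar G Ω) χ = 1 := by
    intro χ hχ hle
    have h1 := hm ⟨χ, hχ⟩
    have h2 := hle ⟨χ, hχ⟩
    rw [h1]
    rcases Nat.le_one_iff_eq_zero_or_eq_one.1 h2 with h | h
    · left; rw [h]; simp
    · right; rw [h]; simp
  have htriv1 : ((trivIrr G : IrrCharacter G) : G → ℂ) 1 = 1 := rfl
  by_cases hall : ∀ ψ : IrrCharacter G, ψ ≠ trivIrr G → m ψ = 0
  · -- degree one
    have hn : Fintype.card Ω = 1 := by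
      have : (Fintype.card Ω : ℂ) = 1 := by
        rw [hdeg, Finset.sum_eq_single (trivIrr G)]
        · rw [hm1, htriv1]; simp
        · intro ψ _ hψ
          rw [hall ψ hψ]; simp
        · intro h; exact absurd (Finset.mem_univ _) h
      exact_mod_cast this
    constructor
    · intro χ hχ
      apply hmf χ hχ
      intro ψ
      by_cases hψ : ψ = trivIrr G
      · rw [hψ, hm1]
      · rw [hall ψ hψ]; omega
    · intro b hb
      exfalso
      exact hb (Fintype.card_le_one_iff.1 hn.le b a)
  · simp only [not_forall] at hall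
    obtain ⟨ψ0, hψ0, hmψ0⟩ := hall
    have hne_triv : ∀ ψ : IrrCharacter G, ψ ≠ trivIrr G → (ψ : G → ℂ) ≠ fun _ => 1 := by
      intro ψ hψ h
      exact hψ (Subtype.ext h)
    have hmne : ∀ ψ : IrrCharacter G, m ψ ≠ 0 → classInner (permChar G Ω) (ψ : G → ℂ) ≠ 0 := by
      intro ψ h
      rw [hm ψ]
      exact_mod_cast h
    have hfpos : 0 < f := by
      have h1 := hf ψ0 ψ0.2 (hne_triv ψ0 hψ0) (hmne ψ0 hmψ0)
      have h2 := Cfsg.Agent.Lib.Helper81.irr_apply_one_ne_zero ψ0
      rw [h1] at h2
      have : f ≠ 0 := by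
        rintro rfl
        exact h2 (by simp)
      omega
    -- n = 1 + f * S1
    have hn1 : Fintype.card Ω = 1 + f * ∑ ψ ∈ Finset.univ.erase (trivIrr G), m ψ := by
      have : (Fintype.card Ω : ℂ) =
          ((1 + f * ∑ ψ ∈ Finset.univ.erase (trivIrr G), m ψ : ℕ) : ℂ) := by
        rw [hdeg, ← Finset.add_sum_erase Finset.univ _ (Finset.mem_univ (trivIrr G)), hm1, htriv1]
        push_cast
        rw [Finset.mul_sum]
        congr 1
        · simp
        · apply Finset.sum_congr rfl
          intro ψ hψ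
          by_cases h0 : m ψ = 0
          · rw [h0]; simp
          · rw [hf ψ ψ.2 (hne_triv ψ (Finset.mem_erase.1 hψ).1) (hmne ψ h0)]
            ring
      exact_mod_cast this
    -- r = 1 + S2
    let _ : Fintype (MulAction.orbitRel.Quotient (MulAction.stabilizer G a) Ω) := Fintype.ofFinite _
    have hr : Fintype.card (MulAction.orbitRel.Quotient (MulAction.stabilizer G a) Ω) =
        1 + ∑ ψ ∈ Finset.univ.erase (trivIrr G), m ψ ^ 2 := by
      rw [← Nat.card_eq_fintype_card, ← hrank,
        ← Finset.add_sum_erase Finset.univ _ (Finset.mem_univ (trivIrr G)), hm1]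
      norm_num
    -- orbits
    let qa : MulAction.orbitRel.Quotient (MulAction.stabilizer G a) Ω := Quotient.mk'' a
    have hqa_out : (qa.out : Ω) = a := by
      have h1 : (Quotient.mk'' qa.out : MulAction.orbitRel.Quotient (MulAction.stabilizer G a) Ω)
          = Quotient.mk'' a := Quotient.out_eq' qa
      rw [Quotient.eq''] at h1
      exact orbit_stab_self a _ h1
    have hcqa : Nat.card (MulAction.orbit (MulAction.stabilizer G a) qa.out) = 1 := by
      rw [hqa_out, Nat.card_eq_one_iff_unique]
      refine ⟨⟨fun x y => Subtype.ext ?_⟩, ⟨⟨a, MulAction.mem_orbit_self a⟩⟩⟩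
      rw [orbit_stab_self a x.1 x.2, orbit_stab_self a y.1 y.2]
    have hdvd : ∀ b : Ω, b ≠ a → f ∣ Nat.card (MulAction.orbit (MulAction.stabilizer G a) b) := by
      intro b hab
      let Δ : Finset Ω :=
        Finset.univ.filter (fun c => c ∈ MulAction.orbit (MulAction.stabilizer G a) b)
      have hcard : Nat.card (MulAction.orbit (MulAction.stabilizer G a) b) = Δ.card := by
        rw [Nat.card_eq_fintype_card, Fintype.card_subtype]
      rw [hcard]
      apply dvd_card_of_dvd_degrees f (fun χ h1 h2 h3 => ⟨1, by rw [hf χ h1 h2 h3]; simp⟩) a Δ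
      · intro h hh c hc
        simp only [Δ, Finset.mem_filter, Finset.mem_univ, true_and] at hc ⊢
        obtain ⟨k, rfl⟩ := hc
        have hh' : h ∈ MulAction.stabilizer G a := hh
        refine ⟨⟨h, hh'⟩ * k, ?_⟩
        show ((⟨h, hh'⟩ * k : MulAction.stabilizer G a) : G) • b = h • ((k : G) • b)
        rw [Subgroup.coe_mul, mul_smul]
      · intro ha
        simp only [Δ, Finset.mem_filter, Finset.mem_univ, true_and] at ha
        obtain ⟨k, hk⟩ := ha
        apply hab
        have hk' : (k : G) • b = a := hk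
        have hka : (k : G) • a = a := k.2
        have : (k : G) • b = (k : G) • a := by rw [hk', hka]
        exact smul_left_cancel _ this
    have hout_ne : ∀ q : MulAction.orbitRel.Quotient (MulAction.stabilizer G a) Ω, q ≠ qa →
        (q.out : Ω) ≠ a := by
      intro q hq h
      apply hq
      rw [← Quotient.out_eq' q, h]
    have hcq : ∀ q ∈ Finset.univ.erase qa,
        f ≤ Nat.card (MulAction.orbit (MulAction.stabilizer G a) q.out) := by
      intro q hq
      apply Nat.le_of_dvd
      · have : Nonempty (MulAction.orbit (MulAction.stabilizer G a) q.out) :=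
          ⟨⟨_, MulAction.mem_orbit_self _⟩⟩
        exact Nat.card_pos
      · exact hdvd _ (hout_ne q (Finset.mem_erase.1 hq).1)
    have hn2 : Fintype.card Ω = 1 + ∑ q ∈ Finset.univ.erase qa,
        Nat.card (MulAction.orbit (MulAction.stabilizer G a) q.out) := by
      rw [card_eq_sum_orbits (MulAction.stabilizer G a),
        ← Finset.add_sum_erase Finset.univ _ (Finset.mem_univ qa), hcqa]
    have hcount : (Finset.univ.erase qa).card = ∑ ψ ∈ Finset.univ.erase (trivIrr G), m ψ ^ 2 := by
      rw [Finset.card_erase_of_mem (Finset.mem_univ _), Finset.card_univ, hr]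
      omega
    have hlow : (∑ ψ ∈ Finset.univ.erase (trivIrr G), m ψ ^ 2) * f ≤
        ∑ q ∈ Finset.univ.erase qa,
          Nat.card (MulAction.orbit (MulAction.stabilizer G a) q.out) := by
      rw [← hcount, ← smul_eq_mul, ← Finset.sum_const]
      exact Finset.sum_le_sum hcq
    have hS : ∑ ψ ∈ Finset.univ.erase (trivIrr G), m ψ ^ 2 ≤
        ∑ ψ ∈ Finset.univ.erase (trivIrr G), m ψ := by
      have : (∑ ψ ∈ Finset.univ.erase (trivIrr G), m ψ ^ 2) * f ≤
          f * ∑ ψ ∈ Finset.univ.erase (trivIrr G), m ψ := by omega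
      rw [mul_comm] at this
      exact Nat.le_of_mul_le_mul_left this hfpos
    have hterm : ∀ ψ ∈ Finset.univ.erase (trivIrr G), m ψ ≤ m ψ ^ 2 := by
      intro ψ _
      rw [pow_two]
      rcases Nat.eq_zero_or_pos (m ψ) with h | h
      · omega
      · exact Nat.le_mul_of_pos_left _ h
    have hSeq : ∑ ψ ∈ Finset.univ.erase (trivIrr G), m ψ =
        ∑ ψ ∈ Finset.univ.erase (trivIrr G), m ψ ^ 2 :=
      le_antisymm (Finset.sum_le_sum hterm) hS
    have hmeq := (Finset.sum_eq_sum_iff_of_le hterm).1 hSeq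
    have hmle : ∀ ψ : IrrCharacter G, m ψ ≤ 1 := by
      intro ψ
      by_cases hψ : ψ = trivIrr G
      · rw [hψ, hm1]
      · have h1 := hmeq ψ (Finset.mem_erase.2 ⟨hψ, Finset.mem_univ _⟩)
        by_contra hgt
        have h2 : 2 ≤ m ψ := by omega
        have h3 : 2 * m ψ ≤ m ψ * m ψ := Nat.mul_le_mul_right _ h2
        rw [pow_two] at h1
        omega
    refine ⟨fun χ hχ => hmf χ hχ hmle, ?_⟩
    -- all subdegrees equal f
    have hsumeq : ∑ q ∈ Finset.univ.erase qa, f = ∑ q ∈ Finset.univ.erase qa,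
        Nat.card (MulAction.orbit (MulAction.stabilizer G a) q.out) := by
      rw [Finset.sum_const, smul_eq_mul, hcount, ← hSeq]
      have : f * ∑ ψ ∈ Finset.univ.erase (trivIrr G), m ψ = ∑ q ∈ Finset.univ.erase qa,
          Nat.card (MulAction.orbit (MulAction.stabilizer G a) q.out) := by omega
      rw [← this, mul_comm]
    have hall := (Finset.sum_eq_sum_iff_of_le hcq).1 hsumeq
    intro b hb
    let q : MulAction.orbitRel.Quotient (MulAction.stabilizer G a) Ω := Quotient.mk'' b
    have hq : q ≠ qa := by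
      intro h
      have h1 : b ∈ MulAction.orbit (MulAction.stabilizer G a) a := Quotient.eq''.1 h
      exact hb (orbit_stab_self a b h1)
    have h1 := hall q (Finset.mem_erase.2 ⟨hq, Finset.mem_univ _⟩)
    have h2 : MulAction.orbit (MulAction.stabilizer G a) q.out =
        MulAction.orbit (MulAction.stabilizer G a) b := by
      apply MulAction.orbit_eq_iff.2
      have : (Quotient.mk'' q.out : MulAction.orbitRel.Quotient (MulAction.stabilizer G a) Ω)
          = Quotient.mk'' b := Quotient.out_eq' q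
      exact Quotient.eq''.1 this
    rw [← h2, ← h1]

end PartA


section PartB

variable {G : Type*} [Group G] [Fintype G] {Ω : Type*} [Fintype Ω] [DecidableEq Ω]
  [MulAction G Ω] [MulAction.IsPretransitive G Ω]

theorem partB (a : Ω)
    (hrank : Nat.card (MulAction.orbitRel.Quotient (MulAction.stabilizer G a) Ω) ≤ 5) :
    ∀ χ : G → ℂ, IsIrrCharacter G χ →
      classInner (permChar G Ω) χ = 0 ∨ classInner (permChar G Ω) χ = 1 := by
  classical
  have hfinI : Finite (IrrCharacter G) := Cfsg.Agent.Lib.Helper81.finite_irrCharacter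
  let _ : Fintype (IrrCharacter G) := Fintype.ofFinite _
  obtain ⟨m, hm, hm1, hr, hdeg⟩ := perm_struct (G := G) a
  intro χ hχ
  by_contra hcon
  simp only [not_or] at hcon
  let ψ0 : IrrCharacter G := ⟨χ, hχ⟩
  have h2 : 2 ≤ m ψ0 := by
    have h1 := hm ψ0
    by_contra hlt
    rcases Nat.le_one_iff_eq_zero_or_eq_one.1 (by omega : m ψ0 ≤ 1) with h | h
    · apply hcon.1
      show classInner (permChar G Ω) (ψ0 : G → ℂ) = 0
      rw [h1, h]; simp
    · apply hcon.2
      show classInner (permChar G Ω) (ψ0 : G → ℂ) = 1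
      rw [h1, h]; simp
  have hne : ψ0 ≠ trivIrr G := by
    intro h
    rw [h, hm1] at h2
    omega
  have hothers : ∀ ψ : IrrCharacter G, ψ ≠ trivIrr G → ψ ≠ ψ0 → m ψ = 0 := by
    intro ψ h1 h3
    by_contra h0
    have hsub : ({trivIrr G, ψ0, ψ} : Finset (IrrCharacter G)) ⊆ Finset.univ := Finset.subset_univ _
    have hle := Finset.sum_le_sum_of_subset (f := fun φ : IrrCharacter G => m φ ^ 2) hsub
    rw [Finset.sum_insert (by
        simp only [Finset.mem_insert, Finset.mem_singleton, not_or]
        exact ⟨hne.symm, h1.symm⟩),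
      Finset.sum_pair h3.symm, hm1, hr] at hle
    have h4 : 4 ≤ m ψ0 ^ 2 := by
      rw [pow_two]
      calc 4 = 2 * 2 := rfl
        _ ≤ m ψ0 * m ψ0 := Nat.mul_le_mul h2 h2
    have h5 : 1 ≤ m ψ ^ 2 := Nat.one_le_pow _ _ (Nat.pos_of_ne_zero h0)
    omega
  obtain ⟨n0, _, hn0⟩ := Cfsg.Agent.Lib.Helper81.irr_apply_one ψ0
  have hA := partA (G := G) a n0 (by
    intro χ' hχ' hne1 hin
    have hψ' : (⟨χ', hχ'⟩ : IrrCharacter G) = ψ0 := by
      by_contra hne0
      have h1 : (⟨χ', hχ'⟩ : IrrCharacter G) ≠ trivIrr G := by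
        intro h
        apply hne1
        exact congrArg Subtype.val h
      have := hothers _ h1 hne0
      apply hin
      have h3 := hm ⟨χ', hχ'⟩
      rw [this] at h3
      simpa using h3
    have : χ' = χ := congrArg Subtype.val hψ'
    rw [this]
    exact hn0)
  rcases hA.1 χ hχ with h | h
  · exact hcon.1 h
  · exact hcon.2 h

end PartB

end Cfsg.Agent.Lib.Helper12.PermChar
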