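import Mathlib
import Cfsg.Agent.Lib.Helper12.PermChar2

set_option autoImplicit false

namespace Cfsg.Agent.Lib.Helper12.PermChar

open Cfsg
open scoped ComplexConjugate

section RankOne

variable {V : Type*} [AddCommGroup V] [Module ℂ V] [FiniteDimensional ℂ V]

/-- an idempotent of trace one is a rank one projection: `P A P = tr(P A) P` -/
theorem rank_one_proj (P : Module.End ℂ V) (hP : P * P = P) (htr : LinearMap.trace ℂ V P = 1)
    (A : Module.End ℂ V) : P * A * P = (LinearMap.trace ℂ V (P * A)) • P := by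
  have hproj : LinearMap.IsProj (LinearMap.range P) P := by
    refine ⟨fun x => LinearMap.mem_range_self P x, ?_⟩
    rintro x ⟨y, rfl⟩
    exact congrArg (fun T : Module.End ℂ V => T y) hP
  have h1 := hproj.trace
  rw [htr] at h1
  have h2 : Module.finrank ℂ (LinearMap.range P) = 1 := by exact_mod_cast h1.symm
  obtain ⟨v0, hv0, hspan⟩ := finrank_eq_one_iff'.1 h2
  have hPv0 : P (v0 : V) = v0 := hproj.map_id _ v0.2
  -- the scalar
  obtain ⟨c, hc⟩ := hspan ⟨P (A (v0 : V)), LinearMap.mem_range_self P _⟩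
  have hc' : c • (v0 : V) = P (A (v0 : V)) := congrArg Subtype.val hc
  have key : P * A * P = c • P := by
    ext v
    obtain ⟨d, hd⟩ := hspan ⟨P v, LinearMap.mem_range_self P v⟩
    have hd' : d • (v0 : V) = P v := congrArg Subtype.val hd
    show P (A (P v)) = c • P v
    rw [← hd', map_smul, map_smul, ← hc', smul_comm]
  rw [key]
  congr 1
  have h3 : LinearMap.trace ℂ V (P * A * P) = LinearMap.trace ℂ V (P * A) := by
    rw [LinearMap.trace_mul_comm, ← mul_assoc, hP]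
  rw [← h3, key, map_smul, htr, smul_eq_mul, mul_one]

end RankOne

section Sym

variable {G : Type*} [Group G] [Fintype G] {Ω : Type*} [DecidableEq Ω]
  [MulAction G Ω] {V : Type*} [AddCommGroup V] [Module ℂ V] (ρ : Representation ℂ G V)

/-- the operator of the inverse double coset -/
noncomputable def opXi (a : Ω) (Δ : Finset Ω) : Module.End ℂ V := ∑ x ∈ Dset a Δ, ρ x⁻¹

theorem opX_mul_rho (a : Ω) (Δ : Finset Ω) (h : G) (hh : h • a = a) :
    opX ρ a Δ * ρ h = opX ρ a Δ := by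
  unfold opX
  rw [Finset.sum_mul]
  apply Finset.sum_nbij' (fun x => x * h) (fun x => x * h⁻¹)
  · intro x hx
    rw [mem_Dset] at hx ⊢
    rw [mul_smul, hh]; exact hx
  · intro x hx
    rw [mem_Dset] at hx ⊢
    have hh' : h⁻¹ • a = a := by rw [inv_smul_eq_iff, hh]
    rw [mul_smul, hh']; exact hx
  · intro x _; simp
  · intro x _; simp
  · intro x _; rw [map_mul]

theorem opX_mul_opE (a : Ω) (Δ : Finset Ω) :
    opX ρ a Δ * opE ρ a = ((Hset G a).card : ℂ) • opX ρ a Δ := by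
  unfold opE
  rw [Finset.mul_sum]
  rw [Finset.sum_congr rfl (fun h hh => opX_mul_rho ρ a Δ h (mem_Hset.1 hh))]
  rw [Finset.sum_const, Nat.cast_smul_eq_nsmul]

theorem rho_mul_opXi (a : Ω) (Δ : Finset Ω) (h : G) (hh : h • a = a) :
    ρ h * opXi ρ a Δ = opXi ρ a Δ := by
  unfold opXi
  rw [Finset.mul_sum]
  apply Finset.sum_nbij' (fun x => x * h⁻¹) (fun x => x * h)
  · intro x hx
    rw [mem_Dset] at hx ⊢
    have hh' : h⁻¹ • a = a := by rw [inv_smul_eq_iff, hh]
    rw [mul_smul, hh']; exact hx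
  · intro x hx
    rw [mem_Dset] at hx ⊢
    rw [mul_smul, hh]; exact hx
  · intro x _; simp
  · intro x _; simp
  · intro x _
    rw [← map_mul]
    congr 1
    group

theorem opXi_mul_rho (a : Ω) (Δ : Finset Ω) (hΔ : ∀ h : G, h • a = a → ∀ c ∈ Δ, h • c ∈ Δ)
    (h : G) (hh : h • a = a) : opXi ρ a Δ * ρ h = opXi ρ a Δ := by
  unfold opXi
  rw [Finset.sum_mul]
  have hh' : h⁻¹ • a = a := by rw [inv_smul_eq_iff, hh]
  apply Finset.sum_nbij' (fun x => h⁻¹ * x) (fun x => h * x)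
  · intro x hx
    rw [mem_Dset] at hx ⊢
    rw [mul_smul]
    exact hΔ h⁻¹ hh' _ hx
  · intro x hx
    rw [mem_Dset] at hx ⊢
    rw [mul_smul]
    exact hΔ h hh _ hx
  · intro x _; simp
  · intro x _; simp
  · intro x _
    rw [← map_mul]
    congr 1
    group

theorem opE_mul_opXi (a : Ω) (Δ : Finset Ω) :
    opE ρ a * opXi ρ a Δ = ((Hset G a).card : ℂ) • opXi ρ a Δ := by
  unfold opE
  rw [Finset.sum_mul]
  rw [Finset.sum_congr rfl (fun h hh => rho_mul_opXi ρ a Δ h (mem_Hset.1 hh))]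
  rw [Finset.sum_const, Nat.cast_smul_eq_nsmul]

theorem opXi_mul_opE (a : Ω) (Δ : Finset Ω) (hΔ : ∀ h : G, h • a = a → ∀ c ∈ Δ, h • c ∈ Δ) :
    opXi ρ a Δ * opE ρ a = ((Hset G a).card : ℂ) • opXi ρ a Δ := by
  unfold opE
  rw [Finset.mul_sum]
  rw [Finset.sum_congr rfl (fun h hh => opXi_mul_rho ρ a Δ hΔ h (mem_Hset.1 hh))]
  rw [Finset.sum_const, Nat.cast_smul_eq_nsmul]

end Sym


section SymMain

variable {G : Type*} [Group G] [Fintype G] {Ω : Type*} [DecidableEq Ω]
  [MulAction G Ω] {V : Type*} [AddCommGroup V] [Module ℂ V] [FiniteDimensional ℂ V]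
  (ρ : Representation ℂ G V)

omit [FiniteDimensional ℂ V] in
theorem projE_idem (a : Ω) :
    ((((Hset G a).card : ℂ)⁻¹) • opE ρ a) * ((((Hset G a).card : ℂ)⁻¹) • opE ρ a) =
      (((Hset G a).card : ℂ)⁻¹) • opE ρ a := by
  have hH : ((Hset G a).card : ℂ) ≠ 0 := by exact_mod_cast (Hset_card_pos a).ne'
  rw [smul_mul_smul_comm, opE_mul_opE, smul_smul]
  congr 1
  field_simp

omit [FiniteDimensional ℂ V] in
theorem trace_projE (a : Ω) :
    LinearMap.trace ℂ V ((((Hset G a).card : ℂ)⁻¹) • opE ρ a) =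
      (((Hset G a).card : ℂ)⁻¹) * ∑ h ∈ Hset G a, ρ.character h := by
  rw [map_smul, smul_eq_mul]
  unfold opE
  rw [map_sum]
  rfl

theorem opE_eq_zero (a : Ω) (h0 : ∑ h ∈ Hset G a, ρ.character h = 0) : opE ρ a = 0 := by
  have hH : ((Hset G a).card : ℂ) ≠ 0 := by exact_mod_cast (Hset_card_pos a).ne'
  have htr := trace_projE ρ a
  rw [h0, mul_zero] at htr
  have hP0 := eq_zero_of_idempotent_of_trace_eq_zero _ (projE_idem ρ a) htr
  have := congrArg (fun T : Module.End ℂ V => ((Hset G a).card : ℂ) • T) hP0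
  simp only [smul_smul, smul_zero] at this
  rwa [mul_inv_cancel₀ hH, one_smul] at this

theorem opX_eq_opXi (a : Ω) (Δ : Finset Ω) (hΔ : ∀ h : G, h • a = a → ∀ c ∈ Δ, h • c ∈ Δ)
    (h : (∑ h ∈ Hset G a, ρ.character h = 0) ∨
      ((∑ h ∈ Hset G a, ρ.character h = ((Hset G a).card : ℂ)) ∧
        ∀ g : G, conj (ρ.character g) = ρ.character g)) :
    opX ρ a Δ = opXi ρ a Δ := by
  have hH : ((Hset G a).card : ℂ) ≠ 0 := by exact_mod_cast (Hset_card_pos a).ne'
  have e1 : opX ρ a Δ = ((((Hset G a).card : ℂ)⁻¹) • opE ρ a) * opX ρ a Δ := by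
    rw [smul_mul_assoc, opE_mul_opX ρ a Δ hΔ, smul_smul, inv_mul_cancel₀ hH, one_smul]
  have e2 : opX ρ a Δ = opX ρ a Δ * ((((Hset G a).card : ℂ)⁻¹) • opE ρ a) := by
    rw [mul_smul_comm, opX_mul_opE, smul_smul, inv_mul_cancel₀ hH, one_smul]
  have e3 : opXi ρ a Δ = ((((Hset G a).card : ℂ)⁻¹) • opE ρ a) * opXi ρ a Δ := by
    rw [smul_mul_assoc, opE_mul_opXi, smul_smul, inv_mul_cancel₀ hH, one_smul]
  have e4 : opXi ρ a Δ = opXi ρ a Δ * ((((Hset G a).card : ℂ)⁻¹) • opE ρ a) := by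
    rw [mul_smul_comm, opXi_mul_opE ρ a Δ hΔ, smul_smul, inv_mul_cancel₀ hH, one_smul]
  rcases h with h0 | ⟨h1, hreal⟩
  · have hE := opE_eq_zero ρ a h0
    rw [e1, e3, hE, smul_zero, zero_mul, zero_mul]
  · set P := (((Hset G a).card : ℂ)⁻¹) • opE ρ a with hPdef
    have hP := projE_idem ρ a
    have htr : LinearMap.trace ℂ V P = 1 := by
      rw [hPdef, trace_projE, h1, inv_mul_cancel₀ hH]
    have r1 := rank_one_proj P hP htr (opX ρ a Δ)
    have r2 := rank_one_proj P hP htr (opXi ρ a Δ)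
    rw [← e1, ← e2] at r1
    rw [← e3, ← e4] at r2
    rw [r1, r2]
    congr 1
    unfold opX opXi
    rw [map_sum, map_sum]
    apply Finset.sum_congr rfl
    intro x _
    show ρ.character x = ρ.character x⁻¹
    rw [Cfsg.Agent.Lib.Helper3.character_inv, hreal]

end SymMain


section Inversion

variable {G : Type*} [Group G] [Fintype G] {Ω : Type*} [Fintype Ω] [DecidableEq Ω]
  [MulAction G Ω] [MulAction.IsPretransitive G Ω]

omit [Fintype Ω] [DecidableEq Ω] [MulAction G Ω] [MulAction.IsPretransitive G Ω] in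
theorem regular_char [Fintype (IrrCharacter G)] [DecidableEq G] (g : G) :
    ∑ χ : IrrCharacter G, (χ : G → ℂ) 1 * (χ : G → ℂ) g = if g = 1 then (Nat.card G : ℂ) else 0 := by
  by_cases hg : g = 1
  · rw [if_pos hg, hg]
    exact Cfsg.Agent.Lib.Helper81.sum_irr_deg_mul_one
  · rw [if_neg hg]
    exact Cfsg.Agent.Lib.Helper81.sum_irr_deg_mul_of_ne_one hg

/-- if the permutation character is multiplicity-free with real-valued constituents, every
double coset is closed under inversion -/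
theorem inv_mem_Dset_iff (a : Ω) (Δ : Finset Ω) (hΔ : ∀ h : G, h • a = a → ∀ c ∈ Δ, h • c ∈ Δ)
    (hyp : ∀ χ : G → ℂ, IsIrrCharacter G χ → classInner (permChar G Ω) χ ≠ 0 →
      classInner (permChar G Ω) χ = 1 ∧ ∀ g : G, conj (χ g) = χ g) (x0 : G) :
    x0⁻¹ ∈ Dset a Δ ↔ x0 ∈ Dset a Δ := by
  classical
  have hfinI : Finite (IrrCharacter G) := Cfsg.Agent.Lib.Helper81.finite_irrCharacter
  let _ : Fintype (IrrCharacter G) := Fintype.ofFinite _
  have hH : ((Hset G a).card : ℂ) ≠ 0 := by exact_mod_cast (Hset_card_pos a).ne'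
  -- the key equality for every irreducible character
  have key : ∀ ψ : IrrCharacter G, ∑ y ∈ Dset a Δ, (ψ : G → ℂ) (y * x0) =
      ∑ y ∈ Dset a Δ, (ψ : G → ℂ) (y⁻¹ * x0) := by
    intro ψ
    have hcl : ∀ g k : G, (ψ : G → ℂ) (k * g * k⁻¹) = (ψ : G → ℂ) g :=
      (Cfsg.Agent.Lib.Helper3.IsCharacter.isClassFunction
        (Cfsg.Agent.Lib.Helper3.IsIrrCharacter.isCharacter ψ.2))
    have hin := classInner_perm (G := G) a (ψ : G → ℂ) hcl
    have hcase : (∑ h ∈ Hset G a, (ψ : G → ℂ) h = 0) ∨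
        ((∑ h ∈ Hset G a, (ψ : G → ℂ) h = ((Hset G a).card : ℂ)) ∧
          ∀ g : G, conj ((ψ : G → ℂ) g) = (ψ : G → ℂ) g) := by
      by_cases h0 : classInner (permChar G Ω) (ψ : G → ℂ) = 0
      · left
        have h0' : classInner (fun g : G => (Nat.card (MulAction.fixedBy Ω g) : ℂ)) (ψ : G → ℂ) = 0 := h0
        rw [hin] at h0'
        have h1 : ∑ h ∈ Hset G a, conj ((ψ : G → ℂ) h) = 0 := by
          rcases mul_eq_zero.1 h0' with h | h
          · exact absurd (inv_eq_zero.1 h) hH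
          · exact h
        have := congrArg conj h1
        rw [map_sum, map_zero] at this
        simpa using this
      · right
        obtain ⟨h1, hreal⟩ := hyp _ ψ.2 h0
        refine ⟨?_, hreal⟩
        have h1' : classInner (fun g : G => (Nat.card (MulAction.fixedBy Ω g) : ℂ)) (ψ : G → ℂ) = 1 := h1
        rw [hin] at h1'
        have h2 : ∑ h ∈ Hset G a, conj ((ψ : G → ℂ) h) = ((Hset G a).card : ℂ) := by
          field_simp at h1'
          exact h1'
        rw [← h2]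
        apply Finset.sum_congr rfl
        intro h _
        exact (hreal h).symm
    obtain ⟨ψf, n, ρ, hirr, hρ⟩ := ψ
    subst hρ
    have hop := opX_eq_opXi ρ a Δ hΔ hcase
    have h1 := congrArg (fun T : Module.End ℂ (Fin n → ℂ) => LinearMap.trace ℂ _ (T * ρ x0)) hop
    simp only [opX, opXi, Finset.sum_mul, map_sum, ← map_mul] at h1
    exact h1
  -- Fourier inversion via the regular character
  have hA : ∑ ψ : IrrCharacter G, (ψ : G → ℂ) 1 * ∑ y ∈ Dset a Δ, (ψ : G → ℂ) (y * x0) =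
      if x0⁻¹ ∈ Dset a Δ then (Nat.card G : ℂ) else 0 := by
    simp_rw [Finset.mul_sum]
    rw [Finset.sum_comm]
    simp_rw [regular_char]
    have : ∀ y : G, (y * x0 = 1) ↔ (y = x0⁻¹) := fun y => mul_eq_one_iff_eq_inv
    simp_rw [this]
    rw [Finset.sum_ite_eq']
  have hB : ∑ ψ : IrrCharacter G, (ψ : G → ℂ) 1 * ∑ y ∈ Dset a Δ, (ψ : G → ℂ) (y⁻¹ * x0) =
      if x0 ∈ Dset a Δ then (Nat.card G : ℂ) else 0 := by
    simp_rw [Finset.mul_sum]
    rw [Finset.sum_comm]
    simp_rw [regular_char]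
    have : ∀ y : G, (y⁻¹ * x0 = 1) ↔ (y = x0) := fun y => by
      rw [inv_mul_eq_one]
    simp_rw [this]
    rw [Finset.sum_ite_eq']
  have hAB : (if x0⁻¹ ∈ Dset a Δ then (Nat.card G : ℂ) else 0) =
      if x0 ∈ Dset a Δ then (Nat.card G : ℂ) else 0 := by
    rw [← hA, ← hB]
    apply Finset.sum_congr rfl
    intro ψ _
    rw [key ψ]
  have hG : (Nat.card G : ℂ) ≠ 0 := by exact_mod_cast Nat.card_pos.ne'
  by_cases h1 : x0⁻¹ ∈ Dset a Δ <;> by_cases h2 : x0 ∈ Dset a Δ
  · exact ⟨fun _ => h2, fun _ => h1⟩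
  · rw [if_pos h1, if_neg h2] at hAB
    exact absurd hAB hG
  · rw [if_neg h1, if_pos h2] at hAB
    exact absurd hAB.symm hG
  · exact ⟨fun h => absurd h h1, fun h => absurd h h2⟩

/-- multiplicity-free with real constituents implies all suborbits are self-paired -/
theorem swap_of_multfree_real
    (hyp : ∀ χ : G → ℂ, IsIrrCharacter G χ → classInner (permChar G Ω) χ ≠ 0 →
      classInner (permChar G Ω) χ = 1 ∧ ∀ g : G, conj (χ g) = χ g) (a b : Ω) :
    ∃ g : G, g • a = b ∧ g • b = a := by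
  classical
  obtain ⟨g, hg⟩ := MulAction.exists_smul_eq G a b
  let Δ : Finset Ω := Finset.univ.filter (fun c => ∃ h : G, h • a = a ∧ h • b = c)
  have hΔ : ∀ h : G, h • a = a → ∀ c ∈ Δ, h • c ∈ Δ := by
    intro h hh c hc
    simp only [Δ, Finset.mem_filter, Finset.mem_univ, true_and] at hc ⊢
    obtain ⟨k, hka, hkb⟩ := hc
    exact ⟨h * k, by rw [mul_smul, hka, hh], by rw [mul_smul, hkb]⟩
  have hgD : g ∈ Dset a Δ := by
    rw [mem_Dset, hg]
    simp only [Δ, Finset.mem_filter, Finset.mem_univ, true_and]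
    exact ⟨1, one_smul _ _, one_smul _ _⟩
  have hginv := (inv_mem_Dset_iff a Δ hΔ hyp g).2 hgD
  rw [mem_Dset] at hginv
  simp only [Δ, Finset.mem_filter, Finset.mem_univ, true_and] at hginv
  obtain ⟨h, hha, hhb⟩ := hginv
  refine ⟨h⁻¹ * g⁻¹, ?_, ?_⟩
  · rw [mul_smul, ← hhb, inv_smul_smul]
  · rw [mul_smul, ← hg, inv_smul_smul, inv_smul_eq_iff, hha]

end Inversion

end Cfsg.Agent.Lib.Helper12.PermChar
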