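import Mathlib
import Cfsg.Agent.Lib.Helper12.PermChar3
import Cfsg.Agent.Lib.Helper74.FS5

set_option autoImplicit false

namespace Cfsg.Agent.Lib.Helper12.PermChar

open Cfsg
open scoped ComplexConjugate

section Forward

variable {G : Type*} [Group G] [Fintype G] {Ω : Type*} [Fintype Ω] [DecidableEq Ω]
  [MulAction G Ω]

omit [Fintype G] in
theorem permChar_eq_sum (g : G) :
    permChar G Ω g = ∑ a : Ω, if g • a = a then (1 : ℂ) else 0 := by
  unfold permChar
  rw [Nat.card_eq_fintype_card]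
  rw [Finset.sum_boole]
  congr 1
  rw [Fintype.card_subtype]
  rfl

omit [Fintype G] in
theorem permChar_sq_eq_sum (g : G) :
    permChar G Ω g ^ 2 = ∑ a : Ω, ∑ b : Ω, if (g • a = a ∧ g • b = b) then (1 : ℂ) else 0 := by
  rw [pow_two, permChar_eq_sum, Finset.sum_mul_sum]
  apply Finset.sum_congr rfl
  intro a _
  apply Finset.sum_congr rfl
  intro b _
  by_cases h1 : g • a = a <;> by_cases h2 : g • b = b <;> simp [h1, h2]

omit [Fintype G] in
theorem permChar_mul_self_eq_sum (g : G) :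
    permChar G Ω (g * g) = ∑ a : Ω, ∑ b : Ω, if (g • a = b ∧ g • b = a) then (1 : ℂ) else 0 := by
  rw [permChar_eq_sum]
  apply Finset.sum_congr rfl
  intro a _
  rw [Finset.sum_eq_single (g • a)]
  · rw [mul_smul]
    simp
  · intro b _ hb
    rw [if_neg]
    intro h
    exact hb h.1.symm
  · intro h
    exact absurd (Finset.mem_univ _) h

theorem sum_sq_eq_of_swap (hsw : ∀ a b : Ω, ∃ g : G, g • a = b ∧ g • b = a) :
    ∑ g : G, permChar G Ω (g * g) = ∑ g : G, permChar G Ω g ^ 2 := by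
  simp_rw [permChar_mul_self_eq_sum, permChar_sq_eq_sum]
  rw [Finset.sum_comm]
  conv_rhs => rw [Finset.sum_comm]
  apply Finset.sum_congr rfl
  intro a _
  rw [Finset.sum_comm]
  conv_rhs => rw [Finset.sum_comm]
  apply Finset.sum_congr rfl
  intro b _
  obtain ⟨k, hka, hkb⟩ := hsw a b
  apply Fintype.sum_equiv (Equiv.mulLeft k⁻¹)
  intro g
  have e1 : (k⁻¹ * g) • a = a ↔ g • a = b := by
    rw [mul_smul, inv_smul_eq_iff, hka]
  have e2 : (k⁻¹ * g) • b = b ↔ g • b = a := by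
    rw [mul_smul, inv_smul_eq_iff, hkb]
  show _ = if ((k⁻¹ * g) • a = a ∧ (k⁻¹ * g) • b = b) then (1 : ℂ) else 0
  simp only [e1, e2]

/-- self-paired suborbits imply multiplicity-free with real-valued constituents -/
theorem multfree_real_of_swap [MulAction.IsPretransitive G Ω]
    (hsw : ∀ a b : Ω, ∃ g : G, g • a = b ∧ g • b = a)
    (χ : G → ℂ) (hχ : IsIrrCharacter G χ) (hne : classInner (permChar G Ω) χ ≠ 0) :
    classInner (permChar G Ω) χ = 1 ∧ ∀ g : G, conj (χ g) = χ g := by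
  classical
  have hfinI : Finite (IrrCharacter G) := Cfsg.Agent.Lib.Helper81.finite_irrCharacter
  let _ : Fintype (IrrCharacter G) := Fintype.ofFinite _
  obtain ⟨m, hm, hsum⟩ := Cfsg.Agent.Lib.Helper3.IsCharacter.exists_mult
    (isCharacter_permChar (G := G) (Ω := Ω))
  have hG : (Nat.card G : ℂ) ≠ 0 := by exact_mod_cast Nat.card_pos.ne'
  -- Frobenius–Schur indicators as integers
  have hν : ∀ ψ : IrrCharacter G, ∃ n : ℤ, (n = 0 ∨ n = 1 ∨ n = -1) ∧
      ∑ s : G, (ψ : G → ℂ) (s * s) = (Nat.card G : ℂ) * (n : ℂ) ∧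
      (n ≠ 0 → ∀ s : G, ((ψ : G → ℂ) s).im = 0) := by
    intro ψ
    obtain ⟨h3, h0⟩ := Cfsg.Agent.Lib.Helper74.fs_trichotomy ψ.2
    have hrew : ∀ c : ℂ, (Nat.card G : ℂ)⁻¹ * ∑ s : G, (ψ : G → ℂ) (s * s) = c →
        ∑ s : G, (ψ : G → ℂ) (s * s) = (Nat.card G : ℂ) * c := by
      intro c hc
      rw [← hc, ← mul_assoc, mul_inv_cancel₀ hG, one_mul]
    rcases h3 with h | h | h
    · refine ⟨0, Or.inl rfl, ?_, fun h' => absurd rfl h'⟩
      rw [hrew 0 h]; simp
    · refine ⟨1, Or.inr (Or.inl rfl), ?_, ?_⟩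
      · rw [hrew 1 h]; simp
      · intro _ s
        by_contra hs
        have := h0.2 ⟨s, hs⟩
        rw [h] at this
        exact one_ne_zero this
    · refine ⟨-1, Or.inr (Or.inr rfl), ?_, ?_⟩
      · rw [hrew (-1) h]; simp
      · intro _ s
        by_contra hs
        have := h0.2 ⟨s, hs⟩
        rw [h] at this
        norm_num at this
  choose n hn3 hnsum hnreal using hν
  -- the two sums
  have hL : ∑ g : G, permChar G Ω (g * g) =
      (Nat.card G : ℂ) * ∑ ψ : IrrCharacter G, (m ψ : ℂ) * (n ψ : ℂ) := by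
    have : ∀ g : G, permChar G Ω (g * g) = ∑ ψ : IrrCharacter G, (m ψ : ℂ) * (ψ : G → ℂ) (g * g) := by
      intro g
      have := congrFun hsum (g * g)
      rw [this, Finset.sum_apply]
      apply Finset.sum_congr rfl
      intro ψ _
      rw [Pi.smul_apply, smul_eq_mul]
    simp_rw [this]
    rw [Finset.sum_comm, Finset.mul_sum]
    apply Finset.sum_congr rfl
    intro ψ _
    rw [← Finset.mul_sum, hnsum ψ]
    ring
  have hR : ∑ g : G, permChar G Ω g ^ 2 =
      (Nat.card G : ℂ) * ∑ ψ : IrrCharacter G, (m ψ : ℂ) * (m ψ : ℂ) := by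
    have h2 : classInner (permChar G Ω) (permChar G Ω) =
        ∑ ψ : IrrCharacter G, (m ψ : ℂ) * conj ((m ψ : ℂ)) := by
      conv_lhs => rw [hsum]
      exact Cfsg.Agent.Lib.Helper3.classInner_sum_sum _ _
    have h3 : ∑ ψ : IrrCharacter G, (m ψ : ℂ) * (m ψ : ℂ) =
        classInner (permChar G Ω) (permChar G Ω) := by
      rw [h2]
      apply Finset.sum_congr rfl
      intro ψ _
      rw [Complex.conj_natCast]
    rw [h3]
    unfold classInner
    rw [← mul_assoc, mul_inv_cancel₀ hG, one_mul]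
    apply Finset.sum_congr rfl
    intro g _
    rw [permChar_conj, pow_two]
  have hEq : ∑ ψ : IrrCharacter G, (m ψ : ℤ) * n ψ = ∑ ψ : IrrCharacter G, (m ψ : ℤ) * (m ψ : ℤ) := by
    have h1 := sum_sq_eq_of_swap (G := G) hsw
    rw [hL, hR] at h1
    have h2 := mul_left_cancel₀ hG h1
    have h3 : ((∑ ψ : IrrCharacter G, (m ψ : ℤ) * n ψ : ℤ) : ℂ) =
        ((∑ ψ : IrrCharacter G, (m ψ : ℤ) * (m ψ : ℤ) : ℤ) : ℂ) := by
      push_cast
      exact h2
    exact_mod_cast h3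
  have hle : ∀ ψ : IrrCharacter G, (m ψ : ℤ) * n ψ ≤ (m ψ : ℤ) * (m ψ : ℤ) := by
    intro ψ
    have hm0 : (0 : ℤ) ≤ (m ψ : ℤ) := Int.natCast_nonneg _
    rcases Nat.eq_zero_or_pos (m ψ) with h0 | hpos
    · rw [h0]; simp
    · have h1 : (1 : ℤ) ≤ (m ψ : ℤ) := by exact_mod_cast hpos
      have hn1 : n ψ ≤ 1 := by
        rcases hn3 ψ with h | h | h <;> rw [h] <;> norm_num
      exact mul_le_mul_of_nonneg_left (le_trans hn1 h1) hm0
  have hterm : ∀ ψ : IrrCharacter G, (m ψ : ℤ) * n ψ = (m ψ : ℤ) * (m ψ : ℤ) := by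
    intro ψ
    have := (Finset.sum_eq_sum_iff_of_le (fun ψ _ => hle ψ)).1 hEq
    exact this ψ (Finset.mem_univ _)
  -- conclude
  let ψ : IrrCharacter G := ⟨χ, hχ⟩
  have hmψ : classInner (permChar G Ω) χ = (m ψ : ℂ) := hm ψ
  have hm0 : m ψ ≠ 0 := by
    intro h0
    rw [hmψ, h0] at hne
    exact hne (by simp)
  have hnm : n ψ = (m ψ : ℤ) := by
    have hm0' : (m ψ : ℤ) ≠ 0 := by exact_mod_cast hm0
    exact mul_left_cancel₀ hm0' (hterm ψ)
  have hm1 : m ψ = 1 := by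
    have hn1 : n ψ ≤ 1 := by
      rcases hn3 ψ with h | h | h <;> rw [h] <;> norm_num
    rw [hnm] at hn1
    have : m ψ ≤ 1 := by exact_mod_cast hn1
    omega
  refine ⟨by rw [hmψ, hm1]; simp, ?_⟩
  have hn0 : n ψ ≠ 0 := by
    rw [hnm, hm1]; norm_num
  intro g
  exact Complex.conj_eq_iff_im.2 (hnreal ψ hn0 g)

end Forward

end Cfsg.Agent.Lib.Helper12.PermChar
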