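import Mathlib
import Cfsg.Agent.Lib.Helper12.PermChar4

set_option autoImplicit false

namespace Cfsg.Agent.Lib.Helper12.PermChar

open Cfsg
open scoped ComplexConjugate

section TraceSq

variable {G : Type*} [Group G] [Fintype G] {Ω : Type*} [DecidableEq Ω]
  [MulAction G Ω] {V : Type*} [AddCommGroup V] [Module ℂ V] [FiniteDimensional ℂ V]
  (ρ : Representation ℂ G V)

/-- in the multiplicity-free real case the trace of `X * X⁻` is the square of the trace of `X` -/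
theorem trace_opX_mul_opXi (a : Ω) (Δ : Finset Ω) (hΔ : ∀ h : G, h • a = a → ∀ c ∈ Δ, h • c ∈ Δ)
    (h : (∑ h ∈ Hset G a, ρ.character h = 0) ∨
      ((∑ h ∈ Hset G a, ρ.character h = ((Hset G a).card : ℂ)) ∧
        ∀ g : G, conj (ρ.character g) = ρ.character g)) :
    LinearMap.trace ℂ V (opX ρ a Δ * opXi ρ a Δ) = (LinearMap.trace ℂ V (opX ρ a Δ)) ^ 2 := by
  have hH : ((Hset G a).card : ℂ) ≠ 0 := by exact_mod_cast (Hset_card_pos a).ne'
  have hsym := opX_eq_opXi ρ a Δ hΔ h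
  rw [← hsym]
  have e1 : opX ρ a Δ = ((((Hset G a).card : ℂ)⁻¹) • opE ρ a) * opX ρ a Δ := by
    rw [smul_mul_assoc, opE_mul_opX ρ a Δ hΔ, smul_smul, inv_mul_cancel₀ hH, one_smul]
  have e2 : opX ρ a Δ = opX ρ a Δ * ((((Hset G a).card : ℂ)⁻¹) • opE ρ a) := by
    rw [mul_smul_comm, opX_mul_opE, smul_smul, inv_mul_cancel₀ hH, one_smul]
  rcases h with h0 | ⟨h1, _⟩
  · have hE := opE_eq_zero ρ a h0
    have hX : opX ρ a Δ = 0 := by rw [e1, hE, smul_zero, zero_mul]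
    rw [hX, mul_zero, map_zero]; simp
  · set P := (((Hset G a).card : ℂ)⁻¹) • opE ρ a with hPdef
    have hP := projE_idem ρ a
    have htr : LinearMap.trace ℂ V P = 1 := by
      rw [hPdef, trace_projE, h1, inv_mul_cancel₀ hH]
    have r1 := rank_one_proj P hP htr (opX ρ a Δ)
    rw [← e1, ← e2] at r1
    have hPP : P * P = P := hP
    set T := LinearMap.trace ℂ V (opX ρ a Δ) with hT
    have r1' : opX ρ a Δ = T • P := r1
    calc LinearMap.trace ℂ V (opX ρ a Δ * opX ρ a Δ)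
        = LinearMap.trace ℂ V ((T • P) * (T • P)) := by rw [← r1']
      _ = LinearMap.trace ℂ V ((T * T) • P) := by rw [smul_mul_smul_comm, hPP]
      _ = T ^ 2 := by rw [map_smul, htr, smul_eq_mul, mul_one, pow_two]

end TraceSq

section Second

variable {G : Type*} [Group G] [Fintype G] {Ω : Type*} [Fintype Ω] [DecidableEq Ω]
  [MulAction G Ω] [MulAction.IsPretransitive G Ω]

/-- the case distinction for an irreducible character under the multiplicity-free real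
hypothesis -/
theorem hcase_of_hyp (a : Ω)
    (hyp : ∀ χ : G → ℂ, IsIrrCharacter G χ → classInner (permChar G Ω) χ ≠ 0 →
      classInner (permChar G Ω) χ = 1 ∧ ∀ g : G, conj (χ g) = χ g)
    (ψ : IrrCharacter G) :
    (∑ h ∈ Hset G a, (ψ : G → ℂ) h = 0) ∨
        ((∑ h ∈ Hset G a, (ψ : G → ℂ) h = ((Hset G a).card : ℂ)) ∧
          ∀ g : G, conj ((ψ : G → ℂ) g) = (ψ : G → ℂ) g) := by
  have hH : ((Hset G a).card : ℂ) ≠ 0 := by exact_mod_cast (Hset_card_pos a).ne'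
  have hcl : ∀ g k : G, (ψ : G → ℂ) (k * g * k⁻¹) = (ψ : G → ℂ) g :=
    (Cfsg.Agent.Lib.Helper3.IsCharacter.isClassFunction
      (Cfsg.Agent.Lib.Helper3.IsIrrCharacter.isCharacter ψ.2))
  have hin := classInner_perm (G := G) a (ψ : G → ℂ) hcl
  by_cases h0 : classInner (permChar G Ω) (ψ : G → ℂ) = 0
  · left
    have h0' : classInner (fun g : G => (Nat.card (MulAction.fixedBy Ω g) : ℂ)) (ψ : G → ℂ) = 0 := h0
    rw [hin] at h0'
    have h1 : ∑ h ∈ Hset G a, conj ((ψ : G → ℂ) h) = 0 := by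
      rcases mul_eq_zero.1 h0' with h | h
      · exact absurd (inv_eq_zero.1 h) hH
      · exact h
    have := congrArg conj h1
    rw [map_sum, map_zero] at this
    simpa using this
  · right
    obtain ⟨h1, hreal⟩ := hyp _ ψ.2 h0
    refine ⟨?_, hreal⟩
    have h1' : classInner (fun g : G => (Nat.card (MulAction.fixedBy Ω g) : ℂ)) (ψ : G → ℂ) = 1 := h1
    rw [hin] at h1'
    have h2 : ∑ h ∈ Hset G a, conj ((ψ : G → ℂ) h) = ((Hset G a).card : ℂ) := by
      field_simp at h1'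
      exact h1'
    rw [← h2]
    apply Finset.sum_congr rfl
    intro h _
    exact (hreal h).symm

theorem Tsum_sq (a : Ω) (Δ : Finset Ω) (hΔ : ∀ h : G, h • a = a → ∀ c ∈ Δ, h • c ∈ Δ)
    (hyp : ∀ χ : G → ℂ, IsIrrCharacter G χ → classInner (permChar G Ω) χ ≠ 0 →
      classInner (permChar G Ω) χ = 1 ∧ ∀ g : G, conj (χ g) = χ g)
    (ψ : IrrCharacter G) :
    (Tsum a Δ (ψ : G → ℂ)) ^ 2 = ∑ x ∈ Dset a Δ, ∑ y ∈ Dset a Δ, (ψ : G → ℂ) (x * y⁻¹) := by
  have hcase := hcase_of_hyp a hyp ψ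
  obtain ⟨ψf, n, ρ, hirr, hρ⟩ := ψ
  subst hρ
  have h := trace_opX_mul_opXi ρ a Δ hΔ hcase
  have hT : LinearMap.trace ℂ _ (opX ρ a Δ) = Tsum a Δ ρ.character := by
    unfold opX Tsum
    rw [map_sum]
    rfl
  rw [hT] at h
  show (Tsum a Δ ρ.character) ^ 2 = _
  rw [← h]
  unfold opX opXi
  rw [Finset.sum_mul, map_sum]
  apply Finset.sum_congr rfl
  intro x _
  rw [Finset.mul_sum, map_sum]
  apply Finset.sum_congr rfl
  intro y _
  rw [← map_mul]
  rfl

/-- the second orthogonality identity for double coset sums -/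
theorem second_identity [Fintype (IrrCharacter G)] (a : Ω) (Δ : Finset Ω)
    (hΔ : ∀ h : G, h • a = a → ∀ c ∈ Δ, h • c ∈ Δ)
    (hyp : ∀ χ : G → ℂ, IsIrrCharacter G χ → classInner (permChar G Ω) χ ≠ 0 →
      classInner (permChar G Ω) χ = 1 ∧ ∀ g : G, conj (χ g) = χ g) :
    ∑ χ : IrrCharacter G, (χ : G → ℂ) 1 * (Tsum a Δ (χ : G → ℂ)) ^ 2 =
      (Nat.card G : ℂ) * ((Δ.card : ℂ) * ((Hset G a).card : ℂ)) := by
  classical
  simp_rw [Tsum_sq (G := G) a Δ hΔ hyp, Finset.mul_sum]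
  rw [Finset.sum_comm]
  have hinner : ∀ x ∈ Dset a Δ, ∑ ψ : IrrCharacter G, ∑ y ∈ Dset a Δ,
      (ψ : G → ℂ) 1 * (ψ : G → ℂ) (x * y⁻¹) = (Nat.card G : ℂ) := by
    intro x hx
    rw [Finset.sum_comm]
    simp_rw [regular_char]
    have : ∀ y : G, (x * y⁻¹ = 1) ↔ (y = x) := fun y => by
      rw [mul_inv_eq_one, eq_comm]
    simp_rw [this]
    rw [Finset.sum_ite_eq', if_pos hx]
  rw [Finset.sum_congr rfl hinner, Finset.sum_const, nsmul_eq_mul]
  have hD : ((Dset (G := G) a Δ).card : ℂ) = (Δ.card : ℂ) * ((Hset G a).card : ℂ) := by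
    have := Tsum_one (G := G) a Δ
    unfold Tsum at this
    rw [← this]
    simp
  rw [hD]
  ring

end Second

end Cfsg.Agent.Lib.Helper12.PermChar
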