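import Mathlib
import Cfsg.Agent.Lib.Helper12.PermChar5
import Cfsg.Agent.Lib.Helper3.OddOrder
import Cfsg.Agent.Lib.Helper3.Ortho

set_option autoImplicit false

namespace Cfsg.Agent.Lib.Helper12.PermChar

open Cfsg
open scoped ComplexConjugate

section SumThree

theorem sum_three {ι : Type*} [Fintype ι] [DecidableEq ι] (F : ι → ℂ) (a b c : ι)
    (hab : a ≠ b) (hac : a ≠ c) (hbc : b ≠ c)
    (h0 : ∀ x, x ≠ a → x ≠ b → x ≠ c → F x = 0) : ∑ x, F x = F a + F b + F c := by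
  have hsub : ({a, b, c} : Finset ι) ⊆ Finset.univ := Finset.subset_univ _
  rw [← Finset.sum_subset hsub]
  · rw [Finset.sum_insert, Finset.sum_insert, Finset.sum_singleton]
    · ring
    · simpa using hbc
    · simp [hab, hac]
  · intro x _ hx
    simp only [Finset.mem_insert, Finset.mem_singleton, not_or] at hx
    exact h0 x hx.1 hx.2.1 hx.2.2

end SumThree

section Three

variable {G : Type*} [Group G] [Fintype G] {Ω : Type*} [Fintype Ω] [DecidableEq Ω]
  [MulAction G Ω] [MulAction.IsPretransitive G Ω]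

omit [Fintype Ω] [DecidableEq Ω] [MulAction.IsPretransitive G Ω] in
/-- inner products with a permutation character with three constituents -/
theorem three_inner (χ₁ χ₂ : G → ℂ) (h₁ : IsIrrCharacter G χ₁) (h₂ : IsIrrCharacter G χ₂)
    (hπ : permChar G Ω = fun g => 1 + χ₁ g + χ₂ g) (χ : G → ℂ) (hχ : IsIrrCharacter G χ) :
    classInner (permChar G Ω) χ =
      (if (fun _ => (1 : ℂ)) = χ then 1 else 0) + (if χ₁ = χ then 1 else 0) +
        (if χ₂ = χ then 1 else 0) := by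
  classical
  have hπ' : permChar G Ω = (fun _ => (1 : ℂ)) + χ₁ + χ₂ := by
    rw [hπ]; rfl
  rw [hπ', Cfsg.Agent.Lib.Helper3.classInner_add_left, Cfsg.Agent.Lib.Helper3.classInner_add_left,
    Cfsg.Agent.Lib.Helper3.classInner_irr Cfsg.Agent.Lib.Helper3.isIrrCharacter_one hχ,
    Cfsg.Agent.Lib.Helper3.classInner_irr h₁ hχ, Cfsg.Agent.Lib.Helper3.classInner_irr h₂ hχ]

/-- the constituents are non-principal -/
theorem three_ne_one (a : Ω) (χ₁ χ₂ : G → ℂ) (h₁ : IsIrrCharacter G χ₁) (h₂ : IsIrrCharacter G χ₂)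
    (hπ : permChar G Ω = fun g => 1 + χ₁ g + χ₂ g) :
    χ₁ ≠ (fun _ => (1 : ℂ)) ∧ χ₂ ≠ (fun _ => (1 : ℂ)) := by
  classical
  have h := three_inner χ₁ χ₂ h₁ h₂ hπ (fun _ => (1 : ℂ)) Cfsg.Agent.Lib.Helper3.isIrrCharacter_one
  rw [classInner_permChar_one a, if_pos rfl] at h
  constructor
  · intro h1
    rw [if_pos h1] at h
    split_ifs at h <;> norm_num at h
  · intro h2
    rw [if_pos h2] at h
    split_ifs at h <;> norm_num at h

omit [Fintype Ω] [DecidableEq Ω] [MulAction.IsPretransitive G Ω] in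
theorem classInner_perm_conj (χ : G → ℂ) :
    classInner (permChar G Ω) (fun g => conj (χ g)) = conj (classInner (permChar G Ω) χ) := by
  unfold classInner
  rw [map_mul, map_inv₀, map_natCast, map_sum]
  congr 1
  apply Finset.sum_congr rfl
  intro g _
  rw [map_mul, permChar_conj]

/-- the multiplicity-free real hypothesis for three constituents of distinct degrees -/
theorem three_hyp (a : Ω) (χ₁ χ₂ : G → ℂ) (h₁ : IsIrrCharacter G χ₁) (h₂ : IsIrrCharacter G χ₂)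
    (hπ : permChar G Ω = fun g => 1 + χ₁ g + χ₂ g) (hdeg : χ₁ 1 ≠ χ₂ 1) :
    ∀ χ : G → ℂ, IsIrrCharacter G χ → classInner (permChar G Ω) χ ≠ 0 →
      classInner (permChar G Ω) χ = 1 ∧ ∀ g : G, conj (χ g) = χ g := by
  classical
  obtain ⟨hne1, hne2⟩ := three_ne_one a χ₁ χ₂ h₁ h₂ hπ
  have hne12 : χ₁ ≠ χ₂ := fun h => hdeg (by rw [h])
  have hin1 : classInner (permChar G Ω) χ₁ = 1 := by
    rw [three_inner χ₁ χ₂ h₁ h₂ hπ χ₁ h₁, if_neg (fun h => hne1 h.symm), if_pos rfl,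
      if_neg (fun h => hne12 h.symm)]
    ring
  have hin2 : classInner (permChar G Ω) χ₂ = 1 := by
    rw [three_inner χ₁ χ₂ h₁ h₂ hπ χ₂ h₂, if_neg (fun h => hne2 h.symm), if_neg hne12, if_pos rfl]
    ring
  have hc1 := Cfsg.Agent.Lib.Helper3.IsIrrCharacter.conj h₁
  have hc2 := Cfsg.Agent.Lib.Helper3.IsIrrCharacter.conj h₂
  have hd1 : conj (χ₁ 1) = χ₁ 1 :=
    Cfsg.Agent.Lib.Helper3.IsCharacter.conj_one (Cfsg.Agent.Lib.Helper3.IsIrrCharacter.isCharacter h₁)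
  have hd2 : conj (χ₂ 1) = χ₂ 1 :=
    Cfsg.Agent.Lib.Helper3.IsCharacter.conj_one (Cfsg.Agent.Lib.Helper3.IsIrrCharacter.isCharacter h₂)
  have hreal1 : (fun g => conj (χ₁ g)) = χ₁ := by
    have h := three_inner χ₁ χ₂ h₁ h₂ hπ _ hc1
    rw [classInner_perm_conj, hin1, map_one] at h
    by_contra hne
    have hC : ¬ (χ₁ = fun g => conj (χ₁ g)) := fun h' => hne h'.symm
    have hA : ¬ ((fun _ => (1 : ℂ)) = fun g => conj (χ₁ g)) := by
      intro h'
      apply hne1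
      funext g
      have := congrFun h' g
      have h2 := congrArg conj this
      simp only [map_one, Complex.conj_conj] at h2
      exact h2.symm
    have hB : ¬ (χ₂ = fun g => conj (χ₁ g)) := by
      intro h'
      apply hdeg
      have := congrFun h' 1
      rw [this, hd1]
    rw [if_neg hA, if_neg hB, if_neg hC] at h
    norm_num at h
  have hreal2 : (fun g => conj (χ₂ g)) = χ₂ := by
    have h := three_inner χ₁ χ₂ h₁ h₂ hπ _ hc2
    rw [classInner_perm_conj, hin2, map_one] at h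
    by_contra hne
    have hC : ¬ (χ₂ = fun g => conj (χ₂ g)) := fun h' => hne h'.symm
    have hA : ¬ ((fun _ => (1 : ℂ)) = fun g => conj (χ₂ g)) := by
      intro h'
      apply hne2
      funext g
      have := congrFun h' g
      have h2 := congrArg conj this
      simp only [map_one, Complex.conj_conj] at h2
      exact h2.symm
    have hB : ¬ (χ₁ = fun g => conj (χ₂ g)) := by
      intro h'
      apply hdeg
      have := congrFun h' 1
      rw [this, hd2]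
    rw [if_neg hA, if_neg hB, if_neg hC] at h
    norm_num at h
  intro χ hχ hne
  have h := three_inner χ₁ χ₂ h₁ h₂ hπ χ hχ
  by_cases e0 : (fun _ => (1 : ℂ)) = χ
  · subst e0
    exact ⟨classInner_permChar_one a, fun g => map_one _⟩
  · by_cases e1 : χ₁ = χ
    · subst e1
      exact ⟨hin1, fun g => congrFun hreal1 g⟩
    · by_cases e2 : χ₂ = χ
      · subst e2
        exact ⟨hin2, fun g => congrFun hreal2 g⟩
      · rw [if_neg e0, if_neg e1, if_neg e2] at h
        exfalso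
        apply hne
        rw [h]; ring

/-- the eigenvalue equations for a permutation character with three constituents -/
theorem rank3_eqs (a : Ω) (χ₁ χ₂ : G → ℂ) (h₁ : IsIrrCharacter G χ₁) (h₂ : IsIrrCharacter G χ₂)
    (hπ : permChar G Ω = fun g => 1 + χ₁ g + χ₂ g) (hdeg : χ₁ 1 ≠ χ₂ 1)
    (Δ : Finset Ω) (hΔ : ∀ h : G, h • a = a → ∀ c ∈ Δ, h • c ∈ Δ) (ha : a ∉ Δ) :
    ∃ (r s : ℂ) (t : ℤ), r + s = (t : ℂ) ∧ (Δ.card : ℂ) + χ₁ 1 * r + χ₂ 1 * s = 0 ∧
      (Δ.card : ℂ) ^ 2 + χ₁ 1 * r ^ 2 + χ₂ 1 * s ^ 2 = (Fintype.card Ω : ℂ) * (Δ.card : ℂ) := by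
  classical
  have hfinI : Finite (IrrCharacter G) := Cfsg.Agent.Lib.Helper81.finite_irrCharacter
  let _ : Fintype (IrrCharacter G) := Fintype.ofFinite _
  have hH : ((Hset G a).card : ℂ) ≠ 0 := by exact_mod_cast (Hset_card_pos a).ne'
  obtain ⟨hne1, hne2⟩ := three_ne_one a χ₁ χ₂ h₁ h₂ hπ
  have hne12 : χ₁ ≠ χ₂ := fun h => hdeg (by rw [h])
  have hyp := three_hyp a χ₁ χ₂ h₁ h₂ hπ hdeg
  let ψ₀ : IrrCharacter G := ⟨fun _ => 1, Cfsg.Agent.Lib.Helper3.isIrrCharacter_one⟩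
  let ψ₁ : IrrCharacter G := ⟨χ₁, h₁⟩
  let ψ₂ : IrrCharacter G := ⟨χ₂, h₂⟩
  have h01 : ψ₀ ≠ ψ₁ := fun h => hne1 (congrArg Subtype.val h).symm
  have h02 : ψ₀ ≠ ψ₂ := fun h => hne2 (congrArg Subtype.val h).symm
  have h12 : ψ₁ ≠ ψ₂ := fun h => hne12 (congrArg Subtype.val h)
  -- vanishing outside the three constituents
  have hvan : ∀ ψ : IrrCharacter G, ψ ≠ ψ₀ → ψ ≠ ψ₁ → ψ ≠ ψ₂ → Tsum a Δ (ψ : G → ℂ) = 0 := by
    intro ψ n0 n1 n2
    apply Tsum_eq_zero a Δ ψ.2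
    have h := three_inner χ₁ χ₂ h₁ h₂ hπ (ψ : G → ℂ) ψ.2
    rw [if_neg (fun h' => n0 (Subtype.ext h'.symm)), if_neg (fun h' => n1 (Subtype.ext h'.symm)),
      if_neg (fun h' => n2 (Subtype.ext h'.symm))] at h
    have h' : classInner (fun g : G => (Nat.card (MulAction.fixedBy Ω g) : ℂ)) (ψ : G → ℂ) =
        classInner (permChar G Ω) (ψ : G → ℂ) := rfl
    rw [h', h]; ring
  have hT0 : Tsum a Δ ((ψ₀ : IrrCharacter G) : G → ℂ) = (Δ.card : ℂ) * ((Hset G a).card : ℂ) :=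
    Tsum_one (G := G) a Δ
  -- first identity
  have hid1 := main_identity (G := G) a Δ ha
  rw [sum_three _ ψ₀ ψ₁ ψ₂ h01 h02 h12 (fun ψ n0 n1 n2 => by rw [hvan ψ n0 n1 n2, mul_zero])] at hid1
  rw [hT0] at hid1
  -- second identity
  have hid2 := second_identity (G := G) a Δ hΔ hyp
  rw [sum_three _ ψ₀ ψ₁ ψ₂ h01 h02 h12 (fun ψ n0 n1 n2 => by
    rw [hvan ψ n0 n1 n2]; ring)] at hid2
  rw [hT0] at hid2
  have hv0 : ((ψ₀ : IrrCharacter G) : G → ℂ) 1 = 1 := rfl
  have hv1 : ((ψ₁ : IrrCharacter G) : G → ℂ) = χ₁ := rfl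
  have hv2 : ((ψ₂ : IrrCharacter G) : G → ℂ) = χ₂ := rfl
  rw [hv0, hv1, hv2] at hid1 hid2
  set T₁ := Tsum a Δ χ₁ with hT₁
  set T₂ := Tsum a Δ χ₂ with hT₂
  have hcard : (Nat.card G : ℂ) = ((Hset G a).card : ℂ) * (Fintype.card Ω : ℂ) := by
    rw [Nat.card_eq_fintype_card, ← card_Hset_mul_card (G := G) a]
    push_cast; ring
  -- integrality of r + s
  have hint : IsIntegral ℤ ((((Hset G a).card : ℂ)⁻¹) * T₁ + (((Hset G a).card : ℂ)⁻¹) * T₂) :=
    (Tsum_integral a Δ hΔ h₁).add (Tsum_integral a Δ hΔ h₂)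
  let N : ℕ := ∑ x ∈ Dset (G := G) a Δ, Nat.card (MulAction.fixedBy Ω x)
  have hN : (N : ℂ) = (Δ.card : ℂ) * ((Hset G a).card : ℂ) + T₁ + T₂ := by
    have e1 : (N : ℂ) = ∑ x ∈ Dset (G := G) a Δ, permChar G Ω x := by
      simp only [N]
      push_cast
      rfl
    rw [e1, hπ]
    simp only [Finset.sum_add_distrib]
    have e0 : ∑ x ∈ Dset (G := G) a Δ, (1 : ℂ) = (Δ.card : ℂ) * ((Hset G a).card : ℂ) := by
      have := Tsum_one (G := G) a Δ
      unfold Tsum at this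
      exact this
    rw [e0]
    rfl
  have hdvd : (Hset G a).card ∣ N := by
    apply Cfsg.Agent.Lib.Helper3.nat_dvd_of_isIntegral_div (Hset_card_pos a).ne'
    have : (N : ℂ) / ((Hset G a).card : ℂ) =
        ((((Hset G a).card : ℂ)⁻¹) * T₁ + (((Hset G a).card : ℂ)⁻¹) * T₂) + ((Δ.card : ℤ) : ℂ) := by
      rw [hN]
      push_cast
      field_simp
      ring
    rw [this]
    exact hint.add isIntegral_algebraMap
  obtain ⟨q, hq⟩ := hdvd
  refine ⟨(((Hset G a).card : ℂ)⁻¹) * T₁, (((Hset G a).card : ℂ)⁻¹) * T₂, (q : ℤ) - (Δ.card : ℤ),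
    ?_, ?_, ?_⟩
  · have hN' : (N : ℂ) = ((Hset G a).card : ℂ) * (q : ℂ) := by
      rw [hq]; push_cast; ring
    rw [hN'] at hN
    push_cast
    field_simp
    linear_combination -hN
  · field_simp
    linear_combination hid1
  · rw [hcard] at hid2
    field_simp
    linear_combination hid2

end Three

end Cfsg.Agent.Lib.Helper12.PermChar
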