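import Mathlib

/-!
# Powers of a nonabelian simple group

Structure of automorphisms of `S^m` (`S` nonabelian simple), and of subdirect subgroups.
-/

set_option autoImplicit false

namespace Cfsg.Agent.Lib.Helper12.PiSimple

variable {S : Type*} [Group S] {m : ℕ}

/-- In a nonabelian simple group every nontrivial element fails to commute with something. -/
theorem exists_not_commute [IsSimpleGroup S] (hnab : ¬ IsMulCommutative S) {x : S} (hx : x ≠ 1) :
    ∃ s : S, s * x ≠ x * s := by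
  by_contra h
  simp only [not_exists, not_not] at h
  have hc : x ∈ Subgroup.center S := Subgroup.mem_center_iff.mpr h
  rcases (inferInstance : (Subgroup.center S).Normal).eq_bot_or_eq_top with h0 | h1
  · rw [h0, Subgroup.mem_bot] at hc
    exact hx hc
  · apply hnab
    refine ⟨⟨fun a b => ?_⟩⟩
    have hb : b ∈ Subgroup.center S := by rw [h1]; trivial
    exact (Subgroup.mem_center_iff.mp hb a)

theorem mulSingle_conj (j : Fin m) (x : Fin m → S) (t : S) :
    x * Pi.mulSingle j t * x⁻¹ * (Pi.mulSingle j t)⁻¹ =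
      Pi.mulSingle j (x j * t * (x j)⁻¹ * t⁻¹) := by
  funext i
  by_cases hi : i = j
  · subst hi
    simp
  · simp [Pi.mulSingle_eq_of_ne hi]

/-- normal subgroups of `S^m` containing an element with nontrivial `j`-coordinate contain the
`j`-th factor. -/
theorem mulSingle_mem_of_normal [IsSimpleGroup S] (hnab : ¬ IsMulCommutative S)
    (M : Subgroup (Fin m → S)) [hM : M.Normal] {x : Fin m → S} (hx : x ∈ M) {j : Fin m}
    (hj : x j ≠ 1) (s : S) : Pi.mulSingle j s ∈ M := by
  have hA : (M.comap (MonoidHom.mulSingle (fun _ : Fin m => S) j)).Normal := hM.comap _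
  obtain ⟨t, ht⟩ := exists_not_commute hnab hj
  have hmem : x j * t * (x j)⁻¹ * t⁻¹ ∈ M.comap (MonoidHom.mulSingle (fun _ : Fin m => S) j) := by
    rw [Subgroup.mem_comap, MonoidHom.mulSingle_apply, ← mulSingle_conj]
    have h1 : Pi.mulSingle j t * x⁻¹ * (Pi.mulSingle j t)⁻¹ ∈ M :=
      hM.conj_mem _ (M.inv_mem hx) _
    have h2 := M.mul_mem hx h1
    convert h2 using 1
    group
  rcases hA.eq_bot_or_eq_top with h0 | h1
  · exfalso
    rw [h0, Subgroup.mem_bot] at hmem
    apply ht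
    have : x j * t = t * x j := by
      have := congrArg (fun z => z * t * x j) hmem
      simpa [mul_assoc] using this
    exact this.symm
  · have : s ∈ M.comap (MonoidHom.mulSingle (fun _ : Fin m => S) j) := by rw [h1]; trivial
    exact this

theorem mulSingle_conj' (j : Fin m) (x : Fin m → S) (t : S) :
    x * Pi.mulSingle j t * x⁻¹ = Pi.mulSingle j (x j * t * (x j)⁻¹) := by
  funext i
  by_cases hi : i = j
  · subst hi
    simp
  · simp [Pi.mulSingle_eq_of_ne hi]

theorem range_mulSingle_normal (j : Fin m) :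
    ((MonoidHom.mulSingle (fun _ : Fin m => S) j).range).Normal := by
  refine ⟨?_⟩
  rintro _ ⟨t, rfl⟩ x
  refine ⟨x j * t * (x j)⁻¹, ?_⟩
  rw [MonoidHom.mulSingle_apply, MonoidHom.mulSingle_apply, mulSingle_conj']

theorem eq_mulSingle_of_vanish {j : Fin m} {y : Fin m → S} (h : ∀ k, k ≠ j → y k = 1) :
    y = Pi.mulSingle j (y j) := by
  funext k
  by_cases hk : k = j
  · subst hk
    simp
  · rw [h k hk, Pi.mulSingle_eq_of_ne hk]

/-- an automorphism maps the `i`-th factor into a single factor. -/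
theorem factor_map [IsSimpleGroup S] (hnab : ¬ IsMulCommutative S)
    (θ : (Fin m → S) ≃* (Fin m → S)) (i : Fin m) :
    ∃ j, ∀ s k, k ≠ j → θ (Pi.mulSingle i s) k = 1 := by
  obtain ⟨s₀, hs₀⟩ := exists_ne (1 : S)
  have hx : θ (Pi.mulSingle i s₀) ≠ 1 := by
    intro h
    rw [MulEquiv.map_eq_one_iff, Pi.mulSingle_eq_one_iff] at h
    exact hs₀ h
  obtain ⟨j, hj⟩ := Function.ne_iff.mp hx
  refine ⟨j, ?_⟩
  have hTi := range_mulSingle_normal (S := S) i
  have hM : (((MonoidHom.mulSingle (fun _ : Fin m => S) i).range).map θ.toMonoidHom).Normal :=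
    hTi.map _ θ.surjective
  have h1 : ∀ t, Pi.mulSingle j t ∈
      ((MonoidHom.mulSingle (fun _ : Fin m => S) i).range).map θ.toMonoidHom := by
    intro t
    refine mulSingle_mem_of_normal hnab _ (x := θ (Pi.mulSingle i s₀)) ?_ hj t
    exact ⟨_, ⟨s₀, rfl⟩, rfl⟩
  have hM' : (((MonoidHom.mulSingle (fun _ : Fin m => S) j).range).comap θ.toMonoidHom).Normal :=
    (range_mulSingle_normal (S := S) j).comap _
  obtain ⟨_, ⟨s₁, rfl⟩, hs₁⟩ := h1 s₀
  have hs₁' : θ (Pi.mulSingle i s₁) = Pi.mulSingle j s₀ := hs₁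
  have hs₁1 : s₁ ≠ 1 := by
    intro h
    rw [h, Pi.mulSingle_one, map_one] at hs₁'
    have := congrFun hs₁' j
    simp at this
    exact hs₀ this.symm
  have h2 : ∀ s, Pi.mulSingle i s ∈
      ((MonoidHom.mulSingle (fun _ : Fin m => S) j).range).comap θ.toMonoidHom := by
    intro s
    refine mulSingle_mem_of_normal hnab _ (x := Pi.mulSingle i s₁) ?_ (by simpa using hs₁1) s
    rw [Subgroup.mem_comap]
    exact ⟨s₀, hs₁'.symm⟩
  intro s k hk
  obtain ⟨t, ht⟩ := h2 s
  have ht' : Pi.mulSingle j t = θ (Pi.mulSingle i s) := ht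
  rw [← ht', Pi.mulSingle_eq_of_ne hk]

theorem factor_map_inv [Nontrivial S] (θ : (Fin m → S) ≃* (Fin m → S)) (σ τ : Fin m → Fin m)
    (hσ : ∀ i s k, k ≠ σ i → θ (Pi.mulSingle i s) k = 1)
    (hτ : ∀ j s k, k ≠ τ j → θ.symm (Pi.mulSingle j s) k = 1) (i : Fin m) : τ (σ i) = i := by
  obtain ⟨s₀, hs₀⟩ := exists_ne (1 : S)
  by_contra hne
  have h1 := eq_mulSingle_of_vanish (hσ i s₀)
  have h2 := hτ (σ i) (θ (Pi.mulSingle i s₀) (σ i)) i (fun h => hne h.symm)
  rw [← h1, MulEquiv.symm_apply_apply, Pi.mulSingle_eq_same] at h2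
  exact hs₀ h2

/-- `Aut (S^m) = Aut S ≀ Sym m` for `S` nonabelian simple. -/
theorem aut_structure [IsSimpleGroup S] [Finite S] (hnab : ¬ IsMulCommutative S)
    (θ : (Fin m → S) ≃* (Fin m → S)) :
    ∃ (σ : Equiv.Perm (Fin m)) (φ : Fin m → (S ≃* S)), ∀ f i, θ f (σ i) = φ i (f i) := by
  choose σ hσ using factor_map hnab θ
  choose τ hτ using factor_map hnab θ.symm
  have hτσ := factor_map_inv θ σ τ hσ hτ
  have hστ := factor_map_inv θ.symm τ σ hτ (by simpa using hσ)
  let φ₀ : Fin m → (S →* S) := fun i =>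
    (Pi.evalMonoidHom (fun _ : Fin m => S) (σ i)).comp
      (θ.toMonoidHom.comp (MonoidHom.mulSingle (fun _ : Fin m => S) i))
  have hφ₀ : ∀ i s, φ₀ i s = θ (Pi.mulSingle i s) (σ i) := fun i s => rfl
  have hinj : ∀ i, Function.Injective (φ₀ i) := by
    intro i
    rw [injective_iff_map_eq_one]
    intro s hs
    rw [hφ₀] at hs
    have h1 := eq_mulSingle_of_vanish (hσ i s)
    rw [hs, Pi.mulSingle_one, MulEquiv.map_eq_one_iff, Pi.mulSingle_eq_one_iff] at h1
    exact h1
  have hbij : ∀ i, Function.Bijective (φ₀ i) := fun i =>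
    ⟨hinj i, Finite.injective_iff_surjective.mp (hinj i)⟩
  have hsurj : ∀ i t, ∃ s, θ (Pi.mulSingle i s) = Pi.mulSingle (σ i) t := by
    intro i t
    obtain ⟨s, hs⟩ := (hbij i).2 t
    refine ⟨s, ?_⟩
    rw [eq_mulSingle_of_vanish (hσ i s), ← hφ₀, hs]
  have hvan : ∀ i (g : Fin m → S), g i = 1 → θ g (σ i) = 1 := by
    intro i g hg
    by_contra hne
    obtain ⟨t, ht⟩ := exists_not_commute hnab hne
    apply ht
    obtain ⟨s, hs⟩ := hsurj i t
    have hcomm : Pi.mulSingle i s * g = g * Pi.mulSingle i s := by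
      funext k
      by_cases hk : k = i
      · subst hk
        simp [hg]
      · simp [Pi.mulSingle_eq_of_ne hk]
    have := congrArg (fun z => θ z (σ i)) hcomm
    simp only [map_mul, Pi.mul_apply, hs, Pi.mulSingle_eq_same] at this
    exact this
  refine ⟨⟨σ, τ, hτσ, hστ⟩, fun i => MulEquiv.ofBijective (φ₀ i) (hbij i), ?_⟩
  intro f i
  have hf : f = Pi.mulSingle i (f i) * ((Pi.mulSingle i (f i))⁻¹ * f) := by group
  have hg : ((Pi.mulSingle i (f i) : Fin m → S)⁻¹ * f) i = 1 := by simp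
  have h3 := hvan i _ hg
  change θ f (σ i) = φ₀ i (f i)
  rw [hφ₀]
  conv_lhs => rw [hf, map_mul, Pi.mul_apply, h3, mul_one]

/-- the permutation of factors is determined by the automorphism -/
theorem sigma_unique [Nontrivial S] (θ : (Fin m → S) ≃* (Fin m → S)) (σ : Equiv.Perm (Fin m))
    (φ : Fin m → (S ≃* S)) (h : ∀ f i, θ f (σ i) = φ i (f i)) {i j : Fin m} {s : S}
    (hne : θ (Pi.mulSingle i s) j ≠ 1) : j = σ i := by
  by_contra hj
  apply hne
  have := h (Pi.mulSingle i s) (σ.symm j)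
  rw [Equiv.apply_symm_apply] at this
  rw [this, Pi.mulSingle_eq_of_ne, map_one]
  intro h'
  apply hj
  rw [← h', Equiv.apply_symm_apply]

end Cfsg.Agent.Lib.Helper12.PiSimple
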