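import Cfsg.Agent.Lib.Helper12.PiSimple

/-!
# Subdirect subgroups of powers of a nonabelian simple group
-/

set_option autoImplicit false

namespace Cfsg.Agent.Lib.Helper12.PiSimple

variable {S : Type*} [Group S] {m : ℕ}

/-- `le D i j`: elements of `D` trivial at `i` are trivial at `j` -/
def le (D : Subgroup (Fin m → S)) (i j : Fin m) : Prop := ∀ f ∈ D, f i = 1 → f j = 1

theorem le_refl (D : Subgroup (Fin m → S)) (i : Fin m) : le D i i := fun _ _ h => h

theorem le_trans (D : Subgroup (Fin m → S)) {i j k : Fin m} (h1 : le D i j) (h2 : le D j k) :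
    le D i k := fun f hf h => h2 f hf (h1 f hf h)

/-- image under evaluation of a subgroup normalised by a subdirect subgroup is normal -/
theorem map_eval_normal (D D' : Subgroup (Fin m → S))
    (hnorm : ∀ d ∈ D, ∀ f ∈ D', d * f * d⁻¹ ∈ D') (i : Fin m) (hsub : ∀ s, ∃ d ∈ D, d i = s) :
    (D'.map (Pi.evalMonoidHom (fun _ : Fin m => S) i)).Normal := by
  refine ⟨?_⟩
  rintro _ ⟨f, hf, rfl⟩ t
  obtain ⟨d, hd, rfl⟩ := hsub t
  exact ⟨d * f * d⁻¹, hnorm d hd f hf, by simp⟩

theorem le_symm [IsSimpleGroup S] (D : Subgroup (Fin m → S))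
    (hsub : ∀ i s, ∃ d ∈ D, d i = s) {i j : Fin m} (h : le D i j) : le D j i := by
  let D' : Subgroup (Fin m → S) := D ⊓ (Pi.evalMonoidHom (fun _ : Fin m => S) j).ker
  have hA : (D'.map (Pi.evalMonoidHom (fun _ : Fin m => S) i)).Normal := by
    apply map_eval_normal D D' _ i (hsub i)
    intro d hd f hf
    obtain ⟨hf1, hf2⟩ := Subgroup.mem_inf.mp hf
    refine Subgroup.mem_inf.mpr ⟨D.mul_mem (D.mul_mem hd hf1) (D.inv_mem hd), ?_⟩
    rw [MonoidHom.mem_ker] at hf2 ⊢
    simp only [Pi.evalMonoidHom_apply] at hf2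
    simp [hf2]
  rcases hA.eq_bot_or_eq_top with h0 | h1
  · intro f hf hfj
    have : f i ∈ D'.map (Pi.evalMonoidHom (fun _ : Fin m => S) i) :=
      ⟨f, Subgroup.mem_inf.mpr ⟨hf, by rw [MonoidHom.mem_ker]; exact hfj⟩, rfl⟩
    rw [h0, Subgroup.mem_bot] at this
    exact this
  · exfalso
    obtain ⟨t, ht⟩ := exists_ne (1 : S)
    obtain ⟨f', hf', hf'j⟩ := hsub j t
    have : f' i ∈ D'.map (Pi.evalMonoidHom (fun _ : Fin m => S) i) := by rw [h1]; trivial
    obtain ⟨f, hfD', hfi⟩ := this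
    obtain ⟨hf, hfj⟩ := Subgroup.mem_inf.mp hfD'
    rw [MonoidHom.mem_ker] at hfj
    simp only [Pi.evalMonoidHom_apply] at hfj hfi
    have h2 := h (f' * f⁻¹) (D.mul_mem hf' (D.inv_mem hf)) (by simp [hfi])
    simp only [Pi.mul_apply, Pi.inv_apply, hfj, inv_one, mul_one] at h2
    exact ht (hf'j ▸ h2)

/-- the "killing lemma": elements of a subdirect subgroup with prescribed `i`-th coordinate
that are trivial on coordinates not linked to `i`. -/
theorem kill [IsSimpleGroup S] (hnab : ¬ IsMulCommutative S) (D : Subgroup (Fin m → S))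
    (hsub : ∀ i s, ∃ d ∈ D, d i = s) (i : Fin m) (J : Finset (Fin m))
    (hJ : ∀ j ∈ J, ∃ g ∈ D, g j = 1 ∧ g i ≠ 1) :
    ∀ s, ∃ f ∈ D, f i = s ∧ ∀ j ∈ J, f j = 1 := by
  classical
  induction J using Finset.induction_on with
  | empty =>
    intro s
    obtain ⟨d, hd, hds⟩ := hsub i s
    exact ⟨d, hd, hds, by simp⟩
  | insert j0 J hj0 ih =>
    have ih' := ih (fun j hj => hJ j (Finset.mem_insert_of_mem hj))
    obtain ⟨g, hg, hgj, hgi⟩ := hJ j0 (Finset.mem_insert_self _ _)
    let D' : Subgroup (Fin m → S) :=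
      D ⊓ Subgroup.pi (↑(insert j0 J) : Set (Fin m)) (fun _ => (⊥ : Subgroup S))
    have hA : (D'.map (Pi.evalMonoidHom (fun _ : Fin m => S) i)).Normal := by
      apply map_eval_normal D D' _ i (hsub i)
      intro d hd f hf
      obtain ⟨hf1, hf2⟩ := Subgroup.mem_inf.mp hf
      refine Subgroup.mem_inf.mpr ⟨D.mul_mem (D.mul_mem hd hf1) (D.inv_mem hd), ?_⟩
      rw [Subgroup.mem_pi] at hf2 ⊢
      intro j hj
      have := hf2 j hj
      rw [Subgroup.mem_bot] at this ⊢
      simp [this]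
    obtain ⟨t, ht⟩ := exists_not_commute hnab hgi
    obtain ⟨f, hf, hfi, hfJ⟩ := ih' t
    have hc : f * g * f⁻¹ * g⁻¹ ∈ D' := by
      refine Subgroup.mem_inf.mpr
        ⟨D.mul_mem (D.mul_mem (D.mul_mem hf hg) (D.inv_mem hf)) (D.inv_mem hg), ?_⟩
      rw [Subgroup.mem_pi]
      intro j hj
      rw [Subgroup.mem_bot]
      rw [Finset.coe_insert, Set.mem_insert_iff] at hj
      rcases hj with hj | hj
      · rw [hj]
        simp [hgj]
      · simp [hfJ j hj]
    have hci : (f * g * f⁻¹ * g⁻¹) i ≠ 1 := by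
      simp only [Pi.mul_apply, Pi.inv_apply, hfi]
      intro h
      apply ht
      have := congrArg (fun z => z * g i * t) h
      simpa [mul_assoc] using this
    rcases hA.eq_bot_or_eq_top with h0 | h1
    · exfalso
      have : (f * g * f⁻¹ * g⁻¹) i ∈ D'.map (Pi.evalMonoidHom (fun _ : Fin m => S) i) :=
        ⟨_, hc, rfl⟩
      rw [h0, Subgroup.mem_bot] at this
      exact hci this
    · intro s
      have : s ∈ D'.map (Pi.evalMonoidHom (fun _ : Fin m => S) i) := by rw [h1]; trivial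
      obtain ⟨f, hfD', rfl⟩ := this
      obtain ⟨hf, hf2⟩ := Subgroup.mem_inf.mp hfD'
      rw [Subgroup.mem_pi] at hf2
      refine ⟨f, hf, rfl, fun j hj => ?_⟩
      have := hf2 j (by exact_mod_cast hj)
      rwa [Subgroup.mem_bot] at this

/-- linked coordinates of a subdirect subgroup are related by an automorphism of `S`. -/
theorem exists_iso [IsSimpleGroup S] (D : Subgroup (Fin m → S))
    (hsub : ∀ i s, ∃ d ∈ D, d i = s) {i j : Fin m} (h : le D i j) :
    ∃ ψ : S ≃* S, ∀ f ∈ D, f j = ψ (f i) := by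
  let πi : D →* S := (Pi.evalMonoidHom (fun _ : Fin m => S) i).comp D.subtype
  let πj : D →* S := (Pi.evalMonoidHom (fun _ : Fin m => S) j).comp D.subtype
  have hπi : ∀ d : D, πi d = d.1 i := fun d => rfl
  have hπj : ∀ d : D, πj d = d.1 j := fun d => rfl
  have hsi : Function.Surjective πi := by
    intro s
    obtain ⟨d, hd, hds⟩ := hsub i s
    exact ⟨⟨d, hd⟩, hds⟩
  have hsj : Function.Surjective πj := by
    intro s
    obtain ⟨d, hd, hds⟩ := hsub j s
    exact ⟨⟨d, hd⟩, hds⟩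
  have hker : πi.ker ≤ πj.ker := by
    intro d hd
    rw [MonoidHom.mem_ker] at hd ⊢
    exact h d.1 d.2 hd
  let ψ₀ : S →* S := πi.liftOfSurjective hsi ⟨πj, hker⟩
  have hψ₀ : ∀ d : D, ψ₀ (πi d) = πj d := fun d =>
    MonoidHom.liftOfRightInverse_comp_apply _ _ _ ⟨πj, hker⟩ d
  have hinj : Function.Injective ψ₀ := by
    rw [injective_iff_map_eq_one]
    intro s hs
    obtain ⟨d, rfl⟩ := hsi s
    rw [hψ₀] at hs
    exact le_symm D hsub h d.1 d.2 hs
  have hsurj : Function.Surjective ψ₀ := by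
    intro t
    obtain ⟨d, rfl⟩ := hsj t
    exact ⟨πi d, hψ₀ d⟩
  refine ⟨MulEquiv.ofBijective ψ₀ ⟨hinj, hsurj⟩, fun f hf => ?_⟩
  exact (hψ₀ ⟨f, hf⟩).symm

/-- a subdirect subgroup contains everything satisfying its linking constraints -/
theorem mem_of_constraints [IsSimpleGroup S] (hnab : ¬ IsMulCommutative S)
    (D : Subgroup (Fin m → S)) (hsub : ∀ i s, ∃ d ∈ D, d i = s) (c : Fin m → Fin m)
    (hc1 : ∀ i, le D (c i) i) (hc2 : ∀ i j, le D i j → c i = c j) (ψ : Fin m → (S ≃* S))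
    (hψ : ∀ f ∈ D, ∀ i, f i = ψ i (f (c i))) :
    ∀ f : Fin m → S, (∀ i, f i = ψ i (f (c i))) → f ∈ D := by
  classical
  have key : ∀ n, ∀ f : Fin m → S, (∀ i, f i = ψ i (f (c i))) →
      (Finset.univ.filter (fun j => f j ≠ 1)).card = n → f ∈ D := by
    intro n
    induction n using Nat.strong_induction_on with
    | _ n ih =>
      intro f hf hn
      by_cases h1 : f = 1
      · rw [h1]; exact D.one_mem
      obtain ⟨i, hi⟩ := Function.ne_iff.mp h1
      have hi0 : f (c i) ≠ 1 := by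
        intro h
        apply hi
        rw [hf i, h, map_one, Pi.one_apply]
      have hcc : c (c i) = c i := hc2 _ _ (hc1 i)
      obtain ⟨d, hd, hdi, hdJ⟩ := kill hnab D hsub (c i)
        (Finset.univ.filter (fun j => ¬ le D (c i) j)) (by
          intro j hj
          rw [Finset.mem_filter] at hj
          have hj2 : ¬ le D j (c i) := fun h => hj.2 (le_symm D hsub h)
          unfold le at hj2
          simp only [not_forall] at hj2
          obtain ⟨g, hg, hgj, hgi⟩ := hj2
          exact ⟨g, hg, hgj, hgi⟩) (f (c i))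
      have hfd : ∀ j, le D (c i) j → (f * d⁻¹) j = 1 := by
        intro j hj
        have hcj : c j = c i := (hc2 _ _ hj).symm.trans hcc
        rw [Pi.mul_apply, Pi.inv_apply, hf j, hψ d hd j, hcj, hdi, mul_inv_cancel]
      have hfd' : ∀ j, ¬ le D (c i) j → (f * d⁻¹) j = f j := by
        intro j hj
        rw [Pi.mul_apply, Pi.inv_apply, hdJ j (by simp [hj]), inv_one, mul_one]
      have hlt : (Finset.univ.filter (fun j => (f * d⁻¹) j ≠ 1)).card < n := by
        rw [← hn]
        apply Finset.card_lt_card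
        rw [Finset.ssubset_iff_of_subset]
        · refine ⟨c i, by simpa using hi0, ?_⟩
          rw [Finset.mem_filter, not_and, not_not]
          intro _
          exact hfd (c i) (le_refl D _)
        · intro j hj
          rw [Finset.mem_filter] at hj ⊢
          refine ⟨hj.1, ?_⟩
          by_cases hle : le D (c i) j
          · exact absurd (hfd j hle) hj.2
          · rw [← hfd' j hle]; exact hj.2
      have hcons : ∀ j, (f * d⁻¹) j = ψ j ((f * d⁻¹) (c j)) := by
        intro j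
        rw [Pi.mul_apply, Pi.inv_apply, Pi.mul_apply, Pi.inv_apply, map_mul, map_inv, ← hf j,
          ← hψ d hd j]
      have hmem := ih _ hlt (f * d⁻¹) hcons rfl
      have : f = (f * d⁻¹) * d := by group
      rw [this]
      exact D.mul_mem hmem hd
  exact fun f hf => key _ f hf rfl

theorem le_equivariant (D : Subgroup (Fin m → S)) (θ : (Fin m → S) ≃* (Fin m → S))
    (σ : Equiv.Perm (Fin m)) (φ : Fin m → (S ≃* S)) (h : ∀ f i, θ f (σ i) = φ i (f i))
    (hD : ∀ f, f ∈ D → θ f ∈ D) (hD' : ∀ f, f ∈ D → θ.symm f ∈ D) (i j : Fin m) :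
    le D (σ i) (σ j) ↔ le D i j := by
  constructor
  · intro hle f hf hfi
    have h1 := hle (θ f) (hD f hf) (by rw [h, hfi, map_one])
    rw [h] at h1
    exact (MulEquiv.map_eq_one_iff (φ j)).mp h1
  · intro hle f hf hfi
    have hf' := hD' f hf
    have h1 : f = θ (θ.symm f) := (MulEquiv.apply_symm_apply θ f).symm
    rw [h1, h] at hfi
    have h2 := hle _ hf' ((MulEquiv.map_eq_one_iff (φ i)).mp hfi)
    rw [h1, h, h2, map_one]

theorem sub_equivariant (D : Subgroup (Fin m → S)) (θ : (Fin m → S) ≃* (Fin m → S))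
    (σ : Equiv.Perm (Fin m)) (φ : Fin m → (S ≃* S)) (h : ∀ f i, θ f (σ i) = φ i (f i))
    (hD : ∀ f, f ∈ D → θ f ∈ D) (i : Fin m) (hi : ∀ s, ∃ d ∈ D, d i = s) :
    ∀ s, ∃ d ∈ D, d (σ i) = s := by
  intro s
  obtain ⟨d, hd, hds⟩ := hi ((φ i).symm s)
  refine ⟨θ d, hD d hd, ?_⟩
  rw [h, hds, MulEquiv.apply_symm_apply]

end Cfsg.Agent.Lib.Helper12.PiSimple
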