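import Cfsg.Agent.Lib.Helper12.PiSimple2

/-!
# Invariant maximal subgroups of powers of a nonabelian simple group (O'Nan–Scott core)
-/

set_option autoImplicit false

namespace Cfsg.Agent.Lib.Helper12.PiSimple

variable {S : Type*} [Group S] {m : ℕ}

/-- If the only invariant subgroups are trivial, then (a subgroup supplementing the inner
automorphisms of) the acting group is transitive on the factors. -/
theorem trans_of_minimal [IsSimpleGroup S] [Finite S] (hnab : ¬ IsMulCommutative S)
    {Γ : Type*} [Group Γ] (ρ : Γ →* MulAut (Fin m → S)) (Δ : Subgroup Γ)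
    (hmin : ∀ Q : Subgroup (Fin m → S), (∀ g f, f ∈ Q → ρ g f ∈ Q) → Q = ⊥ ∨ Q = ⊤)
    (hinner : ∀ g : Γ, ∃ k ∈ Δ, ∃ x : Fin m → S, ∀ f, ρ g f = x * ρ k f * x⁻¹) :
    ∀ i j, ∃ k ∈ Δ, ∃ s, ρ k (Pi.mulSingle i s) j ≠ 1 := by
  classical
  intro i
  obtain ⟨s₀, hs₀⟩ := exists_ne (1 : S)
  let O : Set (Fin m) := {j | ∃ g : Γ, ∃ s, ρ g (Pi.mulSingle i s) j ≠ 1}
  let Q : Subgroup (Fin m → S) := Subgroup.pi Oᶜ (fun _ => (⊥ : Subgroup S))
  have hQ : ∀ f, f ∈ Q ↔ ∀ j, j ∉ O → f j = 1 := by
    intro f
    rw [Subgroup.mem_pi]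
    constructor
    · intro h j hj
      have := h j hj
      rwa [Subgroup.mem_bot] at this
    · intro h j hj
      rw [Subgroup.mem_bot]
      exact h j hj
  have hQinv : ∀ g f, f ∈ Q → ρ g f ∈ Q := by
    intro g f hf
    rw [hQ] at hf ⊢
    intro j hj
    obtain ⟨σ, φ, hσφ⟩ := aut_structure hnab (ρ g)
    have h1 := hσφ f (σ.symm j)
    rw [Equiv.apply_symm_apply] at h1
    rw [h1]
    by_cases hfi : f (σ.symm j) = 1
    · rw [hfi, map_one]
    · exfalso
      have hO : σ.symm j ∈ O := by
        by_contra hO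
        exact hfi (hf _ hO)
      obtain ⟨g', s, hg'⟩ := hO
      apply hj
      refine ⟨g * g', s, ?_⟩
      rw [map_mul, MulAut.mul_apply]
      obtain ⟨σ', φ', hσφ'⟩ := aut_structure hnab (ρ g')
      have h2 := sigma_unique _ σ' φ' hσφ' hg'
      have h3 := hσφ ((ρ g') (Pi.mulSingle i s)) (σ.symm j)
      rw [Equiv.apply_symm_apply] at h3
      rw [h3]
      intro h4
      exact hg' ((MulEquiv.map_eq_one_iff _).mp h4)
  have hiO : i ∈ O := ⟨1, s₀, by simpa using hs₀⟩
  have hQtop : Q = ⊤ := by
    rcases hmin Q hQinv with h0 | h1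
    · exfalso
      have : Pi.mulSingle i s₀ ∈ Q := by
        rw [hQ]
        intro j hj
        rw [Pi.mulSingle_eq_of_ne]
        rintro rfl
        exact hj hiO
      rw [h0, Subgroup.mem_bot, Pi.mulSingle_eq_one_iff] at this
      exact hs₀ this
    · exact h1
  intro j
  have hjO : j ∈ O := by
    by_contra hj
    have : Pi.mulSingle j s₀ ∈ Q := by rw [hQtop]; trivial
    rw [hQ] at this
    have := this j hj
    rw [Pi.mulSingle_eq_same] at this
    exact hs₀ this
  obtain ⟨g, s, hg⟩ := hjO
  obtain ⟨k, hk, x, hx⟩ := hinner g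
  refine ⟨k, hk, s, ?_⟩
  intro h
  apply hg
  rw [hx, Pi.mul_apply, Pi.mul_apply, h, Pi.inv_apply, mul_one, mul_inv_cancel]

/-- The abstract O'Nan–Scott dichotomy: an invariant, maximal-invariant proper subgroup `D` of
`S^m` (under a group acting transitively on the factors) is a product of proper subgroups, or
(up to a coordinatewise automorphism) a product of diagonals over blocks of equal size. -/
theorem abstract_main [IsSimpleGroup S] [Finite S] (hnab : ¬ IsMulCommutative S) (hm : 0 < m)
    {Γ : Type*} [Group Γ] (ρ : Γ →* MulAut (Fin m → S)) (D : Subgroup (Fin m → S))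
    (hinv : ∀ g f, f ∈ D → ρ g f ∈ D)
    (hmax : ∀ Q : Subgroup (Fin m → S), (∀ g f, f ∈ Q → ρ g f ∈ Q) → D ≤ Q → Q = D ∨ Q = ⊤)
    (hne : D ≠ ⊤)
    (htrans : ∀ i j, ∃ g s, ρ g (Pi.mulSingle i s) j ≠ 1) :
    ∃ e' : (Fin m → S) ≃* (Fin m → S),
      (∃ K : Fin m → Subgroup S, (∀ i, K i ≠ ⊤) ∧ ∀ f, f ∈ D ↔ ∀ i, e' f i ∈ K i) ∨
      (∃ (k : ℕ) (c : Fin m → Fin m), 2 ≤ k ∧
        (∀ j, Nat.card {i // c i = j} = k ∨ Nat.card {i // c i = j} = 0) ∧
        ∀ f, f ∈ D ↔ ∀ i j, c i = c j → e' f i = e' f j) := by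
  classical
  choose σ φ hσφ using fun g => aut_structure hnab (ρ g)
  have htr : ∀ i j, ∃ g, σ g i = j := by
    intro i j
    obtain ⟨g, s, h⟩ := htrans i j
    exact ⟨g, (sigma_unique _ _ _ (hσφ g) h).symm⟩
  have hinv' : ∀ g f, f ∈ D → (ρ g).symm f ∈ D := by
    intro g f hf
    have := hinv g⁻¹ f hf
    rwa [map_inv] at this
  let i₀ : Fin m := ⟨0, hm⟩
  by_cases hsub : ∀ i s, ∃ d ∈ D, d i = s
  · -- diagonal case
    let st : Setoid (Fin m) := ⟨le D, le_refl D, fun h => le_symm D hsub h, fun h1 h2 => le_trans D h1 h2⟩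
    let c : Fin m → Fin m := fun i => (Quotient.mk st i).out
    have hc1 : ∀ i, le D (c i) i := fun i => Quotient.mk_out (s := st) i
    have hc2 : ∀ i j, le D i j → c i = c j := by
      intro i j h
      have : Quotient.mk st i = Quotient.mk st j := Quotient.sound h
      change (Quotient.mk st i).out = (Quotient.mk st j).out
      rw [this]
    have hcc : ∀ i, c (c i) = c i := fun i => hc2 _ _ (hc1 i)
    choose ψ hψ' using fun i => exists_iso D hsub (hc1 i)
    have hψ : ∀ f ∈ D, ∀ i, f i = ψ i (f (c i)) := fun f hf i => hψ' i f hf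
    have hQ := mem_of_constraints hnab D hsub c hc1 hc2 ψ hψ
    have hψc : ∀ i s, ψ (c i) s = s := by
      intro i s
      obtain ⟨d, hd, hds⟩ := hsub (c i) s
      have := hψ d hd (c i)
      rw [hcc, hds] at this
      exact this.symm
    have hcls : ∀ g j, (Finset.univ.filter (fun i => le D (σ g j) i)).card =
        (Finset.univ.filter (fun i => le D j i)).card := by
      intro g j
      symm
      apply Finset.card_equiv (σ g)
      intro i
      rw [Finset.mem_filter, Finset.mem_filter,
        le_equivariant D (ρ g) (σ g) (φ g) (hσφ g) (hinv g) (hinv' g)]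
      simp
    let k : ℕ := (Finset.univ.filter (fun i => le D i₀ i)).card
    have hk : ∀ j, (Finset.univ.filter (fun i => le D j i)).card = k := by
      intro j
      obtain ⟨g, hg⟩ := htr i₀ j
      rw [← hg, hcls]
    have hfib : ∀ j, c j = j → Nat.card {i // c i = j} = k := by
      intro j hj
      rw [← hk j, Nat.card_eq_fintype_card, Fintype.card_subtype]
      congr 1
      ext i
      rw [Finset.mem_filter, Finset.mem_filter]
      refine ⟨fun h => ⟨h.1, ?_⟩, fun h => ⟨h.1, ?_⟩⟩
      · rw [← h.2]; exact hc1 i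
      · rw [← hc2 _ _ h.2, hj]
    have hk2 : 2 ≤ k := by
      by_contra hlt
      have hk1 : k ≤ 1 := by omega
      have hsing : ∀ j i, le D j i → i = j := by
        intro j i hji
        have h1 := hk j
        rw [← h1] at hk1
        exact Finset.card_le_one.mp hk1 i (by simpa using hji) j (by simpa using le_refl D j)
      have hcid : ∀ i, c i = i := fun i => (hsing _ _ (hc1 i)).symm
      apply hne
      rw [eq_top_iff]
      intro f _
      apply hQ
      intro i
      have h := hψc i (f i)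
      rw [hcid i] at h
      rw [hcid i]
      exact h.symm
    refine ⟨MulEquiv.piCongrRight (fun i => (ψ i).symm), Or.inr ⟨k, c, hk2, ?_, ?_⟩⟩
    · intro j
      by_cases hj : ∃ i, c i = j
      · obtain ⟨i₁, hi₁⟩ := hj
        left
        apply hfib
        rw [← hi₁, hcc]
      · right
        have : IsEmpty {i // c i = j} := ⟨fun ⟨i, hi⟩ => hj ⟨i, hi⟩⟩
        exact Nat.card_of_isEmpty
    · intro f
      have he : ∀ i, MulEquiv.piCongrRight (fun i => (ψ i).symm) f i = (ψ i).symm (f i) :=
        fun i => rfl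
      constructor
      · intro hf i j hij
        rw [he, he, hψ f hf i, hψ f hf j, MulEquiv.symm_apply_apply, MulEquiv.symm_apply_apply, hij]
      · intro h
        apply hQ
        intro i
        have h1 := h i (c i) (hcc i).symm
        rw [he, he] at h1
        have h2 : (ψ (c i)).symm (f (c i)) = f (c i) := by
          rw [MulEquiv.symm_apply_eq, hψc]
        rw [h2, MulEquiv.symm_apply_eq] at h1
        exact h1
  · -- product case
    have hall : ∀ i, ¬ ∀ s, ∃ d ∈ D, d i = s := by
      intro i hi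
      apply hsub
      intro j
      obtain ⟨g, hg⟩ := htr i j
      rw [← hg]
      exact sub_equivariant D (ρ g) (σ g) (φ g) (hσφ g) (hinv g) i hi
    let R : Fin m → Subgroup S := fun i => D.map (Pi.evalMonoidHom (fun _ : Fin m => S) i)
    have hR : ∀ i s, s ∈ R i ↔ ∃ d ∈ D, d i = s := by
      intro i s
      exact Subgroup.mem_map
    have hRtop : ∀ i, R i ≠ ⊤ := by
      intro i hi
      apply hall i
      intro s
      rw [← hR, hi]
      trivial
    let Q : Subgroup (Fin m → S) := Subgroup.pi Set.univ R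
    have hQ : ∀ f, f ∈ Q ↔ ∀ i, f i ∈ R i := by
      intro f
      rw [Subgroup.mem_pi]
      simp
    have hQinv : ∀ g f, f ∈ Q → ρ g f ∈ Q := by
      intro g f hf
      rw [hQ] at hf ⊢
      intro j
      have h1 := hσφ g f ((σ g).symm j)
      rw [Equiv.apply_symm_apply] at h1
      rw [h1]
      obtain ⟨d, hd, hds⟩ := (hR _ _).mp (hf ((σ g).symm j))
      rw [hR]
      refine ⟨ρ g d, hinv g d hd, ?_⟩
      have h2 := hσφ g d ((σ g).symm j)
      rw [Equiv.apply_symm_apply] at h2
      rw [h2, hds]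
    have hDQ : D ≤ Q := by
      intro f hf
      rw [hQ]
      intro i
      rw [hR]
      exact ⟨f, hf, rfl⟩
    have hQD : Q = D := by
      rcases hmax Q hQinv hDQ with h | h
      · exact h
      · exfalso
        apply hRtop i₀
        rw [eq_top_iff]
        intro s _
        have : (fun _ => s) ∈ Q := by rw [h]; trivial
        rw [hQ] at this
        exact this i₀
    refine ⟨MulEquiv.refl _, Or.inl ⟨R, hRtop, ?_⟩⟩
    intro f
    rw [← hQD, hQ]
    rfl

end Cfsg.Agent.Lib.Helper12.PiSimple
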