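import Mathlib
import Cfsg.Agent.Lib.Helper22.CgDefs

/-!
# Ps hive (S4321): class sizes of p-singular elements, prime graph of diameter at most 3.
Definitions.  `cs`, `rstab` are those of the Cg hive (`Helper22.CgDefs`).
-/

set_option autoImplicit false

namespace Cfsg.Agent.Lib.Helper12.Ps

open Subgroup Cfsg.Agent.Lib.Helper22.Cg

universe u

/-- `a`, `b` form a bad pair: no prime of `cs a` equals or is joined (through a `p`-singular class)
to a prime of `cs b`. -/
def Bad {G : Type u} [Group G] (p : ℕ) (a b : G) : Prop :=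
  ∀ t u : ℕ, t.Prime → u.Prime → t ∣ cs a → u ∣ cs b →
    t ≠ u ∧ ∀ z : G, p ∣ orderOf z → ¬ t * u ∣ cs z

end Cfsg.Agent.Lib.Helper12.Ps
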