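import Mathlib
import Cfsg.Agent.Lib.Helper41.PsDefs
import Cfsg.Agent.Lib.Helper64.PsPS21
import Cfsg.Agent.Lib.Helper11.PsPS8
import Cfsg.Agent.Lib.Helper95.PsPS9
import Cfsg.Agent.Lib.Helper88.PsPS15
import Cfsg.Agent.Lib.Helper49.CgCG8c

/-!
# Ps hive (S4321, helper41): ALTERNATIVE FINISH of the crux (helper12).
From `hstar`, (C) `G = P C(x)` and (D) `P` normal directly to `False`, by covering `P` with its
centre and the `P`-conjugates of `C_P(Q)`, `Q` a Sylow `q`-subgroup, `q ∣ cs b` (relative CG4).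
Skips PS20, PS22, PS23, PS24, PS25.
-/

set_option autoImplicit false

namespace Cfsg.Agent.Lib.Helper41.Ps

open Subgroup
open Cfsg.Agent.Lib.Helper22.Cg

universe u

/-- alternative finish of the crux. -/
theorem ps12_finish {G : Type u} [Group G] [Finite G] (p : ℕ) [Fact p.Prime] (P : Sylow p G)
    (b α : G) (hb : b ∈ P) (hbZ : ∀ y ∈ P, b * y = y * b) (hα : α ∈ P) (hpα : p ∣ cs α)
    (hb1 : 1 < cs b)
    (hstar : ∀ x : G, p ∣ orderOf x → p ∣ cs x → (cs x).Coprime (cs b))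
    (hC : ∀ x ∈ P, (cs x).Coprime (cs b) →
      ∀ g : G, ∃ y ∈ P, ∃ c : G, c * x = x * c ∧ g = y * c)
    (hN : ∀ g : G, ∀ y ∈ P, g * y * g⁻¹ ∈ P) : False := by
  -- a prime `q` dividing `cs b`
  obtain ⟨q, hq, hqb⟩ := Nat.exists_prime_and_dvd (show cs b ≠ 1 by omega)
  have : Fact q.Prime := ⟨hq⟩
  obtain ⟨Q⟩ : Nonempty (Sylow q G) := inferInstance
  -- `F = C_P(Q)`, `Z = Z(P)` as subgroups of `G`
  let F : Subgroup G := (P : Subgroup G) ⊓ centralizer ((Q : Subgroup G) : Set G)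
  let Z : Subgroup G := (P : Subgroup G) ⊓ centralizer ((P : Subgroup G) : Set G)
  have hcenP : ∀ g : G, g ∈ centralizer ((P : Subgroup G) : Set G) ↔ ∀ y ∈ P, g * y = y * g := by
    intro g
    rw [Subgroup.mem_centralizer_iff]
    constructor
    · intro h y hy; exact (h y hy).symm
    · intro h y hy; exact (h y hy).symm
  have hcenQ : ∀ g : G, g ∈ centralizer ((Q : Subgroup G) : Set G) ↔ ∀ x ∈ Q, g * x = x * g := by
    intro g
    rw [Subgroup.mem_centralizer_iff]
    constructor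
    · intro h y hy; exact (h y hy).symm
    · intro h y hy; exact (h y hy).symm
  -- every noncentral element of `P` is `P`-conjugate into `F`
  have hconj : ∀ g ∈ P, (¬ ∀ y ∈ P, g * y = y * g) → ∃ y ∈ P, y * g * y⁻¹ ∈ F := by
    intro g hg hnc
    have hpg : p ∣ cs g := ps_cF p P hN g hg hnc
    have hg1 : g ≠ 1 := by
      rintro rfl
      exact hnc (fun y _ => by simp)
    have hord : p ∣ orderOf g := (ps_sylow_elt p P g hg).2 hg1
    have hcop := hstar g hord hpg
    have hqg : ¬ q ∣ cs g := by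
      intro hqg
      exact hq.one_lt.ne' (Nat.eq_one_of_dvd_coprimes hcop hqg hqb)
    obtain ⟨Q', hQ'⟩ := cg8c q g hqg
    obtain ⟨k, hk⟩ := MulAction.exists_smul_eq G Q Q'
    -- `k⁻¹ = y * c`
    obtain ⟨y, hy, c, hcg, hkyc⟩ := hC g hg hcop k⁻¹
    refine ⟨y, hy, ?_⟩
    have hyg : y * g * y⁻¹ = k⁻¹ * g * k := by
      have hk' : k = c⁻¹ * y⁻¹ := by
        rw [← inv_inv k, hkyc, mul_inv_rev]
      rw [hkyc, hk']
      have : y * c * g * (c⁻¹ * y⁻¹) = y * (c * g * c⁻¹) * y⁻¹ := by group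
      rw [this, hcg, mul_inv_cancel_right]
    refine Subgroup.mem_inf.mpr ⟨hN y g hg, ?_⟩
    rw [hcenQ]
    intro x hx
    -- `k * x * k⁻¹ ∈ Q'` commutes with `g`
    have hx' : k * x * k⁻¹ ∈ Q' := by
      rw [← hk]
      have h0 : k * x * k⁻¹ ∈ ((k • Q : Sylow q G) : Subgroup G) := by
        rw [Sylow.smul_def, Sylow.pointwise_smul_def,
          Subgroup.mem_pointwise_smul_iff_inv_smul_mem]
        have : (MulAut.conj k)⁻¹ • (k * x * k⁻¹) = x := by
          simp [MulAut.smul_def, mul_assoc]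
        rw [this]
        exact hx
      exact h0
    have h1 := hQ' _ hx'
    rw [hyg]
    have : k⁻¹ * g * k * x = k⁻¹ * (g * (k * x * k⁻¹)) * k := by group
    rw [this, h1]
    group
  -- relative CG4: `P ≤ F ⊔ Z`
  have hFP : F ≤ (P : Subgroup G) := inf_le_left
  have hZP : Z ≤ (P : Subgroup G) := inf_le_left
  have hcov : (P : Subgroup G) ≤ F ⊔ Z := by
    apply ps_cg4rel (P : Subgroup G) (F ⊔ Z) (sup_le hFP hZP)
    intro g hg
    by_cases hcen : ∀ y ∈ P, g * y = y * g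
    · refine ⟨1, (P : Subgroup G).one_mem, ?_⟩
      have : g ∈ Z := Subgroup.mem_inf.mpr ⟨hg, (hcenP g).mpr hcen⟩
      simpa using (le_sup_right : Z ≤ F ⊔ Z) this
    · obtain ⟨y, hy, hyF⟩ := hconj g hg hcen
      exact ⟨y, hy, (le_sup_left : F ≤ F ⊔ Z) hyF⟩
  -- `F ⊔ Z` normalizes `F`
  have hnorm : F ⊔ Z ≤ Subgroup.normalizer (F : Set G) := by
    refine sup_le ?_ ?_
    · rw [Subgroup.le_normalizer_iff]
      intro h hh k hk
      exact F.mul_mem (F.mul_mem hh hk) (F.inv_mem hh)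
    · rw [Subgroup.le_normalizer_iff]
      intro z hz k hk
      obtain ⟨_, hzc⟩ := Subgroup.mem_inf.mp hz
      rw [hcenP] at hzc
      have : z * k * z⁻¹ = k := by rw [hzc k (hFP hk), mul_inv_cancel_right]
      rw [this]; exact hk
  have hnorm' := Subgroup.le_normalizer_iff.mp hnorm
  -- every noncentral element of `P` lies in `F`
  have hinF : ∀ g ∈ P, (¬ ∀ y ∈ P, g * y = y * g) → g ∈ F := by
    intro g hg hnc
    obtain ⟨y, hy, hyF⟩ := hconj g hg hnc
    have := hnorm' y⁻¹ ((F ⊔ Z).inv_mem (hcov hy)) _ hyF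
    have h2 : y⁻¹ * (y * g * y⁻¹) * y⁻¹⁻¹ = g := by group
    rw [h2] at this
    exact this
  -- `α` and `α * b` are noncentral
  have hαnc : ¬ ∀ y ∈ P, α * y = y * α := fun h => ps_sylow_cent p P α h hpα
  have hαbnc : ¬ ∀ y ∈ P, (α * b) * y = y * (α * b) := by
    intro h
    apply hαnc
    intro y hy
    have h1 := h y hy
    have h2 := hbZ y hy
    have : α * y = (α * b * y) * b⁻¹ := by
      rw [mul_assoc α b y, h2]; group
    rw [this, h1]; group
  have hαF := hinF α hα hαnc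
  have hαbF := hinF (α * b) ((P : Subgroup G).mul_mem hα hb) hαbnc
  have hbF : b ∈ F := by
    have := F.mul_mem (F.inv_mem hαF) hαbF
    simpa using this
  have hbQ := (hcenQ b).mp (Subgroup.mem_inf.mp hbF).2
  exact ps_sylow_cent q Q b hbQ hqb

end Cfsg.Agent.Lib.Helper41.Ps
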