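import Mathlib

set_option autoImplicit false

namespace Cfsg.Agent.Lib.Helper12.Rank3

/-- in a primitive group, if a point stabilizer fixes a second point then it acts trivially -/
theorem stab_trivial_of_fix {G : Type*} [Group G] {Ω : Type*} [MulAction G Ω]
    (hprim : MulAction.IsPreprimitive G Ω) (a c : Ω) (hca : c ≠ a)
    (hfix : ∀ h : G, h • a = a → h • c = c) : ∀ h : G, h • a = a → ∀ x : Ω, h • x = x := by
  have hpt : MulAction.IsPretransitive G Ω := hprim.toIsPretransitive
  have hnt : Nontrivial Ω := ⟨⟨c, a, hca⟩⟩
  have hco : IsCoatom (MulAction.stabilizer G a) :=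
    MulAction.IsPreprimitive.isCoatom_stabilizer_of_isPreprimitive (G := G) (X := Ω) a
  have hle : MulAction.stabilizer G a ≤ MulAction.stabilizer G c := fun h hh => hfix h hh
  have hctop : MulAction.stabilizer G c ≠ ⊤ := by
    intro htop
    obtain ⟨g, hg⟩ := MulAction.exists_smul_eq G c a
    have h1 : g ∈ MulAction.stabilizer G c := htop ▸ Subgroup.mem_top g
    rw [MulAction.mem_stabilizer_iff] at h1
    exact hca (h1.symm.trans hg)
  have heq : MulAction.stabilizer G a = MulAction.stabilizer G c := by
    by_contra hne
    exact hctop (hco.2 _ (lt_of_le_of_ne hle hne))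
  obtain ⟨g, hg⟩ := MulAction.exists_smul_eq G a c
  have hconj : (MulAction.stabilizer G a).map (MulAut.conj g).toMonoidHom =
      MulAction.stabilizer G a := by
    rw [← MulAction.stabilizer_smul_eq_stabilizer_map_conj, hg, ← heq]
  have hgN : g ∈ Subgroup.normalizer ((MulAction.stabilizer G a : Subgroup G) : Set G) := by
    rw [Subgroup.mem_normalizer_iff]
    intro k
    constructor
    · intro hk
      rw [← hconj]
      exact ⟨k, hk, rfl⟩
    · intro hk
      rw [← hconj] at hk
      obtain ⟨k', hk', hkk⟩ := hk
      have : k' = k := by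
        simpa using hkk
      rwa [← this]
  have hgK : g ∉ MulAction.stabilizer G a := by
    intro hgK
    rw [MulAction.mem_stabilizer_iff] at hgK
    exact hca (hg.symm.trans hgK)
  have hNtop : Subgroup.normalizer ((MulAction.stabilizer G a : Subgroup G) : Set G) = ⊤ := by
    apply hco.2
    exact lt_of_le_of_ne Subgroup.le_normalizer (fun hc => hgK (hc ▸ hgN))
  have hnorm : (MulAction.stabilizer G a).Normal := Subgroup.normalizer_eq_top_iff.1 hNtop
  intro h hh x
  obtain ⟨k, rfl⟩ := MulAction.exists_smul_eq G a x
  have h1 : k⁻¹ * h * k ∈ MulAction.stabilizer G a := by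
    have := hnorm.conj_mem h hh k⁻¹
    simpa using this
  rw [MulAction.mem_stabilizer_iff, mul_smul, mul_smul, inv_smul_eq_iff] at h1
  exact h1

/-- if the stabilizer has two orbits, `{a}` and the orbit of `b`, the rank is at most 2 -/
theorem card_quot_le_two {H : Type*} [Group H] {Ω : Type*} [MulAction H Ω] [Finite Ω] (a b : Ω)
    (h : ∀ c : Ω, c = a ∨ c ∈ MulAction.orbit H b) :
    Nat.card (MulAction.orbitRel.Quotient H Ω) ≤ 2 := by
  let f : Bool → MulAction.orbitRel.Quotient H Ω := fun i =>
    if i then (Quotient.mk'' a : MulAction.orbitRel.Quotient H Ω) else Quotient.mk'' b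
  have hf : Function.Surjective f := by
    intro q
    induction q using Quotient.inductionOn' with
    | h c =>
      rcases h c with rfl | hc
      · exact ⟨true, rfl⟩
      · refine ⟨false, ?_⟩
        show Quotient.mk'' b = Quotient.mk'' c
        apply Quotient.sound'
        exact (MulAction.orbitRel_apply).2 ((MulAction.orbitRel H Ω).symm hc)
  have := Nat.card_le_card_of_surjective f hf
  simpa using this

/-- if `H` acts trivially the number of orbits is the degree -/
theorem card_quot_of_trivial {H : Type*} [Group H] {Ω : Type*} [MulAction H Ω]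
    (h : ∀ (k : H) (x : Ω), k • x = x) :
    Nat.card (MulAction.orbitRel.Quotient H Ω) = Nat.card Ω := by
  symm
  apply Nat.card_eq_of_bijective (Quotient.mk'' : Ω → MulAction.orbitRel.Quotient H Ω)
  constructor
  · intro x y hxy
    have h1 := Quotient.exact' hxy
    have h2 : x ∈ MulAction.orbit H y := (MulAction.orbitRel_apply).1 h1
    obtain ⟨k, hk⟩ := h2
    rw [← hk]
    exact h k y
  · exact Quotient.mk''_surjective

end Cfsg.Agent.Lib.Helper12.Rank3
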