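import Cfsg.Agent.Lib.Helper36.SL2Hom

/-! # Elementary facts on `SL₂(K)` and groups used for the involution centraliser of the small
Ree groups (helper12) -/

set_option autoImplicit false

namespace Cfsg.Agent.Lib.Helper12.ReeInv

open Cfsg.Agent.Lib.Helper36 Matrix

section general

/-- internal direct product of two commuting subgroups -/
theorem nonempty_mulEquiv_prod {G : Type*} [Group G] (A L T : Subgroup G) (hA : A ≤ T) (hL : L ≤ T)
    (hcomm : ∀ x ∈ A, ∀ y ∈ L, x * y = y * x) (hdisj : ∀ x ∈ A, x ∈ L → x = 1)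
    (hgen : ∀ t ∈ T, ∃ x ∈ A, ∃ y ∈ L, t = x * y) : Nonempty (↥T ≃* ↥A × ↥L) := by
  let fA : ↥A →* ↥T := Subgroup.inclusion hA
  let fL : ↥L →* ↥T := Subgroup.inclusion hL
  have hc : ∀ (x : ↥A) (y : ↥L), Commute (fA x) (fL y) := fun x y => Subtype.ext (hcomm x x.2 y y.2)
  let F : ↥A × ↥L →* ↥T := MonoidHom.noncommCoprod fA fL hc
  have hF : ∀ p : ↥A × ↥L, ((F p : ↥T) : G) = (p.1 : G) * (p.2 : G) := fun p => rfl
  have hinj : Function.Injective F := by
    rw [injective_iff_map_eq_one]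
    rintro ⟨x, y⟩ h
    have h1 : (x : G) * (y : G) = 1 := by
      have := congrArg Subtype.val h
      rw [hF] at this
      exact this
    have h2 : (x : G) = (y : G)⁻¹ := eq_inv_of_mul_eq_one_left h1
    have hx : (x : G) = 1 := hdisj x x.2 (by rw [h2]; exact inv_mem y.2)
    have hy : (y : G) = 1 := by rw [hx, one_mul] at h1; exact h1
    exact Prod.ext (Subtype.ext hx) (Subtype.ext hy)
  have hsurj : Function.Surjective F := by
    rintro ⟨t, ht⟩
    obtain ⟨x, hx, y, hy, rfl⟩ := hgen t ht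
    exact ⟨(⟨x, hx⟩, ⟨y, hy⟩), Subtype.ext rfl⟩
  exact ⟨(MulEquiv.ofBijective F ⟨hinj, hsurj⟩).symm⟩

/-- the 2-part of the order of the Ree group is 8 -/
theorem ree_two_part (m n : ℕ)
    (h : 2 ^ n ∣ (3 ^ (2 * m + 1)) ^ 3 * (3 ^ (2 * m + 1) - 1) * ((3 ^ (2 * m + 1)) ^ 3 + 1)) : n ≤ 3 := by
  have h8 : 3 ^ (2 * m + 1) % 8 = 3 := by
    rw [pow_succ, pow_mul, Nat.mul_mod, Nat.pow_mod]
    norm_num
  obtain ⟨j, hj⟩ : ∃ j, 3 ^ (2 * m + 1) = 8 * j + 3 := ⟨3 ^ (2 * m + 1) / 8, by omega⟩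
  rw [hj] at h
  have e1 : 8 * j + 3 - 1 = 8 * j + 2 := by omega
  have e : (8 * j + 3) ^ 3 * (8 * j + 3 - 1) * ((8 * j + 3) ^ 3 + 1) =
      8 * ((8 * j + 3) ^ 3 * (4 * j + 1) * ((2 * j + 1) * (64 * j ^ 2 + 40 * j + 7))) := by
    rw [e1]; ring
  rw [e] at h
  have hodd : Odd ((8 * j + 3) ^ 3 * (4 * j + 1) * ((2 * j + 1) * (64 * j ^ 2 + 40 * j + 7))) := by
    have o1 : Odd (8 * j + 3) := ⟨4 * j + 1, by ring⟩
    have o2 : Odd (4 * j + 1) := ⟨2 * j, by ring⟩
    have o3 : Odd (2 * j + 1) := ⟨j, rfl⟩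
    have o4 : Odd (64 * j ^ 2 + 40 * j + 7) := ⟨32 * j ^ 2 + 20 * j + 3, by ring⟩
    exact ((o1.pow).mul o2).mul (o3.mul o4)
  by_contra hn
  have hn4 : 4 ≤ n := by omega
  have h16 : 2 ^ 4 ∣ 2 ^ n := pow_dvd_pow 2 hn4
  have h2 := dvd_trans h16 h
  have h3 : 8 * 2 ∣ 8 * ((8 * j + 3) ^ 3 * (4 * j + 1) * ((2 * j + 1) * (64 * j ^ 2 + 40 * j + 7))) := by
    norm_num at h2 ⊢
    exact h2
  have h4 := (Nat.mul_dvd_mul_iff_left (by norm_num : 0 < 8)).1 h3
  rw [Nat.odd_iff] at hodd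
  omega

end general

section sl2
variable {K : Type*} [Field K]

theorem hom_sD {G : Type*} [Group G] (S : SL2Data K G) (s : K) (hs : s ≠ 0) :
    S.hom (SL2Data.sD s hs) = S.h s := by
  show S.phi _ = _
  have h10 : (SL2Data.sD s hs).1 1 0 = 0 := by simp [SL2Data.sD]
  have h00 : (SL2Data.sD s hs).1 0 0 = s := by simp [SL2Data.sD]
  have h01 : (SL2Data.sD s hs).1 0 1 = 0 := by simp [SL2Data.sD]
  rw [S.phi_of_eq_zero _ h10, h00, h01, mul_zero, S.x_zero, one_mul]

theorem hom_sW {G : Type*} [Group G] (S : SL2Data K G) : S.hom SL2Data.sW = S.n 1 := S.phi_sW_aux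

variable (f : K →+* K)

theorem map_sU (t : K) : SpecialLinearGroup.map f (SL2Data.sU t) = SL2Data.sU (f t) := by
  apply Subtype.ext
  rw [SpecialLinearGroup.map_apply_coe]
  ext i j
  fin_cases i <;> fin_cases j <;> simp [SL2Data.sU]

theorem map_sV (t : K) : SpecialLinearGroup.map f (SL2Data.sV t) = SL2Data.sV (f t) := by
  apply Subtype.ext
  rw [SpecialLinearGroup.map_apply_coe]
  ext i j
  fin_cases i <;> fin_cases j <;> simp [SL2Data.sV]

theorem map_sD (t : K) (ht : t ≠ 0) (hft : f t ≠ 0) :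
    SpecialLinearGroup.map f (SL2Data.sD t ht) = SL2Data.sD (f t) hft := by
  apply Subtype.ext
  rw [SpecialLinearGroup.map_apply_coe]
  ext i j
  fin_cases i <;> fin_cases j <;> simp [SL2Data.sD, map_inv₀]

theorem map_sW : SpecialLinearGroup.map f (SL2Data.sW : SpecialLinearGroup (Fin 2) K) = SL2Data.sW := by
  apply Subtype.ext
  rw [SpecialLinearGroup.map_apply_coe]
  ext i j
  fin_cases i <;> fin_cases j <;> simp [SL2Data.sW]

theorem sU_zero : (SL2Data.sU (0 : K)) = 1 := by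
  apply Subtype.ext
  ext i j
  fin_cases i <;> fin_cases j <;> simp [SL2Data.sU]

theorem sD_mem_center (c : K) (hc : c ≠ 0) (h : c * c = 1) :
    SL2Data.sD c hc ∈ Subgroup.center (SpecialLinearGroup (Fin 2) K) := by
  have hinv : c⁻¹ = c := inv_eq_of_mul_eq_one_right h
  rw [Matrix.SpecialLinearGroup.mem_center_iff]
  refine ⟨c, by rw [Fintype.card_fin, sq]; exact h, ?_⟩
  ext i j
  fin_cases i <;> fin_cases j <;> simp [SL2Data.sD, hinv]

theorem eq_sD_of_mem_center (x : SpecialLinearGroup (Fin 2) K)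
    (hx : x ∈ Subgroup.center (SpecialLinearGroup (Fin 2) K)) :
    ∃ (c : K) (hc : c ≠ 0), c * c = 1 ∧ x = SL2Data.sD c hc := by
  obtain ⟨r, hr, hxr⟩ := Matrix.SpecialLinearGroup.mem_center_iff.1 hx
  rw [Fintype.card_fin, sq] at hr
  have hr0 : r ≠ 0 := by
    intro h0
    rw [h0, mul_zero] at hr
    exact zero_ne_one hr
  have hinv : r⁻¹ = r := inv_eq_of_mul_eq_one_right hr
  refine ⟨r, hr0, hr, ?_⟩
  apply Subtype.ext
  rw [← hxr]
  ext i j
  fin_cases i <;> fin_cases j <;> simp [SL2Data.sD, hinv]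

/-- the central element `-1` of `SL₂(K)` -/
noncomputable def negI (K : Type*) [Field K] : SpecialLinearGroup (Fin 2) K :=
  SL2Data.sD (-1 : K) (neg_ne_zero.2 one_ne_zero)

theorem negI_mem_center : negI K ∈ Subgroup.center (SpecialLinearGroup (Fin 2) K) :=
  sD_mem_center _ _ (by ring)

theorem sW_mul_sW : (SL2Data.sW : SpecialLinearGroup (Fin 2) K) * SL2Data.sW = negI K := by
  apply Subtype.ext
  show (!![0, 1; -1, 0] : Matrix (Fin 2) (Fin 2) K) * !![0, 1; -1, 0] = !![-1, 0; 0, (-1)⁻¹]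
  rw [Matrix.mul_fin_two]
  simp [inv_neg]

theorem not_mem_center_of (x : SpecialLinearGroup (Fin 2) K) (h : x.1 0 1 ≠ 0) :
    x ∉ Subgroup.center (SpecialLinearGroup (Fin 2) K) := by
  intro hx
  obtain ⟨c, hc, -, rfl⟩ := eq_sD_of_mem_center x hx
  apply h
  simp [SL2Data.sD]

theorem sW_not_mem_center : (SL2Data.sW : SpecialLinearGroup (Fin 2) K) ∉
    Subgroup.center (SpecialLinearGroup (Fin 2) K) :=
  not_mem_center_of _ (by simp [SL2Data.sW])

end sl2

section char3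
variable {K : Type*} [Field K] [CharP K 3]

theorem ree_three_eq_zero : (3 : K) = 0 := by
  have := CharP.cast_eq_zero K 3
  exact_mod_cast this

theorem ree_two_ne_zero : (2 : K) ≠ 0 := by
  intro h
  have h3 : (3 : K) = 0 := ree_three_eq_zero
  have : (1 : K) = 0 := by linear_combination h3 - h
  exact one_ne_zero this

theorem eq_zero_of_neg_eq (t : K) (h : -t = t) : t = 0 := by
  have h2 : (2 : K) * t = 0 := by linear_combination -h
  rcases mul_eq_zero.1 h2 with h | h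
  · exact absurd h ree_two_ne_zero
  · exact h

omit [CharP K 3] in
theorem unit_sq_eq_one (c : Kˣ) (h : c ^ 2 = 1) : c = 1 ∨ c = -1 := by
  have h3 : ((c : Kˣ) : K) * ((c : Kˣ) : K) = 1 := by
    rw [← Units.val_mul, ← sq, h, Units.val_one]
  rcases mul_self_eq_one_iff.1 h3 with h | h
  · left; exact Units.ext h
  · right; exact Units.ext (by rw [h, Units.val_neg, Units.val_one])

/-- the element `[[1, 1], [1, -1]]` of `SL₂(K)` (characteristic 3) -/
noncomputable def zEl (K : Type*) [Field K] [CharP K 3] : SpecialLinearGroup (Fin 2) K :=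
  ⟨!![1, 1; 1, -1], by
    rw [Matrix.det_fin_two_of]
    linear_combination (-1 : K) * (ree_three_eq_zero : (3 : K) = 0)⟩

theorem zEl_mul_zEl : zEl K * zEl K = negI K := by
  have h3 : (3 : K) = 0 := ree_three_eq_zero
  have h2 : (1 : K) + 1 = -1 := by linear_combination h3
  apply Subtype.ext
  show (!![1, 1; 1, -1] : Matrix (Fin 2) (Fin 2) K) * !![1, 1; 1, -1] = !![-1, 0; 0, (-1)⁻¹]
  rw [Matrix.mul_fin_two]
  simp [inv_neg, h2]

theorem sW_mul_zEl : (SL2Data.sW : SpecialLinearGroup (Fin 2) K) * zEl K = negI K * (zEl K * SL2Data.sW) := by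
  apply Subtype.ext
  show (!![0, 1; -1, 0] : Matrix (Fin 2) (Fin 2) K) * !![1, 1; 1, -1] =
    !![-1, 0; 0, (-1)⁻¹] * (!![1, 1; 1, -1] * !![0, 1; -1, 0])
  rw [Matrix.mul_fin_two, Matrix.mul_fin_two, Matrix.mul_fin_two]
  simp [inv_neg]

theorem zEl_not_mem_center : zEl K ∉ Subgroup.center (SpecialLinearGroup (Fin 2) K) :=
  not_mem_center_of _ (by simp [zEl])

theorem sW_zEl_not_mem_center : (SL2Data.sW : SpecialLinearGroup (Fin 2) K) * zEl K ∉
    Subgroup.center (SpecialLinearGroup (Fin 2) K) :=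
  not_mem_center_of _ (by
    show ((!![0, 1; -1, 0] * !![1, 1; 1, -1] : Matrix (Fin 2) (Fin 2) K)) 0 1 ≠ 0
    rw [Matrix.mul_fin_two]
    simp)

end char3

end Cfsg.Agent.Lib.Helper12.ReeInv
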