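import Cfsg.Agent.Lib.Helper36.ReeCore
import Cfsg.Agent.Lib.Helper36.ChevRank1
import Cfsg.Agent.Lib.Helper12.ReeInvSL2

/-! # The small Ree groups: the twisted diagonal `SL₂(K) → ²G₂(K)` along the orthogonal roots
`a+b` (index 8) and `3a+b` (index 10) (helper12) -/

set_option autoImplicit false

namespace Cfsg.Agent.Lib.Helper12.ReeInv

open Cfsg Cfsg.Lie Cfsg.Agent.Lib.Helper18 Cfsg.Agent.Lib.Helper36 Matrix

section gen
variable (K : Type*) [Field K]

/-- rank one data of the root `a+b` (index 8) -/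
noncomputable def s8 : SL2Data K (GL chevG2.Idx K) := rank1Data chevG2 hG2 K 8 (by decide)

/-- rank one data of the root `3a+b` (index 10) -/
noncomputable def s10 : SL2Data K (GL chevG2.Idx K) := rank1Data chevG2 hG2 K 10 (by decide)

theorem s8_x (t : K) : (s8 K).x t = xGL chevG2 hG2 K 8 t := rfl
theorem s8_y (t : K) : (s8 K).y t = xGL chevG2 hG2 K 3 t := rfl
theorem s10_x (t : K) : (s10 K).x t = xGL chevG2 hG2 K 10 t := rfl
theorem s10_y (t : K) : (s10 K).y t = xGL chevG2 hG2 K 1 t := rfl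

theorem s8_n (t : K) : (s8 K).n t = nGL chevG2 hG2 K 8 t := (nGL_eq chevG2 hG2 K 8 t).symm
theorem s10_n (t : K) : (s10 K).n t = nGL chevG2 hG2 K 10 t := (nGL_eq chevG2 hG2 K 10 t).symm

theorem s8_h (t : K) : (s8 K).h t = hGL chevG2 hG2 K 8 t := by
  unfold SL2Data.h
  rw [s8_n, s8_n, ← hGL_eq]

theorem s10_h (t : K) : (s10 K).h t = hGL chevG2 hG2 K 10 t := by
  unfold SL2Data.h
  rw [s10_n, s10_n, ← hGL_eq]

variable [CharP K 3]

theorem comm_gen (z : GL chevG2.Idx K) (hz : z ∈ ((s10 K).hom).range) (a : K) :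
    Commute (xGL chevG2 hG2 K 8 a) z ∧ Commute (xGL chevG2 hG2 K 3 a) z := by
  rw [SL2Data.hom_range] at hz
  have h1 : Subgroup.closure (Set.range (s10 K).x ∪ Set.range (s10 K).y) ≤
      Subgroup.centralizer {xGL chevG2 hG2 K 8 a, xGL chevG2 hG2 K 3 a} := by
    rw [Subgroup.closure_le]
    rintro _ (⟨t, rfl⟩ | ⟨t, rfl⟩)
    · intro w hw
      rcases hw with rfl | rfl
      · exact comm_orth 8 (by simp) 10 (by simp) a t
      · exact comm_orth 3 (by simp) 10 (by simp) a t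
    · intro w hw
      rcases hw with rfl | rfl
      · exact comm_orth 8 (by simp) 1 (by simp) a t
      · exact comm_orth 3 (by simp) 1 (by simp) a t
  have h2 := h1 hz
  rw [Subgroup.mem_centralizer_iff] at h2
  exact ⟨h2 _ (by simp), h2 _ (by simp)⟩

theorem comm_hom (g g' : SpecialLinearGroup (Fin 2) K) : Commute ((s8 K).hom g) ((s10 K).hom g') := by
  have hz : (s10 K).hom g' ∈ (s10 K).hom.range := ⟨g', rfl⟩
  have h1 : (s8 K).hom.range ≤ Subgroup.centralizer {(s10 K).hom g'} := by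
    rw [SL2Data.hom_range, Subgroup.closure_le]
    rintro _ (⟨t, rfl⟩ | ⟨t, rfl⟩)
    · intro w hw
      rw [Set.mem_singleton_iff] at hw
      subst hw
      exact ((comm_gen K _ hz t).1).eq.symm
    · intro w hw
      rw [Set.mem_singleton_iff] at hw
      subst hw
      exact ((comm_gen K _ hz t).2).eq.symm
  have h2 := h1 ⟨g, rfl⟩
  rw [Subgroup.mem_centralizer_iff] at h2
  exact (h2 _ rfl).symm

variable (f : K →+* K)

/-- the twisted diagonal homomorphism `g ↦ φ₈(f g) φ₁₀(g)` -/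
noncomputable def twPhi : SpecialLinearGroup (Fin 2) K →* GL chevG2.Idx K :=
  (MonoidHom.noncommCoprod (((s8 K).hom).comp (SpecialLinearGroup.map f)) (s10 K).hom
    (fun _ _ => comm_hom K _ _)).comp (MonoidHom.prod (MonoidHom.id _) (MonoidHom.id _))

theorem twPhi_apply (g : SpecialLinearGroup (Fin 2) K) :
    twPhi K f g = (s8 K).hom (SpecialLinearGroup.map f g) * (s10 K).hom g := rfl

theorem twPhi_sU (t : K) :
    twPhi K f (SL2Data.sU t) = xGL chevG2 hG2 K 8 (f t) * xGL chevG2 hG2 K 10 t := by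
  rw [twPhi_apply, map_sU, SL2Data.hom_sU, SL2Data.hom_sU]
  rfl

theorem twPhi_sV (t : K) :
    twPhi K f (SL2Data.sV t) = xGL chevG2 hG2 K 3 (f t) * xGL chevG2 hG2 K 1 t := by
  rw [twPhi_apply, map_sV, SL2Data.hom_sV, SL2Data.hom_sV]
  rfl

theorem twPhi_sD (t : K) (ht : t ≠ 0) :
    twPhi K f (SL2Data.sD t ht) = hGL chevG2 hG2 K 8 (f t) * hGL chevG2 hG2 K 10 t := by
  have hft : f t ≠ 0 := (map_ne_zero f).2 ht
  rw [twPhi_apply, map_sD f t ht hft, hom_sD, hom_sD, s8_h, s10_h]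

theorem twPhi_sW :
    twPhi K f SL2Data.sW = nGL chevG2 hG2 K 8 1 * nGL chevG2 hG2 K 10 1 := by
  rw [twPhi_apply, map_sW, hom_sW, hom_sW, s8_n, s10_n]

end gen

end Cfsg.Agent.Lib.Helper12.ReeInv
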