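import Cfsg.Agent.Lib.Helper12.ReeInvSL2

/-! # Abstract form of the involution centraliser `⟨a⟩ × φ(SL₂(K))` and of the elementary abelian
Sylow 2-subgroups of order 8 (helper12) -/

set_option autoImplicit false

namespace Cfsg.Agent.Lib.Helper12.ReeInv

open Cfsg.Agent.Lib.Helper36 Matrix
open scoped Pointwise

section abs
variable {K : Type*} [Field K] {G : Type*} [Group G]

/-- if `C(a) = ⟨a⟩ × φ(SL₂(K))` with `ker φ` the centre, then `C(a) ≅ Z₂ × PSL₂(K)` -/
theorem centralizer_iso_abs (a : G) (φ : SpecialLinearGroup (Fin 2) K →* G)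
    (ha2 : a * a = 1) (ha1 : a ≠ 1)
    (hker : φ.ker = Subgroup.center (SpecialLinearGroup (Fin 2) K))
    (hcomm' : ∀ x, a * φ x = φ x * a) (hne : ∀ x, a ≠ φ x)
    (hcent : ∀ g : G, a * g = g * a → ∃ x, g = φ x ∨ g = a * φ x) :
    Nonempty (↥(Subgroup.centralizer {a}) ≃*
      Multiplicative (ZMod 2) × Matrix.ProjectiveSpecialLinearGroup (Fin 2) K) := by
  have : Fact (Nat.Prime 2) := ⟨Nat.prime_two⟩
  let A : Subgroup G := Subgroup.zpowers a
  let L : Subgroup G := φ.range
  let T : Subgroup G := Subgroup.centralizer {a}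
  have hA : A ≤ T := by
    rw [Subgroup.zpowers_le, Subgroup.mem_centralizer_iff]
    intro h hh
    rw [Set.mem_singleton_iff.1 hh]
  have hL : L ≤ T := by
    rintro _ ⟨x, rfl⟩
    rw [Subgroup.mem_centralizer_iff]
    intro h hh
    rw [Set.mem_singleton_iff.1 hh]
    exact hcomm' x
  have hAmem : ∀ x ∈ A, x = 1 ∨ x = a := by
    intro x hx
    obtain ⟨k, rfl⟩ := Subgroup.mem_zpowers_iff.1 hx
    rcases Int.even_or_odd k with ⟨j, rfl⟩ | ⟨j, rfl⟩
    · left
      rw [← two_mul, _root_.zpow_mul, zpow_two, ha2, _root_.one_zpow]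
    · right
      rw [_root_.zpow_add, zpow_one, _root_.zpow_mul, zpow_two, ha2, _root_.one_zpow, one_mul]
  have hcomm : ∀ x ∈ A, ∀ y ∈ L, x * y = y * x := by
    intro x hx y hy
    rcases hAmem x hx with rfl | rfl
    · rw [one_mul, mul_one]
    · have := hL hy
      rw [Subgroup.mem_centralizer_iff] at this
      exact this x rfl
  have hdisj : ∀ x ∈ A, x ∈ L → x = 1 := by
    intro x hx hxL
    rcases hAmem x hx with rfl | rfl
    · rfl
    · obtain ⟨z, hz⟩ := hxL
      exact absurd hz.symm (hne z)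
  have hgen : ∀ t ∈ T, ∃ x ∈ A, ∃ y ∈ L, t = x * y := by
    intro t ht
    rw [Subgroup.mem_centralizer_iff] at ht
    obtain ⟨z, hz | hz⟩ := hcent t (ht a rfl)
    · exact ⟨1, one_mem _, φ z, ⟨z, rfl⟩, by rw [one_mul]; exact hz⟩
    · exact ⟨a, Subgroup.mem_zpowers a, φ z, ⟨z, rfl⟩, hz⟩
  obtain ⟨e1⟩ := nonempty_mulEquiv_prod A L T hA hL hcomm hdisj hgen
  have hcardA : Nat.card A = 2 := by
    rw [Nat.card_zpowers]
    exact orderOf_eq_prime (by rw [sq]; exact ha2) ha1
  have hcardZ : Nat.card (Multiplicative (ZMod 2)) = 2 := by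
    rw [Nat.card_eq_fintype_card, Fintype.card_multiplicative, ZMod.card]
  let e2 : ↥A ≃* Multiplicative (ZMod 2) := mulEquivOfPrimeCardEq hcardA hcardZ
  let e3 : SpecialLinearGroup (Fin 2) K ⧸ φ.ker ≃* ↥L :=
    QuotientGroup.quotientKerEquivRange φ
  let e4 : SpecialLinearGroup (Fin 2) K ⧸ φ.ker ≃* Matrix.ProjectiveSpecialLinearGroup (Fin 2) K :=
    QuotientGroup.quotientMulEquivOfEq hker
  exact ⟨e1.trans (MulEquiv.prodCongr e2 (e3.symm.trans e4))⟩

variable [CharP K 3] [Finite G]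

/-- the subgroup generated by `a`, `φ(sW)`, `φ(zEl)` is elementary abelian of order 8 -/
theorem closure_E8_abs (a : G) (φ : SpecialLinearGroup (Fin 2) K →* G)
    (ha2 : a * a = 1) (ha1 : a ≠ 1)
    (hker : ∀ x, φ x = 1 ↔ x ∈ Subgroup.center (SpecialLinearGroup (Fin 2) K))
    (hcomm' : ∀ x, a * φ x = φ x * a) (hne : ∀ x, a ≠ φ x)
    (hcard : ∀ n : ℕ, 2 ^ n ∣ Nat.card G → n ≤ 3) :
    Nat.card (Subgroup.closure ({a, φ SL2Data.sW, φ (zEl K)} : Set G)) = 8 ∧
      ∀ x ∈ Subgroup.closure ({a, φ SL2Data.sW, φ (zEl K)} : Set G), x * x = 1 := by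
  classical
  have : Fact (Nat.Prime 2) := ⟨Nat.prime_two⟩
  set e2 := φ SL2Data.sW with he2
  set e3 := φ (zEl K) with he3
  have hneg : φ (negI K) = 1 := (hker _).2 negI_mem_center
  have h22 : e2 * e2 = 1 := by rw [he2, ← map_mul, sW_mul_sW, hneg]
  have h33 : e3 * e3 = 1 := by rw [he3, ← map_mul, zEl_mul_zEl, hneg]
  have h23 : e2 * e3 = e3 * e2 := by
    rw [he2, he3, ← map_mul, sW_mul_zEl, map_mul, hneg, one_mul, map_mul]
  have ha2c : a * e2 = e2 * a := hcomm' _
  have ha3c : a * e3 = e3 * a := hcomm' _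
  have h2ne : e2 ≠ 1 := fun h => sW_not_mem_center ((hker _).1 h)
  have h3ne : e3 ≠ 1 := fun h => zEl_not_mem_center ((hker _).1 h)
  have h23ne : e2 * e3 ≠ 1 := by
    intro h
    rw [he2, he3, ← map_mul] at h
    exact sW_zEl_not_mem_center ((hker _).1 h)
  have hane2 : a ≠ e2 := hne _
  have hane3 : a ≠ e3 := hne _
  have hane23 : a ≠ e2 * e3 := by
    rw [he2, he3, ← map_mul]
    exact hne _
  have h2ne3 : e2 ≠ e3 := by
    intro h
    apply h23ne
    rw [h, h33]
  have h2ne23 : e2 ≠ e2 * e3 := by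
    intro h
    apply h3ne
    have : e2 * 1 = e2 * e3 := by rw [mul_one]; exact h
    exact (mul_left_cancel this).symm
  have h3ne23 : e3 ≠ e2 * e3 := by
    intro h
    apply h2ne
    have : 1 * e3 = e2 * e3 := by rw [one_mul]; exact h
    exact (mul_right_cancel this).symm
  let gens : Set G := {a, e2, e3}
  have hgc : ∀ x ∈ gens, ∀ y ∈ gens, x * y = y * x := by
    intro x hx y hy
    simp only [gens, Set.mem_insert_iff, Set.mem_singleton_iff] at hx hy
    rcases hx with rfl | rfl | rfl <;> rcases hy with rfl | rfl | rfl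
    · rfl
    · exact ha2c
    · exact ha3c
    · exact ha2c.symm
    · rfl
    · exact h23
    · exact ha3c.symm
    · exact h23.symm
    · rfl
  let E : Subgroup G := Subgroup.closure gens
  have hEc : ∀ x ∈ E, ∀ y ∈ E, x * y = y * x := by
    intro x hx y hy
    have hcm : IsMulCommutative ↥(Subgroup.closure gens) := Subgroup.isMulCommutative_closure hgc
    have := hcm.is_comm.comm ⟨x, hx⟩ ⟨y, hy⟩
    exact congrArg Subtype.val this
  have hexp : ∀ x ∈ E, x * x = 1 := by
    intro x hx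
    induction hx using Subgroup.closure_induction with
    | mem x hx =>
      simp only [gens, Set.mem_insert_iff, Set.mem_singleton_iff] at hx
      rcases hx with rfl | rfl | rfl
      · exact ha2
      · exact h22
      · exact h33
    | one => exact one_mul 1
    | mul x y hx hy hxx hyy =>
      have hc := hEc x hx y hy
      calc x * y * (x * y) = x * (y * x) * y := by group
        _ = x * (x * y) * y := by rw [hc]
        _ = (x * x) * (y * y) := by group
        _ = 1 := by rw [hxx, hyy, one_mul]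
    | inv x hx hxx =>
      have : x⁻¹ = x := inv_eq_of_mul_eq_one_left hxx
      rw [this, hxx]
  refine ⟨?_, hexp⟩
  show Nat.card ↥E = 8
  -- the order of E
  have hpE : IsPGroup 2 ↥E := by
    intro g
    refine ⟨1, ?_⟩
    apply Subtype.ext
    rw [pow_one, sq]
    exact hexp g g.2
  obtain ⟨n, hn⟩ := (IsPGroup.iff_card).1 hpE
  have hdvd : Nat.card ↥E ∣ Nat.card G := Subgroup.card_subgroup_dvd_card E
  rw [hn] at hdvd
  have hn3 : n ≤ 3 := hcard n hdvd
  -- five distinct elements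
  let S : Finset G := {1, a, e2, e3, e2 * e3}
  have hScard : S.card = 5 := by
    have m1 : (1 : G) ∉ ({a, e2, e3, e2 * e3} : Finset G) := by
      simp only [Finset.mem_insert, Finset.mem_singleton, not_or]
      exact ⟨ha1.symm, h2ne.symm, h3ne.symm, h23ne.symm⟩
    have m2 : a ∉ ({e2, e3, e2 * e3} : Finset G) := by
      simp only [Finset.mem_insert, Finset.mem_singleton, not_or]
      exact ⟨hane2, hane3, hane23⟩
    have m3 : e2 ∉ ({e3, e2 * e3} : Finset G) := by
      simp only [Finset.mem_insert, Finset.mem_singleton, not_or]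
      exact ⟨h2ne3, h2ne23⟩
    have m4 : e3 ∉ ({e2 * e3} : Finset G) := by
      simp only [Finset.mem_singleton]
      exact h3ne23
    show (insert (1 : G) (insert a (insert e2 (insert e3 ({e2 * e3} : Finset G))))).card = 5
    rw [Finset.card_insert_of_notMem m1, Finset.card_insert_of_notMem m2, Finset.card_insert_of_notMem m3,
      Finset.card_insert_of_notMem m4, Finset.card_singleton]
  have hSE : (↑S : Set G) ⊆ (E : Set G) := by
    intro x hx
    have hae : a ∈ E := Subgroup.subset_closure (by simp [gens])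
    have h2e : e2 ∈ E := Subgroup.subset_closure (by simp [gens])
    have h3e : e3 ∈ E := Subgroup.subset_closure (by simp [gens])
    simp only [S, Finset.coe_insert, Finset.coe_singleton, Set.mem_insert_iff, Set.mem_singleton_iff] at hx
    rcases hx with rfl | rfl | rfl | rfl | rfl
    · exact one_mem E
    · exact hae
    · exact h2e
    · exact h3e
    · exact mul_mem h2e h3e
  have h5 : 5 ≤ Nat.card ↥E := by
    have h1 : (↑S : Set G).ncard ≤ (E : Set G).ncard :=
      Set.ncard_le_ncard hSE (Set.toFinite _)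
    rw [Set.ncard_coe_finset, hScard] at h1
    rw [← Nat.card_coe_set_eq] at h1
    exact h1
  rw [hn] at h5 ⊢
  have hn3' : 3 ≤ n := by
    by_contra hlt
    have : n ≤ 2 := by omega
    have : 2 ^ n ≤ 2 ^ 2 := Nat.pow_le_pow_right (by norm_num) this
    omega
  have : n = 3 := le_antisymm hn3 hn3'
  rw [this]
  norm_num

/-- an elementary abelian subgroup of order 8 -/
theorem exists_E8_abs (a : G) (φ : SpecialLinearGroup (Fin 2) K →* G)
    (ha2 : a * a = 1) (ha1 : a ≠ 1)
    (hker : ∀ x, φ x = 1 ↔ x ∈ Subgroup.center (SpecialLinearGroup (Fin 2) K))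
    (hcomm' : ∀ x, a * φ x = φ x * a) (hne : ∀ x, a ≠ φ x)
    (hcard : ∀ n : ℕ, 2 ^ n ∣ Nat.card G → n ≤ 3) :
    ∃ E : Subgroup G, Nat.card E = 8 ∧ ∀ x ∈ E, x * x = 1 :=
  ⟨_, closure_E8_abs a φ ha2 ha1 hker hcomm' hne hcard⟩

omit [CharP K 3] in
/-- if some subgroup of order 8 has exponent 2 and 16 does not divide the group order, the Sylow
2-subgroups are elementary abelian of order 8 -/
theorem sylow_two_abs
    (hcard : ∀ n : ℕ, 2 ^ n ∣ Nat.card G → n ≤ 3)
    (hE : ∃ E : Subgroup G, Nat.card E = 8 ∧ ∀ x ∈ E, x * x = 1) (S : Sylow 2 G) :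
    Nat.card S = 8 ∧ ∀ x ∈ S, x * x = 1 := by
  have : Fact (Nat.Prime 2) := ⟨Nat.prime_two⟩
  obtain ⟨E, hE8, hEexp⟩ := hE
  have hpE : IsPGroup 2 ↥E := IsPGroup.of_card (n := 3) (by rw [hE8]; norm_num)
  obtain ⟨Q, hEQ⟩ := hpE.exists_le_sylow
  -- the order of Q
  obtain ⟨n, hn⟩ := (IsPGroup.iff_card).1 Q.2
  have hdvd : Nat.card ↥(Q : Subgroup G) ∣ Nat.card G :=
    Subgroup.card_subgroup_dvd_card _
  rw [hn] at hdvd
  have hn3 : n ≤ 3 := hcard n hdvd
  have hle : Nat.card ↥E ≤ Nat.card ↥(Q : Subgroup G) :=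
    Subgroup.card_le_of_le hEQ
  have hQ8 : Nat.card ↥(Q : Subgroup G) = 8 := by
    rw [hn] at hle ⊢
    rw [hE8] at hle
    have : 2 ^ n ≤ 2 ^ 3 := Nat.pow_le_pow_right (by norm_num) hn3
    omega
  have hEQ' : E = (Q : Subgroup G) :=
    Subgroup.eq_of_le_of_card_ge hEQ (by rw [hE8, hQ8])
  have hcardSQ : Nat.card S = Nat.card Q := by
    rw [Sylow.card_eq_multiplicity S, Sylow.card_eq_multiplicity Q]
  refine ⟨by rw [hcardSQ]; exact hQ8, ?_⟩
  obtain ⟨g, hg⟩ := MulAction.exists_smul_eq G Q S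
  intro x hx
  have hx' : x ∈ MulAut.conj g • (Q : Subgroup G) := by
    rw [← Sylow.coe_subgroup_smul, hg]
    exact hx
  rw [Subgroup.mem_pointwise_smul_iff_inv_smul_mem, ← hEQ', MulAut.smul_def, ← map_inv, MulAut.conj_apply] at hx'
  have h1 := hEexp _ hx'
  have h2 : g⁻¹ * x * g⁻¹⁻¹ * (g⁻¹ * x * g⁻¹⁻¹) = g⁻¹ * (x * x) * g := by group
  rw [h2] at h1
  have h3 : x * x = g * (g⁻¹ * (x * x) * g) * g⁻¹ := by group
  rw [h3, h1]
  group

end abs

end Cfsg.Agent.Lib.Helper12.ReeInv
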