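import Cfsg.Agent.Lib.Helper12.ReeInvA
import Cfsg.Agent.Lib.Helper36.ReeMain

/-! # The small Ree groups: the centraliser of the involution of `H¹` (helper12) -/

set_option autoImplicit false
set_option linter.unusedSectionVars false

namespace Cfsg.Agent.Lib.Helper12.ReeInv

open Cfsg Cfsg.Lie Cfsg.Agent.Lib.Helper18 Cfsg.Agent.Lib.Helper36 Matrix

section ree
variable (K : Type*) [Field K] [CharP K 3] (m : ℕ)

/-- the field endomorphism `t ↦ t^(3^m)` -/
noncomputable def frobM : K →+* K :=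
  haveI : Fact (Nat.Prime 3) := ⟨Nat.prime_three⟩
  iterateFrobenius K 3 m

theorem frobM_apply (t : K) : frobM K m t = t ^ 3 ^ m := by
  have : Fact (Nat.Prime 3) := ⟨Nat.prime_three⟩
  exact iterateFrobenius_def 3 m t

/-- the twisted diagonal `SL₂(K) → G₂(K)` of the Ree group -/
noncomputable def rPhi : SpecialLinearGroup (Fin 2) K →* GL chevG2.Idx K := twPhi K (frobM K m)

/-- the involution of `H¹` -/
noncomputable def aEl : GL chevG2.Idx K := reeHm (3 ^ m) (-1 : Kˣ)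

variable {K} {m}

theorem reeUel_mid (t : K) :
    reeUel m ((0, t, 0) : K × K × K) = xGL chevG2 hG2 K 8 (t ^ 3 ^ m) * xGL chevG2 hG2 K 10 t := by
  have hθ : 3 ^ m ≠ 0 := by positivity
  have z1 : (0 : K) ^ 3 ^ m = 0 := zero_pow hθ
  have z2 : (0 : K) ^ (3 ^ m + 1) = 0 := zero_pow (Nat.succ_ne_zero _)
  have z3 : (0 : K) ^ (2 * 3 ^ m + 1) = 0 := zero_pow (Nat.succ_ne_zero _)
  unfold reeUel
  rw [reeWordU_eq, wordGL_uWord]
  simp only [z1, z2, z3, zero_add, add_zero, Cfsg.Agent.Lib.Helper36.xGL_zero, one_mul, mul_one]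

theorem rPhi_sU (t : K) : rPhi K m (SL2Data.sU t) = reeUel m ((0, t, 0) : K × K × K) := by
  rw [reeUel_mid]
  unfold rPhi
  rw [twPhi_sU, frobM_apply]

theorem rPhi_sV (t : K) :
    rPhi K m (SL2Data.sV (-t)) = wordGL chevG2 hG2 K (reeWordV (3 ^ m) 0 t 0) := by
  have hθ : 3 ^ m ≠ 0 := by positivity
  have z1 : (0 : K) ^ 3 ^ m = 0 := zero_pow hθ
  have z2 : (0 : K) ^ (3 ^ m + 1) = 0 := zero_pow (Nat.succ_ne_zero _)
  have z3 : (0 : K) ^ (2 * 3 ^ m + 1) = 0 := zero_pow (Nat.succ_ne_zero _)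
  rw [reeWordV_eq, wordGL_vWord]
  simp only [z1, z2, z3, zero_add, add_zero, neg_zero, Cfsg.Agent.Lib.Helper36.xGL_zero, one_mul, mul_one]
  unfold rPhi
  rw [twPhi_sV, frobM_apply, ree_neg_pow]

theorem rPhi_sW : rPhi K m SL2Data.sW = reeNN (3 ^ m) (1 : K) := by
  have hθ : 3 ^ m ≠ 0 := by positivity
  unfold rPhi
  rw [twPhi_sW, reeNN_eq _ hθ, one_pow]

end ree

section fin
variable {K : Type*} [Field K] [Fintype K] [CharP K 3] {m : ℕ}

theorem rPhi_sD (hK : Fintype.card K = 3 ^ (2 * m + 1)) (t : K) (ht : t ≠ 0) :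
    rPhi K m (SL2Data.sD t ht) = reeHm (3 ^ m) ((Units.mk0 t ht) ^ (3 * 3 ^ m + 1)) := by
  set c : Kˣ := Units.mk0 t ht with hc
  have e1 : c ^ 3 ^ m * c = (c ^ (3 * 3 ^ m + 1)) ^ 3 ^ m := by
    rw [← pow_mul]
    have e : (3 * 3 ^ m + 1) * 3 ^ m = 3 ^ (2 * m + 1) + 3 ^ m := by ring
    rw [e, pow_add, ree_units_pow_card hK, mul_comm]
  have e2 : (c ^ 3 ^ m) ^ 3 * c = c ^ (3 * 3 ^ m + 1) := by
    rw [← pow_mul, pow_succ, mul_comm (3 ^ m) 3]
  unfold rPhi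
  rw [twPhi_sD, frobM_apply]
  have h8 : hGL chevG2 hG2 K 8 (t ^ 3 ^ m) = torusHom chevG2 K (torPair (c ^ 3 ^ m) ((c ^ 3 ^ m) ^ 3)) := by
    rw [← hGL8_torus, Units.val_pow_eq_pow_val]
    rfl
  have h10 : hGL chevG2 hG2 K 10 t = torusHom chevG2 K (torPair c c) := by
    rw [← hGL10_torus]
    rfl
  rw [h8, h10, ← map_mul, torPair_mul, reeHm_apply, e1, e2]

theorem rPhi_mem (hK : Fintype.card K = 3 ^ (2 * m + 1)) (g : SpecialLinearGroup (Fin 2) K) :
    rPhi K m g ∈ twistedG2 K (3 ^ m) := by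
  by_cases hc : g.1 1 0 = 0
  · obtain ⟨ha, e⟩ := SL2Data.eq_of_eq_zero g hc
    rw [e, map_mul, rPhi_sU, rPhi_sD hK]
    exact mul_mem (reeUel_mem _) (reeHm_mem hK _)
  · have e := SL2Data.eq_of_ne_zero g hc
    rw [e, map_mul, map_mul, map_mul, rPhi_sU, rPhi_sU, rPhi_sD hK, rPhi_sW]
    exact mul_mem (mul_mem (mul_mem (reeUel_mem _) (reeHm_mem hK _)) (reeNN_mem _ _)) (reeUel_mem _)

omit [Fintype K] in
theorem aEl_eq : aEl K m = torusHom chevG2 K (torPair (-1 : Kˣ) (-1)) := by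
  unfold aEl
  rw [reeHm_apply, Odd.neg_one_pow (ree_odd m)]

omit [Fintype K] in
/-- `a` centralises the root subgroups for `±(a+b)`, `±(3a+b)` -/
theorem aEl_comm_x : ∀ r ∈ [8, 3, 10, 1], ∀ u : K,
    aEl K m * xGL chevG2 hG2 K r u = xGL chevG2 hG2 K r u * aEl K m := by
  intro r hr u
  have hr12 : r < 12 := by
    simp only [List.mem_cons, List.not_mem_nil, or_false] at hr
    rcases hr with rfl | rfl | rfl | rfl <;> decide
  have hodd : Odd (chevG2.cartan 0 r) ∧ Odd (chevG2.cartan 1 r) := by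
    simp only [List.mem_cons, List.not_mem_nil, or_false] at hr
    rcases hr with rfl | rfl | rfl | rfl <;> decide
  have h := torPair_conj (-1 : Kˣ) (-1) r hr12 u
  rw [Units.val_neg, Units.val_one, hodd.1.neg_one_zpow, hodd.2.neg_one_zpow, neg_mul_neg, one_mul, one_mul,
    ← aEl_eq (m := m)] at h
  calc aEl K m * xGL chevG2 hG2 K r u
      = aEl K m * xGL chevG2 hG2 K r u * (aEl K m)⁻¹ * aEl K m := by group
    _ = _ := by rw [h]

omit [Fintype K] in
theorem aEl_comm_rPhi (g : SpecialLinearGroup (Fin 2) K) : aEl K m * rPhi K m g = rPhi K m g * aEl K m := by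
  have h8 : (s8 K).hom.range ≤ Subgroup.centralizer {aEl K m} := by
    rw [SL2Data.hom_range, Subgroup.closure_le]
    rintro _ (⟨t, rfl⟩ | ⟨t, rfl⟩)
    · intro w hw
      rw [Set.mem_singleton_iff] at hw
      subst hw
      exact aEl_comm_x 8 (by simp) t
    · intro w hw
      rw [Set.mem_singleton_iff] at hw
      subst hw
      exact aEl_comm_x 3 (by simp) t
  have h10 : (s10 K).hom.range ≤ Subgroup.centralizer {aEl K m} := by
    rw [SL2Data.hom_range, Subgroup.closure_le]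
    rintro _ (⟨t, rfl⟩ | ⟨t, rfl⟩)
    · intro w hw
      rw [Set.mem_singleton_iff] at hw
      subst hw
      exact aEl_comm_x 10 (by simp) t
    · intro w hw
      rw [Set.mem_singleton_iff] at hw
      subst hw
      exact aEl_comm_x 1 (by simp) t
  have hmem : rPhi K m g ∈ Subgroup.centralizer {aEl K m} := by
    unfold rPhi
    rw [twPhi_apply]
    exact mul_mem (h8 ⟨_, rfl⟩) (h10 ⟨_, rfl⟩)
  rw [Subgroup.mem_centralizer_iff] at hmem
  exact hmem _ rfl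

theorem aEl_mem (hK : Fintype.card K = 3 ^ (2 * m + 1)) : aEl K m ∈ twistedG2 K (3 ^ m) := reeHm_mem hK _

omit [Fintype K] [CharP K 3] in
theorem aEl_sq : aEl K m * aEl K m = 1 := by
  unfold aEl
  rw [← map_mul, neg_mul_neg, one_mul, map_one]

omit [Fintype K] [CharP K 3] in
theorem aEl_inv : (aEl K m)⁻¹ = aEl K m := inv_eq_of_mul_eq_one_left aEl_sq

omit [Fintype K] in
theorem aEl_ne_one : aEl K m ≠ 1 := by
  unfold aEl
  intro h
  rw [← map_one (reeHm (K := K) (3 ^ m))] at h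
  have h2 := reeHm_injective _ h
  have h3 : ((-1 : Kˣ) : K) = ((1 : Kˣ) : K) := by rw [h2]
  rw [Units.val_neg, Units.val_one] at h3
  have : (2 : K) = 0 := by linear_combination -h3
  exact ree_two_ne_zero this

omit [Fintype K] [CharP K 3] in
theorem aEl_comm_reeHm (s : Kˣ) : aEl K m * reeHm (3 ^ m) s = reeHm (3 ^ m) s * aEl K m := by
  unfold aEl
  rw [← map_mul, ← map_mul, mul_comm]

/-- the action of `a` on `U¹` -/
theorem aEl_conj_reeUel (hK : Fintype.card K = 3 ^ (2 * m + 1)) (p : K × K × K) :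
    aEl K m * reeUel m p * (aEl K m)⁻¹ = reeUel m (-p.1, p.2.1, -p.2.2) := by
  have h := ree_conj hK (-1 : Kˣ) p
  have c6 : chevG2.cartan 0 6 = -3 ∧ chevG2.cartan 1 6 = 2 := by decide
  have c10 : chevG2.cartan 0 10 = 3 ∧ chevG2.cartan 1 10 = -1 := by decide
  have c11 : chevG2.cartan 0 11 = 0 ∧ chevG2.cartan 1 11 = 1 := by decide
  have o3 : Odd (-3 : ℤ) := by decide
  have o3' : Odd (3 : ℤ) := by decide
  have o1 : Odd (-1 : ℤ) := by decide
  have e2 : Even (2 : ℤ) := by decide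
  have t6 : torChi ((-1 : Kˣ) ^ 3 ^ m) (-1) 6 = -1 := by
    unfold torChi
    rw [Odd.neg_one_pow (ree_odd m), Units.val_neg, Units.val_one, c6.1, c6.2, o3.neg_one_zpow, e2.neg_one_zpow,
      mul_one]
  have t10 : torChi ((-1 : Kˣ) ^ 3 ^ m) (-1) 10 = 1 := by
    unfold torChi
    rw [Odd.neg_one_pow (ree_odd m), Units.val_neg, Units.val_one, c10.1, c10.2, o3'.neg_one_zpow, o1.neg_one_zpow,
      neg_mul_neg, one_mul]
  have t11 : torChi ((-1 : Kˣ) ^ 3 ^ m) (-1) 11 = -1 := by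
    unfold torChi
    rw [Odd.neg_one_pow (ree_odd m), Units.val_neg, Units.val_one, c11.1, c11.2, zpow_zero, zpow_one, one_mul]
  rw [t6, t10, t11, neg_one_mul, neg_one_mul, one_mul] at h
  exact h

theorem reeUel_fixed (hK : Fintype.card K = 3 ^ (2 * m + 1)) (p : K × K × K)
    (h : aEl K m * reeUel m p * (aEl K m)⁻¹ = reeUel m p) : p = (0, p.2.1, 0) := by
  rw [aEl_conj_reeUel hK] at h
  have h2 := reeUel_inj _ _ h
  obtain ⟨t, u, v⟩ := p
  simp only [Prod.mk.injEq] at h2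
  obtain ⟨h3, -, h4⟩ := h2
  simp only [Prod.mk.injEq, true_and]
  exact ⟨eq_zero_of_neg_eq t h3, eq_zero_of_neg_eq v h4⟩

/-- every unit is plus or minus a square -/
theorem exists_sq (hK : Fintype.card K = 3 ^ (2 * m + 1)) (s : Kˣ) : ∃ r : Kˣ, s = r ^ 2 ∨ s = -(r ^ 2) := by
  obtain ⟨k, hk⟩ := ree_card_mod4 m
  have key : ∀ x : Kˣ, x ^ (2 * k + 1) = 1 → ∃ r : Kˣ, x = r ^ 2 := by
    intro x hx
    refine ⟨x ^ (k + 1), ?_⟩
    rw [← pow_mul]
    have : (k + 1) * 2 = (2 * k + 1) + 1 := by ring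
    rw [this, pow_succ, hx, one_mul]
  have hq := ree_units_pow_card hK s
  have h1 : (s ^ (2 * k + 1)) ^ 2 = 1 := by
    rw [← pow_mul]
    have : (2 * k + 1) * 2 + 1 = 3 ^ (2 * m + 1) := by omega
    have h2 : s ^ ((2 * k + 1) * 2) * s = s := by rw [← pow_succ, this, hq]
    exact mul_eq_right.1 h2
  have h2 : s ^ (2 * k + 1) = 1 ∨ s ^ (2 * k + 1) = -1 := by
    have h3 : ((s ^ (2 * k + 1) : Kˣ) : K) * ((s ^ (2 * k + 1) : Kˣ) : K) = 1 := by
      rw [← Units.val_mul, ← sq, h1, Units.val_one]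
    rcases mul_self_eq_one_iff.1 h3 with h | h
    · left; exact Units.ext h
    · right; exact Units.ext (by rw [h, Units.val_neg, Units.val_one])
  rcases h2 with h | h
  · obtain ⟨r, hr⟩ := key s h
    exact ⟨r, Or.inl hr⟩
  · have h3 : (-s) ^ (2 * k + 1) = 1 := by
      rw [neg_pow, h, Odd.neg_one_pow ⟨k, rfl⟩, neg_mul_neg, one_mul]
    obtain ⟨r, hr⟩ := key (-s) h3
    exact ⟨r, Or.inr (by rw [← hr, neg_neg])⟩

theorem units_pow_sq (hK : Fintype.card K = 3 ^ (2 * m + 1)) (r : Kˣ) :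
    r ^ ((3 * 3 ^ m - 1) * (3 * 3 ^ m + 1)) = r ^ 2 := by
  have hθ : 1 ≤ 3 ^ m := Nat.one_le_pow _ _ (by norm_num)
  have e : (3 * 3 ^ m - 1) * (3 * 3 ^ m + 1) + 1 = 3 ^ (2 * m + 1) * 3 := by
    obtain ⟨y, hy⟩ : ∃ y, 3 * 3 ^ m = y + 1 := ⟨3 * 3 ^ m - 1, by omega⟩
    have h3 : 3 ^ (2 * m + 1) * 3 = (3 * 3 ^ m) * (3 * 3 ^ m) := by ring
    rw [h3, hy, Nat.add_sub_cancel]
    ring
  have h5 : r ^ ((3 * 3 ^ m - 1) * (3 * 3 ^ m + 1)) * r = r ^ 3 := by
    rw [← pow_succ, e, pow_mul, ree_units_pow_card hK]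
  have h6 : r ^ 2 * r = r ^ 3 := (pow_succ r 2).symm
  exact mul_right_cancel (h5.trans h6.symm)

theorem exists_odd_theta (m : ℕ) : ∃ i : ℕ, 3 * 3 ^ m = 2 * i + 1 := by
  have h : Odd (3 * 3 ^ m) := Odd.mul (by decide) (ree_odd m)
  obtain ⟨i, hi⟩ := h
  exact ⟨i, hi⟩

/-- every element of `H¹` is `φ(d)` or `a φ(d)` for a diagonal `d` -/
theorem reeHm_eq (hK : Fintype.card K = 3 ^ (2 * m + 1)) (s : Kˣ) :
    ∃ x : SpecialLinearGroup (Fin 2) K, reeHm (3 ^ m) s = rPhi K m x ∨ reeHm (3 ^ m) s = aEl K m * rPhi K m x := by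
  have hθ : 1 ≤ 3 ^ m := Nat.one_le_pow _ _ (by norm_num)
  have hpow : ∀ r : Kˣ, (r ^ (3 * 3 ^ m - 1)) ^ (3 * 3 ^ m + 1) = r ^ 2 := by
    intro r
    rw [← pow_mul, units_pow_sq hK]
  obtain ⟨r, hr | hr⟩ := exists_sq hK s
  · refine ⟨SL2Data.sD ((r ^ (3 * 3 ^ m - 1) : Kˣ) : K) (Units.ne_zero _), Or.inl ?_⟩
    rw [rPhi_sD hK]
    have : Units.mk0 ((r ^ (3 * 3 ^ m - 1) : Kˣ) : K) (Units.ne_zero _) = r ^ (3 * 3 ^ m - 1) := Units.ext rfl
    rw [this, hpow r, hr]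
  · refine ⟨SL2Data.sD ((r ^ (3 * 3 ^ m - 1) : Kˣ) : K) (Units.ne_zero _), Or.inr ?_⟩
    rw [rPhi_sD hK]
    have : Units.mk0 ((r ^ (3 * 3 ^ m - 1) : Kˣ) : K) (Units.ne_zero _) = r ^ (3 * 3 ^ m - 1) := Units.ext rfl
    rw [this, hpow r, hr]
    unfold aEl
    rw [← map_mul, neg_one_mul]

/-- the centraliser of `a` in `²G₂` is `⟨a⟩ × φ(SL₂)` -/
theorem centralizer_le (hK : Fintype.card K = 3 ^ (2 * m + 1)) (g : GL chevG2.Idx K)
    (hg : g ∈ twistedG2 K (3 ^ m)) (hc : aEl K m * g = g * aEl K m) :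
    ∃ x : SpecialLinearGroup (Fin 2) K, g = rPhi K m x ∨ g = aEl K m * rPhi K m x := by
  have hconj : aEl K m * g * (aEl K m)⁻¹ = g := by rw [hc]; group
  have hHconj : ∀ s : Kˣ, aEl K m * reeHm (3 ^ m) s * (aEl K m)⁻¹ = reeHm (3 ^ m) s := by
    intro s
    rw [aEl_comm_reeHm]; group
  have hNconj : aEl K m * reeNN (3 ^ m) (1 : K) * (aEl K m)⁻¹ = reeNN (3 ^ m) (1 : K) := by
    rw [← rPhi_sW, aEl_comm_rPhi]; group
  -- assembling an element from its pieces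
  have hfin : ∀ (s : Kˣ) (y z : SpecialLinearGroup (Fin 2) K),
      ∃ x : SpecialLinearGroup (Fin 2) K, rPhi K m y * reeHm (3 ^ m) s * rPhi K m z = rPhi K m x ∨
        rPhi K m y * reeHm (3 ^ m) s * rPhi K m z = aEl K m * rPhi K m x := by
    intro s y z
    obtain ⟨d, hd | hd⟩ := reeHm_eq hK s
    · exact ⟨y * d * z, Or.inl (by rw [hd, map_mul, map_mul])⟩
    · refine ⟨y * d * z, Or.inr ?_⟩
      have hcy := aEl_comm_rPhi (K := K) (m := m) y
      rw [hd, map_mul, map_mul]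
      calc rPhi K m y * (aEl K m * rPhi K m d) * rPhi K m z
          = (rPhi K m y * aEl K m) * rPhi K m d * rPhi K m z := by group
        _ = (aEl K m * rPhi K m y) * rPhi K m d * rPhi K m z := by rw [hcy]
        _ = aEl K m * (rPhi K m y * rPhi K m d * rPhi K m z) := by group
  rcases ree_cases hK g hg with hb | ⟨t, u, v, s, t', u', v', e⟩
  · obtain ⟨t, u, v, s, e⟩ := (ree_borel_inf hK g).1 ⟨hb, hg⟩
    have e' : g = reeUel m (t, u, v) * reeHm (3 ^ m) s := e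
    have h1 : aEl K m * reeUel m (t, u, v) * (aEl K m)⁻¹ * reeHm (3 ^ m) s = reeUel m (t, u, v) * reeHm (3 ^ m) s := by
      have h2 : aEl K m * g * (aEl K m)⁻¹ =
          (aEl K m * reeUel m (t, u, v) * (aEl K m)⁻¹) * (aEl K m * reeHm (3 ^ m) s * (aEl K m)⁻¹) := by
        rw [e']; group
      rw [hconj, hHconj] at h2
      rw [← h2, e']
    have h3 := mul_right_cancel h1
    have h4 := reeUel_fixed hK _ h3
    simp only at h4
    rw [h4] at e'
    rw [← rPhi_sU] at e'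
    obtain ⟨x, hx⟩ := hfin s (SL2Data.sU u) 1
    rw [map_one, mul_one] at hx
    exact ⟨x, by rw [e']; exact hx⟩
  · have e' : g = reeUel m (t, u, v) * reeHm (3 ^ m) s * reeNN (3 ^ m) (1 : K) * reeUel m (t', u', v') := e
    have h2 : aEl K m * g * (aEl K m)⁻¹ =
        (aEl K m * reeUel m (t, u, v) * (aEl K m)⁻¹) * (aEl K m * reeHm (3 ^ m) s * (aEl K m)⁻¹) *
          (aEl K m * reeNN (3 ^ m) (1 : K) * (aEl K m)⁻¹) * (aEl K m * reeUel m (t', u', v') * (aEl K m)⁻¹) := by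
      rw [e']; group
    rw [hconj, hHconj, hNconj, aEl_conj_reeUel hK, aEl_conj_reeUel hK] at h2
    rw [e'] at h2
    obtain ⟨h3, -, h4⟩ := ree_big_unique hK _ _ _ _ _ _ (reeUel_mem_pos _) (reeUel_mem_pos _)
      (reeUel_mem_pos _) (reeUel_mem_pos _) (reeHm_mem_diag _ s) (reeHm_mem_diag _ s) h2
    have h5 := reeUel_inj _ _ h3
    have h6 := reeUel_inj _ _ h4
    simp only [Prod.mk.injEq] at h5 h6
    have ht : t = 0 := eq_zero_of_neg_eq t h5.1.symm
    have hv : v = 0 := eq_zero_of_neg_eq v h5.2.2.symm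
    have ht' : t' = 0 := eq_zero_of_neg_eq t' h6.1.symm
    have hv' : v' = 0 := eq_zero_of_neg_eq v' h6.2.2.symm
    rw [ht, hv, ht', hv', ← rPhi_sU, ← rPhi_sU, ← rPhi_sW, mul_assoc _ (rPhi K m SL2Data.sW), ← map_mul] at e'
    obtain ⟨x, hx⟩ := hfin s (SL2Data.sU u) (SL2Data.sW * SL2Data.sU u')
    exact ⟨x, by rw [e']; exact hx⟩

/-- Bruhat form of `φ(x)` -/
theorem rPhi_cases (hK : Fintype.card K = 3 ^ (2 * m + 1)) (x : SpecialLinearGroup (Fin 2) K) :
    (∃ (c : K) (hc : c ≠ 0) (b : K), x = SL2Data.sU b * SL2Data.sD c hc ∧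
        rPhi K m x = reeUel m ((0, b, 0) : K × K × K) * reeHm (3 ^ m) ((Units.mk0 c hc) ^ (3 * 3 ^ m + 1))) ∨
      rPhi K m x ∉ chevG2.borelSubgroup K := by
  by_cases h0 : x.1 1 0 = 0
  · obtain ⟨ha, e⟩ := SL2Data.eq_of_eq_zero x h0
    left
    refine ⟨x.1 0 0, ha, x.1 0 0 * x.1 0 1, e, ?_⟩
    conv_lhs => rw [e]
    rw [map_mul, rPhi_sU, rPhi_sD hK]
  · right
    have e := SL2Data.eq_of_ne_zero x h0
    rw [e, map_mul, map_mul, map_mul, rPhi_sU, rPhi_sU, rPhi_sD hK, rPhi_sW]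
    exact ree_big_not_borel hK _ _
      (mul_mem (pos_le_borel chevG2 K (reeUel_mem_pos _)) (diagonal_le_borel chevG2 K (reeHm_mem_diag _ _)))
      (pos_le_borel chevG2 K (reeUel_mem_pos _))

/-- the kernel of `φ` is the centre -/
theorem rPhi_eq_one_iff (hK : Fintype.card K = 3 ^ (2 * m + 1)) (x : SpecialLinearGroup (Fin 2) K) :
    rPhi K m x = 1 ↔ x ∈ Subgroup.center (SpecialLinearGroup (Fin 2) K) := by
  constructor
  · intro h
    rcases rPhi_cases hK x with ⟨c, hc, b, ex, e⟩ | hnb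
    · rw [h] at e
      have e' : (1 : GL chevG2.Idx K) * 1 =
          reeUel m ((0, b, 0) : K × K × K) * reeHm (3 ^ m) ((Units.mk0 c hc) ^ (3 * 3 ^ m + 1)) := by
        rw [one_mul]; exact e
      obtain ⟨h1, h2⟩ := borel_unique _ _ _ _ (one_mem _) (reeUel_mem_pos _) (one_mem _) (reeHm_mem_diag _ _) e'
      have hb : b = 0 := by
        have h3 : reeUel m ((0, 0, 0) : K × K × K) = reeUel m ((0, b, 0) : K × K × K) := by
          rw [ree_one_eq]; exact h1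
        have h4 := reeUel_inj _ _ h3
        simp only [Prod.mk.injEq] at h4
        exact h4.2.1.symm
      have hcp : (Units.mk0 c hc) ^ (3 * 3 ^ m + 1) = 1 := by
        apply reeHm_injective (K := K) (3 ^ m)
        rw [map_one]; exact h2.symm
      have hc2 : (Units.mk0 c hc) ^ 2 = 1 := by
        rw [← units_pow_sq hK, mul_comm, pow_mul, hcp, one_pow]
      have hcc : c * c = 1 := by
        have h5 := congrArg Units.val hc2
        rw [sq, Units.val_mul, Units.val_one] at h5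
        exact h5
      rw [ex, hb, sU_zero, one_mul]
      exact sD_mem_center c hc hcc
    · exact absurd (h ▸ one_mem _) hnb
  · intro hx
    obtain ⟨c, hc, hcc, rfl⟩ := eq_sD_of_mem_center x hx
    obtain ⟨i, hi⟩ := exists_odd_theta m
    rw [rPhi_sD hK]
    have h2 : (Units.mk0 c hc) ^ 2 = 1 := by
      apply Units.ext
      rw [sq, Units.val_mul, Units.val_one]
      exact hcc
    have e : 3 * 3 ^ m + 1 = 2 * (i + 1) := by omega
    rw [e, pow_mul, h2, one_pow, map_one]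

/-- `a` is not in the image of `φ` -/
theorem rPhi_ne_aEl (hK : Fintype.card K = 3 ^ (2 * m + 1)) (x : SpecialLinearGroup (Fin 2) K) :
    rPhi K m x ≠ aEl K m := by
  intro h
  have hne : (-1 : Kˣ) ≠ 1 := by
    intro h1
    have h3 : ((-1 : Kˣ) : K) = ((1 : Kˣ) : K) := by rw [h1]
    rw [Units.val_neg, Units.val_one] at h3
    have : (2 : K) = 0 := by linear_combination -h3
    exact ree_two_ne_zero this
  rcases rPhi_cases hK x with ⟨c, hc, b, ex, e⟩ | hnb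
  · rw [h] at e
    have e' : (1 : GL chevG2.Idx K) * aEl K m =
        reeUel m ((0, b, 0) : K × K × K) * reeHm (3 ^ m) ((Units.mk0 c hc) ^ (3 * 3 ^ m + 1)) := by
      rw [one_mul]; exact e
    obtain ⟨-, h2⟩ := borel_unique _ _ _ _ (one_mem _) (reeUel_mem_pos _)
      (show aEl K m ∈ chevG2.diagonalSubgroup K from reeHm_mem_diag _ _) (reeHm_mem_diag _ _) e'
    have hcp : (-1 : Kˣ) = (Units.mk0 c hc) ^ (3 * 3 ^ m + 1) := reeHm_injective (K := K) (3 ^ m) h2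
    obtain ⟨i, hi⟩ := exists_odd_theta m
    have hc2 : (Units.mk0 c hc) ^ 2 = 1 := by
      rw [← units_pow_sq hK, mul_comm, pow_mul, ← hcp]
      have e : 3 * 3 ^ m - 1 = 2 * i := by omega
      rw [e, pow_mul, neg_one_sq, one_pow]
    have e2 : 3 * 3 ^ m + 1 = 2 * (i + 1) := by omega
    rw [e2, pow_mul, hc2, one_pow] at hcp
    exact hne hcp
  · exact hnb (h ▸ diagonal_le_borel chevG2 K (show aEl K m ∈ chevG2.diagonalSubgroup K from reeHm_mem_diag _ _))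


end fin

end Cfsg.Agent.Lib.Helper12.ReeInv
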