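import Cfsg.Agent.Lib.Helper12.ReeInvB
import Cfsg.Agent.Lib.Helper12.ReeInvAbs

/-! # The small Ree groups: `C(a) ≅ Z₂ × PSL₂(q)` and the Sylow 2-subgroups (helper12) -/

set_option autoImplicit false
set_option linter.unusedSectionVars false

namespace Cfsg.Agent.Lib.Helper12.ReeInv

open Cfsg Cfsg.Lie Cfsg.Agent.Lib.Helper18 Cfsg.Agent.Lib.Helper36 Matrix

section fin
variable {K : Type*} [Field K] [Fintype K] [CharP K 3] {m : ℕ}

/-- `φ` as a homomorphism into the twisted group -/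
noncomputable def rPhiG (hK : Fintype.card K = 3 ^ (2 * m + 1)) :
    SpecialLinearGroup (Fin 2) K →* ↥(twistedG2 K (3 ^ m)) :=
  (rPhi K m).codRestrict (twistedG2 K (3 ^ m)) (rPhi_mem hK)

theorem rPhiG_coe (hK : Fintype.card K = 3 ^ (2 * m + 1)) (x : SpecialLinearGroup (Fin 2) K) :
    ((rPhiG hK x : ↥(twistedG2 K (3 ^ m))) : GL chevG2.Idx K) = rPhi K m x := rfl

theorem rPhiG_eq_one_iff (hK : Fintype.card K = 3 ^ (2 * m + 1)) (x : SpecialLinearGroup (Fin 2) K) :
    rPhiG hK x = 1 ↔ x ∈ Subgroup.center (SpecialLinearGroup (Fin 2) K) := by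
  rw [← rPhi_eq_one_iff hK]
  constructor
  · intro h
    have := congrArg Subtype.val h
    exact this
  · intro h
    exact Subtype.ext h

theorem rPhiG_ker (hK : Fintype.card K = 3 ^ (2 * m + 1)) :
    (rPhiG hK).ker = Subgroup.center (SpecialLinearGroup (Fin 2) K) := by
  ext x
  rw [MonoidHom.mem_ker, rPhiG_eq_one_iff]

/-- the involution as an element of the twisted group -/
noncomputable def aG (hK : Fintype.card K = 3 ^ (2 * m + 1)) : ↥(twistedG2 K (3 ^ m)) :=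
  ⟨aEl K m, aEl_mem hK⟩

theorem aG_sq (hK : Fintype.card K = 3 ^ (2 * m + 1)) : aG hK * aG hK = 1 := Subtype.ext aEl_sq

theorem aG_ne_one (hK : Fintype.card K = 3 ^ (2 * m + 1)) : aG hK ≠ 1 :=
  fun h => aEl_ne_one (congrArg Subtype.val h)

theorem aG_comm (hK : Fintype.card K = 3 ^ (2 * m + 1)) (x : SpecialLinearGroup (Fin 2) K) :
    aG hK * rPhiG hK x = rPhiG hK x * aG hK := Subtype.ext (aEl_comm_rPhi x)

theorem aG_ne (hK : Fintype.card K = 3 ^ (2 * m + 1)) (x : SpecialLinearGroup (Fin 2) K) :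
    aG hK ≠ rPhiG hK x := fun h => rPhi_ne_aEl hK x (congrArg Subtype.val h).symm

/-- `H¹` has a unique involution -/
theorem eq_aG (hK : Fintype.card K = 3 ^ (2 * m + 1)) (a : ↥(twistedG2 K (3 ^ m)))
    (haH : (a : GL chevG2.Idx K) ∈ chevG2.diagonalSubgroup K) (ha1 : a ≠ 1) (ha2 : a * a = 1) :
    a = aG hK := by
  obtain ⟨s, hs⟩ := (ree_diag_inf hK _).1 ⟨haH, a.2⟩
  have h1 : reeHm (3 ^ m) (s * s) = 1 := by
    rw [map_mul, ← hs]
    exact congrArg Subtype.val ha2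
  have h2 : s * s = 1 := reeHm_injective (K := K) (3 ^ m) (by rw [h1, map_one])
  rcases unit_sq_eq_one s (by rw [sq]; exact h2) with h | h
  · exfalso
    apply ha1
    apply Subtype.ext
    rw [hs, h, map_one]
    rfl
  · apply Subtype.ext
    rw [hs, h]
    rfl

/-- `C(a) ≅ Z₂ × PSL₂(K)` -/
theorem centralizer_iso (hK : Fintype.card K = 3 ^ (2 * m + 1)) :
    Nonempty (↥(Subgroup.centralizer {aG hK}) ≃*
      Multiplicative (ZMod 2) × Matrix.ProjectiveSpecialLinearGroup (Fin 2) K) := by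
  refine centralizer_iso_abs (aG hK) (rPhiG hK) (aG_sq hK) (aG_ne_one hK) (rPhiG_ker hK) (aG_comm hK)
    (aG_ne hK) ?_
  intro t ht
  have hc : aEl K m * (t : GL chevG2.Idx K) = t * aEl K m := congrArg Subtype.val ht
  obtain ⟨z, hz | hz⟩ := centralizer_le hK t t.2 hc
  · exact ⟨z, Or.inl (Subtype.ext hz)⟩
  · exact ⟨z, Or.inr (Subtype.ext hz)⟩

/-! ### The Sylow 2-subgroups -/

theorem ree_two_part_card (hK : Fintype.card K = 3 ^ (2 * m + 1)) (n : ℕ)
    (h : 2 ^ n ∣ Nat.card ↥(twistedG2 K (3 ^ m))) : n ≤ 3 := by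
  rw [ree_card hK] at h
  exact ree_two_part m n h

theorem ree_finite (hK : Fintype.card K = 3 ^ (2 * m + 1)) : Finite ↥(twistedG2 K (3 ^ m)) := by
  apply Nat.finite_of_card_ne_zero
  rw [ree_card hK]
  have h1 : 0 < 3 ^ (2 * m + 1) - 1 := by
    have : 3 ^ 1 ≤ 3 ^ (2 * m + 1) := Nat.pow_le_pow_right (by norm_num) (by omega)
    omega
  positivity

/-- an elementary abelian subgroup of order 8 -/
theorem exists_E8 (hK : Fintype.card K = 3 ^ (2 * m + 1)) :
    ∃ E : Subgroup ↥(twistedG2 K (3 ^ m)), Nat.card E = 8 ∧ ∀ x ∈ E, x * x = 1 := by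
  have := ree_finite hK
  exact exists_E8_abs (aG hK) (rPhiG hK) (aG_sq hK) (aG_ne_one hK) (rPhiG_eq_one_iff hK) (aG_comm hK)
    (aG_ne hK) (ree_two_part_card hK)

/-- the Sylow 2-subgroups of the Ree group are elementary abelian of order 8 -/
theorem sylow_two (hK : Fintype.card K = 3 ^ (2 * m + 1)) (S : Sylow 2 ↥(twistedG2 K (3 ^ m))) :
    Nat.card S = 8 ∧ ∀ x ∈ S, x * x = 1 := by
  have := ree_finite hK
  exact sylow_two_abs (ree_two_part_card hK) (exists_E8 hK) S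

end fin

end Cfsg.Agent.Lib.Helper12.ReeInv
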