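import Cfsg.Agent.Lib.Helper12.ReeInvSL2

/-! # Matrix computations in `SL₂(K)`, characteristic 3, around the quaternion group
`⟨sW, zEl⟩` (helper12) -/

set_option autoImplicit false

namespace Cfsg.Agent.Lib.Helper12.ReeInv

open Cfsg.Agent.Lib.Helper36 Matrix

section mats
variable {K : Type*} [Field K]

omit [Field K] in
theorem mat2_eq_iff (a b c d a' b' c' d' : K) :
    (!![a, b; c, d] : Matrix (Fin 2) (Fin 2) K) = !![a', b'; c', d'] ↔
      a = a' ∧ b = b' ∧ c = c' ∧ d = d' := by
  constructor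
  · intro h
    refine ⟨?_, ?_, ?_, ?_⟩
    · simpa using congrFun (congrFun h 0) 0
    · simpa using congrFun (congrFun h 0) 1
    · simpa using congrFun (congrFun h 1) 0
    · simpa using congrFun (congrFun h 1) 1
  · rintro ⟨rfl, rfl, rfl, rfl⟩; rfl

theorem sl2_val (x : SpecialLinearGroup (Fin 2) K) :
    x.1 = !![x.1 0 0, x.1 0 1; x.1 1 0, x.1 1 1] :=
  Matrix.eta_fin_two x.1

theorem sl2_eq_of (x y : SpecialLinearGroup (Fin 2) K) (p q r s a b c d : K)
    (hx : x.1 = !![p, q; r, s]) (hy : y.1 = !![a, b; c, d])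
    (h00 : p = a) (h01 : q = b) (h10 : r = c) (h11 : s = d) : x = y := by
  apply Subtype.ext
  rw [hy, hx, h00, h01, h10, h11]

theorem one_val : (1 : SpecialLinearGroup (Fin 2) K).1 = !![1, 0; 0, 1] := by
  ext i j; fin_cases i <;> fin_cases j <;> simp

theorem negI_val : (negI K).1 = !![-1, 0; 0, -1] := by
  show (!![-1, 0; 0, (-1)⁻¹] : Matrix (Fin 2) (Fin 2) K) = _
  rw [inv_neg_one]

theorem negI_mul_val (y : SpecialLinearGroup (Fin 2) K) (a b c d : K) (hy : y.1 = !![a, b; c, d]) :
    (negI K * y).1 = !![-a, -b; -c, -d] := by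
  show (negI K).1 * y.1 = _
  rw [negI_val, hy, Matrix.mul_fin_two]
  simp

/-- the four scalar equations of a commutation relation up to sign -/
theorem comm_entries (x A B : SpecialLinearGroup (Fin 2) K) (p q r s a b c d a' b' c' d' : K)
    (hx : x.1 = !![p, q; r, s]) (hA : A.1 = !![a, b; c, d]) (hB : B.1 = !![a', b'; c', d'])
    (h : x * A = B * x ∨ x * A = negI K * (B * x)) :
    ∃ e : K, (e = 1 ∨ e = -1) ∧ p * a + q * c = e * (a' * p + b' * r) ∧
      p * b + q * d = e * (a' * q + b' * s) ∧ r * a + s * c = e * (c' * p + d' * r) ∧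
      r * b + s * d = e * (c' * q + d' * s) := by
  have hBx : (B * x).1 = !![a' * p + b' * r, a' * q + b' * s; c' * p + d' * r, c' * q + d' * s] := by
    show B.1 * x.1 = _
    rw [hB, hx, Matrix.mul_fin_two]
  have hxA : (x * A).1 = !![p * a + q * c, p * b + q * d; r * a + s * c, r * b + s * d] := by
    show x.1 * A.1 = _
    rw [hA, hx, Matrix.mul_fin_two]
  rcases h with h | h
  · have h' := congrArg Subtype.val h
    rw [hxA, hBx, mat2_eq_iff] at h'
    obtain ⟨h1, h2, h3, h4⟩ := h'
    exact ⟨1, Or.inl rfl, by rw [one_mul]; exact h1, by rw [one_mul]; exact h2,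
      by rw [one_mul]; exact h3, by rw [one_mul]; exact h4⟩
  · have h' := congrArg Subtype.val h
    rw [hxA, negI_mul_val _ _ _ _ _ hBx, mat2_eq_iff] at h'
    obtain ⟨h1, h2, h3, h4⟩ := h'
    exact ⟨-1, Or.inr rfl, by rw [neg_one_mul]; exact h1, by rw [neg_one_mul]; exact h2,
      by rw [neg_one_mul]; exact h3, by rw [neg_one_mul]; exact h4⟩

theorem sW_val : (SL2Data.sW : SpecialLinearGroup (Fin 2) K).1 = !![0, 1; -1, 0] := rfl

theorem sU_val (t : K) : (SL2Data.sU t).1 = !![1, t; 0, 1] := rfl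

theorem det_of (x : SpecialLinearGroup (Fin 2) K) (p q r s : K) (hx : x.1 = !![p, q; r, s]) :
    p * s - q * r = 1 := by
  have h := x.2
  rw [hx, Matrix.det_fin_two_of] at h
  exact h

theorem sq_eq_one_cases (p : K) (h : p * p = 1) : p = 1 ∨ p = -1 := mul_self_eq_one_iff.1 h

end mats

section char3
variable {K : Type*} [Field K] [CharP K 3]

theorem zEl_val : (zEl K).1 = !![1, 1; 1, -1] := rfl

theorem sWzEl_val : ((SL2Data.sW : SpecialLinearGroup (Fin 2) K) * zEl K).1 = !![1, -1; -1, -1] := by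
  show (SL2Data.sW : SpecialLinearGroup (Fin 2) K).1 * (zEl K).1 = _
  rw [sW_val, zEl_val, Matrix.mul_fin_two]
  simp

/-- **(M1)** an element commuting with `sW` and `zEl` up to sign lies in the quaternion group -/
theorem q8_of_comm (x : SpecialLinearGroup (Fin 2) K)
    (h1 : x * SL2Data.sW = SL2Data.sW * x ∨ x * SL2Data.sW = negI K * (SL2Data.sW * x))
    (h2 : x * zEl K = zEl K * x ∨ x * zEl K = negI K * (zEl K * x)) :
    ∃ y : SpecialLinearGroup (Fin 2) K, (y = 1 ∨ y = SL2Data.sW ∨ y = zEl K ∨ y = SL2Data.sW * zEl K) ∧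
      (x = y ∨ x = negI K * y) := by
  have h3 : (3 : K) = 0 := ree_three_eq_zero
  obtain ⟨p, q, r, s, hx⟩ : ∃ p q r s : K, x.1 = !![p, q; r, s] := ⟨_, _, _, _, sl2_val x⟩
  have hdet := det_of x p q r s hx
  obtain ⟨e, he, a1, a2, a3, a4⟩ := comm_entries x _ _ p q r s _ _ _ _ _ _ _ _ hx sW_val sW_val h1
  obtain ⟨f, hf, b1, b2, b3, b4⟩ := comm_entries x _ _ p q r s _ _ _ _ _ _ _ _ hx zEl_val zEl_val h2
  have h2ne : (2 : K) ≠ 0 := ree_two_ne_zero
  rcases he with rfl | rfl <;> rcases hf with rfl | rfl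
  · -- x = ± 1
    have hr0 : r = -q := by linear_combination -a1
    have hs0 : s = p := by linear_combination -a2
    have hq0 : q = 0 := by
      have : (2 : K) * q = 0 := by linear_combination b1 + hr0
      rcases mul_eq_zero.1 this with h | h
      · exact absurd h h2ne
      · exact h
    have hr1 : r = 0 := by rw [hr0, hq0, neg_zero]
    have hpp : p * p = 1 := by rw [hs0, hq0, zero_mul, sub_zero] at hdet; exact hdet
    refine ⟨1, Or.inl rfl, ?_⟩
    rcases sq_eq_one_cases p hpp with h | h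
    · left
      exact sl2_eq_of x 1 _ _ _ _ _ _ _ _ hx one_val h hq0 hr1
        (by rw [hs0, h])
    · right
      have hv : (negI K * 1).1 = !![-1, 0; 0, -1] := by rw [mul_one]; exact negI_val
      exact sl2_eq_of x _ _ _ _ _ _ _ _ _ hx hv h hq0 hr1 (by rw [hs0, h])
  · -- x = ± sW
    have hr0 : r = -q := by linear_combination -a1
    have hs0 : s = p := by linear_combination -a2
    have hp0 : p = 0 := by
      have : (2 : K) * p = 0 := by linear_combination b1 - hr0
      rcases mul_eq_zero.1 this with h | h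
      · exact absurd h h2ne
      · exact h
    have hs1 : s = 0 := by rw [hs0, hp0]
    have hqq : q * q = 1 := by
      rw [hs1, hp0, hr0] at hdet
      linear_combination hdet
    refine ⟨SL2Data.sW, Or.inr (Or.inl rfl), ?_⟩
    rcases sq_eq_one_cases q hqq with h | h
    · left
      exact sl2_eq_of x _ _ _ _ _ _ _ _ _ hx sW_val hp0 h (by rw [hr0, h]) hs1
    · right
      have hv := negI_mul_val (K := K) SL2Data.sW _ _ _ _ sW_val
      exact sl2_eq_of x _ _ _ _ _ _ _ _ _ hx hv (by rw [hp0, neg_zero]) h (by rw [hr0, h]) (by rw [hs1, neg_zero])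
  · -- x = ± zEl
    have hr0 : r = q := by linear_combination a1
    have hs0 : s = -p := by linear_combination a2
    have hqp : q = p := by
      have : (2 : K) * (p - q) = 0 := by linear_combination b2 + hs0
      rcases mul_eq_zero.1 this with h | h
      · exact absurd h h2ne
      · exact (sub_eq_zero.1 h).symm
    have hpp : p * p = 1 := by
      rw [hs0, hr0, hqp] at hdet
      linear_combination hdet + p * p * h3
    refine ⟨zEl K, Or.inr (Or.inr (Or.inl rfl)), ?_⟩
    rcases sq_eq_one_cases p hpp with h | h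
    · left
      exact sl2_eq_of x _ _ _ _ _ _ _ _ _ hx zEl_val h (by rw [hqp, h]) (by rw [hr0, hqp, h]) (by rw [hs0, h])
    · right
      have hv := negI_mul_val (K := K) (zEl K) _ _ _ _ zEl_val
      exact sl2_eq_of x _ _ _ _ _ _ _ _ _ hx hv h (by rw [hqp, h]) (by rw [hr0, hqp, h]) (by rw [hs0, h])
  · -- x = ± sW zEl
    have hr0 : r = q := by linear_combination a1
    have hs0 : s = -p := by linear_combination a2
    have hqp : q = -p := by
      have : (2 : K) * (p + q) = 0 := by linear_combination b1 - hr0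
      rcases mul_eq_zero.1 this with h | h
      · exact absurd h h2ne
      · linear_combination h
    have hpp : p * p = 1 := by
      rw [hs0, hr0, hqp] at hdet
      linear_combination hdet + p * p * h3
    refine ⟨SL2Data.sW * zEl K, Or.inr (Or.inr (Or.inr rfl)), ?_⟩
    rcases sq_eq_one_cases p hpp with h | h
    · left
      exact sl2_eq_of x _ _ _ _ _ _ _ _ _ hx sWzEl_val h (by rw [hqp, h]) (by rw [hr0, hqp, h]) (by rw [hs0, h])
    · right
      have hv := negI_mul_val (K := K) (SL2Data.sW * zEl K) _ _ _ _ sWzEl_val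
      exact sl2_eq_of x _ _ _ _ _ _ _ _ _ hx hv h (by rw [hqp, h, neg_neg]) (by rw [hr0, hqp, h, neg_neg])
        (by rw [hs0, h])

/-- **(M2)** no element of `SL₂(K)` fixes `sW` and swaps `zEl` and `sW zEl` up to signs, when `-1`
is not a square -/
theorem no_transposition (hsq : ∀ t : K, t * t ≠ -1) (x : SpecialLinearGroup (Fin 2) K)
    (h1 : x * SL2Data.sW = SL2Data.sW * x ∨ x * SL2Data.sW = negI K * (SL2Data.sW * x))
    (h2 : x * zEl K = (SL2Data.sW * zEl K) * x ∨ x * zEl K = negI K * ((SL2Data.sW * zEl K) * x)) :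
    False := by
  have h3 : (3 : K) = 0 := ree_three_eq_zero
  obtain ⟨p, q, r, s, hx⟩ : ∃ p q r s : K, x.1 = !![p, q; r, s] := ⟨_, _, _, _, sl2_val x⟩
  have hdet := det_of x p q r s hx
  obtain ⟨e, he, a1, a2, a3, a4⟩ := comm_entries x _ _ p q r s _ _ _ _ _ _ _ _ hx sW_val sW_val h1
  obtain ⟨f, hf, b1, b2, b3, b4⟩ := comm_entries x _ _ p q r s _ _ _ _ _ _ _ _ hx zEl_val sWzEl_val h2
  have h2ne : (2 : K) ≠ 0 := ree_two_ne_zero
  rcases he with rfl | rfl <;> rcases hf with rfl | rfl
  · have hr0 : r = -q := by linear_combination -a1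
    have hs0 : s = p := by linear_combination -a2
    have hqp : q = p := by
      have : (2 : K) * (p - q) = 0 := by linear_combination b2 - hs0
      rcases mul_eq_zero.1 this with h | h
      · exact absurd h h2ne
      · exact (sub_eq_zero.1 h).symm
    apply hsq p
    rw [hs0, hr0, hqp] at hdet
    linear_combination -hdet + p * p * h3
  · have hr0 : r = -q := by linear_combination -a1
    have hs0 : s = p := by linear_combination -a2
    have hqp : q = -p := by
      have : (2 : K) * (p + q) = 0 := by linear_combination b1 + hr0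
      rcases mul_eq_zero.1 this with h | h
      · exact absurd h h2ne
      · linear_combination h
    apply hsq p
    rw [hs0, hr0, hqp] at hdet
    linear_combination -hdet + p * p * h3
  · have hr0 : r = q := by linear_combination a1
    have hs0 : s = -p := by linear_combination a2
    have hq0 : q = 0 := by
      have : (2 : K) * q = 0 := by linear_combination b1 - hr0
      rcases mul_eq_zero.1 this with h | h
      · exact absurd h h2ne
      · exact h
    apply hsq p
    rw [hs0, hr0, hq0] at hdet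
    linear_combination -hdet
  · have hr0 : r = q := by linear_combination a1
    have hs0 : s = -p := by linear_combination a2
    have hp0 : p = 0 := by
      have : (2 : K) * p = 0 := by linear_combination b1 + hr0
      rcases mul_eq_zero.1 this with h | h
      · exact absurd h h2ne
      · exact h
    apply hsq q
    rw [hs0, hr0, hp0] at hdet
    linear_combination -hdet

/-- **(M3)** conjugation by `u = sU 1` -/
theorem sU_mul_sW : SL2Data.sU (1 : K) * SL2Data.sW = negI K * (zEl K * SL2Data.sU 1) := by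
  have h3 : (3 : K) = 0 := ree_three_eq_zero
  have h2 : (1 : K) + 1 = -1 := by linear_combination h3
  apply Subtype.ext
  show (!![1, 1; 0, 1] : Matrix (Fin 2) (Fin 2) K) * !![0, 1; -1, 0] =
    !![-1, 0; 0, (-1)⁻¹] * (!![1, 1; 1, -1] * !![1, 1; 0, 1])
  rw [Matrix.mul_fin_two, Matrix.mul_fin_two, Matrix.mul_fin_two]
  simp [inv_neg, h2]

theorem sU_mul_zEl :
    SL2Data.sU (1 : K) * zEl K = negI K * ((SL2Data.sW * zEl K) * SL2Data.sU 1) := by
  have h3 : (3 : K) = 0 := ree_three_eq_zero
  have h2 : (1 : K) + 1 = -1 := by linear_combination h3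
  apply Subtype.ext
  show (!![1, 1; 0, 1] : Matrix (Fin 2) (Fin 2) K) * !![1, 1; 1, -1] =
    !![-1, 0; 0, (-1)⁻¹] * ((!![0, 1; -1, 0] * !![1, 1; 1, -1]) * !![1, 1; 0, 1])
  rw [Matrix.mul_fin_two, Matrix.mul_fin_two, Matrix.mul_fin_two, Matrix.mul_fin_two]
  simp [inv_neg, h2]

theorem sU_one_cube : SL2Data.sU (1 : K) * SL2Data.sU 1 * SL2Data.sU 1 = 1 := by
  have h3 : (3 : K) = 0 := ree_three_eq_zero
  have h2 : (1 : K) + 1 = -1 := by linear_combination h3
  apply Subtype.ext
  show (!![1, 1; 0, 1] : Matrix (Fin 2) (Fin 2) K) * !![1, 1; 0, 1] * !![1, 1; 0, 1] = 1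
  rw [Matrix.mul_fin_two, Matrix.mul_fin_two]
  ext i j
  fin_cases i <;> fin_cases j <;> simp [h2]

omit [CharP K 3] in
theorem sU_one_not_mem_center :
    SL2Data.sU (1 : K) ∉ Subgroup.center (SpecialLinearGroup (Fin 2) K) :=
  not_mem_center_of _ (by simp [SL2Data.sU])

/-- **(FU)** an element of the quaternion group commuting with `sU 1` up to sign is central -/
theorem q8_comm_sU (y : SpecialLinearGroup (Fin 2) K)
    (hy : y = 1 ∨ y = SL2Data.sW ∨ y = zEl K ∨ y = SL2Data.sW * zEl K)
    (h : y * SL2Data.sU 1 = SL2Data.sU 1 * y ∨ y * SL2Data.sU 1 = negI K * (SL2Data.sU 1 * y)) :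
    y = 1 := by
  obtain ⟨p, q, r, s, hyv, hr⟩ : ∃ p q r s : K, y.1 = !![p, q; r, s] ∧ r = y.1 1 0 :=
    ⟨_, _, _, _, sl2_val y, rfl⟩
  obtain ⟨e, he, a1, a2, a3, a4⟩ :=
    comm_entries y _ _ p q r s _ _ _ _ _ _ _ _ hyv (sU_val 1) (sU_val 1) h
  have h2ne : (2 : K) ≠ 0 := ree_two_ne_zero
  have hr0 : r = 0 := by
    rcases he with rfl | rfl
    · linear_combination -a1
    · have : (2 : K) * r = 0 := by linear_combination a3
      rcases mul_eq_zero.1 this with h | h
      · exact absurd h h2ne
      · exact h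
  rcases hy with rfl | rfl | rfl | rfl
  · rfl
  · exfalso
    have : r = -1 := by
      rw [hr]; simp [SL2Data.sW]
    rw [this] at hr0
    exact one_ne_zero (neg_eq_zero.1 hr0)
  · exfalso
    have : r = 1 := by
      rw [hr]; simp [zEl]
    rw [this] at hr0
    exact one_ne_zero hr0
  · exfalso
    have : r = -1 := by
      rw [hr, sWzEl_val]; simp
    rw [this] at hr0
    exact one_ne_zero (neg_eq_zero.1 hr0)

end char3

end Cfsg.Agent.Lib.Helper12.ReeInv
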