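import Cfsg.Agent.Lib.Helper12.ReeInvAbs
import Cfsg.Agent.Lib.Helper12.ReeNormSL2

/-! # Abstract form of the normaliser of a Sylow 2-subgroup of a small Ree group (helper12)

Data: an involution `a` of a finite group `G` and `φ : SL₂(K) → G` (`K` of characteristic 3, `-1` a
non-square) with kernel the centre, such that `C(a) = ⟨a⟩ × φ(SL₂(K))`; `16 ∤ |G|`; `G` perfect.
Then a Sylow 2-subgroup `S` has `C(S) = S` and `|N(S)| = 168`. -/

set_option autoImplicit false
set_option linter.unusedSectionVars false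

namespace Cfsg.Agent.Lib.Helper12.ReeInv

open Cfsg.Agent.Lib.Helper36 Matrix
open scoped Pointwise

/-- the data of an involution with centraliser `⟨a⟩ × φ(SL₂(K))` -/
structure InvData (K : Type*) [Field K] (G : Type*) [Group G] where
  a : G
  φ : SpecialLinearGroup (Fin 2) K →* G
  ha2 : a * a = 1
  ha1 : a ≠ 1
  hker : ∀ x, φ x = 1 ↔ x ∈ Subgroup.center (SpecialLinearGroup (Fin 2) K)
  hcomm : ∀ x, a * φ x = φ x * a
  hne : ∀ x, a ≠ φ x
  hcent : ∀ g : G, a * g = g * a → ∃ x, g = φ x ∨ g = a * φ x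

namespace InvData

section basic
variable {K : Type*} [Field K] {G : Type*} [Group G] (D : InvData K G)

theorem phi_negI : D.φ (negI K) = 1 := (D.hker _).2 negI_mem_center

theorem sD_one : SL2Data.sD (1 : K) one_ne_zero = 1 := by
  apply Subtype.ext
  show (!![1, 0; 0, (1 : K)⁻¹] : Matrix (Fin 2) (Fin 2) K) = 1
  rw [inv_one]
  ext i j; fin_cases i <;> fin_cases j <;> simp

theorem center_cases (x : SpecialLinearGroup (Fin 2) K)
    (hx : x ∈ Subgroup.center (SpecialLinearGroup (Fin 2) K)) : x = 1 ∨ x = negI K := by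
  obtain ⟨c, hc, hcc, rfl⟩ := eq_sD_of_mem_center x hx
  rcases mul_self_eq_one_iff.1 hcc with h | h
  · left
    subst h
    exact sD_one
  · right
    subst h
    rfl

theorem phi_eq (x y : SpecialLinearGroup (Fin 2) K) (h : D.φ x = D.φ y) :
    x = y ∨ x = negI K * y := by
  have h1 : D.φ (x * y⁻¹) = 1 := by rw [map_mul, map_inv, h, mul_inv_cancel]
  rcases center_cases _ ((D.hker _).1 h1) with h2 | h2
  · left
    exact mul_inv_eq_one.1 h2
  · right
    exact mul_inv_eq_iff_eq_mul.1 h2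

theorem phi_comm (x y y' : SpecialLinearGroup (Fin 2) K) (h : D.φ x * D.φ y = D.φ y' * D.φ x) :
    x * y = y' * x ∨ x * y = negI K * (y' * x) := by
  apply D.phi_eq
  rw [map_mul, map_mul, h]

theorem phi_negI_mul (y : SpecialLinearGroup (Fin 2) K) : D.φ (negI K * y) = D.φ y := by
  rw [map_mul, D.phi_negI, one_mul]

theorem a_inv : D.a⁻¹ = D.a := inv_eq_of_mul_eq_one_left D.ha2

end basic

section char3
variable {K : Type*} [Field K] [CharP K 3] {G : Type*} [Group G] (D : InvData K G)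

/-- `w = φ(sW)` -/
noncomputable def w : G := D.φ SL2Data.sW
/-- `z = φ(zEl)` -/
noncomputable def z : G := D.φ (zEl K)
/-- `u = φ(sU 1)` -/
noncomputable def u : G := D.φ (SL2Data.sU 1)

theorem w_sq : D.w * D.w = 1 := by
  unfold w; rw [← map_mul, sW_mul_sW, D.phi_negI]

theorem z_sq : D.z * D.z = 1 := by
  unfold z; rw [← map_mul, zEl_mul_zEl, D.phi_negI]

theorem w_inv : D.w⁻¹ = D.w := inv_eq_of_mul_eq_one_left D.w_sq
theorem z_inv : D.z⁻¹ = D.z := inv_eq_of_mul_eq_one_left D.z_sq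

theorem wz_comm : D.w * D.z = D.z * D.w := by
  unfold w z; rw [← map_mul, sW_mul_zEl, map_mul, D.phi_negI, one_mul, map_mul]

theorem aw_comm : D.a * D.w = D.w * D.a := D.hcomm _
theorem az_comm : D.a * D.z = D.z * D.a := D.hcomm _
theorem au_comm : D.a * D.u = D.u * D.a := D.hcomm _

/-- the Sylow 2-subgroup `E = C(a, w, z)` -/
noncomputable def E : Subgroup G := Subgroup.centralizer {D.a, D.w, D.z}

theorem mem_E_iff' (g : G) :
    g ∈ D.E ↔ D.a * g = g * D.a ∧ D.w * g = g * D.w ∧ D.z * g = g * D.z := by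
  unfold E
  rw [Subgroup.mem_centralizer_iff]
  constructor
  · intro h
    exact ⟨h _ (by simp), h _ (by simp), h _ (by simp)⟩
  · rintro ⟨h1, h2, h3⟩ t ht
    simp only [Set.mem_insert_iff, Set.mem_singleton_iff] at ht
    rcases ht with rfl | rfl | rfl
    · exact h1
    · exact h2
    · exact h3

theorem a_mem_E : D.a ∈ D.E := (D.mem_E_iff' _).2 ⟨rfl, D.aw_comm.symm, D.az_comm.symm⟩
theorem w_mem_E : D.w ∈ D.E := (D.mem_E_iff' _).2 ⟨D.aw_comm, rfl, D.wz_comm.symm⟩
theorem z_mem_E : D.z ∈ D.E := (D.mem_E_iff' _).2 ⟨D.az_comm, D.wz_comm, rfl⟩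

/-- the four elements `1, sW, zEl, sW zEl` -/
def IsQ4 (y : SpecialLinearGroup (Fin 2) K) : Prop :=
  y = 1 ∨ y = SL2Data.sW ∨ y = zEl K ∨ y = SL2Data.sW * zEl K

theorem phi_q4_mem_E (y : SpecialLinearGroup (Fin 2) K) (hy : IsQ4 y) : D.φ y ∈ D.E := by
  rcases hy with rfl | rfl | rfl | rfl
  · rw [map_one]; exact one_mem _
  · exact D.w_mem_E
  · exact D.z_mem_E
  · rw [map_mul]; exact mul_mem D.w_mem_E D.z_mem_E

/-- the elements of `E` -/
theorem mem_E_iff (g : G) :
    g ∈ D.E ↔ ∃ y, IsQ4 y ∧ (g = D.φ y ∨ g = D.a * D.φ y) := by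
  constructor
  · intro hg
    obtain ⟨h1, h2, h3⟩ := (D.mem_E_iff' g).1 hg
    obtain ⟨x, hx⟩ := D.hcent g h1
    have key : D.φ x * D.w = D.w * D.φ x ∧ D.φ x * D.z = D.z * D.φ x := by
      rcases hx with rfl | rfl
      · exact ⟨h2.symm, h3.symm⟩
      · constructor
        · have e1 : D.w * (D.a * D.φ x) = D.a * (D.w * D.φ x) := by
            rw [← mul_assoc, ← D.aw_comm, mul_assoc]
          rw [e1, mul_assoc] at h2
          exact (mul_left_cancel h2).symm
        · have e1 : D.z * (D.a * D.φ x) = D.a * (D.z * D.φ x) := by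
            rw [← mul_assoc, ← D.az_comm, mul_assoc]
          rw [e1, mul_assoc] at h3
          exact (mul_left_cancel h3).symm
    obtain ⟨y, hy, hxy⟩ := q8_of_comm x (D.phi_comm _ _ _ key.1) (D.phi_comm _ _ _ key.2)
    have hφ : D.φ x = D.φ y := by
      rcases hxy with rfl | rfl
      · rfl
      · exact D.phi_negI_mul y
    refine ⟨y, hy, ?_⟩
    rw [← hφ]
    exact hx
  · rintro ⟨y, hy, rfl | rfl⟩
    · exact D.phi_q4_mem_E y hy
    · exact mul_mem D.a_mem_E (D.phi_q4_mem_E y hy)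

theorem E_eq_closure : D.E = Subgroup.closure ({D.a, D.φ SL2Data.sW, D.φ (zEl K)} : Set G) := by
  apply le_antisymm
  · intro g hg
    obtain ⟨y, hy, hgy⟩ := (D.mem_E_iff g).1 hg
    have ha : D.a ∈ Subgroup.closure ({D.a, D.φ SL2Data.sW, D.φ (zEl K)} : Set G) :=
      Subgroup.subset_closure (by simp)
    have hw : D.φ SL2Data.sW ∈ Subgroup.closure ({D.a, D.φ SL2Data.sW, D.φ (zEl K)} : Set G) :=
      Subgroup.subset_closure (by simp)
    have hz : D.φ (zEl K) ∈ Subgroup.closure ({D.a, D.φ SL2Data.sW, D.φ (zEl K)} : Set G) :=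
      Subgroup.subset_closure (by simp)
    have hy' : D.φ y ∈ Subgroup.closure ({D.a, D.φ SL2Data.sW, D.φ (zEl K)} : Set G) := by
      rcases hy with rfl | rfl | rfl | rfl
      · rw [map_one]; exact one_mem _
      · exact hw
      · exact hz
      · rw [map_mul]; exact mul_mem hw hz
    rcases hgy with rfl | rfl
    · exact hy'
    · exact mul_mem ha hy'
  · rw [Subgroup.closure_le]
    intro t ht
    simp only [Set.mem_insert_iff, Set.mem_singleton_iff] at ht
    rcases ht with rfl | rfl | rfl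
    · exact D.a_mem_E
    · exact D.w_mem_E
    · exact D.z_mem_E

/-- `E` is abelian -/
theorem E_comm (g h : G) (hg : g ∈ D.E) (hh : h ∈ D.E) : g * h = h * g := by
  have h1 : Subgroup.closure ({D.a, D.w, D.z} : Set G) ≤
      Subgroup.centralizer (Subgroup.centralizer ({D.a, D.w, D.z} : Set G) : Set G) :=
    Subgroup.closure_le_centralizer_centralizer _
  have hg' : g ∈ Subgroup.closure ({D.a, D.w, D.z} : Set G) := by
    have := D.E_eq_closure ▸ hg
    exact this
  have h2 := h1 hg'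
  rw [Subgroup.mem_centralizer_iff] at h2
  exact (h2 h hh).symm

/-- `C(E) = E` -/
theorem centralizer_E : Subgroup.centralizer (D.E : Set G) = D.E := by
  apply le_antisymm
  · intro g hg
    rw [Subgroup.mem_centralizer_iff] at hg
    exact (D.mem_E_iff' g).2 ⟨hg _ D.a_mem_E, hg _ D.w_mem_E, hg _ D.z_mem_E⟩
  · intro g hg
    rw [Subgroup.mem_centralizer_iff]
    intro h hh
    exact D.E_comm h g hh hg

end char3

end InvData

end Cfsg.Agent.Lib.Helper12.ReeInv
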