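import Cfsg.Agent.Lib.Helper12.ReeNormT

/-! # Abstract normaliser of the Sylow 2-subgroup: cardinalities (helper12) -/

set_option autoImplicit false
set_option linter.unusedSectionVars false

namespace Cfsg.Agent.Lib.Helper12.ReeInv

open Cfsg.Agent.Lib.Helper36 Matrix
open scoped Pointwise

namespace InvData

section char3
variable {K : Type*} [Field K] [CharP K 3] {G : Type*} [Group G] (D : InvData K G)

/-- the stabiliser of `a` in `N(E)` -/
noncomputable def T : Subgroup G :=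
  Subgroup.normalizer (D.E : Set G) ⊓ Subgroup.centralizer {D.a}

theorem mem_T_iff (g : G) :
    g ∈ D.T ↔ g ∈ Subgroup.normalizer (D.E : Set G) ∧ D.a * g = g * D.a := by
  unfold T
  rw [Subgroup.mem_inf, Subgroup.mem_centralizer_iff]
  constructor
  · rintro ⟨h1, h2⟩
    exact ⟨h1, h2 _ rfl⟩
  · rintro ⟨h1, h2⟩
    refine ⟨h1, ?_⟩
    intro t ht
    rw [Set.mem_singleton_iff.1 ht]
    exact h2

theorem E_le_T : D.E ≤ D.T := by
  intro g hg
  exact (D.mem_T_iff g).2 ⟨Subgroup.le_normalizer hg, ((D.mem_E_iff' g).1 hg).1⟩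

theorem u_mem_T : D.u ∈ D.T := (D.mem_T_iff _).2 ⟨D.u_mem_normalizer, D.au_comm⟩

variable [Finite G]

theorem card_E (hcard : ∀ n : ℕ, 2 ^ n ∣ Nat.card G → n ≤ 3) : Nat.card D.E = 8 := by
  rw [D.E_eq_closure]
  exact (closure_E8_abs D.a D.φ D.ha2 D.ha1 D.hker D.hcomm D.hne hcard).1

theorem E_exp (hcard : ∀ n : ℕ, 2 ^ n ∣ Nat.card G → n ≤ 3) (x : G) (hx : x ∈ D.E) : x * x = 1 := by
  rw [D.E_eq_closure] at hx
  exact (closure_E8_abs D.a D.φ D.ha2 D.ha1 D.hker D.hcomm D.hne hcard).2 x hx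

theorem orderOf_u : orderOf D.u = 3 := by
  have : Fact (Nat.Prime 3) := ⟨Nat.prime_three⟩
  apply orderOf_eq_prime
  · rw [pow_succ, pow_two]; exact D.u_cube
  · exact D.u_ne_one

/-- `|N(E) ∩ C(a)| = 24` -/
theorem card_T (hsq : ∀ t : K, t * t ≠ -1) (hcard : ∀ n : ℕ, 2 ^ n ∣ Nat.card G → n ≤ 3) :
    Nat.card D.T = 24 := by
  have hE := D.card_E hcard
  -- upper bound
  have hsub : (D.T : Set G) ⊆ ((D.E : Set G) ∪ ((fun e => D.u⁻¹ * e) '' (D.E : Set G))) ∪
      ((fun e => (D.u * D.u)⁻¹ * e) '' (D.E : Set G)) := by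
    intro g hg
    obtain ⟨hN, hga⟩ := (D.mem_T_iff g).1 hg
    rcases D.stab_cover hsq g hN hga with h | h | h
    · left; left; exact h
    · left; right
      exact ⟨D.u * g, h, by group⟩
    · right
      exact ⟨D.u * D.u * g, h, by group⟩
  have hEn : (D.E : Set G).ncard = 8 := by
    rw [← Nat.card_coe_set_eq]; exact hE
  have h1 : ((fun e => D.u⁻¹ * e) '' (D.E : Set G)).ncard = 8 := by
    rw [Set.ncard_image_of_injective _ (mul_right_injective _), hEn]
  have h2 : ((fun e => (D.u * D.u)⁻¹ * e) '' (D.E : Set G)).ncard = 8 := by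
    rw [Set.ncard_image_of_injective _ (mul_right_injective _), hEn]
  have hle : Nat.card D.T ≤ 24 := by
    have h3 : (D.T : Set G).ncard ≤ _ := Set.ncard_le_ncard hsub (Set.toFinite _)
    have h4 := Set.ncard_union_le ((D.E : Set G) ∪ ((fun e => D.u⁻¹ * e) '' (D.E : Set G)))
      ((fun e => (D.u * D.u)⁻¹ * e) '' (D.E : Set G))
    have h5 := Set.ncard_union_le (D.E : Set G) ((fun e => D.u⁻¹ * e) '' (D.E : Set G))
    rw [h1, hEn] at h5
    rw [h2] at h4
    have : Nat.card D.T = (D.T : Set G).ncard := (Nat.card_coe_set_eq _)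
    omega
  -- lower bound
  have h8 : 8 ∣ Nat.card D.T := by
    rw [← hE]
    exact Subgroup.card_dvd_of_le D.E_le_T
  have h3 : 3 ∣ Nat.card D.T := by
    have hz : Subgroup.zpowers D.u ≤ D.T := by
      rw [Subgroup.zpowers_le]; exact D.u_mem_T
    have := Subgroup.card_dvd_of_le hz
    rw [Nat.card_zpowers, D.orderOf_u] at this
    exact this
  have h24 : 24 ∣ Nat.card D.T := by
    have hc : Nat.Coprime 8 3 := by norm_num
    exact hc.mul_dvd_of_dvd_of_dvd h8 h3
  have hpos : 0 < Nat.card D.T := Nat.card_pos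
  obtain ⟨c, hc⟩ := h24
  have : c = 1 := by
    rcases c with _ | _ | c
    · omega
    · rfl
    · omega
  rw [hc, this]

end char3

end InvData

end Cfsg.Agent.Lib.Helper12.ReeInv
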