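import Mathlib

/-! # Orbit counting for the conjugation action of a subgroup (helper12) -/

set_option autoImplicit false
set_option linter.style.haveILetI false

namespace Cfsg.Agent.Lib.Helper12.ReeInv

section orbit
variable {G : Type*} [Group G]

/-- conjugation action of a subgroup `N` on `G` -/
@[reducible] def subConj (N : Subgroup G) : MulAction ↥N G :=
  MulAction.compHom G ((MulAut.conj : G →* MulAut G).comp N.subtype)

theorem subConj_smul (N : Subgroup G) (n : ↥N) (x : G) :
    (letI := subConj N; n • x) = (n : G) * x * (n : G)⁻¹ := rfl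

/-- the set of `N`-conjugates of `a` -/
def conjOrbit (N : Subgroup G) (a : G) : Set G := {t | ∃ n ∈ N, t = n * a * n⁻¹}

theorem conjOrbit_eq (N : Subgroup G) (a : G) :
    (letI := subConj N; MulAction.orbit ↥N a) = conjOrbit N a := by
  letI := subConj N
  ext t
  constructor
  · rintro ⟨n, rfl⟩
    exact ⟨n.1, n.2, rfl⟩
  · rintro ⟨n, hn, rfl⟩
    exact ⟨⟨n, hn⟩, rfl⟩

/-- orbit-stabiliser for the conjugation action of `N` on `a` -/
theorem card_eq_card_stab_mul_orbit [Finite G] (N T : Subgroup G) (a : G)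
    (hT : ∀ g, g ∈ T ↔ g ∈ N ∧ a * g = g * a) :
    Nat.card N = (conjOrbit N a).ncard * Nat.card T := by
  letI := subConj N
  have h1 := Subgroup.card_eq_card_quotient_mul_card_subgroup (MulAction.stabilizer ↥N a)
  have h2 := Nat.card_congr (MulAction.orbitEquivQuotientStabilizer ↥N a)
  have h3 : Nat.card (MulAction.stabilizer ↥N a) = Nat.card T := by
    apply Nat.card_congr
    refine ⟨fun n => ⟨n.1.1, (hT _).2 ⟨n.1.2, ?_⟩⟩, fun t => ⟨⟨t.1, ((hT _).1 t.2).1⟩, ?_⟩, ?_, ?_⟩
    · have h := n.2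
      rw [MulAction.mem_stabilizer_iff] at h
      have h' : (n.1 : G) * a * (n.1 : G)⁻¹ = a := h
      calc a * (n.1 : G) = ((n.1 : G) * a * (n.1 : G)⁻¹) * (n.1 : G) := by rw [h']
        _ = (n.1 : G) * a := by group
    · rw [MulAction.mem_stabilizer_iff]
      show (t.1 : G) * a * (t.1 : G)⁻¹ = a
      rw [← ((hT _).1 t.2).2]
      group
    · intro n; rfl
    · intro t; rfl
  have h4 : Nat.card (MulAction.orbit ↥N a) = (conjOrbit N a).ncard := by
    rw [← conjOrbit_eq, Nat.card_coe_set_eq]
  rw [h1, ← h2, h3, h4]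

/-- the orbit of `a` has `1 mod 3` elements if an element `u` of order 3 of the stabiliser
fixes no other point of the orbit -/
theorem conjOrbit_card_mod_three [Finite G] (N : Subgroup G) (a u : G) (hu : u ∈ N)
    (hua : a * u = u * a) (hu3 : u * u * u = 1)
    (hfix : ∀ t ∈ conjOrbit N a, u * t = t * u → t = a) :
    (conjOrbit N a).ncard % 3 = 1 := by
  have : Fact (Nat.Prime 3) := ⟨Nat.prime_three⟩
  letI := subConj N
  set u' : ↥N := ⟨u, hu⟩ with hu'
  have hu'3 : u' ^ 3 = 1 := by
    apply Subtype.ext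
    rw [pow_succ, pow_two]
    exact hu3
  have hP : IsPGroup 3 ↥(Subgroup.zpowers u') := by
    intro g
    refine ⟨1, ?_⟩
    obtain ⟨g, hg⟩ := g
    obtain ⟨k, rfl⟩ := Subgroup.mem_zpowers_iff.1 hg
    apply Subtype.ext
    show (u' ^ k) ^ 3 ^ 1 = 1
    rw [pow_one, ← zpow_natCast, ← zpow_mul, mul_comm, zpow_mul, zpow_natCast, hu'3, one_zpow]
  have key := hP.card_modEq_card_fixedPoints (MulAction.orbit ↥N a)
  have hfp : Nat.card (MulAction.fixedPoints ↥(Subgroup.zpowers u') (MulAction.orbit ↥N a)) = 1 := by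
    rw [Nat.card_eq_one_iff_unique]
    constructor
    · constructor
      rintro ⟨⟨t, ht⟩, hft⟩ ⟨⟨t', ht'⟩, hft'⟩
      have e1 : t = a := by
        apply hfix t (by rw [← conjOrbit_eq]; exact ht)
        have h := hft ⟨u', Subgroup.mem_zpowers u'⟩
        have h' : u * t * u⁻¹ = t := congrArg (fun x : MulAction.orbit ↥N a => (x : G)) h
        calc u * t = (u * t * u⁻¹) * u := by group
          _ = t * u := by rw [h']
      have e2 : t' = a := by
        apply hfix t' (by rw [← conjOrbit_eq]; exact ht')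
        have h := hft' ⟨u', Subgroup.mem_zpowers u'⟩
        have h' : u * t' * u⁻¹ = t' := congrArg (fun x : MulAction.orbit ↥N a => (x : G)) h
        calc u * t' = (u * t' * u⁻¹) * u := by group
          _ = t' * u := by rw [h']
      subst e1
      subst e2
      rfl
    · refine ⟨⟨⟨a, MulAction.mem_orbit_self a⟩, ?_⟩⟩
      rintro ⟨g, hg⟩
      obtain ⟨k, rfl⟩ := Subgroup.mem_zpowers_iff.1 hg
      apply Subtype.ext
      show ((u' ^ k : ↥N) : G) * a * ((u' ^ k : ↥N) : G)⁻¹ = a
      have hc : Commute a ((u' ^ k : ↥N) : G) := by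
        rw [Subgroup.coe_zpow]
        exact Commute.zpow_right hua k
      rw [← hc.eq]
      group
  rw [hfp] at key
  have h4 : Nat.card (MulAction.orbit ↥N a) = (conjOrbit N a).ncard := by
    rw [← conjOrbit_eq, Nat.card_coe_set_eq]
  rw [h4] at key
  exact key

open scoped IsMulCommutative in
/-- transfer: in a perfect finite group, an element of an abelian Sylow `p`-subgroup `P` which is
central in `N(P)` is trivial -/
theorem sylow_central_eq_one {p : ℕ} [Fact p.Prime] [Finite G] (hperf : commutator G = ⊤)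
    (P : Sylow p G) (hPc : ∀ x ∈ P, ∀ y ∈ P, x * y = y * x) (a : G) (ha : a ∈ P)
    (hcentral : ∀ n ∈ Subgroup.normalizer ((P : Subgroup G) : Set G), n * a * n⁻¹ = a) : a = 1 := by
  haveI : IsMulCommutative ↥(P : Subgroup G) := ⟨⟨fun x y => Subtype.ext (hPc x x.2 y y.2)⟩⟩
  have key : ∀ (k : ℕ) (g₀ : G), g₀⁻¹ * a ^ k * g₀ ∈ (P : Subgroup G) → g₀⁻¹ * a ^ k * g₀ = a ^ k := by
    intro k g₀ hk
    obtain ⟨n, hn, h⟩ := P.conj_eq_normalizer_conj_of_mem (a ^ k) g₀ (pow_mem ha k) hk
    rw [h]
    have h1 := hcentral n⁻¹ (inv_mem hn)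
    rw [inv_inv] at h1
    have h2 : n⁻¹ * a ^ k * n = (n⁻¹ * a * n) ^ k := by
      have := map_pow (MulAut.conj n⁻¹) a k
      simp only [MulAut.conj_apply, inv_inv] at this
      exact this
    rw [h2, h1]
  have h1 := MonoidHom.transfer_eq_pow (MonoidHom.id ↥(P : Subgroup G)) a key
  have h2 : MonoidHom.transfer (MonoidHom.id ↥(P : Subgroup G)) a = 1 := by
    have hle := Abelianization.commutator_subset_ker (MonoidHom.transfer (MonoidHom.id ↥(P : Subgroup G)))
    rw [hperf] at hle
    exact MonoidHom.mem_ker.1 (hle (Subgroup.mem_top a))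
  rw [h2] at h1
  have h3 : a ^ (P : Subgroup G).index = 1 := by
    have := congrArg Subtype.val h1
    simpa using this.symm
  obtain ⟨k, hk⟩ := P.2 ⟨a, ha⟩
  have hk' : a ^ p ^ k = 1 := by
    have := congrArg Subtype.val hk
    simpa using this
  have d1 : orderOf a ∣ (P : Subgroup G).index := orderOf_dvd_of_pow_eq_one h3
  have d2 : orderOf a ∣ p ^ k := orderOf_dvd_of_pow_eq_one hk'
  have hp : Nat.Prime p := Fact.out
  have hcop : Nat.Coprime (p ^ k) (P : Subgroup G).index :=
    Nat.Coprime.pow_left k ((Nat.Prime.coprime_iff_not_dvd hp).2 P.not_dvd_index)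
  have h4 : orderOf a = 1 := (Nat.Coprime.coprime_dvd_left d2 hcop).eq_one_of_dvd d1
  exact orderOf_eq_one_iff.1 h4

open scoped Pointwise in
/-- transport of `C(P) = P ∧ |N(P)| = n` along conjugation of Sylow subgroups -/
theorem sylow_transport {p : ℕ} [Fact p.Prime] [Finite G] (P S : Sylow p G) (n : ℕ)
    (hC : Subgroup.centralizer ((P : Subgroup G) : Set G) = P)
    (hN : Nat.card (Subgroup.normalizer ((P : Subgroup G) : Set G)) = n) :
    Subgroup.centralizer ((S : Subgroup G) : Set G) = S ∧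
      Nat.card (Subgroup.normalizer ((S : Subgroup G) : Set G)) = n := by
  obtain ⟨g, hg⟩ := MulAction.exists_smul_eq G P S
  have hmem : ∀ x, x ∈ (S : Subgroup G) ↔ g⁻¹ * x * g ∈ (P : Subgroup G) := by
    intro x
    rw [← hg, Sylow.coe_subgroup_smul, Subgroup.mem_pointwise_smul_iff_inv_smul_mem, MulAut.smul_def,
      ← map_inv, MulAut.conj_apply, inv_inv]
  have hPc : ∀ x ∈ (P : Subgroup G), ∀ y ∈ (P : Subgroup G), x * y = y * x := by
    intro x hx y hy
    have hy' : y ∈ Subgroup.centralizer ((P : Subgroup G) : Set G) := by rw [hC]; exact hy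
    rw [Subgroup.mem_centralizer_iff] at hy'
    exact hy' x hx
  constructor
  · apply le_antisymm
    · intro x hx
      rw [Subgroup.mem_centralizer_iff] at hx
      rw [hmem, ← hC, Subgroup.mem_centralizer_iff]
      intro y hy
      have hs : g * y * g⁻¹ ∈ (S : Subgroup G) := by
        rw [hmem]
        have e : g⁻¹ * (g * y * g⁻¹) * g = y := by group
        rw [e]; exact hy
      have h1 := hx _ hs
      calc y * (g⁻¹ * x * g) = g⁻¹ * ((g * y * g⁻¹) * x) * g := by group
        _ = g⁻¹ * (x * (g * y * g⁻¹)) * g := by rw [h1]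
        _ = g⁻¹ * x * g * y := by group
    · intro x hx
      rw [Subgroup.mem_centralizer_iff]
      intro s hs
      have h1 := hPc _ ((hmem s).1 hs) _ ((hmem x).1 hx)
      calc s * x = g * ((g⁻¹ * s * g) * (g⁻¹ * x * g)) * g⁻¹ := by group
        _ = g * ((g⁻¹ * x * g) * (g⁻¹ * s * g)) * g⁻¹ := by rw [h1]
        _ = x * s := by group
  · have hS : (S : Subgroup G) = (P : Subgroup G).map (MulAut.conj g).toMonoidHom := by
      ext x
      rw [hmem, Subgroup.mem_map_equiv]
      have e : (MulAut.conj g).symm x = g⁻¹ * x * g := by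
        rw [MulAut.conj_symm_apply]
      rw [e]
    rw [hS, ← Subgroup.map_equiv_normalizer_eq,
      Subgroup.card_map_of_injective (MulAut.conj g).injective, hN]

end orbit

end Cfsg.Agent.Lib.Helper12.ReeInv
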