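import Cfsg.Agent.Lib.Helper12.ReeNormC
import Cfsg.Agent.Lib.Helper12.ReeNormOrb

/-! # Abstract normaliser of the Sylow 2-subgroup: `C(S) = S` and `|N(S)| = 168` (helper12) -/

set_option autoImplicit false
set_option linter.unusedSectionVars false

namespace Cfsg.Agent.Lib.Helper12.ReeInv

open Cfsg.Agent.Lib.Helper36 Matrix

namespace InvData

section char3
variable {K : Type*} [Field K] [CharP K 3] {G : Type*} [Group G] (D : InvData K G)

/-- the only elements of `E` commuting with `u` are `1` and `a` -/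
theorem fixed_u (t : G) (ht : t ∈ D.E) (hut : D.u * t = t * D.u) : t = 1 ∨ t = D.a := by
  obtain ⟨y, hy, rfl | rfl⟩ := (D.mem_E_iff t).1 ht
  · left
    have h1 : D.φ y * D.φ (SL2Data.sU 1) = D.φ (SL2Data.sU 1) * D.φ y := hut.symm
    have h2 := q8_comm_sU y hy (D.phi_comm _ _ _ h1)
    rw [h2, map_one]
  · right
    have h1 : D.φ y * D.φ (SL2Data.sU 1) = D.φ (SL2Data.sU 1) * D.φ y := by
      have e1 : D.u * (D.a * D.φ y) = D.a * (D.u * D.φ y) := by
        rw [← mul_assoc, ← D.au_comm, mul_assoc]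
      rw [e1, mul_assoc] at hut
      exact (mul_left_cancel hut).symm
    have h2 := q8_comm_sU y hy (D.phi_comm _ _ _ h1)
    rw [h2, map_one, mul_one]

variable [Finite G]

theorem exists_sylow_E (hcard : ∀ n : ℕ, 2 ^ n ∣ Nat.card G → n ≤ 3) :
    ∃ P : Sylow 2 G, (P : Subgroup G) = D.E := by
  have : Fact (Nat.Prime 2) := ⟨Nat.prime_two⟩
  have hE8 := D.card_E hcard
  have hpE : IsPGroup 2 ↥D.E := IsPGroup.of_card (n := 3) (by rw [hE8]; norm_num)
  obtain ⟨Q, hEQ⟩ := hpE.exists_le_sylow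
  obtain ⟨n, hn⟩ := (IsPGroup.iff_card).1 Q.2
  have hdvd : Nat.card ↥(Q : Subgroup G) ∣ Nat.card G := Subgroup.card_subgroup_dvd_card _
  rw [hn] at hdvd
  have hn3 : n ≤ 3 := hcard n hdvd
  have hle : Nat.card ↥D.E ≤ Nat.card ↥(Q : Subgroup G) := Subgroup.card_le_of_le hEQ
  have hQ8 : Nat.card ↥(Q : Subgroup G) = 8 := by
    rw [hn] at hle ⊢
    rw [hE8] at hle
    have : 2 ^ n ≤ 2 ^ 3 := Nat.pow_le_pow_right (by norm_num) hn3
    omega
  have hEQ' : D.E = (Q : Subgroup G) := Subgroup.eq_of_le_of_card_ge hEQ (by rw [hE8, hQ8])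
  exact ⟨Q, hEQ'.symm⟩

/-- `|N(E)| = 168` -/
theorem card_normalizer_E (hsq : ∀ t : K, t * t ≠ -1)
    (hcard : ∀ n : ℕ, 2 ^ n ∣ Nat.card G → n ≤ 3) (hperf : commutator G = ⊤) :
    Nat.card (Subgroup.normalizer (D.E : Set G)) = 168 := by
  have : Fact (Nat.Prime 2) := ⟨Nat.prime_two⟩
  set N : Subgroup G := Subgroup.normalizer (D.E : Set G) with hNdef
  have h1 := card_eq_card_stab_mul_orbit N D.T D.a D.mem_T_iff
  rw [D.card_T hsq hcard] at h1
  have haN : D.a ∈ N := Subgroup.le_normalizer D.a_mem_E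
  have haO : D.a ∈ conjOrbit N D.a := ⟨1, one_mem _, by group⟩
  -- the orbit consists of involutions of `E`
  have hsub : conjOrbit N D.a ⊆ (D.E : Set G) \ {1} := by
    rintro t ⟨n, hn, rfl⟩
    refine ⟨(Subgroup.mem_normalizer_iff.1 hn _).1 D.a_mem_E, ?_⟩
    intro h1
    rw [Set.mem_singleton_iff] at h1
    apply D.ha1
    calc D.a = n⁻¹ * (n * D.a * n⁻¹) * n := by group
      _ = 1 := by rw [h1]; group
  have hk7 : (conjOrbit N D.a).ncard ≤ 7 := by
    have h2 := Set.ncard_le_ncard hsub (Set.toFinite _)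
    have h3 : ((D.E : Set G) \ {1}).ncard = (D.E : Set G).ncard - 1 :=
      Set.ncard_sdiff_singleton_of_mem (one_mem D.E)
    have h4 : (D.E : Set G).ncard = 8 := by
      rw [← Nat.card_coe_set_eq]; exact D.card_E hcard
    omega
  -- `1 mod 3`
  have hk3 : (conjOrbit N D.a).ncard % 3 = 1 := by
    apply conjOrbit_card_mod_three N D.a D.u D.u_mem_normalizer D.au_comm D.u_cube
    intro t ht hut
    have ht' := hsub ht
    rcases D.fixed_u t ht'.1 hut with h | h
    · exact absurd h ht'.2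
    · exact h
  -- odd
  have hkodd : (conjOrbit N D.a).ncard % 2 = 1 := by
    by_contra hcon
    have hev : (conjOrbit N D.a).ncard % 2 = 0 := by omega
    obtain ⟨j, hj⟩ : ∃ j, (conjOrbit N D.a).ncard = 2 * j := ⟨_, (Nat.div_add_mod _ 2).symm.trans (by rw [hev, add_zero])⟩
    have hdvd : Nat.card N ∣ Nat.card G := Subgroup.card_subgroup_dvd_card N
    rw [h1, hj] at hdvd
    have h16 : 2 ^ 4 ∣ Nat.card G := by
      refine dvd_trans ⟨3 * j, ?_⟩ hdvd
      ring
    have := hcard 4 h16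
    omega
  -- not 1
  have hk1 : (conjOrbit N D.a).ncard ≠ 1 := by
    intro hone
    obtain ⟨b, hb⟩ := Set.ncard_eq_one.1 hone
    have hba : b = D.a := by
      have : D.a ∈ ({b} : Set G) := hb ▸ haO
      exact (Set.mem_singleton_iff.1 this).symm
    have hcentral : ∀ n ∈ N, n * D.a * n⁻¹ = D.a := by
      intro n hn
      have : n * D.a * n⁻¹ ∈ conjOrbit N D.a := ⟨n, hn, rfl⟩
      rw [hb, Set.mem_singleton_iff, hba] at this
      exact this
    obtain ⟨P, hP⟩ := D.exists_sylow_E hcard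
    apply D.ha1
    apply sylow_central_eq_one hperf P
    · intro x hx y hy
      exact D.E_comm x y (hP ▸ hx) (hP ▸ hy)
    · show D.a ∈ (P : Subgroup G)
      rw [hP]; exact D.a_mem_E
    · rw [hP]
      exact hcentral
  have hk : (conjOrbit N D.a).ncard = 7 := by omega
  rw [h1, hk]

include D in
/-- **Main abstract theorem**: every Sylow 2-subgroup `S` has `C(S) = S` and `|N(S)| = 168` -/
theorem sylow_two_normalizer (hsq : ∀ t : K, t * t ≠ -1)
    (hcard : ∀ n : ℕ, 2 ^ n ∣ Nat.card G → n ≤ 3) (hperf : commutator G = ⊤) (S : Sylow 2 G) :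
    Subgroup.centralizer ((S : Subgroup G) : Set G) = S ∧
      Nat.card (Subgroup.normalizer ((S : Subgroup G) : Set G)) = 168 := by
  have : Fact (Nat.Prime 2) := ⟨Nat.prime_two⟩
  obtain ⟨P, hP⟩ := D.exists_sylow_E hcard
  apply sylow_transport P S 168
  · rw [hP]; exact D.centralizer_E
  · rw [hP]; exact D.card_normalizer_E hsq hcard hperf

end char3

end InvData

end Cfsg.Agent.Lib.Helper12.ReeInv
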