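import Cfsg.Agent.Lib.Helper12.ReeInvC
import Cfsg.Agent.Lib.Helper12.ReeNormMain
import Cfsg.Agent.Lib.Helper36.ReePerf

/-! # The small Ree groups: `C(S) = S` and `|N(S)| = 168` for a Sylow 2-subgroup (helper12) -/

set_option autoImplicit false
set_option linter.unusedSectionVars false

namespace Cfsg.Agent.Lib.Helper12.ReeInv

open Cfsg Cfsg.Lie Cfsg.Agent.Lib.Helper18 Cfsg.Agent.Lib.Helper36 Matrix

section fin
variable {K : Type*} [Field K] [Fintype K] [CharP K 3] {m : ℕ}

/-- the involution data of the small Ree group -/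
noncomputable def reeInvData (hK : Fintype.card K = 3 ^ (2 * m + 1)) :
    InvData K ↥(twistedG2 K (3 ^ m)) where
  a := aG hK
  φ := rPhiG hK
  ha2 := aG_sq hK
  ha1 := aG_ne_one hK
  hker := rPhiG_eq_one_iff hK
  hcomm := aG_comm hK
  hne := aG_ne hK
  hcent := by
    intro t ht
    have hc : aEl K m * (t : GL chevG2.Idx K) = t * aEl K m := congrArg Subtype.val ht
    obtain ⟨z, hz | hz⟩ := centralizer_le hK t t.2 hc
    · exact ⟨z, Or.inl (Subtype.ext hz)⟩
    · exact ⟨z, Or.inr (Subtype.ext hz)⟩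

/-- `-1` is not a square in a field of order `3^(2m+1)` -/
theorem ree_neg_one_not_sq (hK : Fintype.card K = 3 ^ (2 * m + 1)) (t : K) : t * t ≠ -1 := by
  intro h
  have h1 : IsSquare (-1 : K) := ⟨t, h.symm⟩
  rw [FiniteField.isSquare_neg_one_iff] at h1
  obtain ⟨k, hk⟩ := ree_card_mod4 m
  apply h1
  rw [hK, hk]
  omega

/-- a Sylow 2-subgroup `S` of the small Ree group has `C(S) = S` and `|N(S)| = 168` -/
theorem ree_sylow_two_normalizer (hm : 1 ≤ m) (hK : Fintype.card K = 3 ^ (2 * m + 1))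
    (S : Sylow 2 ↥(twistedG2 K (3 ^ m))) :
    Subgroup.centralizer ((S : Subgroup ↥(twistedG2 K (3 ^ m))) : Set ↥(twistedG2 K (3 ^ m))) = S ∧
      Nat.card (Subgroup.normalizer
        ((S : Subgroup ↥(twistedG2 K (3 ^ m))) : Set ↥(twistedG2 K (3 ^ m)))) = 168 := by
  have := ree_finite hK
  exact (reeInvData hK).sylow_two_normalizer (ree_neg_one_not_sq hK) (ree_two_part_card hK)
    (ree_perfect_group hK hm) S

end fin

end Cfsg.Agent.Lib.Helper12.ReeInv
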