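import Cfsg.Agent.Lib.Helper12.ReeNormAbs

/-! # Abstract normaliser of the Sylow 2-subgroup: the stabiliser of `a` has order 24 (helper12) -/

set_option autoImplicit false
set_option linter.unusedSectionVars false

namespace Cfsg.Agent.Lib.Helper12.ReeInv

open Cfsg.Agent.Lib.Helper36 Matrix
open scoped Pointwise

namespace InvData

section char3
variable {K : Type*} [Field K] [CharP K 3] {G : Type*} [Group G] (D : InvData K G)

theorem u_cube : D.u * D.u * D.u = 1 := by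
  unfold u; rw [← map_mul, ← map_mul, sU_one_cube, map_one]

theorem u_ne_one : D.u ≠ 1 := fun h => sU_one_not_mem_center ((D.hker _).1 h)

theorem u_inv : D.u⁻¹ = D.u * D.u := by
  apply inv_eq_of_mul_eq_one_left
  exact D.u_cube

theorem w_ne_one : D.w ≠ 1 := fun h => sW_not_mem_center ((D.hker _).1 h)
theorem z_ne_one : D.z ≠ 1 := fun h => zEl_not_mem_center ((D.hker _).1 h)

theorem wz_ne_one : D.w * D.z ≠ 1 := by
  intro h
  unfold w z at h
  rw [← map_mul] at h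
  exact sW_zEl_not_mem_center ((D.hker _).1 h)

theorem w_ne_z : D.w ≠ D.z := by
  intro h
  apply D.wz_ne_one
  rw [h, D.z_sq]

/-- `u w u⁻¹ = z` -/
theorem u_w : D.u * D.w = D.z * D.u := by
  unfold u w z
  rw [← map_mul, sU_mul_sW, D.phi_negI_mul, map_mul]

/-- `u z u⁻¹ = w z` -/
theorem u_z : D.u * D.z = D.w * D.z * D.u := by
  unfold u w z
  rw [← map_mul, sU_mul_zEl, D.phi_negI_mul, map_mul, map_mul]

/-- `u (w z) u⁻¹ = w` -/
theorem u_wz : D.u * (D.w * D.z) = D.w * D.u := by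
  calc D.u * (D.w * D.z) = (D.u * D.w) * D.z := by group
    _ = D.z * (D.u * D.z) := by rw [D.u_w]; group
    _ = D.z * (D.w * D.z * D.u) := by rw [D.u_z]
    _ = (D.z * D.w) * D.z * D.u := by group
    _ = (D.w * D.z) * D.z * D.u := by rw [D.wz_comm]
    _ = D.w * (D.z * D.z) * D.u := by group
    _ = D.w * D.u := by rw [D.z_sq, mul_one]

theorem conj_u_a : D.u * D.a * D.u⁻¹ = D.a := by
  rw [← D.au_comm]; group

theorem conj_u_w : D.u * D.w * D.u⁻¹ = D.z := by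
  rw [D.u_w]; group

theorem conj_u_z : D.u * D.z * D.u⁻¹ = D.w * D.z := by
  rw [D.u_z]; group

theorem conj_u_wz : D.u * (D.w * D.z) * D.u⁻¹ = D.w := by
  rw [D.u_wz]; group

theorem conj_uinv_a : D.u⁻¹ * D.a * D.u⁻¹⁻¹ = D.a := by
  have h := D.au_comm
  calc D.u⁻¹ * D.a * D.u⁻¹⁻¹ = D.u⁻¹ * (D.a * D.u) := by group
    _ = D.u⁻¹ * (D.u * D.a) := by rw [h]
    _ = D.a := by group

theorem conj_uinv_z : D.u⁻¹ * D.z * D.u⁻¹⁻¹ = D.w := by
  calc D.u⁻¹ * D.z * D.u⁻¹⁻¹ = D.u⁻¹ * (D.z * D.u) := by group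
    _ = D.u⁻¹ * (D.u * D.w) := by rw [D.u_w]
    _ = D.w := by group

theorem conj_uinv_w : D.u⁻¹ * D.w * D.u⁻¹⁻¹ = D.w * D.z := by
  calc D.u⁻¹ * D.w * D.u⁻¹⁻¹ = D.u⁻¹ * (D.w * D.u) := by group
    _ = D.u⁻¹ * (D.u * (D.w * D.z)) := by rw [D.u_wz]
    _ = D.w * D.z := by group

/-- a criterion to conjugate `E` into itself -/
theorem conj_mem_E (g : G) (h1 : g * D.a * g⁻¹ ∈ D.E) (h2 : g * D.w * g⁻¹ ∈ D.E)
    (h3 : g * D.z * g⁻¹ ∈ D.E) : ∀ h ∈ D.E, g * h * g⁻¹ ∈ D.E := by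
  intro h hh
  have hle : Subgroup.closure ({D.a, D.w, D.z} : Set G) ≤ D.E.comap (MulAut.conj g).toMonoidHom := by
    rw [Subgroup.closure_le]
    intro t ht
    simp only [Set.mem_insert_iff, Set.mem_singleton_iff] at ht
    rcases ht with rfl | rfl | rfl
    · exact h1
    · exact h2
    · exact h3
  have hh' : h ∈ Subgroup.closure ({D.a, D.w, D.z} : Set G) := by
    have := D.E_eq_closure ▸ hh
    exact this
  exact hle hh'

theorem u_mem_normalizer : D.u ∈ Subgroup.normalizer (D.E : Set G) := by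
  rw [Subgroup.mem_normalizer_iff]
  intro h
  constructor
  · intro hh
    refine D.conj_mem_E D.u ?_ ?_ ?_ h hh
    · rw [D.conj_u_a]; exact D.a_mem_E
    · rw [D.conj_u_w]; exact D.z_mem_E
    · rw [D.conj_u_z]; exact mul_mem D.w_mem_E D.z_mem_E
  · intro hh
    have key := D.conj_mem_E D.u⁻¹ (by rw [D.conj_uinv_a]; exact D.a_mem_E)
      (by rw [D.conj_uinv_w]; exact mul_mem D.w_mem_E D.z_mem_E)
      (by rw [D.conj_uinv_z]; exact D.w_mem_E) _ hh
    have e : D.u⁻¹ * (D.u * h * D.u⁻¹) * D.u⁻¹⁻¹ = h := by group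
    rw [e] at key
    exact key

/-- elements of `E` in the image of `φ` -/
theorem range_E_cases (x : SpecialLinearGroup (Fin 2) K) (ht : D.φ x ∈ D.E) :
    D.φ x = 1 ∨ D.φ x = D.w ∨ D.φ x = D.z ∨ D.φ x = D.w * D.z := by
  obtain ⟨y, hy, h | h⟩ := (D.mem_E_iff _).1 ht
  · rw [h]
    rcases hy with rfl | rfl | rfl | rfl
    · left; exact map_one _
    · right; left; rfl
    · right; right; left; rfl
    · right; right; right; exact map_mul _ _ _
  · exfalso
    have h1 : D.a = D.φ (x * y⁻¹) := by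
      rw [map_mul, map_inv, h]; group
    exact D.hne _ h1

/-- an element of `φ(SL₂)` normalising `E` and centralising `w` lies in `E` -/
theorem mem_E_of_conj_w (hsq : ∀ t : K, t * t ≠ -1) (x : SpecialLinearGroup (Fin 2) K)
    (hN : D.φ x ∈ Subgroup.normalizer (D.E : Set G)) (hw : D.φ x * D.w * (D.φ x)⁻¹ = D.w) :
    D.φ x ∈ D.E := by
  have hwc : D.φ x * D.w = D.w * D.φ x := by
    calc D.φ x * D.w = (D.φ x * D.w * (D.φ x)⁻¹) * D.φ x := by group
      _ = D.w * D.φ x := by rw [hw]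
  have hz : D.φ x * D.z * (D.φ x)⁻¹ ∈ D.E := (Subgroup.mem_normalizer_iff.1 hN _).1 D.z_mem_E
  have hz' : D.φ x * D.z * (D.φ x)⁻¹ = D.φ (x * zEl K * x⁻¹) := by
    unfold z; rw [map_mul, map_mul, map_inv]
  rw [hz'] at hz
  rcases D.range_E_cases _ hz with h | h | h | h
  · exfalso
    rw [← hz'] at h
    apply D.z_ne_one
    calc D.z = (D.φ x)⁻¹ * (D.φ x * D.z * (D.φ x)⁻¹) * D.φ x := by group
      _ = 1 := by rw [h]; group
  · exfalso
    rw [← hz', ← hw] at h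
    apply D.w_ne_z
    have h2 : (D.φ x)⁻¹ * (D.φ x * D.z * (D.φ x)⁻¹) * D.φ x =
        (D.φ x)⁻¹ * (D.φ x * D.w * (D.φ x)⁻¹) * D.φ x := by rw [h]
    have e1 : (D.φ x)⁻¹ * (D.φ x * D.z * (D.φ x)⁻¹) * D.φ x = D.z := by group
    have e2 : (D.φ x)⁻¹ * (D.φ x * D.w * (D.φ x)⁻¹) * D.φ x = D.w := by group
    rw [e1, e2] at h2
    exact h2.symm
  · rw [← hz'] at h
    have hzc : D.φ x * D.z = D.z * D.φ x := by
      calc D.φ x * D.z = (D.φ x * D.z * (D.φ x)⁻¹) * D.φ x := by group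
        _ = D.z * D.φ x := by rw [h]
    exact (D.mem_E_iff' _).2 ⟨D.hcomm x, hwc.symm, hzc.symm⟩
  · exfalso
    rw [← hz'] at h
    have hzc : D.φ x * D.φ (zEl K) = D.φ (SL2Data.sW * zEl K) * D.φ x := by
      rw [map_mul]
      calc D.φ x * D.φ (zEl K) = (D.φ x * D.z * (D.φ x)⁻¹) * D.φ x := by unfold z; group
        _ = D.w * D.z * D.φ x := by rw [h]
    exact no_transposition hsq x (D.phi_comm _ _ _ hwc) (D.phi_comm _ _ _ hzc)

/-- elements of `φ(SL₂)` normalising `E` lie in `E ∪ u⁻¹ E ∪ u⁻² E` -/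
theorem stab_cover_phi (hsq : ∀ t : K, t * t ≠ -1) (x : SpecialLinearGroup (Fin 2) K)
    (hN : D.φ x ∈ Subgroup.normalizer (D.E : Set G)) :
    D.φ x ∈ D.E ∨ D.u * D.φ x ∈ D.E ∨ D.u * D.u * D.φ x ∈ D.E := by
  have hw : D.φ x * D.w * (D.φ x)⁻¹ ∈ D.E := (Subgroup.mem_normalizer_iff.1 hN _).1 D.w_mem_E
  have hw' : D.φ x * D.w * (D.φ x)⁻¹ = D.φ (x * SL2Data.sW * x⁻¹) := by
    unfold w; rw [map_mul, map_mul, map_inv]
  rw [hw'] at hw
  have huN := D.u_mem_normalizer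
  rcases D.range_E_cases _ hw with h | h | h | h
  · exfalso
    rw [← hw'] at h
    apply D.w_ne_one
    calc D.w = (D.φ x)⁻¹ * (D.φ x * D.w * (D.φ x)⁻¹) * D.φ x := by group
      _ = 1 := by rw [h]; group
  · left
    rw [← hw'] at h
    exact D.mem_E_of_conj_w hsq x hN h
  · right; right
    rw [← hw'] at h
    have e : D.u * D.u * D.φ x = D.φ (SL2Data.sU 1 * SL2Data.sU 1 * x) := by
      unfold u; rw [map_mul, map_mul]
    rw [e]
    apply D.mem_E_of_conj_w hsq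
    · rw [← e]
      exact mul_mem (mul_mem huN huN) hN
    · rw [← e]
      calc D.u * D.u * D.φ x * D.w * (D.u * D.u * D.φ x)⁻¹
          = D.u * (D.u * (D.φ x * D.w * (D.φ x)⁻¹) * D.u⁻¹) * D.u⁻¹ := by group
        _ = D.u * (D.u * D.z * D.u⁻¹) * D.u⁻¹ := by rw [h]
        _ = D.u * (D.w * D.z) * D.u⁻¹ := by rw [D.conj_u_z]
        _ = D.w := D.conj_u_wz
  · right; left
    rw [← hw'] at h
    have e : D.u * D.φ x = D.φ (SL2Data.sU 1 * x) := by
      unfold u; rw [map_mul]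
    rw [e]
    apply D.mem_E_of_conj_w hsq
    · rw [← e]
      exact mul_mem huN hN
    · rw [← e]
      calc D.u * D.φ x * D.w * (D.u * D.φ x)⁻¹
          = D.u * (D.φ x * D.w * (D.φ x)⁻¹) * D.u⁻¹ := by group
        _ = D.u * (D.w * D.z) * D.u⁻¹ := by rw [h]
        _ = D.w := D.conj_u_wz

/-- `N(E) ∩ C(a) ⊆ E ∪ u⁻¹ E ∪ u⁻² E` -/
theorem stab_cover (hsq : ∀ t : K, t * t ≠ -1) (g : G)
    (hN : g ∈ Subgroup.normalizer (D.E : Set G)) (hga : D.a * g = g * D.a) :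
    g ∈ D.E ∨ D.u * g ∈ D.E ∨ D.u * D.u * g ∈ D.E := by
  have haN : D.a ∈ Subgroup.normalizer (D.E : Set G) := Subgroup.le_normalizer D.a_mem_E
  obtain ⟨x, rfl | rfl⟩ := D.hcent g hga
  · exact D.stab_cover_phi hsq x hN
  · have hxN : D.φ x ∈ Subgroup.normalizer (D.E : Set G) := by
      have := mul_mem (inv_mem haN) hN
      rw [inv_mul_cancel_left] at this
      exact this
    rcases D.stab_cover_phi hsq x hxN with h | h | h
    · left
      exact mul_mem D.a_mem_E h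
    · right; left
      have e : D.u * (D.a * D.φ x) = D.a * (D.u * D.φ x) := by
        rw [← mul_assoc, ← D.au_comm, mul_assoc]
      rw [e]
      exact mul_mem D.a_mem_E h
    · right; right
      have e : D.u * D.u * (D.a * D.φ x) = D.a * (D.u * D.u * D.φ x) := by
        calc D.u * D.u * (D.a * D.φ x) = D.u * (D.u * D.a) * D.φ x := by group
          _ = D.u * (D.a * D.u) * D.φ x := by rw [D.au_comm]
          _ = (D.u * D.a) * D.u * D.φ x := by group
          _ = (D.a * D.u) * D.u * D.φ x := by rw [D.au_comm]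
          _ = D.a * (D.u * D.u * D.φ x) := by group
      rw [e]
      exact mul_mem D.a_mem_E h

end char3

end InvData

end Cfsg.Agent.Lib.Helper12.ReeInv
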