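import Cfsg.Agent.Lib.Helper12.ReeOutAlg2

/-! # Outer automorphisms of the Ree groups: the abstract argument (helper12)

`ReeOutData K G m` packages what we use of `G = ²G₂(q)`: the Sylow 3-subgroup `U`, the torus `H`,
the Borel subgroup `B = UH`, the Weyl element `n`, the Bruhat decomposition, and the field automorphisms. -/

set_option autoImplicit false

namespace Cfsg.Agent.Lib.Helper12.ReeOut

/-- what we use of the group `²G₂(q)` -/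
structure ReeOutData (K : Type*) [Field K] [Fintype K] (G : Type*) [Group G] (m : ℕ) where
  hK : Fintype.card K = 3 ^ (2 * m + 1)
  u : K × K × K → G
  h : Kˣ →* G
  n : G
  U : Subgroup G
  B : Subgroup G
  mem_U : ∀ g, g ∈ U ↔ ∃ p, g = u p
  mem_B : ∀ g, g ∈ B ↔ ∃ p s, g = u p * h s
  u_inj : Function.Injective u
  h_inj : Function.Injective h
  u_mul : ∀ p q, u p * u q = u (mulP (3 ^ m * 3) p q)
  conj_hu : ∀ (s : Kˣ) (p : K × K × K), h s * u p * (h s)⁻¹ =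
    u ((s : K) ^ 2 / ((s : K) ^ 3 ^ m) ^ 3 * p.1, ((s : K) ^ 3 ^ m) ^ 3 / (s : K) * p.2.1, (s : K) * p.2.2)
  cases : ∀ g, g ∈ B ∨ ∃ p s p', g = u p * h s * n * u p'
  n_h' : ∀ s, ∃ s', n⁻¹ * h s * n = h s'
  opp' : ∀ p, n⁻¹ * u p * n ∈ B → p = 0
  ti : ∀ g p p', p ≠ 0 → g * u p * g⁻¹ = u p' → g ∈ B
  core : ∀ g, (∀ x, x⁻¹ * g * x ∈ B) → g = 1
  sylow : ∀ α : G ≃* G, ∃ g, ∀ p, ∃ p', α (u p) = g * u p' * g⁻¹
  Φ : (K →+* K) → (G ≃* G)
  Φ_u : ∀ ι p, Φ ι (u p) = u (ι p.1, ι p.2.1, ι p.2.2)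
  Φ_h : ∀ ι s, Φ ι (h s) = h (Units.map (ι : K →* K) s)
  Φ_n : ∀ ι, Φ ι n = n

section field
variable {K : Type*} [Field K] [Fintype K] {m : ℕ}

theorem fact_key (hK : Fintype.card K = 3 ^ (2 * m + 1)) (x : K) :
    ((x ^ (3 ^ m * 3 + 2)) ^ 3 ^ m) ^ 3 = x ^ 3 * (x ^ (3 ^ m * 3)) ^ 2 := by
  calc ((x ^ (3 ^ m * 3 + 2)) ^ 3 ^ m) ^ 3 = (x ^ (3 ^ m * 3 + 2)) ^ (3 ^ m * 3) := (pow_mul _ _ _).symm
    _ = (x ^ (3 ^ m * 3)) ^ (3 ^ m * 3 + 2) := by rw [← pow_mul, ← pow_mul, mul_comm]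
    _ = (x ^ (3 ^ m * 3)) ^ (3 ^ m * 3) * (x ^ (3 ^ m * 3)) ^ 2 := pow_add _ _ _
    _ = x ^ 3 * (x ^ (3 ^ m * 3)) ^ 2 := by rw [fact_pow_pow hK]

theorem fact_lam_pow (hK : Fintype.card K = 3 ^ (2 * m + 1)) (v : K) (hv : v ≠ 0) :
    (v ^ 2 / (v ^ 3 ^ m) ^ 3) ^ (3 ^ m * 3 + 2) = v := by
  have hve : v ^ (3 ^ m * 3) ≠ 0 := pow_ne_zero _ hv
  rw [← pow_mul v, div_pow, pow_add (v ^ (3 ^ m * 3)), fact_pow_pow hK, pow_add (v ^ 2), ← pow_mul v 2, mul_comm 2,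
    pow_mul v]
  field_simp

end field

namespace ReeOutData
variable {K : Type*} [Field K] [Fintype K] {G : Type*} [Group G] {m : ℕ} (D : ReeOutData K G m)

theorem u_zero : D.u 0 = 1 := by
  have := D.u_mul 0 0
  rw [mulP_zero_zero _ (fact_e_ne m)] at this
  exact mul_left_cancel (this.trans (mul_one _).symm)

theorem u_mem_U (p : K × K × K) : D.u p ∈ D.U := (D.mem_U _).2 ⟨p, rfl⟩

theorem h_mem_B (s : Kˣ) : D.h s ∈ D.B := (D.mem_B _).2 ⟨0, s, by rw [D.u_zero, one_mul]⟩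

theorem u_mem_B (p : K × K × K) : D.u p ∈ D.B := (D.mem_B _).2 ⟨p, 1, by rw [map_one, mul_one]⟩

/-- the torus, reparametrised so that it acts on `U/U₁` by multiplication -/
noncomputable def hc (c : Kˣ) : G := D.h (c ^ (3 ^ m * 3 + 2))

theorem conj_hc (c : Kˣ) (p : K × K × K) : D.hc c * D.u p * (D.hc c)⁻¹ = D.u (actP (3 ^ m * 3) (c : K) p) := by
  have hx : (c : K) ≠ 0 := c.ne_zero
  have hxe : (c : K) ^ (3 ^ m * 3) ≠ 0 := pow_ne_zero _ hx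
  unfold hc
  rw [D.conj_hu, Units.val_pow_eq_pow_val, fact_key D.hK]
  congr 1
  refine Prod.ext ?_ (Prod.ext ?_ ?_)
  · show ((c : K) ^ (3 ^ m * 3 + 2)) ^ 2 / ((c : K) ^ 3 * ((c : K) ^ (3 ^ m * 3)) ^ 2) * p.1 = (c : K) * p.1
    rw [pow_add]
    field_simp
  · show (c : K) ^ 3 * ((c : K) ^ (3 ^ m * 3)) ^ 2 / (c : K) ^ (3 ^ m * 3 + 2) * p.2.1 =
      (c : K) ^ (3 ^ m * 3 + 1) * p.2.1
    rw [pow_add, pow_succ]
    field_simp
    try ring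
  · rfl

theorem h_eq_hc (s : Kˣ) : ∃ c : Kˣ, D.h s = D.hc c := by
  have hs : (s : K) ≠ 0 := s.ne_zero
  refine ⟨Units.mk0 ((s : K) ^ 2 / ((s : K) ^ 3 ^ m) ^ 3) (div_ne_zero (pow_ne_zero _ hs) (pow_ne_zero _ (pow_ne_zero _ hs))), ?_⟩
  unfold hc
  congr 1
  apply Units.ext
  rw [Units.val_pow_eq_pow_val, Units.val_mk0, fact_lam_pow D.hK _ hs]

theorem hc_mem_B (c : Kˣ) : D.hc c ∈ D.B := D.h_mem_B _

/-- `B` normalises `U` -/
theorem B_conj_U (b : G) (hb : b ∈ D.B) (p : K × K × K) : ∃ p', b * D.u p * b⁻¹ = D.u p' := by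
  obtain ⟨q, s, rfl⟩ := (D.mem_B b).1 hb
  have h1 : D.u q * D.h s * D.u p * (D.u q * D.h s)⁻¹ = D.u q * (D.h s * D.u p * (D.h s)⁻¹) * (D.u q)⁻¹ := by group
  rw [h1, D.conj_hu]
  exact (D.mem_U _).1 (mul_mem (mul_mem (D.u_mem_U _) (D.u_mem_U _)) (inv_mem (D.u_mem_U _)))

theorem u_ne_one (p : K × K × K) (hp : p ≠ 0) : D.u p ≠ 1 := by
  intro h
  rw [← D.u_zero] at h
  exact hp (D.u_inj h)

theorem n_not_mem_B : D.n ∉ D.B := by
  intro hn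
  have h1 : D.n⁻¹ * D.u ((1 : K), (0 : K), (0 : K)) * D.n ∈ D.B :=
    mul_mem (mul_mem (inv_mem hn) (D.u_mem_B _)) hn
  have h2 := D.opp' _ h1
  have h3 : (1 : K) = 0 := congrArg Prod.fst h2
  exact one_ne_zero h3

/-- `B ∩ n B n⁻¹ = H` -/
theorem B_inter (b : G) (hb : b ∈ D.B) (hb' : D.n⁻¹ * b * D.n ∈ D.B) : ∃ s, b = D.h s := by
  obtain ⟨p, s, rfl⟩ := (D.mem_B b).1 hb
  obtain ⟨s', hs'⟩ := D.n_h' s
  have h1 : D.n⁻¹ * (D.u p * D.h s) * D.n = (D.n⁻¹ * D.u p * D.n) * (D.n⁻¹ * D.h s * D.n) := by group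
  rw [h1, hs'] at hb'
  have h2 : D.n⁻¹ * D.u p * D.n ∈ D.B := by
    have := mul_mem hb' (inv_mem (D.h_mem_B s'))
    rwa [mul_inv_cancel_right] at this
  have h3 := D.opp' p h2
  exact ⟨s, by rw [h3, D.u_zero, one_mul]⟩

/-- automorphisms preserving `U` map `B` into `B` -/
theorem mapB_of_mapU (α : G ≃* G) (hU : ∀ p, ∃ p', α (D.u p) = D.u p') (b : G) (hb : b ∈ D.B) : α b ∈ D.B := by
  obtain ⟨p₁, hp₁⟩ := hU ((1 : K), (0 : K), (0 : K))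
  have hne : p₁ ≠ 0 := by
    intro h0
    rw [h0, D.u_zero] at hp₁
    have h1 : D.u ((1 : K), (0 : K), (0 : K)) = 1 := by
      apply α.injective
      rw [hp₁, map_one]
    refine D.u_ne_one _ ?_ h1
    intro h2
    exact one_ne_zero (congrArg Prod.fst h2 : (1 : K) = 0)
  obtain ⟨p₂, hp₂⟩ := D.B_conj_U b hb ((1 : K), (0 : K), (0 : K))
  obtain ⟨p₃, hp₃⟩ := hU p₂
  apply D.ti (α b) p₁ p₃ hne
  rw [← hp₁, ← map_inv, ← map_mul, ← map_mul, hp₂, hp₃]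

/-- the normalised automorphisms: they preserve `U` and the coset `nB` -/
structure Std (α : G ≃* G) : Prop where
  mapU : ∀ p, ∃ p', α (D.u p) = D.u p'
  mapN : D.n⁻¹ * α D.n ∈ D.B

variable {D}

theorem Std.mapB {α : G ≃* G} (hs : D.Std α) (b : G) (hb : b ∈ D.B) : α b ∈ D.B :=
  D.mapB_of_mapU α hs.mapU b hb

theorem Std.mapH {α : G ≃* G} (hs : D.Std α) (s : Kˣ) : ∃ s', α (D.h s) = D.h s' := by
  have h1 : α (D.h s) ∈ D.B := hs.mapB _ (D.h_mem_B s)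
  apply D.B_inter _ h1
  obtain ⟨s', hs'⟩ := D.n_h' s
  have e : D.h s * D.n = D.n * D.h s' := by rw [← hs']; group
  have e2 : α (D.h s) * α D.n = α D.n * α (D.h s') := by rw [← map_mul, e, map_mul]
  have e3 : D.n⁻¹ * α (D.h s) * D.n = (D.n⁻¹ * α D.n) * α (D.h s') * (D.n⁻¹ * α D.n)⁻¹ := by
    have : α (D.h s) = α D.n * α (D.h s') * (α D.n)⁻¹ := by rw [← e2]; group
    rw [this]; group
  rw [e3]
  exact mul_mem (mul_mem hs.mapN (hs.mapB _ (D.h_mem_B s'))) (inv_mem hs.mapN)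

theorem Std.mapHc {α : G ≃* G} (hs : D.Std α) (c : Kˣ) : ∃ c' : Kˣ, α (D.hc c) = D.hc c' := by
  obtain ⟨s', hs'⟩ := hs.mapH (c ^ (3 ^ m * 3 + 2))
  obtain ⟨c', hc'⟩ := D.h_eq_hc s'
  exact ⟨c', by rw [← hc', ← hs']; rfl⟩

/-- the action of a normalised automorphism on `U` -/
noncomputable def Std.A {α : G ≃* G} (hs : D.Std α) (p : K × K × K) : K × K × K := Classical.choose (hs.mapU p)

theorem Std.A_spec {α : G ≃* G} (hs : D.Std α) (p : K × K × K) : α (D.u p) = D.u (hs.A p) :=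
  Classical.choose_spec (hs.mapU p)

open Classical in
/-- the action of a normalised automorphism on the torus -/
noncomputable def Std.γ {α : G ≃* G} (hs : D.Std α) (c : K) : K :=
  if hc : c = 0 then 0 else ((Classical.choose (hs.mapHc (Units.mk0 c hc)) : Kˣ) : K)

theorem Std.A_mul {α : G ≃* G} (hs : D.Std α) (p q : K × K × K) :
    hs.A (mulP (3 ^ m * 3) p q) = mulP (3 ^ m * 3) (hs.A p) (hs.A q) := by
  apply D.u_inj
  rw [← hs.A_spec, ← D.u_mul, ← D.u_mul, map_mul, hs.A_spec, hs.A_spec]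

theorem Std.A_act {α : G ≃* G} (hs : D.Std α) (c : K) (hc : c ≠ 0) (p : K × K × K) :
    hs.A (actP (3 ^ m * 3) c p) = actP (3 ^ m * 3) (hs.γ c) (hs.A p) := by
  apply D.u_inj
  have h1 := Classical.choose_spec (hs.mapHc (Units.mk0 c hc))
  have h2 : hs.γ c = ((Classical.choose (hs.mapHc (Units.mk0 c hc)) : Kˣ) : K) := by
    unfold Std.γ
    rw [dif_neg hc]
  generalize Classical.choose (hs.mapHc (Units.mk0 c hc)) = c' at h1 h2
  rw [h2]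
  calc D.u (hs.A (actP (3 ^ m * 3) c p)) = α (D.u (actP (3 ^ m * 3) c p)) := (hs.A_spec _).symm
    _ = α (D.hc (Units.mk0 c hc) * D.u p * (D.hc (Units.mk0 c hc))⁻¹) := by rw [D.conj_hc]; rfl
    _ = α (D.hc (Units.mk0 c hc)) * α (D.u p) * (α (D.hc (Units.mk0 c hc)))⁻¹ := by
        rw [map_mul, map_mul, map_inv]
    _ = _ := by rw [h1, hs.A_spec, D.conj_hc]

theorem Std.A_inj {α : G ≃* G} (hs : D.Std α) : Function.Injective hs.A := by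
  intro p q h
  apply D.u_inj
  apply α.injective
  rw [hs.A_spec, hs.A_spec, h]

end ReeOutData

end Cfsg.Agent.Lib.Helper12.ReeOut
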