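import Cfsg.Agent.Lib.Helper12.ReeOutAbs

/-! # Outer automorphisms of the Ree groups: rigidity of normalised automorphisms (helper12) -/

set_option autoImplicit false

namespace Cfsg.Agent.Lib.Helper12.ReeOut

namespace ReeOutData
variable {K : Type*} [Field K] [Fintype K] {G : Type*} [Group G] {m : ℕ} {D : ReeOutData K G m}

/-- an automorphism which is trivial on `B` and preserves `nB` is trivial -/
theorem eq_id_of_B (α : G ≃* G) (hB : ∀ b ∈ D.B, α b = b) (hn : D.n⁻¹ * α D.n ∈ D.B) (x : G) : α x = x := by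
  have hβ : ∀ g, g⁻¹ * α g ∈ D.B := by
    intro g
    rcases D.cases g with hg | ⟨p, s, p', rfl⟩
    · rw [hB g hg, inv_mul_cancel]
      exact one_mem _
    · have h1 : α (D.u p * D.h s * D.n * D.u p') = D.u p * D.h s * α D.n * D.u p' := by
        rw [map_mul, map_mul, map_mul, hB _ (D.u_mem_B p), hB _ (D.h_mem_B s), hB _ (D.u_mem_B p')]
      rw [h1]
      have h2 : (D.u p * D.h s * D.n * D.u p')⁻¹ * (D.u p * D.h s * α D.n * D.u p') =
          (D.u p')⁻¹ * (D.n⁻¹ * α D.n) * D.u p' := by group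
      rw [h2]
      exact mul_mem (mul_mem (inv_mem (D.u_mem_B p')) hn) (D.u_mem_B p')
  have h1 : x⁻¹ * α x = 1 := by
    apply D.core
    intro y
    have h2 : y⁻¹ * (x⁻¹ * α x) * y = ((x * y)⁻¹ * α (x * y)) * (y⁻¹ * α y)⁻¹ := by
      rw [map_mul]; group
    rw [h2]
    exact mul_mem (hβ _) (inv_mem (hβ _))
  have : α x = x * (x⁻¹ * α x) := by group
  rw [this, h1, mul_one]

/-- rigidity of the normalised automorphisms -/
theorem Std.eq_id {α : G ≃* G} (hs : D.Std α) (hm : 1 ≤ m)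
    (hf : ∀ t : K, ∃ u v : K, α (D.u (t, 0, 0)) = D.u (t, u, v)) (x : G) : α x = x := by
  have hf' : ∀ t : K, (hs.A (t, 0, 0)).1 = t := by
    intro t
    obtain ⟨u, v, huv⟩ := hf t
    rw [hs.A_spec] at huv
    rw [D.u_inj huv]
  obtain ⟨hA, -⟩ := R_id' hs.A hs.γ hs.A_mul hs.A_act hf' D.hK hm
  have hU : ∀ p, α (D.u p) = D.u p := by
    intro p
    rw [hs.A_spec, hA]
  have hH : ∀ s, α (D.h s) = D.h s := by
    intro s
    obtain ⟨s', hs'⟩ := hs.mapH s
    have h1 : α (D.h s * D.u ((0 : K), (0 : K), (1 : K)) * (D.h s)⁻¹) =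
        D.h s' * D.u ((0 : K), (0 : K), (1 : K)) * (D.h s')⁻¹ := by
      rw [map_mul, map_mul, map_inv, hs', hU]
    rw [D.conj_hu, D.conj_hu, hU] at h1
    have h2 := D.u_inj h1
    have h3 : (s : K) * 1 = (s' : K) * 1 := congrArg (fun q : K × K × K => q.2.2) h2
    rw [mul_one, mul_one] at h3
    rw [hs', ← Units.ext h3]
  apply eq_id_of_B α ?_ hs.mapN
  intro b hb
  obtain ⟨p, s, rfl⟩ := (D.mem_B b).1 hb
  rw [map_mul, hU, hH]

/-- an automorphism fixing the generators is trivial -/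
theorem eq_id_of_gen (β : G ≃* G) (hU : ∀ p, β (D.u p) = D.u p) (hH : ∀ s, β (D.h s) = D.h s)
    (hn : β D.n = D.n) (x : G) : β x = x := by
  rcases D.cases x with hx | ⟨p, s, p', rfl⟩
  · obtain ⟨p, s, rfl⟩ := (D.mem_B x).1 hx
    rw [map_mul, hU, hH]
  · rw [map_mul, map_mul, map_mul, hU, hU, hH, hn]

end ReeOutData

end Cfsg.Agent.Lib.Helper12.ReeOut
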