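import Cfsg.Agent.Lib.Helper12.ReeOutAbs2

/-! # Outer automorphisms of the Ree groups: every automorphism is inner times field (helper12) -/

set_option autoImplicit false

namespace Cfsg.Agent.Lib.Helper12.ReeOut

namespace ReeOutData
variable {K : Type*} [Field K] [Fintype K] {G : Type*} [Group G] {m : ℕ} (D : ReeOutData K G m)

/-- conjugation -/
def cj (g : G) : G ≃* G := MulAut.conj g

theorem cj_apply (g x : G) : cj g x = g * x * g⁻¹ := rfl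

/-- an automorphism preserving `U` does not map `n` into `B` -/
theorem map_n_not_mem (α : G ≃* G) (hU : ∀ p, ∃ p', α (D.u p) = D.u p') : α D.n ∉ D.B := by
  intro hn
  have hall : ∀ g, α g ∈ D.B := by
    intro g
    rcases D.cases g with hg | ⟨p, s, p', rfl⟩
    · exact D.mapB_of_mapU α hU g hg
    · rw [map_mul, map_mul, map_mul]
      exact mul_mem (mul_mem (mul_mem (D.mapB_of_mapU α hU _ (D.u_mem_B p)) (D.mapB_of_mapU α hU _ (D.h_mem_B s))) hn)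
        (D.mapB_of_mapU α hU _ (D.u_mem_B p'))
  apply D.n_not_mem_B
  have := hall (α.symm D.n)
  rwa [MulEquiv.apply_symm_apply] at this

/-- the field automorphisms compose -/
theorem Φ_Φ (ι ι' : K →+* K) (h1 : ∀ x, ι' (ι x) = x) (y : G) : D.Φ ι' (D.Φ ι y) = y := by
  have := eq_id_of_gen (D := D) ((D.Φ ι).trans (D.Φ ι')) ?_ ?_ ?_ y
  · exact this
  · intro p
    rw [MulEquiv.trans_apply, D.Φ_u, D.Φ_u]
    simp only [h1]
  · intro s
    rw [MulEquiv.trans_apply, D.Φ_h, D.Φ_h]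
    congr 1
    apply Units.ext
    simp only [Units.coe_map, MonoidHom.coe_coe, h1]
  · rw [MulEquiv.trans_apply, D.Φ_n, D.Φ_n]

/-- every automorphism of `²G₂(q)` is the product of an inner and a field automorphism -/
theorem rigid (hm : 1 ≤ m) (α : G ≃* G) : ∃ (g : G) (ι : K →+* K), ∀ x, α x = g * D.Φ ι x * g⁻¹ := by
  -- step 1: `α` preserves `U`
  obtain ⟨g₁, hg₁⟩ := D.sylow α
  set α₁ : G ≃* G := α.trans (cj g₁⁻¹) with hα₁
  have hα₁x : ∀ x, α₁ x = g₁⁻¹ * α x * g₁ := by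
    intro x
    rw [hα₁, MulEquiv.trans_apply, cj_apply, inv_inv]
  have hU₁ : ∀ p, ∃ p', α₁ (D.u p) = D.u p' := by
    intro p
    obtain ⟨p', hp'⟩ := hg₁ p
    exact ⟨p', by rw [hα₁x, hp']; group⟩
  -- step 2: `α` preserves `nB`
  have hn₁ := D.map_n_not_mem α₁ hU₁
  rcases D.cases (α₁ D.n) with hc | ⟨p₁, s₁, p₂, hn₁'⟩
  · exact absurd hc hn₁
  set α₂ : G ≃* G := α₁.trans (cj (D.u p₁)⁻¹) with hα₂
  have hα₂x : ∀ x, α₂ x = (D.u p₁)⁻¹ * α₁ x * D.u p₁ := by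
    intro x
    rw [hα₂, MulEquiv.trans_apply, cj_apply, inv_inv]
  have hs₂ : D.Std α₂ := by
    constructor
    · intro p
      obtain ⟨p', hp'⟩ := hU₁ p
      rw [hα₂x, hp']
      exact (D.mem_U _).1 (mul_mem (mul_mem (inv_mem (D.u_mem_U _)) (D.u_mem_U _)) (D.u_mem_U _))
    · rw [hα₂x, hn₁']
      obtain ⟨s', hs'⟩ := D.n_h' s₁
      have e : D.n⁻¹ * ((D.u p₁)⁻¹ * (D.u p₁ * D.h s₁ * D.n * D.u p₂) * D.u p₁) =
          (D.n⁻¹ * D.h s₁ * D.n) * D.u p₂ * D.u p₁ := by group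
      rw [e, hs']
      exact mul_mem (mul_mem (D.h_mem_B _) (D.u_mem_B _)) (D.u_mem_B _)
  -- step 3: the field automorphism
  obtain ⟨k, hk, ι, hι⟩ := exists_ringHom hs₂.A hs₂.γ hs₂.A_mul hs₂.A_act D.hK hs₂.A_inj
  -- step 4: normalise by the torus
  set c₁ : Kˣ := (Units.mk0 k hk)⁻¹ with hc₁
  set α₃ : G ≃* G := α₂.trans (cj (D.hc c₁)) with hα₃
  have hα₃x : ∀ x, α₃ x = D.hc c₁ * α₂ x * (D.hc c₁)⁻¹ := by
    intro x
    rw [hα₃, MulEquiv.trans_apply, cj_apply]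
  have hα₃u : ∀ p, α₃ (D.u p) = D.u (actP (3 ^ m * 3) (c₁ : K) (hs₂.A p)) := by
    intro p
    rw [hα₃x, hs₂.A_spec, D.conj_hc]
  have hs₃ : D.Std α₃ := by
    constructor
    · intro p
      exact ⟨_, hα₃u p⟩
    · rw [hα₃x]
      obtain ⟨s', hs'⟩ := D.n_h' (c₁ ^ (3 ^ m * 3 + 2))
      have e : D.n⁻¹ * (D.hc c₁ * α₂ D.n * (D.hc c₁)⁻¹) =
          (D.n⁻¹ * D.hc c₁ * D.n) * (D.n⁻¹ * α₂ D.n) * (D.hc c₁)⁻¹ := by group
      rw [e]
      have : D.n⁻¹ * D.hc c₁ * D.n = D.h s' := hs'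
      rw [this]
      exact mul_mem (mul_mem (D.h_mem_B _) hs₂.mapN) (inv_mem (D.hc_mem_B _))
  -- step 5: compose with the inverse field automorphism
  let e : K ≃+* K := RingEquiv.ofBijective ι ⟨ι.injective, Finite.injective_iff_surjective.1 ι.injective⟩
  set ι' : K →+* K := e.symm.toRingHom with hι'
  have hι1 : ∀ x, ι (ι' x) = x := fun x => e.apply_symm_apply x
  have hι2 : ∀ x, ι' (ι x) = x := fun x => e.symm_apply_apply x
  set δ : G ≃* G := (D.Φ ι').trans α₃ with hδ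
  have hδx : ∀ x, δ x = α₃ (D.Φ ι' x) := fun x => rfl
  have hsδ : D.Std δ := by
    constructor
    · intro p
      rw [hδx, D.Φ_u]
      exact hs₃.mapU _
    · rw [hδx, D.Φ_n]
      exact hs₃.mapN
  have hfδ : ∀ t : K, ∃ u v : K, δ (D.u (t, 0, 0)) = D.u (t, u, v) := by
    intro t
    rw [hδx, D.Φ_u, hα₃u]
    refine ⟨_, _, congrArg D.u (Prod.ext ?_ (Prod.ext rfl rfl))⟩
    show (c₁ : K) * (hs₂.A (ι' t, ι' 0, ι' 0)).1 = t
    rw [hι, hι1, hc₁, Units.val_inv_eq_inv_val, Units.val_mk0, inv_mul_cancel_left₀ hk]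
  -- step 6: rigidity
  have hδid := hsδ.eq_id hm hfδ
  -- step 7
  have hα₃Φ : ∀ y, α₃ y = D.Φ ι y := by
    intro y
    have := hδid (D.Φ ι y)
    rw [hδx, D.Φ_Φ ι ι' hι2] at this
    exact this
  -- step 8
  refine ⟨g₁ * D.u p₁ * (D.hc c₁)⁻¹, ι, ?_⟩
  intro x
  rw [← hα₃Φ x, hα₃x, hα₂x, hα₁x]
  group

end ReeOutData

end Cfsg.Agent.Lib.Helper12.ReeOut
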