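import Cfsg.Agent.Lib.Helper12.ReeOutAbs3

/-! # Outer automorphisms of the Ree groups: the count (helper12) -/

set_option autoImplicit false

namespace Cfsg.Agent.Lib.Helper12.ReeOut

section ringaut

theorem card_ringHom_three {K : Type*} [Field K] [Fintype K] {m : ℕ} (hK : Fintype.card K = 3 ^ (2 * m + 1)) :
    Nat.card (K →+* K) = 2 * m + 1 := by
  have := fact_charP hK
  have : Fact (Nat.Prime 3) := ⟨Nat.prime_three⟩
  let _ : Algebra (ZMod 3) K := ZMod.algebra K 3
  have h1 : Module.finrank (ZMod 3) K = 2 * m + 1 := by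
    have := FiniteField.pow_finrank_eq_natCard 3 K
    rw [Nat.card_eq_fintype_card, hK] at this
    exact Nat.pow_right_injective (by norm_num : 2 ≤ 3) this
  have h2 : Nat.card (K →ₐ[ZMod 3] K) = Module.finrank (ZMod 3) K :=
    FiniteField.natCard_algHom_of_finrank_dvd (dvd_refl _)
  let eqv : (K →+* K) ≃ (K →ₐ[ZMod 3] K) :=
    { toFun := fun ι => { ι with
        commutes' := fun r => by
          have := Subsingleton.elim (ι.comp (algebraMap (ZMod 3) K)) (algebraMap (ZMod 3) K)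
          exact DFunLike.congr_fun this r }
      invFun := fun f => f.toRingHom
      left_inv := fun ι => by ext x; rfl
      right_inv := fun f => by ext x; rfl }
  rw [Nat.card_congr eqv, h2, h1]

end ringaut

namespace ReeOutData
variable {K : Type*} [Field K] [Fintype K] {G : Type*} [Group G] {m : ℕ} (D : ReeOutData K G m)

/-- a field automorphism which is inner is trivial -/
theorem Φ_inj (ι₁ ι₂ : K →+* K) (z : G) (hz : ∀ g, z * D.Φ ι₁ g * z⁻¹ = D.Φ ι₂ g) : ι₁ = ι₂ := by
  have hzB : z ∈ D.B := by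
    have h1 := hz (D.u ((1 : K), (0 : K), (0 : K)))
    rw [D.Φ_u, D.Φ_u] at h1
    refine D.ti z _ _ ?_ h1
    intro h0
    have : ι₁ 1 = 0 := congrArg Prod.fst h0
    rw [map_one] at this
    exact one_ne_zero this
  have hzn : D.n⁻¹ * z * D.n ∈ D.B := by
    have h1 := hz D.n
    rw [D.Φ_n, D.Φ_n] at h1
    have h2 : D.n⁻¹ * z * D.n = z := by
      have : D.n⁻¹ * z * D.n = D.n⁻¹ * (z * D.n * z⁻¹) * z := by group
      rw [this, h1]; group
    rw [h2]
    exact hzB
  obtain ⟨s₀, rfl⟩ := D.B_inter z hzB hzn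
  have hunits : ∀ s : Kˣ, ι₁ (s : K) = ι₂ (s : K) := by
    intro s
    have h1 := hz (D.h s)
    rw [D.Φ_h, D.Φ_h, ← map_inv, ← map_mul, ← map_mul, mul_comm s₀, mul_inv_cancel_right] at h1
    have h2 := congrArg Units.val (D.h_inj h1)
    simpa using h2
  ext x
  by_cases hx : x = 0
  · rw [hx, map_zero, map_zero]
  · exact hunits (Units.mk0 x hx)

include D in
/-- the outer automorphism group of `²G₂(q)` has order `2m + 1` -/
theorem card_out (hm : 1 ≤ m) :
    Nat.card (MulAut G ⧸ (MulAut.conj : G →* MulAut G).range) = 2 * m + 1 := by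
  let f : (K →+* K) → MulAut G ⧸ (MulAut.conj : G →* MulAut G).range := fun ι =>
    QuotientGroup.mk (D.Φ ι : MulAut G)
  have hinj : Function.Injective f := by
    intro ι₁ ι₂ h
    have h' : (D.Φ ι₁ : MulAut G)⁻¹ * (D.Φ ι₂ : MulAut G) ∈ (MulAut.conj : G →* MulAut G).range :=
      QuotientGroup.eq.1 h
    obtain ⟨y, hy⟩ := h'
    apply D.Φ_inj ι₁ ι₂ (D.Φ ι₁ y)
    intro g
    have h1 := DFunLike.congr_fun hy g
    rw [MulAut.conj_apply, MulAut.mul_apply] at h1
    have h2 := congrArg (D.Φ ι₁) h1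
    rw [map_mul, map_mul, map_inv] at h2
    rw [h2]
    exact MulAut.apply_inv_self G (D.Φ ι₁ : MulAut G) (D.Φ ι₂ g)
  have hsurj : Function.Surjective f := by
    intro q
    obtain ⟨α, rfl⟩ := QuotientGroup.mk_surjective q
    obtain ⟨g, ι, hg⟩ := D.rigid hm α
    refine ⟨ι, ?_⟩
    apply QuotientGroup.eq.2
    refine ⟨(D.Φ ι).symm g, ?_⟩
    ext x
    rw [MulAut.conj_apply, MulAut.mul_apply]
    have h1 : α x = g * D.Φ ι x * g⁻¹ := hg x
    rw [h1]
    show _ = (D.Φ ι).symm (g * D.Φ ι x * g⁻¹)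
    rw [map_mul, map_mul, map_inv, MulEquiv.symm_apply_apply]
  rw [← Nat.card_congr (Equiv.ofBijective f ⟨hinj, hsurj⟩), card_ringHom_three D.hK]

end ReeOutData

end Cfsg.Agent.Lib.Helper12.ReeOut
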