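import Mathlib

/-! # Outer automorphisms of the Ree groups: the algebra of the unipotent group (helper12)

The Sylow 3-subgroup of `²G₂(q)` is `K³` with the multiplication `mulP`, on which the torus acts by `actP`.
We show that a bijection of `K³` compatible with both is, up to a scalar and a field automorphism,
the identity. -/

set_option autoImplicit false

namespace Cfsg.Agent.Lib.Helper12.ReeOut

section defs
variable {K : Type*} [Field K]

/-- the multiplication of `U` -/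
def mulP (e : ℕ) (p q : K × K × K) : K × K × K :=
  (p.1 + q.1, p.2.1 + q.2.1 - q.1 ^ e * p.1,
    p.2.2 + q.2.2 - q.1 * p.2.1 - q.1 ^ e * p.1 ^ 2 + q.1 ^ e * p.1 * q.1)

/-- the action of the torus on `U` -/
def actP (e : ℕ) (c : K) (p : K × K × K) : K × K × K :=
  (c * p.1, c ^ (e + 1) * p.2.1, c ^ (e + 2) * p.2.2)

theorem mulP_fst (e : ℕ) (p q : K × K × K) : (mulP e p q).1 = p.1 + q.1 := rfl

theorem actP_fst (e : ℕ) (c : K) (p : K × K × K) : (actP e c p).1 = c * p.1 := rfl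

theorem mulP_zero_zero (e : ℕ) (he : e ≠ 0) : mulP e (0 : K × K × K) 0 = 0 := by
  refine Prod.ext ?_ (Prod.ext ?_ ?_) <;> simp [mulP, he]

theorem mulP_low (e : ℕ) (he : e ≠ 0) (t u v u' v' : K) :
    mulP e (t, u, v) (0, u', v') = (t, u + u', v + v') := by
  refine Prod.ext ?_ (Prod.ext ?_ ?_) <;> simp [mulP, he]

end defs

section field
variable {K : Type*} [Field K] [Fintype K] {m : ℕ}

theorem fact_charP (hK : Fintype.card K = 3 ^ (2 * m + 1)) : CharP K 3 := by
  obtain ⟨p, hp⟩ := CharP.exists K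
  obtain ⟨n, hpp, hcard⟩ := FiniteField.card K p
  have h3 : p ∣ 3 ^ (2 * m + 1) := by
    rw [← hK, hcard]
    exact dvd_pow_self p n.ne_zero
  have : p = 3 := (Nat.prime_dvd_prime_iff_eq hpp Nat.prime_three).1 (hpp.dvd_of_dvd_pow h3)
  rw [← this]
  exact hp

theorem fact_three (hK : Fintype.card K = 3 ^ (2 * m + 1)) : (3 : K) = 0 := by
  have := fact_charP hK
  have := CharP.cast_eq_zero K 3
  exact_mod_cast this

theorem fact_add_pow (hK : Fintype.card K = 3 ^ (2 * m + 1)) (a b : K) :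
    (a + b) ^ (3 ^ m * 3) = a ^ (3 ^ m * 3) + b ^ (3 ^ m * 3) := by
  have := fact_charP hK
  have : Fact (Nat.Prime 3) := ⟨Nat.prime_three⟩
  rw [← pow_succ]
  exact add_pow_char_pow a b 3 (m + 1)

omit [Fintype K] in
theorem fact_odd (m : ℕ) : Odd (3 ^ m * 3) := (Odd.pow (by decide)).mul (by decide)

omit [Fintype K] in
theorem fact_neg_one_pow (m : ℕ) : (-1 : K) ^ (3 ^ m * 3) = -1 := (fact_odd m).neg_one_pow

omit [Fintype K] in
theorem fact_e_ne (m : ℕ) : 3 ^ m * 3 ≠ 0 := by positivity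

theorem fact_pow_pow (hK : Fintype.card K = 3 ^ (2 * m + 1)) (a : K) :
    (a ^ (3 ^ m * 3)) ^ (3 ^ m * 3) = a ^ 3 := by
  rw [← pow_mul, show 3 ^ m * 3 * (3 ^ m * 3) = 3 ^ (2 * m + 1) * 3 by ring, pow_mul, ← hK,
    FiniteField.pow_card]

/-- for `m ≥ 1` the map `c ↦ c ^ (3θ)` is not the identity -/
theorem fact_exists_ne (hK : Fintype.card K = 3 ^ (2 * m + 1)) (hm : 1 ≤ m) :
    ∃ c : K, c ^ (3 ^ m * 3) ≠ c := by
  classical
  by_contra hall
  simp only [not_exists, not_not] at hall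
  obtain ⟨g, hg⟩ := IsCyclic.exists_generator (α := Kˣ)
  have hord : orderOf g = 3 ^ (2 * m + 1) - 1 := by
    rw [orderOf_eq_card_of_forall_mem_zpowers hg, Nat.card_eq_fintype_card, Fintype.card_units, hK]
  have h1 : g ^ (3 ^ m * 3) = g := Units.ext (by rw [Units.val_pow_eq_pow_val]; exact hall g)
  have hpos : 1 ≤ 3 ^ m * 3 := Nat.one_le_iff_ne_zero.2 (fact_e_ne m)
  have h2 : g ^ (3 ^ m * 3 - 1) = 1 := by
    have : g ^ (3 ^ m * 3 - 1) * g = 1 * g := by
      rw [← pow_succ, Nat.sub_add_cancel hpos, one_mul, h1]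
    exact mul_right_cancel this
  have h3 := orderOf_dvd_of_pow_eq_one h2
  rw [hord] at h3
  have h4 : 3 ^ m * 3 < 3 ^ (2 * m + 1) := by
    rw [← pow_succ]
    exact Nat.pow_lt_pow_right (by norm_num) (by omega)
  have h5 : 3 ≤ 3 ^ m * 3 := by
    have : 1 ≤ 3 ^ m := Nat.one_le_pow _ _ (by norm_num)
    omega
  have h6 := Nat.le_of_dvd (by omega) h3
  omega

end field

section aut
variable {K : Type*} [Field K] [Fintype K] {m : ℕ}

/-- the cube in `U` -/
theorem cubeP (hK : Fintype.card K = 3 ^ (2 * m + 1)) (p : K × K × K) :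
    mulP (3 ^ m * 3) (mulP (3 ^ m * 3) p p) p = (0, 0, -(p.1 ^ (3 ^ m * 3 + 2))) := by
  obtain ⟨t, u, v⟩ := p
  have h3 := fact_three hK
  refine Prod.ext ?_ (Prod.ext ?_ ?_)
  · show t + t + t = 0
    linear_combination t * h3
  · show u + u - t ^ (3 ^ m * 3) * t + u - t ^ (3 ^ m * 3) * (t + t) = 0
    linear_combination (u - t ^ (3 ^ m * 3) * t) * h3
  · show v + v - t * u - t ^ (3 ^ m * 3) * t ^ 2 + t ^ (3 ^ m * 3) * t * t + v -
      t * (u + u - t ^ (3 ^ m * 3) * t) - t ^ (3 ^ m * 3) * (t + t) ^ 2 + t ^ (3 ^ m * 3) * (t + t) * t =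
        -(t ^ (3 ^ m * 3 + 2))
    rw [pow_add]
    linear_combination (v - t * u) * h3

variable (A : K × K × K → K × K × K) (γ : K → K)
variable (hmul : ∀ p q, A (mulP (3 ^ m * 3) p q) = mulP (3 ^ m * 3) (A p) (A q))
variable (hact : ∀ c : K, c ≠ 0 → ∀ p, A (actP (3 ^ m * 3) c p) = actP (3 ^ m * 3) (γ c) (A p))

omit [Fintype K] in
include hmul in
theorem A_zero : A 0 = 0 := by
  have h := hmul 0 0
  rw [mulP_zero_zero _ (fact_e_ne m)] at h
  rcases hA : A 0 with ⟨a, b, c⟩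
  rw [hA] at h
  have h1 : a = a + a := congrArg Prod.fst h
  have ha : a = 0 := by linear_combination -h1
  have h2 : b = b + b - a ^ (3 ^ m * 3) * a := congrArg (fun q : K × K × K => q.2.1) h
  have hb : b = 0 := by rw [ha] at h2; linear_combination -h2
  have h3 : c = c + c - a * b - a ^ (3 ^ m * 3) * a ^ 2 + a ^ (3 ^ m * 3) * a * a :=
    congrArg (fun q : K × K × K => q.2.2) h
  have hc : c = 0 := by rw [ha, hb] at h3; linear_combination -h3
  rw [ha, hb, hc]; rfl

include hmul in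
/-- `A` preserves the elements of order dividing 3 -/
theorem A_low_fst (hK : Fintype.card K = 3 ^ (2 * m + 1)) (p : K × K × K) (hp : p.1 = 0) : (A p).1 = 0 := by
  have h1 := cubeP hK p
  have h2 := cubeP hK (A p)
  rw [← hmul, ← hmul, h1, hp, zero_pow (by omega), neg_zero] at h2
  have h0 : A ((0 : K), (0 : K), (0 : K)) = 0 := A_zero A hmul
  rw [h0] at h2
  have h3 : (0 : K) = -((A p).1 ^ (3 ^ m * 3 + 2)) := congrArg (fun q : K × K × K => q.2.2) h2
  have h4 : (A p).1 ^ (3 ^ m * 3 + 2) = 0 := by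
    rw [eq_comm, neg_eq_zero] at h3
    exact h3
  exact pow_eq_zero_iff (by omega) |>.1 h4

include hmul in
theorem A_fst (hK : Fintype.card K = 3 ^ (2 * m + 1)) (t u v : K) : (A (t, u, v)).1 = (A (t, 0, 0)).1 := by
  have h1 : mulP (3 ^ m * 3) (t, 0, 0) (0, u, v) = (t, u, v) := by
    rw [mulP_low _ (fact_e_ne m), zero_add, zero_add]
  rw [← h1, hmul, mulP_fst, A_low_fst A hmul hK (0, u, v) rfl, add_zero]

include hmul in
theorem A_fst_add (hK : Fintype.card K = 3 ^ (2 * m + 1)) (t t' : K) :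
    (A (t + t', 0, 0)).1 = (A (t, 0, 0)).1 + (A (t', 0, 0)).1 := by
  have h1 := hmul (t, 0, 0) (t', 0, 0)
  have h2 := congrArg Prod.fst h1
  rw [mulP_fst] at h2
  rw [← h2]
  exact (A_fst A hmul hK _ _ _).symm

omit [Fintype K] in
include hact in
theorem A_fst_smul (c : K) (hc : c ≠ 0) (t : K) : (A (c * t, 0, 0)).1 = γ c * (A (t, 0, 0)).1 := by
  have h1 := hact c hc (t, 0, 0)
  have h2 : actP (3 ^ m * 3) c (t, (0 : K), (0 : K)) = (c * t, 0, 0) := by
    refine Prod.ext rfl (Prod.ext ?_ ?_) <;> simp [actP]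
  rw [h2] at h1
  rw [h1, actP_fst]

include hmul hact in
/-- the first coordinate of `A` is a field automorphism up to a scalar -/
theorem exists_ringHom (hK : Fintype.card K = 3 ^ (2 * m + 1)) (hinj : Function.Injective A) :
    ∃ k : K, k ≠ 0 ∧ ∃ ι : K →+* K, ∀ t u v : K, (A (t, u, v)).1 = k * ι t := by
  set f : K → K := fun t => (A (t, 0, 0)).1 with hf
  have hadd : ∀ t t', f (t + t') = f t + f t' := A_fst_add A hmul hK
  have hsmul : ∀ c, c ≠ 0 → ∀ t, f (c * t) = γ c * f t := A_fst_smul A γ hact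
  have hf0 : f 0 = 0 := by
    have := hadd 0 0
    rw [add_zero] at this
    linear_combination -this
  have hk : f 1 ≠ 0 := by
    intro h0
    have h1 := cubeP hK ((1 : K), (0 : K), (0 : K))
    have h2 := cubeP hK (A ((1 : K), (0 : K), (0 : K)))
    rw [← hmul, ← hmul, h1] at h2
    have h3 : (A ((1 : K), (0 : K), (0 : K))).1 = 0 := h0
    rw [h3, zero_pow (by omega), neg_zero] at h2
    have h4 : A ((0 : K), (0 : K), -((1 : K) ^ (3 ^ m * 3 + 2))) = A 0 := by
      rw [h2, A_zero A hmul]; rfl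
    have h5 := hinj h4
    have h6 : -((1 : K) ^ (3 ^ m * 3 + 2)) = 0 := congrArg (fun q : K × K × K => q.2.2) h5
    rw [one_pow] at h6
    exact one_ne_zero (neg_eq_zero.1 h6)
  have hγ : ∀ c, c ≠ 0 → γ c = f c / f 1 := by
    intro c hc
    have := hsmul c hc 1
    rw [mul_one] at this
    rw [this, mul_div_assoc, div_self hk, mul_one]
  refine ⟨f 1, hk, ⟨⟨⟨⟨fun c => f c / f 1, div_self hk⟩, ?_⟩, ?_, ?_⟩, ?_⟩⟩
  · intro c d
    show f (c * d) / f 1 = f c / f 1 * (f d / f 1)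
    by_cases hc : c = 0
    · rw [hc, zero_mul, hf0, zero_div, zero_mul]
    · rw [hsmul c hc, hγ c hc]
      field_simp
  · show f 0 / f 1 = 0
    rw [hf0, zero_div]
  · intro c d
    show f (c + d) / f 1 = f c / f 1 + f d / f 1
    rw [hadd, add_div]
  · intro t u v
    rw [A_fst A hmul hK]
    show f t = f 1 * (f t / f 1)
    field_simp

end aut

end Cfsg.Agent.Lib.Helper12.ReeOut
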