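import Cfsg.Agent.Lib.Helper12.ReeOutAlg

/-! # Outer automorphisms of the Ree groups: rigidity on the unipotent group (helper12) -/

set_option autoImplicit false

namespace Cfsg.Agent.Lib.Helper12.ReeOut

section rigid
variable {K : Type*} [Field K] [Fintype K] {m : ℕ}
variable (A : K × K × K → K × K × K)
variable (hmul : ∀ p q, A (mulP (3 ^ m * 3) p q) = mulP (3 ^ m * 3) (A p) (A q))
variable (hact : ∀ c : K, c ≠ 0 → ∀ p, A (actP (3 ^ m * 3) c p) = actP (3 ^ m * 3) c (A p))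
variable (hf : ∀ t, (A (t, 0, 0)).1 = t)

omit [Fintype K] in
theorem neg_one_pow_e1 (m : ℕ) : (-1 : K) ^ (3 ^ m * 3 + 1) = 1 := by
  rw [pow_succ, fact_neg_one_pow]; ring

omit [Fintype K] in
theorem neg_one_pow_e2 (m : ℕ) : (-1 : K) ^ (3 ^ m * 3 + 2) = -1 := by
  rw [pow_add, fact_neg_one_pow]; ring

include hmul hf in
theorem R_fst (hK : Fintype.card K = 3 ^ (2 * m + 1)) (t u v : K) : (A (t, u, v)).1 = t := by
  rw [A_fst A hmul hK, hf]

include hmul hact hf in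
theorem R_mid (hK : Fintype.card K = 3 ^ (2 * m + 1)) (u : K) : A (0, u, 0) = (0, (A (0, u, 0)).2.1, 0) := by
  have h3 := fact_three hK
  have h1 := hact (-1) (neg_ne_zero.2 one_ne_zero) (0, u, 0)
  have h2 : actP (3 ^ m * 3) (-1 : K) (0, u, 0) = (0, u, 0) := by
    refine Prod.ext ?_ (Prod.ext ?_ ?_)
    · simp [actP]
    · show (-1 : K) ^ (3 ^ m * 3 + 1) * u = u
      rw [neg_one_pow_e1, one_mul]
    · simp [actP]
  rw [h2] at h1
  have h4 : (A (0, u, 0)).2.2 = (-1 : K) ^ (3 ^ m * 3 + 2) * (A (0, u, 0)).2.2 :=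
    congrArg (fun q : K × K × K => q.2.2) h1
  rw [neg_one_pow_e2] at h4
  have h5 : (A (0, u, 0)).2.2 = 0 := by linear_combination (A (0, u, 0)).2.2 * h3 - h4
  refine Prod.ext ?_ (Prod.ext rfl ?_)
  · exact R_fst A hmul hf hK _ _ _
  · exact h5

include hmul hact hf in
theorem R_top (hK : Fintype.card K = 3 ^ (2 * m + 1)) (v : K) : A (0, 0, v) = (0, 0, (A (0, 0, v)).2.2) := by
  have h3 := fact_three hK
  have h1 := hact (-1) (neg_ne_zero.2 one_ne_zero) (0, 0, v)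
  have h2 : actP (3 ^ m * 3) (-1 : K) (0, 0, v) = (0, 0, -v) := by
    refine Prod.ext ?_ (Prod.ext ?_ ?_)
    · simp [actP]
    · simp [actP]
    · show (-1 : K) ^ (3 ^ m * 3 + 2) * v = -v
      rw [neg_one_pow_e2]; ring
  rw [h2] at h1
  have h4 : mulP (3 ^ m * 3) ((0 : K), (0 : K), v) (0, 0, -v) = 0 := by
    rw [mulP_low _ (fact_e_ne m), add_zero, add_neg_cancel]; rfl
  have h5 := hmul (0, 0, v) (0, 0, -v)
  rw [h4, A_zero A hmul, h1] at h5
  have h6 : (A (0, 0, v)).1 = 0 := R_fst A hmul hf hK _ _ _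
  have h7 : (0 : K) = (A (0, 0, v)).2.1 + (-1 : K) ^ (3 ^ m * 3 + 1) * (A (0, 0, v)).2.1 -
      ((-1 : K) * (A (0, 0, v)).1) ^ (3 ^ m * 3) * (A (0, 0, v)).1 :=
    congrArg (fun q : K × K × K => q.2.1) h5
  simp only [h6, neg_one_pow_e1, mul_zero, sub_zero, one_mul] at h7
  have h8 : (A (0, 0, v)).2.1 = 0 := by linear_combination (A (0, 0, v)).2.1 * h3 + h7
  refine Prod.ext ?_ (Prod.ext ?_ rfl)
  · exact h6
  · exact h8

include hmul hact hf in
theorem R_mid_add (hK : Fintype.card K = 3 ^ (2 * m + 1)) (u u' : K) :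
    (A (0, u + u', 0)).2.1 = (A (0, u, 0)).2.1 + (A (0, u', 0)).2.1 := by
  have h1 := hmul (0, u, 0) (0, u', 0)
  rw [mulP_low _ (fact_e_ne m), add_zero, R_mid A hmul hact hf hK u, R_mid A hmul hact hf hK u',
    mulP_low _ (fact_e_ne m)] at h1
  exact congrArg (fun q : K × K × K => q.2.1) h1

include hmul hact hf in
theorem R_top_add (hK : Fintype.card K = 3 ^ (2 * m + 1)) (v v' : K) :
    (A (0, 0, v + v')).2.2 = (A (0, 0, v)).2.2 + (A (0, 0, v')).2.2 := by
  have h1 := hmul (0, 0, v) (0, 0, v')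
  rw [mulP_low _ (fact_e_ne m), add_zero, R_top A hmul hact hf hK v, R_top A hmul hact hf hK v',
    mulP_low _ (fact_e_ne m)] at h1
  exact congrArg (fun q : K × K × K => q.2.2) h1

include hmul hact in
theorem R_mid_sq (hK : Fintype.card K = 3 ^ (2 * m + 1)) (d u : K) :
    (A (0, d ^ 2 * u, 0)).2.1 = d ^ 2 * (A (0, u, 0)).2.1 := by
  by_cases hd : d = 0
  · rw [hd, zero_pow (by norm_num), zero_mul, zero_mul]
    have : A ((0 : K), (0 : K), (0 : K)) = 0 := A_zero A hmul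
    rw [this]; rfl
  · have hde : d ^ (3 ^ m * 3) ≠ 0 := pow_ne_zero _ hd
    have hc : d ^ (3 ^ m * 3) / d ≠ 0 := div_ne_zero hde hd
    have hpow : (d ^ (3 ^ m * 3) / d) ^ (3 ^ m * 3 + 1) = d ^ 2 := by
      rw [div_pow, pow_succ (d ^ (3 ^ m * 3)), fact_pow_pow hK, pow_succ d (3 ^ m * 3)]
      field_simp
    have h1 := hact _ hc (0, u, 0)
    have h2 : actP (3 ^ m * 3) (d ^ (3 ^ m * 3) / d) ((0 : K), u, (0 : K)) = (0, d ^ 2 * u, 0) := by
      refine Prod.ext ?_ (Prod.ext ?_ ?_)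
      · simp [actP]
      · show (d ^ (3 ^ m * 3) / d) ^ (3 ^ m * 3 + 1) * u = d ^ 2 * u
        rw [hpow]
      · simp [actP]
    rw [h2] at h1
    have h3 : (A (0, d ^ 2 * u, 0)).2.1 = (d ^ (3 ^ m * 3) / d) ^ (3 ^ m * 3 + 1) * (A (0, u, 0)).2.1 :=
      congrArg (fun q : K × K × K => q.2.1) h1
    rw [h3, hpow]

include hmul hact hf in
theorem R_mid_lin (hK : Fintype.card K = 3 ^ (2 * m + 1)) (u : K) :
    (A (0, u, 0)).2.1 = u * (A (0, 1, 0)).2.1 := by
  have h3 := fact_three hK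
  have h1 := R_mid_sq A hmul hact hK (u + 1) 1
  have h2 := R_mid_sq A hmul hact hK (u - 1) 1
  have e : (u + 1) ^ 2 * 1 = u + (u - 1) ^ 2 * 1 := by linear_combination u * h3
  rw [e, R_mid_add A hmul hact hf hK, h2] at h1
  linear_combination h1 + u * (A (0, 1, 0)).2.1 * h3

include hmul hact in
theorem R_top_lin (hK : Fintype.card K = 3 ^ (2 * m + 1)) (v : K) :
    (A (0, 0, v)).2.2 = v * (A (0, 0, 1)).2.2 := by
  by_cases hv : v = 0
  · rw [hv, zero_mul]
    have : A ((0 : K), (0 : K), (0 : K)) = 0 := A_zero A hmul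
    rw [this]; rfl
  · have hve : v ^ (3 ^ m * 3) ≠ 0 := pow_ne_zero _ hv
    have hc : v ^ 2 / v ^ (3 ^ m * 3) ≠ 0 := div_ne_zero (pow_ne_zero _ hv) hve
    have hpow : (v ^ 2 / v ^ (3 ^ m * 3)) ^ (3 ^ m * 3 + 2) = v := by
      rw [div_pow, pow_add (v ^ (3 ^ m * 3)), fact_pow_pow hK, pow_add (v ^ 2), ← pow_mul v 2, mul_comm 2,
        pow_mul v]
      field_simp
    have h1 := hact _ hc (0, 0, 1)
    have h2 : actP (3 ^ m * 3) (v ^ 2 / v ^ (3 ^ m * 3)) ((0 : K), (0 : K), (1 : K)) = (0, 0, v) := by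
      refine Prod.ext ?_ (Prod.ext ?_ ?_)
      · simp [actP]
      · simp [actP]
      · show (v ^ 2 / v ^ (3 ^ m * 3)) ^ (3 ^ m * 3 + 2) * 1 = v
        rw [hpow, mul_one]
    rw [h2] at h1
    have h3 : (A (0, 0, v)).2.2 = (v ^ 2 / v ^ (3 ^ m * 3)) ^ (3 ^ m * 3 + 2) * (A (0, 0, 1)).2.2 :=
      congrArg (fun q : K × K × K => q.2.2) h1
    rw [h3, hpow]

include hmul hact hf in
theorem R_low (hK : Fintype.card K = 3 ^ (2 * m + 1)) (u v : K) :
    A (0, u, v) = (0, u * (A (0, 1, 0)).2.1, v * (A (0, 0, 1)).2.2) := by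
  have h1 := hmul (0, u, 0) (0, 0, v)
  rw [mulP_low _ (fact_e_ne m), add_zero, zero_add, R_mid A hmul hact hf hK u, R_top A hmul hact hf hK v,
    mulP_low _ (fact_e_ne m), add_zero, zero_add, R_mid_lin A hmul hact hf hK u, R_top_lin A hmul hact hK v] at h1
  exact h1

include hmul hact hf in
theorem R_top_one (hK : Fintype.card K = 3 ^ (2 * m + 1)) : (A (0, 0, 1)).2.2 = 1 := by
  have h1 := cubeP hK ((1 : K), (0 : K), (0 : K))
  have h2 := cubeP hK (A ((1 : K), (0 : K), (0 : K)))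
  rw [← hmul, ← hmul, h1, hf] at h2
  simp only [one_pow] at h2
  rw [R_low A hmul hact hf hK] at h2
  have h3 : (-1 : K) * (A (0, 0, 1)).2.2 = -1 := congrArg (fun q : K × K × K => q.2.2) h2
  linear_combination -h3

include hmul hact hf in
theorem R_mid_one (hK : Fintype.card K = 3 ^ (2 * m + 1)) : (A (0, 1, 0)).2.1 = 1 := by
  have e1 : mulP (3 ^ m * 3) ((0 : K), (1 : K), (0 : K)) (1, 0, 0) = (1, 1, -1) := by
    refine Prod.ext ?_ (Prod.ext ?_ ?_) <;> simp [mulP]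
  have e2 : mulP (3 ^ m * 3) ((1 : K), (0 : K), (0 : K)) (0, 1, -1) = (1, 1, -1) := by
    rw [mulP_low _ (fact_e_ne m), zero_add, zero_add]
  have h1 := hmul (0, 1, 0) (1, 0, 0)
  have h2 := hmul (1, 0, 0) (0, 1, -1)
  have hm1 := R_mid A hmul hact hf hK 1
  have hl := R_low A hmul hact hf hK 1 (-1)
  rw [R_top_one A hmul hact hf hK] at hl
  have hx1 := hf 1
  rw [e1] at h1
  rw [e2, h1] at h2
  generalize (A (0, 1, 0)).2.1 = a1 at *
  rcases hx : A ((1 : K), (0 : K), (0 : K)) with ⟨x1, g1, k1⟩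
  rw [hx] at h2 hx1
  simp only at hx1
  rw [hm1, hl, hx1] at h2
  have h3 := congrArg (fun q : K × K × K => q.2.2) h2
  simp only [mulP, one_mul, mul_one, one_pow, zero_mul, mul_zero, add_zero, zero_add, sub_zero,
    ne_eq, OfNat.ofNat_ne_zero, not_false_eq_true, zero_pow, fact_e_ne m] at h3
  linear_combination -h3

include hmul hact hf in
/-- `A` is the identity on the elements of order 3 -/
theorem R_low_id (hK : Fintype.card K = 3 ^ (2 * m + 1)) (u v : K) : A (0, u, v) = (0, u, v) := by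
  rw [R_low A hmul hact hf hK, R_mid_one A hmul hact hf hK, R_top_one A hmul hact hf hK, mul_one, mul_one]

include hmul hact hf in
theorem R_key (hK : Fintype.card K = 3 ^ (2 * m + 1)) (t t' : K) :
    (A (t + t', 0, 0)).2.1 = (A (t, 0, 0)).2.1 + (A (t', 0, 0)).2.1 ∧
    (A (t + t', 0, 0)).2.2 = (A (t, 0, 0)).2.2 + (A (t', 0, 0)).2.2 - t' * (A (t, 0, 0)).2.1 := by
  have e1 : mulP (3 ^ m * 3) (t, (0 : K), (0 : K)) (t', 0, 0) =
      mulP (3 ^ m * 3) (t + t', 0, 0) (0, -(t' ^ (3 ^ m * 3) * t),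
        -(t' ^ (3 ^ m * 3) * t ^ 2) + t' ^ (3 ^ m * 3) * t * t') := by
    rw [mulP_low _ (fact_e_ne m)]
    refine Prod.ext ?_ (Prod.ext ?_ ?_) <;> simp [mulP]
  have h1 := hmul (t, 0, 0) (t', 0, 0)
  have h2 := hmul (t + t', 0, 0) (0, -(t' ^ (3 ^ m * 3) * t),
        -(t' ^ (3 ^ m * 3) * t ^ 2) + t' ^ (3 ^ m * 3) * t * t')
  rw [e1, h2, R_low_id A hmul hact hf hK] at h1
  have hx := hf t
  have hx' := hf t'
  have hx'' := hf (t + t')
  rcases hA : A (t, (0 : K), (0 : K)) with ⟨x, g, k⟩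
  rcases hA' : A (t', (0 : K), (0 : K)) with ⟨x', g', k'⟩
  rcases hA'' : A (t + t', (0 : K), (0 : K)) with ⟨x'', g'', k''⟩
  rw [hA] at hx
  rw [hA'] at hx'
  rw [hA''] at hx''
  simp only at hx hx' hx''
  rw [hA, hA', hA'', hx, hx', hx'', mulP_low _ (fact_e_ne m)] at h1
  have h3 := congrArg (fun q : K × K × K => q.2.1) h1
  have h4 := congrArg (fun q : K × K × K => q.2.2) h1
  simp only [mulP] at h3 h4
  constructor
  · show g'' = g + g'
    linear_combination h3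
  · show k'' = k + k' - t' * g
    linear_combination h4

include hmul hact hf in
theorem R_g_zero (hK : Fintype.card K = 3 ^ (2 * m + 1)) (t : K) : (A (t, 0, 0)).2.1 = 0 := by
  have h3 := fact_three hK
  -- symmetry
  have hsym : ∀ t t' : K, t' * (A (t, 0, 0)).2.1 = t * (A (t', 0, 0)).2.1 := by
    intro t t'
    have h1 := (R_key A hmul hact hf hK t t').2
    have h2 := (R_key A hmul hact hf hK t' t).2
    rw [add_comm t' t] at h2
    linear_combination h1 - h2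
  have hlin : ∀ t : K, (A (t, 0, 0)).2.1 = t * (A (1, 0, 0)).2.1 := by
    intro t
    have := hsym t 1
    rw [one_mul] at this
    exact this
  -- evenness
  have h1 := hact (-1) (neg_ne_zero.2 one_ne_zero) (t, 0, 0)
  have h2 : actP (3 ^ m * 3) (-1 : K) (t, 0, 0) = (-t, 0, 0) := by
    refine Prod.ext ?_ (Prod.ext ?_ ?_) <;> simp [actP]
  rw [h2] at h1
  have h4 : (A (-t, 0, 0)).2.1 = (-1 : K) ^ (3 ^ m * 3 + 1) * (A (t, 0, 0)).2.1 :=
    congrArg (fun q : K × K × K => q.2.1) h1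
  rw [neg_one_pow_e1, one_mul, hlin (-t), hlin t] at h4
  rw [hlin t]
  linear_combination (t * (A (1, 0, 0)).2.1) * h3 + h4

include hmul hact hf in
theorem R_k_add (hK : Fintype.card K = 3 ^ (2 * m + 1)) (t t' : K) :
    (A (t + t', 0, 0)).2.2 = (A (t, 0, 0)).2.2 + (A (t', 0, 0)).2.2 := by
  have h1 := (R_key A hmul hact hf hK t t').2
  rw [R_g_zero A hmul hact hf hK, mul_zero, sub_zero] at h1
  exact h1

omit [Fintype K] in
include hmul hact in
theorem R_k_pow (c : K) :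
    (A (c, 0, 0)).2.2 = c ^ (3 ^ m * 3 + 2) * (A (1, 0, 0)).2.2 := by
  by_cases hc : c = 0
  · rw [hc, zero_pow (by omega), zero_mul]
    have : A ((0 : K), (0 : K), (0 : K)) = 0 := A_zero A hmul
    rw [this]; rfl
  · have h1 := hact c hc (1, 0, 0)
    have h2 : actP (3 ^ m * 3) c ((1 : K), (0 : K), (0 : K)) = (c, 0, 0) := by
      refine Prod.ext ?_ (Prod.ext ?_ ?_) <;> simp [actP]
    rw [h2] at h1
    exact congrArg (fun q : K × K × K => q.2.2) h1

include hmul hact hf in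
theorem R_k_zero (hK : Fintype.card K = 3 ^ (2 * m + 1)) (hm : 1 ≤ m) (t : K) : (A (t, 0, 0)).2.2 = 0 := by
  have h3 := fact_three hK
  rw [R_k_pow A hmul hact]
  by_cases hk : (A (1, 0, 0)).2.2 = 0
  · rw [hk, mul_zero]
  · exfalso
    obtain ⟨c, hc⟩ := fact_exists_ne hK hm
    apply hc
    have h1 := R_k_add A hmul hact hf hK c 1
    have h2 := R_k_add A hmul hact hf hK c (-1)
    rw [R_k_pow A hmul hact (c + 1), R_k_pow A hmul hact c] at h1
    rw [R_k_pow A hmul hact (c + -1), R_k_pow A hmul hact c, R_k_pow A hmul hact (-1),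
      neg_one_pow_e2] at h2
    have h1' : (c + 1) ^ (3 ^ m * 3 + 2) = c ^ (3 ^ m * 3 + 2) + 1 := by
      apply mul_right_cancel₀ hk
      linear_combination h1
    have h2' : (c + -1) ^ (3 ^ m * 3 + 2) = c ^ (3 ^ m * 3 + 2) - 1 := by
      apply mul_right_cancel₀ hk
      linear_combination h2
    rw [pow_add, fact_add_pow hK, one_pow, pow_add c] at h1'
    rw [pow_add, fact_add_pow hK, fact_neg_one_pow, pow_add c] at h2'
    linear_combination 2 * h1' + 2 * h2' - (c ^ (3 ^ m * 3) + 3 * c) * h3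

include hmul hact hf in
/-- rigidity: an automorphism of `U`, equivariant for the torus, which induces the identity on `U/U₁` is trivial -/
theorem R_id (hK : Fintype.card K = 3 ^ (2 * m + 1)) (hm : 1 ≤ m) (p : K × K × K) : A p = p := by
  obtain ⟨t, u, v⟩ := p
  have h1 : mulP (3 ^ m * 3) (t, 0, 0) (0, u, v) = (t, u, v) := by
    rw [mulP_low _ (fact_e_ne m), zero_add, zero_add]
  have h2 : A (t, 0, 0) = (t, 0, 0) :=
    Prod.ext (hf t) (Prod.ext (R_g_zero A hmul hact hf hK t) (R_k_zero A hmul hact hf hK hm t))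
  rw [← h1, hmul, h2, R_low_id A hmul hact hf hK]

end rigid

section rigid'
variable {K : Type*} [Field K] [Fintype K] {m : ℕ}

/-- rigidity, with an unknown action on the torus -/
theorem R_id' (A : K × K × K → K × K × K) (γ : K → K)
    (hmul : ∀ p q, A (mulP (3 ^ m * 3) p q) = mulP (3 ^ m * 3) (A p) (A q))
    (hact : ∀ c : K, c ≠ 0 → ∀ p, A (actP (3 ^ m * 3) c p) = actP (3 ^ m * 3) (γ c) (A p))
    (hf : ∀ t, (A (t, 0, 0)).1 = t)
    (hK : Fintype.card K = 3 ^ (2 * m + 1)) (hm : 1 ≤ m) :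
    (∀ p, A p = p) ∧ ∀ c : K, c ≠ 0 → γ c = c := by
  have hγ : ∀ c : K, c ≠ 0 → γ c = c := by
    intro c hc
    have := A_fst_smul A γ hact c hc 1
    rw [hf, hf, mul_one, mul_one] at this
    exact this.symm
  refine ⟨R_id A hmul ?_ hf hK hm, hγ⟩
  intro c hc p
  rw [hact c hc p, hγ c hc]

end rigid'

end Cfsg.Agent.Lib.Helper12.ReeOut
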