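import Cfsg.Agent.Lib.Helper12.ReeOutPhi
import Cfsg.Agent.Lib.Helper12.ReeOutAbs4

/-! # Outer automorphisms of the Ree groups: the data of `²G₂(q)` (helper12) -/

set_option autoImplicit false

namespace Cfsg.Agent.Lib.Helper12.ReeOut

open Cfsg Cfsg.Lie Cfsg.Agent.Lib.Helper18 Cfsg.Agent.Lib.Helper36

section
variable {K : Type*} [Field K] [Fintype K] {m : ℕ}

/-- `u(t,u,v)` in `²G₂(q)` -/
noncomputable def uG (m : ℕ) (p : K × K × K) : ↥(twistedG2 K (3 ^ m)) := ⟨reeUel m p, reeUel_mem p⟩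

/-- `h(s)` in `²G₂(q)` -/
noncomputable def hG (hK : Fintype.card K = 3 ^ (2 * m + 1)) : Kˣ →* ↥(twistedG2 K (3 ^ m)) :=
  (reeHm (3 ^ m)).codRestrict (twistedG2 K (3 ^ m)) (reeHm_mem hK)

omit [Fintype K] in
theorem uG_coe (p : K × K × K) : ((uG m p : ↥(twistedG2 K (3 ^ m))) : GL chevG2.Idx K) = reeUel m p := rfl

theorem hG_coe (hK : Fintype.card K = 3 ^ (2 * m + 1)) (s : Kˣ) :
    ((hG hK s : ↥(twistedG2 K (3 ^ m))) : GL chevG2.Idx K) = reeHm (3 ^ m) s := rfl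

theorem inst_mem_U (hK : Fintype.card K = 3 ^ (2 * m + 1)) (g : ↥(twistedG2 K (3 ^ m))) :
    g ∈ reeU1 K m ↔ ∃ p, g = uG m p := by
  rw [mem_reeU1]
  constructor
  · intro h
    obtain ⟨t, u, v, e⟩ := (ree_pos_inf hK _).1 ⟨h, g.2⟩
    exact ⟨(t, u, v), Subtype.ext e⟩
  · rintro ⟨p, rfl⟩
    exact reeUel_mem_pos p

theorem inst_mem_B (hK : Fintype.card K = 3 ^ (2 * m + 1)) (g : ↥(twistedG2 K (3 ^ m))) :
    g ∈ reeB K m ↔ ∃ p s, g = uG m p * hG hK s := by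
  rw [mem_reeB]
  constructor
  · intro h
    obtain ⟨t, u, v, s, e⟩ := (ree_borel_inf hK _).1 ⟨h, g.2⟩
    exact ⟨(t, u, v), s, Subtype.ext e⟩
  · rintro ⟨p, s, rfl⟩
    exact mul_mem (pos_le_borel chevG2 K (reeUel_mem_pos p)) (diagonal_le_borel chevG2 K (reeHm_mem_diag _ s))

theorem inst_u_inj : Function.Injective (uG (K := K) m) := by
  intro p q h
  exact reeUel_inj _ _ (congrArg Subtype.val h)

theorem inst_h_inj (hK : Fintype.card K = 3 ^ (2 * m + 1)) : Function.Injective (hG (K := K) hK) := by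
  intro s s' h
  exact reeHm_injective _ (congrArg Subtype.val h)

theorem inst_u_mul (hK : Fintype.card K = 3 ^ (2 * m + 1)) (p q : K × K × K) :
    uG m p * uG m q = uG m (mulP (3 ^ m * 3) p q) := by
  obtain ⟨t, u, v⟩ := p
  obtain ⟨t', u', v'⟩ := q
  apply Subtype.ext
  exact reeUel_mul hK t u v t' u' v'

theorem inst_conj_hu (hK : Fintype.card K = 3 ^ (2 * m + 1)) (s : Kˣ) (p : K × K × K) :
    hG hK s * uG m p * (hG hK s)⁻¹ =
      uG m ((s : K) ^ 2 / ((s : K) ^ 3 ^ m) ^ 3 * p.1, ((s : K) ^ 3 ^ m) ^ 3 / (s : K) * p.2.1, (s : K) * p.2.2) := by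
  apply Subtype.ext
  show reeHm (3 ^ m) s * reeUel m p * (reeHm (3 ^ m) s)⁻¹ = _
  rw [ree_conj hK, torChi_6, torChi_10, torChi_11, uG_coe]
  congr 2
  · push_cast
    rw [div_eq_inv_mul]
  · congr 1
    push_cast
    rw [div_eq_mul_inv]

theorem inst_cases (hK : Fintype.card K = 3 ^ (2 * m + 1)) (g : ↥(twistedG2 K (3 ^ m))) :
    g ∈ reeB K m ∨ ∃ p s p', g = uG m p * hG hK s * reeNel K m * uG m p' := by
  rcases ree_cases hK g.1 g.2 with h | ⟨t, u, v, s, t', u', v', e⟩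
  · exact Or.inl ((mem_reeB g).2 h)
  · exact Or.inr ⟨(t, u, v), s, (t', u', v'), Subtype.ext e⟩

theorem inst_n_h' (hK : Fintype.card K = 3 ^ (2 * m + 1)) (s : Kˣ) :
    ∃ s', (reeNel K m)⁻¹ * hG hK s * reeNel K m = hG hK s' := by
  have h1 : (reeNN (3 ^ m) (1 : K))⁻¹ * reeHm (3 ^ m) s * reeNN (3 ^ m) (1 : K) ∈ chevG2.diagonalSubgroup K :=
    conj_mem_diag chevG2 hG2 K _ _ (reeNN_mem_mono' hK) (reeHm_mem_diag _ s)
  have h2 : (reeNN (3 ^ m) (1 : K))⁻¹ * reeHm (3 ^ m) s * reeNN (3 ^ m) (1 : K) ∈ twistedG2 K (3 ^ m) :=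
    mul_mem (mul_mem (inv_mem (reeNN_mem _ _)) (reeHm_mem hK s)) (reeNN_mem _ _)
  obtain ⟨s', hs'⟩ := (ree_diag_inf hK _).1 ⟨h1, h2⟩
  exact ⟨s', Subtype.ext hs'⟩

theorem inst_opp' (hK : Fintype.card K = 3 ^ (2 * m + 1)) (p : K × K × K)
    (h : (reeNel K m)⁻¹ * uG m p * reeNel K m ∈ reeB K m) : p = 0 := by
  rw [mem_reeB] at h
  have h' : (reeNN (3 ^ m) (1 : K))⁻¹ * reeUel m p * reeNN (3 ^ m) (1 : K) ∈ chevG2.borelSubgroup K := h
  set n := reeNN (3 ^ m) (1 : K) with hn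
  have hsq : (n * n)⁻¹ ∈ chevG2.diagonalSubgroup K := inv_mem (reeNN_sq hK)
  have h1 : (n * n)⁻¹ * reeUel m p * (n * n)⁻¹⁻¹ ∈ chevG2.posUnipotent K :=
    diag_conj_pos _ _ hsq (reeUel_mem_pos p)
  have h2 := ree_nn_conj_pos hK _ h1
  have e : n * ((n * n)⁻¹ * reeUel m p * (n * n)⁻¹⁻¹) * n⁻¹ = n⁻¹ * reeUel m p * n := by group
  rw [← hn, e] at h2
  have h3 : n⁻¹ * reeUel m p * n ∈ chevG2.borelSubgroup K ⊓ chevG2.negUnipotent K := ⟨h', h2⟩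
  rw [borel_inf_neg chevG2 hG2 K, Subgroup.mem_bot] at h3
  have h4 : reeUel m p = 1 := by
    have : reeUel m p = n * (n⁻¹ * reeUel m p * n) * n⁻¹ := by group
    rw [this, h3]; group
  exact (reeUel_eq_one_iff p).1 h4

theorem inst_ti (hK : Fintype.card K = 3 ^ (2 * m + 1)) (g : ↥(twistedG2 K (3 ^ m))) (p p' : K × K × K)
    (hp : p ≠ 0) (h : g * uG m p * g⁻¹ = uG m p') : g ∈ reeB K m := by
  rw [mem_reeB]
  by_contra hgB
  have h1 : (g : GL chevG2.Idx K) * reeUel m p * (g : GL chevG2.Idx K)⁻¹ = reeUel m p' := congrArg Subtype.val h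
  have h2 := ree_ti_aux hK g.1 (reeUel m p) g.2 hgB (reeUel_mem_pos p) (by rw [h1]; exact reeUel_mem_pos p')
  exact hp ((reeUel_eq_one_iff p).1 h2)

theorem inst_core (hK : Fintype.card K = 3 ^ (2 * m + 1)) (g : ↥(twistedG2 K (3 ^ m)))
    (h : ∀ x, x⁻¹ * g * x ∈ reeB K m) : g = 1 := by
  have h1 : g ∈ (reeB K m).normalCore := by
    intro b
    have := h b⁻¹
    rwa [inv_inv] at this
  rw [ree_core hK, Subgroup.mem_bot] at h1
  exact h1

theorem inst_sylow (hK : Fintype.card K = 3 ^ (2 * m + 1)) (α : ↥(twistedG2 K (3 ^ m)) ≃* ↥(twistedG2 K (3 ^ m))) :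
    ∃ g, ∀ p, ∃ p', α (uG m p) = g * uG m p' * g⁻¹ := by
  have : Fact (Nat.Prime 3) := ⟨Nat.prime_three⟩
  obtain ⟨a, ha⟩ := MulAction.exists_smul_eq ↥(twistedG2 K (3 ^ m)) (reeSyl hK) ((α : MulAut ↥(twistedG2 K (3 ^ m))) • reeSyl hK)
  refine ⟨a, ?_⟩
  intro p
  have h1 : α (uG m p) ∈ (((α : MulAut ↥(twistedG2 K (3 ^ m))) • reeSyl hK : Sylow 3 ↥(twistedG2 K (3 ^ m))) :
      Subgroup ↥(twistedG2 K (3 ^ m))) := by
    rw [Sylow.pointwise_smul_def]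
    refine Subgroup.smul_mem_pointwise_smul _ _ _ ?_
    rw [reeSyl_coe, mem_reeU1]
    exact reeUel_mem_pos p
  rw [← ha, mem_smul_reeSyl] at h1
  obtain ⟨p', hp'⟩ := (inst_mem_U hK ⟨_, mul_mem (mul_mem (inv_mem a.2) (α (uG m p)).2) a.2⟩).1 h1
  refine ⟨p', ?_⟩
  have h2 : a⁻¹ * α (uG m p) * a = uG m p' := by
    rw [← hp']
    rfl
  rw [← h2]
  group

end

end Cfsg.Agent.Lib.Helper12.ReeOut

namespace Cfsg.Agent.Lib.Helper12.ReeOut

open Cfsg Cfsg.Lie Cfsg.Agent.Lib.Helper18 Cfsg.Agent.Lib.Helper36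

section
variable {K : Type*} [Field K] [Fintype K] {m : ℕ}

/-- the data of `²G₂(q)` -/
noncomputable def reeOutData (hK : Fintype.card K = 3 ^ (2 * m + 1)) : ReeOutData K ↥(twistedG2 K (3 ^ m)) m where
  hK := hK
  u := uG m
  h := hG hK
  n := reeNel K m
  U := reeU1 K m
  B := reeB K m
  mem_U := inst_mem_U hK
  mem_B := inst_mem_B hK
  u_inj := inst_u_inj
  h_inj := inst_h_inj hK
  u_mul := inst_u_mul hK
  conj_hu := inst_conj_hu hK
  cases := inst_cases hK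
  n_h' := inst_n_h' hK
  opp' := inst_opp' hK
  ti := inst_ti hK
  core := inst_core hK
  sylow := inst_sylow hK
  Φ := phiAut m
  Φ_u := fun ι p => Subtype.ext (glMap_reeUel ι m p)
  Φ_h := fun ι s => Subtype.ext (glMap_reeHm ι _ s)
  Φ_n := fun ι => Subtype.ext (glMap_reeNN ι _)

/-- the outer automorphism group of `²G₂(q)`, `q = 3^(2m+1)`, `m ≥ 1`, has order `2m + 1` -/
theorem ree_card_out (hm : 1 ≤ m) (hK : Fintype.card K = 3 ^ (2 * m + 1)) :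
    Nat.card (MulAut ↥(twistedG2 K (3 ^ m)) ⧸ (MulAut.conj : ↥(twistedG2 K (3 ^ m)) →* MulAut ↥(twistedG2 K (3 ^ m))).range) =
      2 * m + 1 :=
  (reeOutData hK).card_out hm

end

end Cfsg.Agent.Lib.Helper12.ReeOut
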