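import Cfsg.Agent.Lib.Helper36.ReeSylow

/-! # Outer automorphisms of the Ree groups: the field automorphisms (helper12) -/

set_option autoImplicit false

namespace Cfsg.Agent.Lib.Helper12.ReeOut

open Cfsg Cfsg.Lie Cfsg.Agent.Lib.Helper18 Cfsg.Agent.Lib.Helper36

section
variable {K : Type*} [Field K]

theorem glMap_reeU (ι : K →+* K) (θ : ℕ) (t u v : K) :
    glMap chevG2 ι (wordGL chevG2 hG2 K (reeWordU θ t u v)) =
      wordGL chevG2 hG2 K (reeWordU θ (ι t) (ι u) (ι v)) := by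
  rw [glMap_wordGL]
  congr 1
  simp [reeWordU, map_pow, map_add]

theorem glMap_reeV (ι : K →+* K) (θ : ℕ) (t u v : K) :
    glMap chevG2 ι (wordGL chevG2 hG2 K (reeWordV θ t u v)) =
      wordGL chevG2 hG2 K (reeWordV θ (ι t) (ι u) (ι v)) := by
  rw [glMap_wordGL]
  congr 1
  simp [reeWordV, ChevalleyDatum.negWord, reeWordU, map_pow, map_add, map_neg]

theorem glMap_twisted_le (ι : K →+* K) (θ : ℕ) :
    (twistedG2 K θ).map (glMap chevG2 ι) ≤ twistedG2 K θ := by
  unfold twistedG2 ChevalleyDatum.genSubgroup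
  rw [MonoidHom.map_closure, Subgroup.closure_le]
  rintro _ ⟨g, ⟨w, ⟨t, u, v, hw⟩, hg⟩, rfl⟩
  have hgw : g = wordGL chevG2 hG2 K w := Units.ext (by rw [hg, wordGL_coe])
  rw [hgw]
  rcases hw with rfl | rfl
  · rw [glMap_reeU]
    exact reeU_mem θ _ _ _
  · rw [glMap_reeV]
    exact reeV_mem θ _ _ _

theorem glMap_reeUel (ι : K →+* K) (m : ℕ) (p : K × K × K) :
    glMap chevG2 ι (reeUel m p) = reeUel m (ι p.1, ι p.2.1, ι p.2.2) := glMap_reeU ι _ _ _ _

theorem glMap_reeNN (ι : K →+* K) (θ : ℕ) : glMap chevG2 ι (reeNN θ (1 : K)) = reeNN θ (1 : K) := by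
  unfold reeNN
  rw [map_mul, map_mul, glMap_reeU, glMap_reeV]
  simp only [map_zero, map_one, map_inv₀]

theorem glMap_reeHm (ι : K →+* K) (θ : ℕ) (s : Kˣ) :
    glMap chevG2 ι (reeHm θ s) = reeHm θ (Units.map (ι : K →* K) s) := by
  rw [reeHm_apply, reeHm_apply, torusHom_torPair, torusHom_torPair, map_mul, glMap_hGL, glMap_hGL]
  congr 2
  simp [map_pow]

end

section fin
variable {K : Type*} [Field K] [Fintype K] {m : ℕ}

/-- the field endomorphism of `²G₂(q)` -/
noncomputable def phiHom (m : ℕ) (ι : K →+* K) : ↥(twistedG2 K (3 ^ m)) →* ↥(twistedG2 K (3 ^ m)) :=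
  ((glMap chevG2 ι).comp (twistedG2 K (3 ^ m)).subtype).codRestrict (twistedG2 K (3 ^ m))
    (fun g => glMap_twisted_le ι _ ⟨g, g.2, rfl⟩)

omit [Fintype K] in
theorem phiHom_coe (ι : K →+* K) (g : ↥(twistedG2 K (3 ^ m))) :
    ((phiHom m ι g : ↥(twistedG2 K (3 ^ m))) : GL chevG2.Idx K) = glMap chevG2 ι g := rfl

omit [Fintype K] in
theorem phiHom_injective (ι : K →+* K) : Function.Injective (phiHom m ι) := by
  intro a b h
  apply Subtype.ext
  apply glMap_injective chevG2 ι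
  have := congrArg Subtype.val h
  exact this

/-- the field automorphism of `²G₂(q)` -/
noncomputable def phiAut (m : ℕ) (ι : K →+* K) : ↥(twistedG2 K (3 ^ m)) ≃* ↥(twistedG2 K (3 ^ m)) :=
  MulEquiv.ofBijective (phiHom m ι)
    ⟨phiHom_injective ι, Finite.injective_iff_surjective.1 (phiHom_injective ι)⟩

theorem phiAut_coe (ι : K →+* K) (g : ↥(twistedG2 K (3 ^ m))) :
    ((phiAut m ι g : ↥(twistedG2 K (3 ^ m))) : GL chevG2.Idx K) = glMap chevG2 ι g := rfl

end fin

end Cfsg.Agent.Lib.Helper12.ReeOut
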