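import Mathlib
import Cfsg.Agent.Lib.Helper5.AutPSL2Card
import Cfsg.Agent.Lib.Helper14.DkSL2

/-!
# Facts on `SL(2,5)` needed for the insoluble sharply doubly transitive groups (helper12)
-/

set_option autoImplicit false

namespace Cfsg.Agent.Lib.Helper12.ZI

section aut
variable {G : Type*} [Group G]

/-- the automorphism induced on the central quotient -/
noncomputable def quotAut (χ : MulAut G) : MulAut (G ⧸ Subgroup.center G) :=
  QuotientGroup.congr (Subgroup.center G) (Subgroup.center G) χ
    ((Subgroup.characteristic_iff_map_eq.mp inferInstance) χ)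

theorem quotAut_mk (χ : MulAut G) (x : G) :
    quotAut χ (x : G ⧸ Subgroup.center G) = ((χ x : G) : G ⧸ Subgroup.center G) := rfl

theorem quotAut_injective (hperf : commutator G = ⊤) :
    Function.Injective (quotAut (G := G)) := by
  intro χ₁ χ₂ h
  have hd : ∀ x : G, (χ₂ x)⁻¹ * χ₁ x ∈ Subgroup.center G := by
    intro x
    have h1 := congrArg (fun f => f (x : G ⧸ Subgroup.center G)) h
    simp only [quotAut_mk] at h1
    exact QuotientGroup.eq.mp h1.symm
  let d : G →* Subgroup.center G :=
    { toFun := fun x => ⟨(χ₂ x)⁻¹ * χ₁ x, hd x⟩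
      map_one' := by
        apply Subtype.ext
        simp
      map_mul' := fun x y => by
        apply Subtype.ext
        show (χ₂ (x * y))⁻¹ * χ₁ (x * y) = ((χ₂ x)⁻¹ * χ₁ x) * ((χ₂ y)⁻¹ * χ₁ y)
        have hc := Subgroup.mem_center_iff.mp (hd x) (χ₂ y)⁻¹
        rw [map_mul, map_mul, mul_inv_rev]
        calc (χ₂ y)⁻¹ * (χ₂ x)⁻¹ * (χ₁ x * χ₁ y)
            = ((χ₂ y)⁻¹ * ((χ₂ x)⁻¹ * χ₁ x)) * χ₁ y := by group
          _ = (((χ₂ x)⁻¹ * χ₁ x) * (χ₂ y)⁻¹) * χ₁ y := by rw [hc]
          _ = _ := by group }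
  have hker : commutator G ≤ d.ker := by
    rw [commutator_def, Subgroup.commutator_le]
    intro g₁ _ g₂ _
    rw [MonoidHom.mem_ker, map_commutatorElement, commutatorElement_eq_one_iff_mul_comm]
    apply Subtype.ext
    exact (Subgroup.mem_center_iff.mp (d g₁).2 (d g₂)).symm
  apply MulEquiv.ext
  intro x
  have hx : d x = 1 := by
    have : x ∈ d.ker := hker (by rw [hperf]; trivial)
    exact this
  have h2 : (χ₂ x)⁻¹ * χ₁ x = 1 := congrArg Subtype.val hx
  exact (inv_mul_eq_one.mp h2).symm

theorem card_mulAut_le [Finite G] (hperf : commutator G = ⊤) :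
    Nat.card (MulAut G) ≤ Nat.card (MulAut (G ⧸ Subgroup.center G)) := by
  have hfin : Finite (MulAut (G ⧸ Subgroup.center G)) :=
    Finite.of_injective (fun f => (f : G ⧸ Subgroup.center G → G ⧸ Subgroup.center G))
      DFunLike.coe_injective
  exact Nat.card_le_card_of_injective _ (quotAut_injective hperf)

theorem map_center {G' : Type*} [Group G'] (e : G ≃* G') :
    (Subgroup.center G).map (e : G →* G') = Subgroup.center G' := by
  ext y
  constructor
  · rintro ⟨x, hx, rfl⟩
    rw [Subgroup.mem_center_iff]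
    intro g
    have h1 := Subgroup.mem_center_iff.mp hx (e.symm g)
    have h2 := congrArg e h1
    simpa using h2
  · intro hy
    refine ⟨e.symm y, ?_, by simp⟩
    rw [SetLike.mem_coe, Subgroup.mem_center_iff]
    intro g
    have h1 := Subgroup.mem_center_iff.mp hy (e g)
    have h2 := congrArg e.symm h1
    simpa using h2

end aut

local notation "S25" => Matrix.SpecialLinearGroup (Fin 2) (ZMod 5)

theorem card_S25 : Nat.card S25 = 120 := by
  have : Fact (Nat.Prime 5) := ⟨by norm_num⟩
  rw [Cfsg.Agent.Lib.Helper38.card_SL2, ZMod.card]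
  norm_num

theorem card_center_S25 : Nat.card (Subgroup.center S25) = 2 := by
  have : Fact (Nat.Prime 5) := ⟨by norm_num⟩
  have h1 : Nat.card (Subgroup.center S25) ≤ 2 := Cfsg.Agent.Lib.Helper14.Dk.card_center_le
  have h2 : 1 < Nat.card (Subgroup.center S25) := by
    rw [Finite.one_lt_card_iff_nontrivial]
    refine ⟨⟨⟨-1, Cfsg.Agent.Lib.Helper14.Dk.neg_one_mem_center⟩, 1, ?_⟩⟩
    intro h
    have h3 : (-1 : S25) = 1 := congrArg Subtype.val h
    have h4 := congrArg (fun A : S25 => A.1 0 0) h3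
    simp at h4
    revert h4
    decide
  omega

theorem card_aut_PSL25 :
    Nat.card (MulAut (Matrix.ProjectiveSpecialLinearGroup (Fin 2) (ZMod 5))) = 120 := by
  have hF : Fintype.card (ZMod 5) = 5 ^ 1 := by rw [ZMod.card]; norm_num
  have : Fact (Nat.Prime 5) := ⟨by norm_num⟩
  rw [Cfsg.Agent.Lib.Helper5.AutPSL2.card_aut_PSL2 (F := ZMod 5) (p := 5) (f := 1) le_rfl hF,
    card_S25]

/-- the numerical facts on a perfect group isomorphic to `SL(2,5)` -/
theorem facts {G : Type*} [Group G] (e : G ≃* S25) (hperf : commutator G = ⊤) :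
    Nat.card G = 120 ∧ Nat.card (Subgroup.center G) = 2 ∧ Nat.card (MulAut G) ≤ 120 := by
  have hcard : Nat.card G = 120 := by rw [Nat.card_congr e.toEquiv, card_S25]
  have hfin : Finite G := Nat.finite_of_card_ne_zero (by rw [hcard]; norm_num)
  refine ⟨hcard, ?_, ?_⟩
  · rw [Nat.card_congr (Subgroup.centerCongr e).toEquiv, card_center_S25]
  · refine le_trans (card_mulAut_le hperf) ?_
    have e2 : G ⧸ Subgroup.center G ≃* Matrix.ProjectiveSpecialLinearGroup (Fin 2) (ZMod 5) :=
      QuotientGroup.congr (Subgroup.center G) (Subgroup.center S25) e (map_center e)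
    rw [Nat.card_congr (MulAut.congr e2).toEquiv, card_aut_PSL25]

end Cfsg.Agent.Lib.Helper12.ZI
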