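import Mathlib
import Cfsg.Agent.Lib.Helper12.ZTop
import Cfsg.Agent.Lib.Helper12.NearQ8
import Cfsg.Agent.Lib.Helper12.RegLin
import Cfsg.Agent.Lib.Helper20.Q8Normal
import Cfsg.Agent.S0684
import Cfsg.Agent.S0685
import Cfsg.Agent.S0687
import Cfsg.Agent.S0688
import Cfsg.Agent.S0689
import Cfsg.Agent.S3742

/-!
# Solvable linear groups regular on non-zero vectors: subgroups of index two (helper12)
-/

set_option autoImplicit false
set_option linter.style.haveILetI false

namespace Cfsg.Agent.Lib.Helper12.RegSolv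

open Cfsg.Agent.Lib.Helper12

/-- a group with a non-trivial `2`-group quotient has a normal subgroup of index two -/
theorem index_two_of_two_group_quot {X Y : Type*} [Group X] [Group Y] [Finite Y] (f : X →* Y)
    (hf : Function.Surjective f) (hY : IsPGroup 2 Y) (hnt : Nontrivial Y) :
    ∃ N : Subgroup X, N.Normal ∧ N.index = 2 := by
  haveI : Fact (Nat.Prime 2) := ⟨Nat.prime_two⟩
  obtain ⟨a, ha⟩ := IsPGroup.iff_card.mp hY
  have ha1 : 1 ≤ a := by
    by_contra h
    have h0 : a = 0 := by omega
    rw [h0, pow_zero] at ha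
    have := Finite.one_lt_card (α := Y)
    omega
  obtain ⟨K, hK⟩ := Sylow.exists_subgroup_card_pow_prime 2
    (show 2 ^ (a - 1) ∣ Nat.card Y by rw [ha]; exact pow_dvd_pow 2 (by omega))
  have hidx : K.index = 2 := by
    have h1 := K.card_mul_index
    rw [hK, ha] at h1
    have h2 : 2 ^ a = 2 ^ (a - 1) * 2 := by
      rw [← pow_succ]; congr 1; omega
    rw [h2] at h1
    exact Nat.eq_of_mul_eq_mul_left (by positivity) h1
  haveI : K.Normal := Subgroup.normal_of_index_eq_two hidx
  refine ⟨K.comap f, inferInstance, ?_⟩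
  rw [Subgroup.index_comap_of_surjective K hf, hidx]

/-- a group with a commutative quotient of even order has a normal subgroup of index two -/
theorem index_two_of_comm_quot {X Y : Type*} [Group X] [Group Y] [Finite Y] (f : X →* Y)
    (hf : Function.Surjective f) (hY : ∀ a b : Y, a * b = b * a) (h2 : 2 ∣ Nat.card Y) :
    ∃ N : Subgroup X, N.Normal ∧ N.index = 2 := by
  letI : CommGroup Y := { (inferInstance : Group Y) with mul_comm := hY }
  let sq : Y →* Y := powMonoidHom 2
  have hsq : ∀ y : Y, sq y = y ^ 2 := fun _ => rfl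
  have hR : sq.range ≠ ⊤ := by
    intro h
    have hsurj : Function.Surjective sq := MonoidHom.range_eq_top.mp h
    have hinj : Function.Injective sq := Finite.injective_iff_surjective.mpr hsurj
    haveI : Fact (Nat.Prime 2) := ⟨Nat.prime_two⟩
    obtain ⟨t, ht⟩ := exists_prime_orderOf_dvd_card' (G := Y) 2 h2
    have h1 : sq t = sq 1 := by
      rw [hsq, hsq, one_pow, ← ht, pow_orderOf_eq_one]
    have h3 := hinj h1
    rw [h3, orderOf_one] at ht
    norm_num at ht
  have hq : IsPGroup 2 (Y ⧸ sq.range) := by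
    intro y
    obtain ⟨y, rfl⟩ := QuotientGroup.mk_surjective y
    refine ⟨1, ?_⟩
    rw [pow_one, ← QuotientGroup.mk_pow, QuotientGroup.eq_one_iff]
    exact ⟨y, rfl⟩
  have hnt : Nontrivial (Y ⧸ sq.range) := by
    rw [← Finite.one_lt_card_iff_nontrivial, ← Subgroup.index_eq_card]
    have h1 : sq.range.index ≠ 1 := fun e => hR (Subgroup.index_eq_one.mp e)
    have h0 : sq.range.index ≠ 0 := Subgroup.index_ne_zero_of_finite
    omega
  exact index_two_of_two_group_quot ((QuotientGroup.mk' sq.range).comp f)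
    ((QuotientGroup.mk'_surjective _).comp hf) hq hnt

theorem arith4 (p n k : ℕ) (hp : p.Prime) (hk : 1 ≤ k) (hkn : 2 * k ≤ n)
    (hd12 : 12 ∣ p ^ n - 1) (hc : (p ^ n - 1) / 12 ∣ p ^ k - 1) (h8 : 8 ∣ p ^ n - 1) :
    p ^ n = 25 ∨ p ^ n = 121 := by
  have hp2 : 2 ≤ p := hp.two_le
  have hq2 : 2 ≤ p ^ k := by
    calc 2 ≤ p := hp2
      _ = p ^ 1 := (pow_one p).symm
      _ ≤ p ^ k := Nat.pow_le_pow_right hp.pos hk
  have hpq : p ≤ p ^ k := by
    calc p = p ^ 1 := (pow_one p).symm
      _ ≤ p ^ k := Nat.pow_le_pow_right hp.pos hk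
  have hQq : p ^ k * p ^ k ≤ p ^ n := by
    rw [← pow_add, ← two_mul]
    exact Nat.pow_le_pow_right hp.pos hkn
  have hle : (p ^ n - 1) / 12 ≤ p ^ k - 1 := Nat.le_of_dvd (by omega) hc
  have hmul : (p ^ n - 1) / 12 * 12 = p ^ n - 1 := Nat.div_mul_cancel hd12
  have hq11 : p ^ k ≤ 11 := by
    by_contra hcon
    have h12 : 12 ≤ p ^ k := by omega
    have : p ^ k * 12 ≤ p ^ k * p ^ k := Nat.mul_le_mul_left _ h12
    omega
  have hQ : p ^ n ≤ 121 := by omega
  have hp11 : p ≤ 11 := le_trans hpq hq11
  have hn6 : n ≤ 6 := by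
    by_contra hcon
    have h7 : 7 ≤ n := by omega
    have h1 : 2 ^ 7 ≤ 2 ^ n := Nat.pow_le_pow_right (by norm_num) h7
    have h2 : 2 ^ n ≤ p ^ n := Nat.pow_le_pow_left hp2 n
    omega
  have hk3 : k ≤ 3 := by omega
  clear hle hmul hQq hpq hq2
  interval_cases p <;> first | (exfalso; revert hp; decide) | skip
  all_goals (interval_cases n <;> interval_cases k <;>
    first | omega | (revert hc hd12 h8; norm_num))

theorem quat_center : ∀ c : QuaternionGroup 2, (∀ x : QuaternionGroup 2, x * c = c * x) →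
    c = 1 ∨ c = QuaternionGroup.a 2 := by decide


section partB
universe u
variable {p : ℕ} [Fact p.Prime] {V : Type u} [AddCommGroup V] [Module (ZMod p) V] [Finite V]
  [Nontrivial V]

/-- elements of order dividing four lie in a normal subgroup of odd index -/
theorem mem_of_pow_four {X : Type*} [Group X] [Finite X] (M : Subgroup X) [M.Normal]
    (hodd : Odd M.index) (x : X) (hx : x ^ 4 = 1) : x ∈ M := by
  rw [← QuotientGroup.eq_one_iff]
  have h1 : ((x : X ⧸ M)) ^ 4 = 1 := by rw [← QuotientGroup.mk_pow, hx]; rfl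
  have h2 : orderOf (x : X ⧸ M) ∣ 4 := orderOf_dvd_of_pow_eq_one h1
  have h3 : orderOf (x : X ⧸ M) ∣ M.index := by
    rw [Subgroup.index_eq_card]; exact orderOf_dvd_natCard _
  have h4 : orderOf (x : X ⧸ M) = 1 := by
    have hc : Nat.Coprime 4 M.index := by
      have : Nat.Coprime 2 M.index := (Nat.coprime_two_left).mpr hodd
      exact Nat.Coprime.pow_left 2 this
    exact Nat.eq_one_of_dvd_coprimes hc h2 h3
  exact orderOf_eq_one_iff.mp h4

theorem exceptional (H : Subgroup (V ≃ₗ[ZMod p] V))
    (hreg : ∀ v w : V, v ≠ 0 → w ≠ 0 → ∃! h : H, (h : V ≃ₗ[ZMod p] V) v = w)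
    (hsolv : Group.IsSolvable H) (hp2 : p ≠ 2)
    (hno2 : ¬ ∃ N : Subgroup H, N.Normal ∧ N.index = 2) :
    (Nat.card V = 25 ∧ Nonempty (H ≃* Matrix.SpecialLinearGroup (Fin 2) (ZMod 3))) ∨
      (Nat.card V = 121 ∧
        Nonempty (H ≃* Matrix.SpecialLinearGroup (Fin 2) (ZMod 3) × Multiplicative (ZMod 5))) := by
  classical
  have hp : p.Prime := Fact.out
  have hfinGL : Finite (V ≃ₗ[ZMod p] V) :=
    Finite.of_injective (fun f => (f : V → V)) DFunLike.coe_injective
  obtain ⟨v₀, hv₀⟩ := exists_ne (0 : V)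
  have hcardH := Cfsg.Agent.S0685.card_of_regular H hreg v₀ hv₀
  have hFH : ZF.IsFpf.{u, u} H := Cfsg.Agent.S0689.fpf_top H hreg
  -- the order is even
  have h2H : 2 ∣ Nat.card H := by
    have hodd : Odd p := hp.odd_of_ne_two hp2
    have hpow : Odd (p ^ Module.finrank (ZMod p) V) := hodd.pow
    rw [← hcardH] at hpow
    rcases Nat.even_or_odd (Nat.card H) with h | h
    · exact even_iff_two_dvd.mp h
    · exfalso
      have := h.add_one
      exact (Nat.not_odd_iff_even.mpr this) hpow
  haveI : Fact (Nat.Prime 2) := ⟨Nat.prime_two⟩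
  let S : Sylow 2 H := default
  have hnoc : ¬ ∃ N : Subgroup H, N.Normal ∧ N.IsComplement' (S : Subgroup H) := by
    rintro ⟨N, hN, hc⟩
    apply hno2
    have hidx : N.index = Nat.card S := hc.symm.index_eq_card
    obtain ⟨k, hk⟩ := (IsPGroup.iff_card.mp S.2)
    have hq : IsPGroup 2 (H ⧸ N) := by
      apply IsPGroup.of_card (n := k)
      rw [← Subgroup.index_eq_card, hidx, hk]
    have hnt : Nontrivial (H ⧸ N) := by
      rw [← Finite.one_lt_card_iff_nontrivial, ← Subgroup.index_eq_card, hidx]
      have h1 : Nat.card S ≠ 1 := by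
        intro e
        exact S.ne_bot_of_dvd_card h2H (Subgroup.card_eq_one.mp e)
      have h0 : Nat.card S ≠ 0 := Nat.card_pos.ne'
      omega
    exact index_two_of_two_group_quot (QuotientGroup.mk' N) (QuotientGroup.mk'_surjective N) hq hnt
  obtain ⟨i, g, hrel, a, ha, hord⟩ := ZS.rel_of_not_nilp hFH h2H S hnoc
  -- no irreducible cyclic normal subgroup
  have hI : ∀ A : Subgroup H, A.Normal → IsCyclic A → ∃ W : Submodule (ZMod p) V,
      W ≠ ⊥ ∧ W ≠ ⊤ ∧ ∀ a ∈ A, ∀ v ∈ W, ((a : H) : V ≃ₗ[ZMod p] V) v ∈ W := by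
    intro A0 hA0n hA0c
    by_contra hcon
    have hirr : ∀ W : Submodule (ZMod p) V,
        (∀ n ∈ A0, ∀ v ∈ W, ((n : H) : V ≃ₗ[ZMod p] V) v ∈ W) → W = ⊥ ∨ W = ⊤ := by
      intro W hW
      by_contra h
      rw [not_or] at h
      exact hcon ⟨W, h.1, h.2, hW⟩
    have hCcomm := RegLin.centralizer_comm H A0 hirr
    haveI := hA0n
    let θ : H →* MulAut A0 := MulAut.conjNormal
    have hθcomm : ∀ x y : θ.range, x * y = y * x := by
      have e0 := IsCyclic.mulAutMulEquiv A0
      intro x y
      apply Subtype.ext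
      apply e0.injective
      show e0 ((x : MulAut A0) * (y : MulAut A0)) = e0 ((y : MulAut A0) * (x : MulAut A0))
      rw [map_mul, map_mul, mul_comm]
    by_cases heven : 2 ∣ Nat.card θ.range
    · exact hno2 (index_two_of_comm_quot θ.rangeRestrict θ.rangeRestrict_surjective hθcomm heven)
    · have hoddc : Nat.Coprime 4 (Nat.card θ.range) := by
        have : Nat.Coprime 2 (Nat.card θ.range) := (Nat.Prime.coprime_iff_not_dvd Nat.prime_two).mpr heven
        exact Nat.Coprime.pow_left 2 this
      have h4 : ∀ x : H, x ^ 4 = 1 → x ∈ Subgroup.centralizer (A0 : Set H) := by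
        intro x hx
        have h1 : (θ.rangeRestrict x) ^ 4 = 1 := by rw [← map_pow, hx, map_one]
        have h2 : orderOf (θ.rangeRestrict x) ∣ 4 := orderOf_dvd_of_pow_eq_one h1
        have h3 : orderOf (θ.rangeRestrict x) ∣ Nat.card θ.range := orderOf_dvd_natCard _
        have h5 : orderOf (θ.rangeRestrict x) = 1 := Nat.eq_one_of_dvd_coprimes hoddc h2 h3
        rw [orderOf_eq_one_iff] at h5
        have h6 : θ x = 1 := congrArg Subtype.val h5
        rw [Subgroup.mem_centralizer_iff]
        intro b hb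
        have h7 := congrArg (fun f : MulAut A0 => ((f ⟨b, hb⟩ : A0) : H)) h6
        have h8 : x * b * x⁻¹ = b := h7
        calc b * x = (x * b * x⁻¹) * x := by rw [h8]
          _ = x * b := by group
      have hi := h4 i hrel.hi4
      have hj := h4 (g * i * g⁻¹) (by rw [conj_pow, hrel.hi4]; group)
      have hc := hCcomm _ _ hj hi
      have h2' := hrel.h2
      rw [hc, mul_assoc, mul_inv_cancel, mul_one] at h2'
      apply hrel.hi2
      rw [pow_two]
      nth_rewrite 2 [h2']
      exact mul_inv_cancel i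
  -- a maximal normal abelian subgroup
  have hbotcomm : IsMulCommutative (⊥ : Subgroup H) :=
    ⟨⟨fun a b => Subsingleton.elim _ _⟩⟩
  obtain ⟨A, _, hAmax'⟩ := Finite.exists_le_maximal
    (p := fun B : Subgroup H => B.Normal ∧ IsMulCommutative B) (a := ⊥)
    ⟨inferInstance, hbotcomm⟩
  have hAn : A.Normal := hAmax'.prop.1
  have hAc : IsMulCommutative A := hAmax'.prop.2
  have hAmax : ∀ B : Subgroup H, B.Normal → IsMulCommutative B → A ≤ B → B = A :=
    fun B hBn hBc hAB => le_antisymm (hAmax'.le_of_ge ⟨hBn, hBc⟩ hAB) hAB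
  obtain ⟨hlt, hCna⟩ := Cfsg.Agent.S0685.result H hreg hI A hAn hAc hAmax
  obtain ⟨N, hNC, hNmin'⟩ := Finite.exists_le_minimal
    (p := fun M : Subgroup H => M.Normal ∧ M ≤ Subgroup.centralizer (A : Set H) ∧
      ¬ IsMulCommutative M) (a := Subgroup.centralizer (A : Set H))
    ⟨Subgroup.normal_centralizer, le_rfl, hCna⟩
  have hNn : N.Normal := hNmin'.prop.1
  have hNle : N ≤ Subgroup.centralizer (A : Set H) := hNmin'.prop.2.1
  have hNna : ¬ IsMulCommutative N := hNmin'.prop.2.2
  have hNmin : ∀ M : Subgroup H, M.Normal → M ≤ N → ¬ IsMulCommutative M → M = N :=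
    fun M hMn hMN hMna => le_antisymm hMN (hNmin'.le_of_le ⟨hMn, hMN.trans hNle, hMna⟩ hMN)
  obtain ⟨hirrN, hCN⟩ :=
    Cfsg.Agent.S0687.result H hreg hI A hAn hAc hAmax N hNn hNle hNna hNmin
  obtain ⟨e⟩ := NearQ8.quat_of_solvable H hreg A hAn hAc hAmax N hNn hNle hNna hNmin
  have hcardN : Nat.card N = 8 := by
    rw [Nat.card_congr e.toEquiv, Nat.card_eq_fintype_card, QuaternionGroup.card]
  obtain ⟨hcyc, W, hW0, hW1, hinv, hmin, hdvd⟩ :=
    Cfsg.Agent.S0684.result H hreg hI A hAn hAc hAmax
  have h2k := Cfsg.Agent.S0685.two_mul_finrank_le H hreg A hAn W hW0 hW1 hinv hmin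
  have hk1 : 1 ≤ Module.finrank (ZMod p) W := by
    rw [Nat.one_le_iff_ne_zero, Ne, Submodule.finrank_eq_zero]
    exact hW0
  -- the action on `N`
  obtain ⟨f4⟩ := Cfsg.Agent.S3742.result
  haveI := hNn
  let θN : H →* MulAut N := MulAut.conjNormal
  let ψ : H →* Equiv.Perm (Fin 4) :=
    f4.toMonoidHom.comp ((MulAut.congr e).toMonoidHom.comp θN)
  have hψ : ∀ x, ψ x = f4 ((MulAut.congr e) (θN x)) := fun _ => rfl
  have hψker : ψ.ker = A := by
    ext x
    rw [MonoidHom.mem_ker, ← hCN, Subgroup.mem_centralizer_iff, hψ]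
    constructor
    · intro hx
      have h1 : θN x = 1 := by
        apply (MulAut.congr e).injective
        apply f4.injective
        rw [hx, map_one, map_one]
      intro n hn
      have h7 := congrArg (fun f : MulAut N => ((f ⟨n, hn⟩ : N) : H)) h1
      have h8 : x * n * x⁻¹ = n := h7
      calc n * x = (x * n * x⁻¹) * x := by rw [h8]
        _ = x * n := by group
    · intro hx
      have h1 : θN x = 1 := by
        apply MulEquiv.ext
        intro n
        apply Subtype.ext
        show x * (n : H) * x⁻¹ = (n : H)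
        rw [← hx n n.2]; group
      rw [h1, map_one, map_one]
  let χ : H →* ℤˣ := Equiv.Perm.sign.comp ψ
  have hχ : ∀ x, χ x = 1 := by
    by_contra hcon
    push Not at hcon
    obtain ⟨x, hx⟩ := hcon
    apply hno2
    have hq : IsPGroup 2 χ.range := by
      intro y
      refine ⟨1, ?_⟩
      apply Subtype.ext
      rw [pow_one]
      show (y : ℤˣ) ^ 2 = 1
      exact Int.units_sq _
    have hnt : Nontrivial χ.range :=
      ⟨⟨⟨χ x, x, rfl⟩, 1, fun h => hx (congrArg Subtype.val h)⟩⟩
    exact index_two_of_two_group_quot χ.rangeRestrict χ.rangeRestrict_surjective hq hnt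
  have hA4 : ψ.range ≤ alternatingGroup (Fin 4) := by
    rintro _ ⟨x, rfl⟩
    exact Equiv.Perm.mem_alternatingGroup.mpr (hχ x)
  have hidx12 : A.index ∣ 12 := by
    rw [← hψker, Subgroup.index_ker]
    have h1 := Subgroup.card_dvd_of_le hA4
    have h2 : Nat.card (alternatingGroup (Fin 4)) = 12 := by
      have h3 := two_mul_nat_card_alternatingGroup (α := Fin 4)
      rw [Nat.card_eq_fintype_card (α := Equiv.Perm (Fin 4)), Fintype.card_perm,
        Fintype.card_fin] at h3
      have : Nat.factorial 4 = 24 := rfl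
      omega
    rwa [h2] at h1
  have hsubN : A.subgroupOf N = Subgroup.center N := by
    ext x
    rw [Subgroup.mem_subgroupOf, ← hCN, Subgroup.mem_centralizer_iff, Subgroup.mem_center_iff]
    constructor
    · intro h y
      exact Subtype.ext (h y y.2)
    · intro h y hy
      exact congrArg Subtype.val (h ⟨y, hy⟩)
  have hcen : (Subgroup.center N).index = 4 ∨ (Subgroup.center N).index = 8 := by
    have h3 := Subgroup.card_mul_index (Subgroup.center N)
    rw [hcardN] at h3
    have h5 : Nat.card (Subgroup.center N) ≤ 2 := by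
      rw [Nat.card_congr (Subgroup.centerCongr e).toEquiv]
      have hsub : ((Subgroup.center (QuaternionGroup 2) : Subgroup (QuaternionGroup 2)) :
          Set (QuaternionGroup 2)) ⊆ {1, QuaternionGroup.a 2} := by
        intro c hc
        rcases quat_center c (fun x => (Subgroup.mem_center_iff.mp hc x)) with h | h
        · left; exact h
        · right; exact h
      have h6 := Set.ncard_le_ncard hsub (Set.toFinite _)
      rw [← Nat.card_coe_set_eq] at h6
      have h7 : ({1, QuaternionGroup.a 2} : Set (QuaternionGroup 2)).ncard ≤ 2 := by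
        have := Set.ncard_insert_le (1 : QuaternionGroup 2) ({QuaternionGroup.a 2} : Set _)
        rw [Set.ncard_singleton] at this
        exact this
      exact le_trans h6 h7
    have hpos : 0 < Nat.card (Subgroup.center N) := Nat.card_pos
    obtain ⟨c, hc⟩ : ∃ c, c = Nat.card (Subgroup.center N) := ⟨_, rfl⟩
    rw [← hc] at h3 h5 hpos
    have hc12 : c = 1 ∨ c = 2 := by omega
    rcases hc12 with rfl | rfl
    · right; omega
    · left; omega
  have h4idx : 4 ∣ A.index := by
    have h1 : A.relIndex N ∣ A.index := Subgroup.relIndex_dvd_index_of_normal A N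
    rw [Subgroup.relIndex, hsubN] at h1
    rcases hcen with h | h <;> rw [h] at h1
    · exact h1
    · exact (by norm_num : 4 ∣ 8).trans h1
  have hidx : A.index = 4 ∨ A.index = 12 := by
    obtain ⟨t, ht⟩ := h4idx
    have hle : A.index ≤ 12 := Nat.le_of_dvd (by norm_num) hidx12
    have hne : A.index ≠ 0 := Subgroup.index_ne_zero_of_finite
    have ht3 : t = 1 ∨ t = 2 ∨ t = 3 := by omega
    rcases ht3 with rfl | rfl | rfl
    · left; omega
    · exfalso
      rw [ht] at hidx12
      norm_num at hidx12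
    · right; omega
  rcases hidx with hidx | hidx
  · exfalso
    apply hno2
    have hq : IsPGroup 2 (H ⧸ A) := by
      apply IsPGroup.of_card (n := 2)
      rw [← Subgroup.index_eq_card, hidx]; norm_num
    have hnt : Nontrivial (H ⧸ A) := by
      rw [← Finite.one_lt_card_iff_nontrivial, ← Subgroup.index_eq_card, hidx]; norm_num
    exact index_two_of_two_group_quot (QuotientGroup.mk' A) (QuotientGroup.mk'_surjective A) hq hnt
  -- the exceptional case: index twelve
  have hmul := Subgroup.index_mul_card A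
  rw [hidx] at hmul
  have hHeq : Nat.card H = p ^ Module.finrank (ZMod p) V - 1 := by omega
  have h8 : 8 ∣ p ^ Module.finrank (ZMod p) V - 1 := by
    rw [← hHeq, ← hcardN]
    exact Subgroup.card_subgroup_dvd_card N
  have hd12 : 12 ∣ p ^ Module.finrank (ZMod p) V - 1 := ⟨Nat.card A, by rw [← hHeq, ← hmul]⟩
  have hcA : (p ^ Module.finrank (ZMod p) V - 1) / 12 = Nat.card A := by
    rw [← hHeq, ← hmul]
    exact Nat.mul_div_cancel_left _ (by norm_num)
  have hc' : (p ^ Module.finrank (ZMod p) V - 1) / 12 ∣ p ^ Module.finrank (ZMod p) W - 1 := by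
    rw [hcA]; exact hdvd
  have hcardV : Nat.card V = p ^ Module.finrank (ZMod p) V := by
    rw [Module.natCard_eq_pow_finrank (K := ZMod p) (V := V), Nat.card_zmod]
  have hcases := arith4 p _ _ hp hk1 h2k hd12 hc' h8
  have hH2 : Nat.card H = 24 ∨ Nat.card H = 120 := by
    rcases hcases with h | h
    · left; rw [hHeq, h]
    · right; rw [hHeq, h]
  have hg3 : orderOf g = 3 := by
    have h1 : orderOf g ∣ Nat.card H := orderOf_dvd_natCard g
    rw [hord] at h1
    have ha1 : a = 1 := by
      by_contra hne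
      have h2 : 2 ≤ a := by omega
      have h9 : 3 ^ 2 ∣ Nat.card H := (pow_dvd_pow 3 h2).trans h1
      rcases hH2 with h | h <;> rw [h] at h9 <;> norm_num at h9
    rw [hord, ha1, pow_one]
  have d := ZS.data_of_rel hrel hg3
  obtain ⟨eS⟩ := d.nonempty_equiv_closure
  obtain ⟨S0, hS0⟩ : ∃ S0 : Subgroup H, S0 = Subgroup.closure ({i, g} : Set H) := ⟨_, rfl⟩
  rw [← hS0] at eS
  have hS0card : Nat.card S0 = 24 := by
    rw [Nat.card_congr eS.toEquiv, Cfsg.Agent.Lib.Helper20.SL23.card_sl23]
  rw [hcardV]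
  rcases hcases with h25 | h121
  · left
    refine ⟨h25, ?_⟩
    have hH : Nat.card H = 24 := by rw [hHeq, h25]
    have hStop : S0 = ⊤ := Subgroup.eq_top_of_card_eq S0 (by rw [hS0card, hH])
    exact ⟨(Subgroup.topEquiv.symm.trans (MulEquiv.subgroupCongr hStop.symm)).trans eS⟩
  · right
    refine ⟨h121, ?_⟩
    have hH : Nat.card H = 120 := by rw [hHeq, h121]
    have hA10 : Nat.card A = 10 := by omega
    -- `A` is central
    haveI := hAn
    let θA : H →* MulAut A := MulAut.conjNormal
    have hθAker : θA.ker = Subgroup.centralizer (A : Set H) := by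
      ext x
      rw [MonoidHom.mem_ker, Subgroup.mem_centralizer_iff]
      constructor
      · intro h1 n hn
        have h7 := congrArg (fun f : MulAut A => ((f ⟨n, hn⟩ : A) : H)) h1
        have h8' : x * n * x⁻¹ = n := h7
        calc n * x = (x * n * x⁻¹) * x := by rw [h8']
          _ = x * n := by group
      · intro hx
        apply MulEquiv.ext
        intro n
        apply Subtype.ext
        show x * (n : H) * x⁻¹ = (n : H)
        rw [← hx n n.2]; group
    have hautA : Nat.card (MulAut A) = 4 := by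
      haveI := hcyc
      rw [IsCyclic.card_mulAut, hA10]
      decide
    have hfinAut : Finite (MulAut A) :=
      Finite.of_injective (fun f => (f : A → A)) DFunLike.coe_injective
    have hci4 : (Subgroup.centralizer (A : Set H)).index ∣ 4 := by
      have key := Subgroup.card_dvd_of_injective _ (QuotientGroup.kerLift_injective θA)
      rw [← Subgroup.index_eq_card, hθAker, hautA] at key
      exact key
    have hcN : Nat.card N ∣ Nat.card (Subgroup.centralizer (A : Set H)) :=
      Subgroup.card_dvd_of_le hNle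
    have hcA' : Nat.card A ∣ Nat.card (Subgroup.centralizer (A : Set H)) := by
      apply Subgroup.card_dvd_of_le
      intro x hx
      rw [Subgroup.mem_centralizer_iff]
      intro y hy
      exact congrArg Subtype.val (hAc.is_comm.comm ⟨y, hy⟩ ⟨x, hx⟩)
    have hCtop : Subgroup.centralizer (A : Set H) = ⊤ := by
      rw [← Subgroup.index_eq_one]
      have h1 := Subgroup.index_mul_card (Subgroup.centralizer (A : Set H))
      rw [hH] at h1
      rw [hcardN] at hcN
      rw [hA10] at hcA'
      obtain ⟨c, hc⟩ : ∃ c, c = Nat.card (Subgroup.centralizer (A : Set H)) := ⟨_, rfl⟩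
      obtain ⟨j, hj⟩ : ∃ j, j = (Subgroup.centralizer (A : Set H)).index := ⟨_, rfl⟩
      rw [← hc] at h1 hcN hcA'
      rw [← hj] at h1 hci4 ⊢
      have hj4 : j ≤ 4 := Nat.le_of_dvd (by norm_num) hci4
      obtain ⟨u, hu⟩ := hcN
      obtain ⟨w, hw⟩ := hcA'
      interval_cases j
      · omega
      · rfl
      · omega
      · omega
      · omega
    have hcentral : ∀ (x : H) (y : H), y ∈ A → y * x = x * y := by
      intro x y hy
      have hx : x ∈ Subgroup.centralizer (A : Set H) := by rw [hCtop]; trivial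
      exact Subgroup.mem_centralizer_iff.mp hx y hy
    haveI : Fact (Nat.Prime 5) := ⟨by norm_num⟩
    obtain ⟨z, hz⟩ := exists_prime_orderOf_dvd_card' (G := A) 5 (by rw [hA10]; norm_num)
    have hzH : orderOf ((z : A) : H) = 5 := by rw [Subgroup.orderOf_coe]; exact hz
    obtain ⟨Z, hZ⟩ : ∃ Z : Subgroup H, Z = Subgroup.zpowers ((z : A) : H) := ⟨_, rfl⟩
    have hZcard : Nat.card Z = 5 := by rw [hZ, Nat.card_zpowers, hzH]
    have hZA : Z ≤ A := by rw [hZ]; exact Subgroup.zpowers_le.mpr z.2
    have hcomm : ∀ (s : S0) (b : Z), Commute (S0.subtype s) (Z.subtype b) := by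
      intro s b
      exact (hcentral (s : H) (b : H) (hZA b.2)).symm
    let f : S0 × Z →* H := MonoidHom.noncommCoprod S0.subtype Z.subtype hcomm
    have hfinj : Function.Injective f := by
      rw [MonoidHom.noncommCoprod_injective]
      refine ⟨S0.subtype_injective, Z.subtype_injective, ?_⟩
      rw [Subgroup.range_subtype, Subgroup.range_subtype]
      apply Subgroup.disjoint_of_coprime_natCard
      rw [hS0card, hZcard]
      norm_num
    have hfbij : Function.Bijective f := by
      rw [Nat.bijective_iff_injective_and_card]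
      refine ⟨hfinj, ?_⟩
      rw [Nat.card_prod, hS0card, hZcard, hH]
    have e1 : S0 × Z ≃* H := MulEquiv.ofBijective f hfbij
    have hcardM : Nat.card (Multiplicative (ZMod 5)) = 5 := by
      rw [Nat.card_congr Multiplicative.toAdd, Nat.card_zmod]
    have e2 : Z ≃* Multiplicative (ZMod 5) := mulEquivOfPrimeCardEq hZcard hcardM
    exact ⟨e1.symm.trans (MulEquiv.prodCongr eS e2)⟩

end partB

end Cfsg.Agent.Lib.Helper12.RegSolv
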