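import Cfsg.Agent.Lib.Helper12.RtNonsplitD

/-! # Rt hive (helper12): the cyclic part of `C(a) ∩ C(y)`; arithmetic for the primes dividing `q² - q + 1` -/

set_option autoImplicit false
set_option linter.unusedSectionVars false

namespace Cfsg.Agent.Lib.Helper12.Rt

open Cfsg.Agent.Lib.Helper12.ReeInv Cfsg.Agent.Lib.Helper36 Matrix

/-- an element of odd order whose square lies in a subgroup lies in it -/
theorem mem_of_sq_mem {G : Type*} [Group G] (L : Subgroup G) (w : G) (hodd : Odd (orderOf w)) (h : w * w ∈ L) :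
    w ∈ L := by
  obtain ⟨k, hk⟩ := hodd
  have h1 : (w * w) ^ (k + 1) = w := by
    rw [← pow_two, ← pow_mul, show 2 * (k + 1) = orderOf w + 1 by omega, pow_succ, pow_orderOf_eq_one, one_mul]
  rw [← h1]
  exact L.pow_mem h _

section inv
variable {K : Type*} [Field K] [Fintype K] [CharP K 3] {G : Type*} [Group G] (I : InvData K G)

/-- the squares of `C(a) ∩ C(y)` lie in a cyclic subgroup, for `y ∈ C(a)` of odd prime order `p ∣ q + 1` -/
theorem cent_inf_sq (hodd : Odd (Fintype.card K)) (y : G) (hya : I.a * y = y * I.a) (p : ℕ) (hp : p.Prime) (hp2 : p ≠ 2)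
    (hpq : p ∣ Fintype.card K + 1) (hy : orderOf y = p) :
    ∃ L : Subgroup G, IsCyclic ↥L ∧
      ∀ t ∈ Subgroup.centralizer ({I.a} : Set G) ⊓ Subgroup.centralizer ({y} : Set G), t * t ∈ L := by
  obtain ⟨g, rfl, hg⟩ := exists_lift I y hya p hp hp2 hy
  have hpodd : Odd p := hp.odd_of_ne_two hp2
  obtain ⟨hcyc, -⟩ := sl2_cent_nonsplit hodd p hp hp2 hpq g hg
  set Cg : Subgroup (SpecialLinearGroup (Fin 2) K) := Subgroup.centralizer ({g} : Set (SpecialLinearGroup (Fin 2) K))
    with hCg
  have hgp : g ^ p = 1 := by rw [← hg]; exact pow_orderOf_eq_one g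
  refine ⟨Cg.map I.φ, isCyclic_of_surjective (I.φ.subgroupMap Cg) (MonoidHom.subgroupMap_surjective _ _), ?_⟩
  intro t ht
  rw [Subgroup.mem_inf, Subgroup.mem_centralizer_singleton_iff, Subgroup.mem_centralizer_singleton_iff] at ht
  obtain ⟨z, hz⟩ := I.hcent t ht.1.symm
  have hzg : I.φ z * I.φ g = I.φ g * I.φ z := by
    rcases hz with h | h
    · rw [← h]; exact ht.2
    · have h1 : I.a * I.φ z * I.φ g = I.φ g * (I.a * I.φ z) := by rw [← h]; exact ht.2
      have h2 : I.a * (I.φ z * I.φ g) = I.a * (I.φ g * I.φ z) := by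
        rw [← mul_assoc, h1, ← mul_assoc, ← I.hcomm g, mul_assoc]
      exact mul_left_cancel h2
  have hzC : z ∈ Cg := by
    rw [hCg, Subgroup.mem_centralizer_singleton_iff]
    rcases I.phi_comm z g g hzg with h | h
    · exact h
    · exfalso
      have h1 : z * g * z⁻¹ = negI K * g := by rw [h]; group
      have h2 : (z * g * z⁻¹) ^ p = 1 := by rw [conj_pow, hgp]; group
      rw [h1, (show Commute (negI K) g from negI_comm g).mul_pow, hgp, mul_one, negI_pow_odd p hpodd] at h2
      exact negI_ne_one h2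
  have hsq : t * t = I.φ (z * z) := by
    rcases hz with h | h
    · rw [h, map_mul]
    · rw [h, map_mul]
      calc I.a * I.φ z * (I.a * I.φ z) = I.a * (I.φ z * I.a) * I.φ z := by group
        _ = I.a * (I.a * I.φ z) * I.φ z := by rw [I.hcomm z]
        _ = (I.a * I.a) * (I.φ z * I.φ z) := by group
        _ = I.φ z * I.φ z := by rw [I.ha2, one_mul]
  rw [hsq]
  exact ⟨z * z, mul_mem hzC hzC, rfl⟩

end inv

/-- `p ∣ q ^ k - 1` in terms of `ZMod p` -/
theorem dvd_pow_sub_one_iff (p q k : ℕ) (hq : 1 ≤ q) : p ∣ q ^ k - 1 ↔ ((q : ZMod p)) ^ k = 1 := by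
  have h1 : 1 ≤ q ^ k := Nat.one_le_pow _ _ hq
  rw [← ZMod.natCast_eq_zero_iff, Nat.cast_sub h1, Nat.cast_pow, Nat.cast_one, sub_eq_zero]

/-- a prime `p > 3` dividing `q (q - 1) + 1`: `q` has order 6 modulo `p` -/
theorem order_six (p q : ℕ) (hp : p.Prime) (hp3 : 3 < p) (hq : 1 ≤ q) (hd : p ∣ q * (q - 1) + 1) :
    p ∣ q ^ 6 - 1 ∧ ∀ k : ℕ, 1 ≤ k → k < 6 → ¬ p ∣ q ^ k - 1 := by
  have : Fact p.Prime := ⟨hp⟩
  set a : ZMod p := (q : ZMod p) with ha
  have h0 : a * (a - 1) + 1 = 0 := by
    have := (ZMod.natCast_eq_zero_iff (q * (q - 1) + 1) p).2 hd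
    rw [Nat.cast_add, Nat.cast_mul, Nat.cast_sub hq, Nat.cast_one] at this
    exact this
  have h3 : a ^ 3 = -1 := by linear_combination (a + 1) * h0
  have h2ne : (2 : ZMod p) ≠ 0 := by
    intro h
    have : ((2 : ℕ) : ZMod p) = 0 := by exact_mod_cast h
    rw [ZMod.natCast_eq_zero_iff] at this
    have := Nat.le_of_dvd (by norm_num) this
    omega
  have h3ne : (3 : ZMod p) ≠ 0 := by
    intro h
    have : ((3 : ℕ) : ZMod p) = 0 := by exact_mod_cast h
    rw [ZMod.natCast_eq_zero_iff] at this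
    have := Nat.le_of_dvd (by norm_num) this
    omega
  have h1ne : (1 : ZMod p) ≠ 0 := one_ne_zero
  refine ⟨?_, ?_⟩
  · rw [dvd_pow_sub_one_iff p q 6 hq]
    have : a ^ 6 = (a ^ 3) ^ 2 := by ring
    rw [this, h3]; ring
  · intro k hk1 hk6
    rw [dvd_pow_sub_one_iff p q k hq]
    intro hk0
    have hk : a ^ k = 1 := hk0
    clear hk0
    interval_cases k
    · -- a = 1
      rw [pow_one] at hk
      rw [hk] at h0
      apply h1ne
      linear_combination h0
    · -- a^2 = 1
      apply h3ne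
      have e1 : a = 2 := by linear_combination hk - h0
      rw [e1] at hk
      linear_combination hk
    · -- a^3 = 1
      apply h2ne
      linear_combination h3 - hk
    · -- a^4 = 1
      have e1 : a = -1 := by linear_combination (-1 : ZMod p) * hk + a * h3
      rw [e1] at h0
      apply h3ne
      linear_combination h0
    · -- a^5 = 1
      have e1 : a ^ 2 = -1 := by linear_combination (-1 : ZMod p) * hk + a ^ 2 * h3
      have e2 : a = 0 := by linear_combination e1 - h0
      rw [e2] at h0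
      apply h1ne
      linear_combination h0

end Cfsg.Agent.Lib.Helper12.Rt
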