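import Cfsg.Agent.Lib.Helper12.RtCycA
import Cfsg.Agent.Lib.Helper52.RtR7CENT

/-! # Rt hive (helper12): the centraliser of an element of prime order `p > 3` of a small Ree group has a cyclic odd part -/

set_option autoImplicit false
set_option linter.unusedSectionVars false

namespace Cfsg.Agent.Lib.Helper12.Rt

open Cfsg.Agent.Lib.Helper12.ReeOut Cfsg.Agent.Lib.Helper12.ReeInv Cfsg.Agent.Lib.Helper36 Matrix

/-- a prime `p > 3` dividing `q (q - 1) + 1` does not divide `q`, `q - 1`, `q + 1` -/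
theorem not_dvd_of_dvd_tor (p q : ℕ) (hp : p.Prime) (hp3 : 3 < p) (hq : 1 ≤ q) (hd : p ∣ q * (q - 1) + 1) :
    ¬ p ∣ q ∧ ¬ p ∣ q - 1 ∧ ¬ p ∣ q + 1 := by
  obtain ⟨h6, hk⟩ := order_six p q hp hp3 hq hd
  refine ⟨?_, ?_, ?_⟩
  · intro h
    have := (Nat.dvd_add_right (Dvd.dvd.mul_right h (q - 1))).1 hd
    exact hp.one_lt.ne' (Nat.dvd_one.1 this)
  · have := hk 1 le_rfl (by norm_num)
    rwa [pow_one] at this
  · intro h
    apply hk 2 (by norm_num) (by norm_num)
    have : q ^ 2 - 1 = (q - 1) * (q + 1) := by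
      obtain ⟨k, rfl⟩ : ∃ k, q = k + 1 := ⟨q - 1, by omega⟩
      simp only [Nat.add_sub_cancel]
      have : (k + 1) ^ 2 = k * (k + 1 + 1) + 1 := by ring
      rw [this, Nat.add_sub_cancel]
    rw [this]
    exact Dvd.dvd.mul_left h _

namespace RtData

variable {K : Type*} [Field K] [Fintype K] {G : Type*} [Group G] {m : ℕ} (D : RtData K G m)
variable {W : Type*} [AddCommGroup W] [Module K W]

include D in
/-- the centraliser of an element of prime order `p > 3`, `p ∣ q (q - 1) + 1`, has order prime to `q - 1` -/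
theorem coprime_cent (x : G) (p : ℕ) (hp : p.Prime) (hp3 : 3 < p)
    (hd : p ∣ 3 ^ (2 * m + 1) * (3 ^ (2 * m + 1) - 1) + 1) (hx : orderOf x = p) :
    (Nat.card ↥(Subgroup.centralizer ({x} : Set G))).Coprime (3 ^ (2 * m + 1) - 1) := by
  have := D.finite
  have := fact_charP D.R.hK
  obtain ⟨hn1, hn2, hn3⟩ := not_dvd_of_dvd_tor p _ hp hp3 (q_pos m) hd
  apply Nat.Coprime.symm
  rw [Nat.coprime_comm]
  apply Nat.coprime_of_dvd
  intro ℓ hℓ h1 h2
  have : Fact ℓ.Prime := ⟨hℓ⟩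
  obtain ⟨z, hz⟩ := exists_prime_orderOf_dvd_card' ℓ h1
  have hzx : (z : G) * x = x * (z : G) := Subgroup.mem_centralizer_singleton_iff.1 z.2
  have hzo : orderOf (z : G) = ℓ := by rw [Subgroup.orderOf_coe, hz]
  by_cases hℓ2 : ℓ = 2
  · -- an involution commuting with `x`
    subst hℓ2
    have hz1 : (z : G) ≠ 1 := by
      intro h
      rw [h, orderOf_one] at hzo
      omega
    have hz2 : (z : G) * (z : G) = 1 := by
      rw [← pow_two, ← hzo]
      exact pow_orderOf_eq_one _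
    obtain ⟨c, hc⟩ := D.inv_conj (z : G) hz1 hz2
    have hx' : orderOf (c⁻¹ * x * c) = p := by
      have : c⁻¹ * x * c = MulAut.conj c⁻¹ x := by rw [MulAut.conj_apply, inv_inv]
      rw [this, MulEquiv.orderOf_eq, hx]
    have hxa : D.I.a * (c⁻¹ * x * c) = c⁻¹ * x * c * D.I.a := by
      calc D.I.a * (c⁻¹ * x * c) = c⁻¹ * (c * D.I.a * c⁻¹ * x) * c := by group
        _ = c⁻¹ * (x * (c * D.I.a * c⁻¹)) * c := by rw [hc, hzx]
        _ = _ := by group
    obtain ⟨g, -, hg⟩ := exists_lift D.I (c⁻¹ * x * c) hxa p hp (by omega) hx'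
    have h3 : p ∣ Nat.card (SpecialLinearGroup (Fin 2) K) := by
      rw [← hg]; exact orderOf_dvd_natCard g
    rw [Cfsg.Agent.Lib.Helper38.card_SL2, D.R.hK] at h3
    have e : (3 ^ (2 * m + 1)) ^ 2 - 1 = (3 ^ (2 * m + 1) - 1) * (3 ^ (2 * m + 1) + 1) := by
      have hq := q_pos m
      obtain ⟨k, hk⟩ : ∃ k, 3 ^ (2 * m + 1) = k + 1 := ⟨3 ^ (2 * m + 1) - 1, by omega⟩
      rw [hk]
      simp only [Nat.add_sub_cancel]
      have : (k + 1) ^ 2 = k * (k + 1 + 1) + 1 := by ring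
      rw [this, Nat.add_sub_cancel]
    rw [e] at h3
    rcases (Nat.Prime.dvd_mul hp).1 h3 with h | h
    · exact hn1 h
    · rcases (Nat.Prime.dvd_mul hp).1 h with h | h
      · exact hn2 h
      · exact hn3 h
  · -- an element of odd prime order `ℓ ∣ q - 1`
    obtain ⟨c, hc⟩ := D.cent_split (z : G) ℓ hℓ hℓ2 h2 hzo
    have hxc : x ∈ Subgroup.centralizer ({(z : G)} : Set G) := by
      rw [Subgroup.mem_centralizer_singleton_iff]; exact hzx.symm
    rw [hc] at hxc
    have h3 : orderOf (⟨x, hxc⟩ : ↥(D.H.map (MulAut.conj c).toMonoidHom)) ∣ _ := orderOf_dvd_natCard _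
    rw [map_conj_card, D.card_H, ← Subgroup.orderOf_coe] at h3
    simp only at h3
    rw [hx] at h3
    exact hn2 h3

end RtData

end Cfsg.Agent.Lib.Helper12.Rt
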