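import Cfsg.Agent.Lib.Helper12.RtCycB

/-! # Rt hive (helper12): cyclic Sylow subgroups and conjugacy of cyclic subgroups in the small Ree groups (abstract) -/

set_option autoImplicit false
set_option linter.unusedSectionVars false

namespace Cfsg.Agent.Lib.Helper12.Rt

open Cfsg.Agent.Lib.Helper12.ReeOut Cfsg.Agent.Lib.Helper12.ReeInv Cfsg.Agent.Lib.Helper36 Matrix

namespace RtData

variable {K : Type*} [Field K] [Fintype K] {G : Type*} [Group G] {m : ℕ} (D : RtData K G m)
variable {W : Type*} [AddCommGroup W] [Module K W]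

include D in
/-- a prime `p > 3` dividing `|G|` divides `q - 1`, `q + 1` or `q (q - 1) + 1` -/
theorem prime_cases (p : ℕ) (hp : p.Prime) (hp3 : 3 < p) (hd : p ∣ Nat.card G) :
    p ∣ 3 ^ (2 * m + 1) - 1 ∨ p ∣ 3 ^ (2 * m + 1) + 1 ∨ p ∣ 3 ^ (2 * m + 1) * (3 ^ (2 * m + 1) - 1) + 1 := by
  rw [D.card_G, q_cube_add_one _ (q_pos m)] at hd
  rcases (Nat.Prime.dvd_mul hp).1 hd with h | h
  · rcases (Nat.Prime.dvd_mul hp).1 h with h | h
    · exfalso
      have h1 := hp.dvd_of_dvd_pow (hp.dvd_of_dvd_pow h)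
      have := (Nat.prime_dvd_prime_iff_eq hp Nat.prime_three).1 h1
      omega
    · exact Or.inl h
  · rcases (Nat.Prime.dvd_mul hp).1 h with h | h
    · exact Or.inr (Or.inl h)
    · exact Or.inr (Or.inr h)

include D in
/-- **the cyclic odd part of a centraliser**: for `x` of prime order `p > 3` there is a cyclic subgroup containing all the
elements of odd order of `C_G(x)` -/
theorem exists_cyclic_of_cent (ρ : G →* Module.End K W) (hρ : Function.Injective ρ) (hW : Module.finrank K W = 7)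
    (x : G) (p : ℕ) (hp : p.Prime) (hp3 : 3 < p) (hx : orderOf x = p) :
    ∃ Z : Subgroup G, IsCyclic ↥Z ∧ ∀ w : G, w * x = x * w → Odd (orderOf w) → w ∈ Z := by
  have := D.finite
  have := fact_charP D.R.hK
  have hp2 : p ≠ 2 := by omega
  have hdvd : p ∣ Nat.card G := by rw [← hx]; exact orderOf_dvd_natCard x
  rcases D.prime_cases p hp hp3 hdvd with h | h | h
  · -- `p ∣ q - 1`
    obtain ⟨c, hc⟩ := D.cent_split x p hp hp2 h hx
    refine ⟨_, map_conj_cyclic _ D.H_cyclic c, fun w hw _ => ?_⟩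
    rw [← hc, Subgroup.mem_centralizer_singleton_iff]
    exact hw
  · -- `p ∣ q + 1`
    have hQ : IsPGroup p ↥(Subgroup.zpowers x) := by
      apply IsPGroup.of_card (n := 1)
      rw [Nat.card_zpowers, hx, pow_one]
    obtain ⟨c, hc⟩ := D.conj_into_Ca p hp hp2 h (Subgroup.zpowers x) hQ
    have hxa := hc x (Subgroup.mem_zpowers x)
    have hx' : orderOf (c * x * c⁻¹) = p := by
      have : c * x * c⁻¹ = MulAut.conj c x := rfl
      rw [this, MulEquiv.orderOf_eq, hx]
    have hle := D.cent_le (c * x * c⁻¹) hxa p hp hp2 h hx'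
    have hd' : p ∣ Fintype.card K + 1 := by rw [D.card_K']; exact h
    obtain ⟨L, hL, hsq⟩ := cent_inf_sq D.I D.odd_K (c * x * c⁻¹) hxa p hp hp2 hd' hx'
    rw [inf_eq_right.2 hle] at hsq
    refine ⟨L.map (MulAut.conj c⁻¹).toMonoidHom, map_conj_cyclic _ hL _, fun w hw hodd => ?_⟩
    have hw' : c * w * c⁻¹ ∈ Subgroup.centralizer ({c * x * c⁻¹} : Set G) := by
      rw [Subgroup.mem_centralizer_singleton_iff]
      calc c * w * c⁻¹ * (c * x * c⁻¹) = c * (w * x) * c⁻¹ := by group
        _ = c * (x * w) * c⁻¹ := by rw [hw]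
        _ = _ := by group
    have hodd' : Odd (orderOf (c * w * c⁻¹)) := by
      have : c * w * c⁻¹ = MulAut.conj c w := rfl
      rw [this, MulEquiv.orderOf_eq]
      exact hodd
    have h1 := mem_of_sq_mem L _ hodd' (hsq _ hw')
    refine ⟨c * w * c⁻¹, h1, ?_⟩
    simp only [MulEquiv.coe_toMonoidHom, MulAut.conj_apply, inv_inv]
    group
  · -- `p ∣ q (q - 1) + 1`
    obtain ⟨h6, hk⟩ := order_six p _ hp hp3 (q_pos m) h
    obtain ⟨hn1, -, -⟩ := not_dvd_of_dvd_tor p _ hp hp3 (q_pos m) h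
    have hcop := D.coprime_cent x p hp hp3 h hx
    rw [← D.R.hK] at hn1 h6 hk hcop
    refine ⟨Subgroup.centralizer ({x} : Set G), ?_, fun w hw _ => ?_⟩
    · exact r7_cent hW ρ hρ p hp hn1 h6 hk x hx _
        (fun c hc => Subgroup.mem_centralizer_singleton_iff.1 hc) hcop
    · rw [Subgroup.mem_centralizer_singleton_iff]
      exact hw

end RtData

end Cfsg.Agent.Lib.Helper12.Rt
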