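import Cfsg.Agent.Lib.Helper12.RtCycC

/-! # Rt hive (helper12): cyclic Sylow subgroups (p > 3) and conjugacy of cyclic subgroups of toral order (abstract) -/

set_option autoImplicit false
set_option linter.unusedSectionVars false

namespace Cfsg.Agent.Lib.Helper12.Rt

open Cfsg.Agent.Lib.Helper12.ReeOut Cfsg.Agent.Lib.Helper12.ReeInv Cfsg.Agent.Lib.Helper36 Matrix

/-- in a finite cyclic group, membership in a subgroup is detected by its order -/
theorem mem_iff_pow_card_of_cyclic {Z : Type*} [Group Z] [Finite Z] [IsCyclic Z] (C : Subgroup Z) (z : Z) :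
    z ∈ C ↔ z ^ Nat.card ↥C = 1 := by
  classical
  have := Fintype.ofFinite Z
  constructor
  · intro hz
    have h1 : (⟨z, hz⟩ : ↥C) ^ Nat.card ↥C = 1 := pow_card_eq_one'
    have h2 := congrArg Subtype.val h1
    rw [SubmonoidClass.coe_pow] at h2
    exact h2
  · intro hz
    have hpos : 0 < Nat.card ↥C := Nat.card_pos
    have hle := IsCyclic.card_pow_eq_one_le (α := Z) hpos
    have hsub : (Finset.univ.filter (fun x : Z => x ∈ C)) ⊆
        Finset.univ.filter (fun x : Z => x ^ Nat.card ↥C = 1) := by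
      intro x hx
      simp only [Finset.mem_filter, Finset.mem_univ, true_and] at hx ⊢
      have h1 : (⟨x, hx⟩ : ↥C) ^ Nat.card ↥C = 1 := pow_card_eq_one'
      have h2 := congrArg Subtype.val h1
      rw [SubmonoidClass.coe_pow] at h2
      exact h2
    have hcard : (Finset.univ.filter (fun x : Z => x ∈ C)).card = Nat.card ↥C := by
      rw [Nat.card_eq_fintype_card, Fintype.card_subtype]
    have heq := Finset.eq_of_subset_of_card_le hsub (by rw [hcard]; exact hle)
    have hz' : z ∈ Finset.univ.filter (fun x : Z => x ^ Nat.card ↥C = 1) :=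
      Finset.mem_filter.2 ⟨Finset.mem_univ _, hz⟩
    rw [← heq] at hz'
    exact (Finset.mem_filter.1 hz').2

/-- a finite cyclic group has at most one subgroup of each order -/
theorem eq_of_card_eq_of_cyclic {Z : Type*} [Group Z] [Finite Z] [IsCyclic Z] (A B : Subgroup Z)
    (h : Nat.card ↥A = Nat.card ↥B) : A = B := by
  ext z
  rw [mem_iff_pow_card_of_cyclic A, mem_iff_pow_card_of_cyclic B, h]

/-- two subgroups of the same order inside a cyclic subgroup coincide -/
theorem eq_of_le_cyclic {G : Type*} [Group G] [Finite G] (Z : Subgroup G) (hZ : IsCyclic ↥Z) (A B : Subgroup G)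
    (hA : A ≤ Z) (hB : B ≤ Z) (h : Nat.card ↥A = Nat.card ↥B) : A = B := by
  have h1 : Nat.card ↥(A.subgroupOf Z) = Nat.card ↥(B.subgroupOf Z) := by
    rw [Nat.card_congr (Subgroup.subgroupOfEquivOfLe hA).toEquiv,
      Nat.card_congr (Subgroup.subgroupOfEquivOfLe hB).toEquiv, h]
  have h2 := eq_of_card_eq_of_cyclic _ _ h1
  rw [Subgroup.subgroupOf_inj, inf_eq_left.2 hA, inf_eq_left.2 hB] at h2
  exact h2

namespace RtData

variable {K : Type*} [Field K] [Fintype K] {G : Type*} [Group G] {m : ℕ} (D : RtData K G m)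
variable {W : Type*} [AddCommGroup W] [Module K W]

include D in
/-- **abstract S1156**: the Sylow `p`-subgroups are cyclic for `p > 3` -/
theorem sylow_cyclic (ρ : G →* Module.End K W) (hρ : Function.Injective ρ) (hW : Module.finrank K W = 7)
    (p : ℕ) [hpf : Fact p.Prime] (hp3 : 3 < p) (P : Sylow p G) : IsCyclic ↥(P : Subgroup G) := by
  have := D.finite
  have hp := hpf.out
  by_cases hbot : (P : Subgroup G) = ⊥
  · rw [hbot]; infer_instance
  · have hP : IsPGroup p ↥(P : Subgroup G) := P.isPGroup'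
    have : Nontrivial ↥(P : Subgroup G) := (Subgroup.nontrivial_iff_ne_bot _).2 hbot
    have hc : Nontrivial ↥(Subgroup.center ↥(P : Subgroup G)) := hP.center_nontrivial
    have hPc : IsPGroup p ↥(Subgroup.center ↥(P : Subgroup G)) := hP.to_subgroup _
    obtain ⟨k, hk⟩ := hPc.exists_card_eq
    have hk1 : k ≠ 0 := by
      rintro rfl
      rw [pow_zero] at hk
      have := (Nat.card_eq_one_iff_unique.1 hk).1
      exact not_subsingleton _ this
    have hdvd : p ∣ Nat.card ↥(Subgroup.center ↥(P : Subgroup G)) := by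
      rw [hk]; exact dvd_pow_self p hk1
    obtain ⟨x, hx⟩ := exists_prime_orderOf_dvd_card' (G := ↥(Subgroup.center ↥(P : Subgroup G))) p hdvd
    have hx' : orderOf ((x : ↥(P : Subgroup G)) : G) = p := by
      rw [Subgroup.orderOf_coe, Subgroup.orderOf_coe]; exact hx
    obtain ⟨Z, hZ, hmem⟩ := D.exists_cyclic_of_cent ρ hρ hW ((x : ↥(P : Subgroup G)) : G) p hp hp3 hx'
    have hle : (P : Subgroup G) ≤ Z := by
      intro w hw
      apply hmem w
      · have h1 := Subgroup.mem_center_iff.1 x.2 ⟨w, hw⟩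
        have h2 := congrArg Subtype.val h1
        simpa using h2
      · obtain ⟨j, hj⟩ := (IsPGroup.iff_orderOf.1 hP) ⟨w, hw⟩
        rw [Subgroup.orderOf_mk] at hj
        rw [hj]
        exact Odd.pow (hp.odd_of_ne_two (by omega))
    exact @Subgroup.isCyclic_of_le _ _ _ _ hle hZ

end RtData

end Cfsg.Agent.Lib.Helper12.Rt
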