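import Cfsg.Agent.Lib.Helper12.RtCycD

/-! # Rt hive (helper12): conjugacy of cyclic subgroups of toral order in the small Ree groups (abstract) -/

set_option autoImplicit false
set_option linter.unusedSectionVars false

namespace Cfsg.Agent.Lib.Helper12.Rt

open Cfsg.Agent.Lib.Helper12.ReeOut Cfsg.Agent.Lib.Helper12.ReeInv Cfsg.Agent.Lib.Helper36 Matrix

/-- divisors of a number `≡ 1 mod 6` are odd with all prime factors `> 3` -/
theorem odd_of_dvd_mod_six (n d : ℕ) (hn : n % 6 = 1) (hd : d ∣ n) :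
    Odd d ∧ ∀ p : ℕ, p.Prime → p ∣ d → 3 < p := by
  constructor
  · rw [← Nat.not_even_iff_odd]
    intro h
    have h2 : 2 ∣ n := (even_iff_two_dvd.1 h).trans hd
    omega
  · intro p hp hpd
    have hpn : p ∣ n := hpd.trans hd
    have h2 : p ≠ 2 := by
      rintro rfl
      omega
    have h3 : p ≠ 3 := by
      rintro rfl
      omega
    have := hp.two_le
    omega

theorem three_pow_mod_six (k : ℕ) : 3 ^ (k + 1) % 6 = 3 := by
  induction k with
  | zero => norm_num
  | succ k ih => rw [pow_succ, Nat.mul_mod, ih]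

theorem q_mod24 (m : ℕ) : 3 ^ (2 * m + 1) % 24 = 3 := by
  have h8 := q_mod8 m
  have h3 : 3 ∣ 3 ^ (2 * m + 1) := dvd_pow_self 3 (by omega)
  omega

/-- the four toral orders are `≡ 1 mod 6` -/
theorem tor_mod_six (m : ℕ) :
    ((3 ^ (2 * m + 1) - 1) / 2) % 6 = 1 ∧ ((3 ^ (2 * m + 1) + 1) / 4) % 6 = 1 ∧
      (3 ^ (2 * m + 1) - 3 ^ (m + 1) + 1) % 6 = 1 ∧ (3 ^ (2 * m + 1) + 3 ^ (m + 1) + 1) % 6 = 1 := by
  have h24 := q_mod24 m
  have hq := three_pow_mod_six (2 * m)
  have hr := three_pow_mod_six m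
  have hle : 3 ^ (m + 1) ≤ 3 ^ (2 * m + 1) := Nat.pow_le_pow_right (by norm_num) (by omega)
  generalize 3 ^ (2 * m + 1) = q at h24 hq hle ⊢
  generalize 3 ^ (m + 1) = r at hr hle ⊢
  refine ⟨by omega, by omega, by omega, by omega⟩

namespace RtData

variable {K : Type*} [Field K] [Fintype K] {G : Type*} [Group G] {m : ℕ} (D : RtData K G m)
variable {W : Type*} [AddCommGroup W] [Module K W]

include D in
/-- **abstract S2358** (general form): two cyclic subgroups of the same odd order `d` prime to `3` are conjugate -/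
theorem cyclic_conj (ρ : G →* Module.End K W) (hρ : Function.Injective ρ) (hW : Module.finrank K W = 7)
    (d : ℕ) (hodd : Odd d) (hpr : ∀ p : ℕ, p.Prime → p ∣ d → 3 < p)
    (A B : Subgroup G) (hA : IsCyclic ↥A) (hB : IsCyclic ↥B) (hAd : Nat.card ↥A = d) (hBd : Nat.card ↥B = d) :
    ∃ g : G, B = A.map (MulAut.conj g).toMonoidHom := by
  have := D.finite
  by_cases hd1 : d = 1
  · refine ⟨1, ?_⟩
    rw [Subgroup.card_eq_one.1 (hAd.trans hd1), Subgroup.card_eq_one.1 (hBd.trans hd1), Subgroup.map_bot]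
  obtain ⟨p, hp, hpd⟩ := Nat.exists_prime_and_dvd hd1
  have hp3 := hpr p hp hpd
  have hpf : Fact p.Prime := ⟨hp⟩
  obtain ⟨xA, hxA⟩ := exists_prime_orderOf_dvd_card' (G := ↥A) p (by rw [hAd]; exact hpd)
  obtain ⟨xB, hxB⟩ := exists_prime_orderOf_dvd_card' (G := ↥B) p (by rw [hBd]; exact hpd)
  have hxA' : orderOf (xA : G) = p := by rw [Subgroup.orderOf_coe]; exact hxA
  have hxB' : orderOf (xB : G) = p := by rw [Subgroup.orderOf_coe]; exact hxB
  have hpA : IsPGroup p ↥(Subgroup.zpowers (xA : G)) :=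
    IsPGroup.of_card (n := 1) (by rw [Nat.card_zpowers, hxA', pow_one])
  have hpB : IsPGroup p ↥(Subgroup.zpowers (xB : G)) :=
    IsPGroup.of_card (n := 1) (by rw [Nat.card_zpowers, hxB', pow_one])
  obtain ⟨P, hP⟩ := hpA.exists_le_sylow
  obtain ⟨Q, hQ⟩ := hpB.exists_le_sylow
  obtain ⟨c, hc⟩ := MulAction.exists_smul_eq G Q P
  have hy : c * (xB : G) * c⁻¹ ∈ (P : Subgroup G) := by
    rw [← hc, Sylow.coe_subgroup_smul]
    have h1 := Subgroup.smul_mem_pointwise_smul (xB : G) (MulAut.conj c) (Q : Subgroup G)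
      (hQ (Subgroup.mem_zpowers _))
    rwa [MulAut.smul_def, MulAut.conj_apply] at h1
  have hy' : orderOf (c * (xB : G) * c⁻¹) = p := by
    have : c * (xB : G) * c⁻¹ = MulAut.conj c (xB : G) := rfl
    rw [this, MulEquiv.orderOf_eq, hxB']
  have hPc : IsCyclic ↥(P : Subgroup G) := D.sylow_cyclic ρ hρ hW p hp3 P
  have hzz : Subgroup.zpowers (xA : G) = Subgroup.zpowers (c * (xB : G) * c⁻¹) := by
    apply eq_of_le_cyclic (P : Subgroup G) hPc _ _ hP
    · rw [Subgroup.zpowers_le]; exact hy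
    · rw [Nat.card_zpowers, Nat.card_zpowers, hxA', hy']
  obtain ⟨k, hk⟩ : (xA : G) ∈ Subgroup.zpowers (c * (xB : G) * c⁻¹) := by
    rw [← hzz]; exact Subgroup.mem_zpowers _
  obtain ⟨Z, hZ, hmem⟩ := D.exists_cyclic_of_cent ρ hρ hW (xA : G) p hp hp3 hxA'
  have hAZ : A ≤ Z := by
    intro a ha
    apply hmem a
    · have h1 : (⟨a, ha⟩ : ↥A) * xA = xA * ⟨a, ha⟩ := (IsCyclic.isMulCommutative (α := ↥A)).is_comm.comm _ _
      have h2 := congrArg Subtype.val h1
      simpa using h2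
    · have h1 : orderOf a ∣ d := by
        rw [← hAd]
        have := orderOf_dvd_natCard (⟨a, ha⟩ : ↥A)
        rwa [Subgroup.orderOf_mk] at this
      exact Odd.of_dvd_nat hodd h1
  have hBZ : B.map (MulAut.conj c).toMonoidHom ≤ Z := by
    rintro _ ⟨b, hb, rfl⟩
    simp only [MulEquiv.coe_toMonoidHom, MulAut.conj_apply]
    apply hmem
    · have h1 : (⟨b, hb⟩ : ↥B) * xB = xB * ⟨b, hb⟩ := (IsCyclic.isMulCommutative (α := ↥B)).is_comm.comm _ _
      have h2 := congrArg Subtype.val h1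
      have h3 : b * (xB : G) = (xB : G) * b := by simpa using h2
      have h4 : Commute (c * b * c⁻¹) (c * (xB : G) * c⁻¹) := by
        show c * b * c⁻¹ * (c * (xB : G) * c⁻¹) = c * (xB : G) * c⁻¹ * (c * b * c⁻¹)
        calc c * b * c⁻¹ * (c * (xB : G) * c⁻¹) = c * (b * (xB : G)) * c⁻¹ := by group
          _ = c * ((xB : G) * b) * c⁻¹ := by rw [h3]
          _ = _ := by group
      have h5 := h4.zpow_right k
      rw [← hk]
      exact h5
    · have h1 : orderOf b ∣ d := by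
        rw [← hBd]
        have := orderOf_dvd_natCard (⟨b, hb⟩ : ↥B)
        rwa [Subgroup.orderOf_mk] at this
      have h2 : orderOf (c * b * c⁻¹) = orderOf b := by
        have : c * b * c⁻¹ = MulAut.conj c b := rfl
        rw [this, MulEquiv.orderOf_eq]
      rw [h2]
      exact Odd.of_dvd_nat hodd h1
  have hAB : A = B.map (MulAut.conj c).toMonoidHom := by
    apply eq_of_le_cyclic Z hZ _ _ hAZ hBZ
    rw [map_conj_card, hAd, hBd]
  refine ⟨c⁻¹, ?_⟩
  rw [hAB, Subgroup.map_map]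
  have hid : (MulAut.conj c⁻¹).toMonoidHom.comp (MulAut.conj c).toMonoidHom = MonoidHom.id G := by
    ext x
    simp only [MonoidHom.coe_comp, MulEquiv.coe_toMonoidHom, Function.comp_apply, MulAut.conj_apply,
      inv_inv, MonoidHom.id_apply]
    group
  rw [hid, Subgroup.map_id]

include D in
/-- **abstract S2358** -/
theorem toral_conj (ρ : G →* Module.End K W) (hρ : Function.Injective ρ) (hW : Module.finrank K W = 7)
    (d : ℕ)
    (hd : d ∣ (3 ^ (2 * m + 1) - 1) / 2 ∨ d ∣ (3 ^ (2 * m + 1) + 1) / 4 ∨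
      d ∣ 3 ^ (2 * m + 1) - 3 ^ (m + 1) + 1 ∨ d ∣ 3 ^ (2 * m + 1) + 3 ^ (m + 1) + 1)
    (A B : Subgroup G) (hA : IsCyclic ↥A) (hB : IsCyclic ↥B) (hAd : Nat.card ↥A = d) (hBd : Nat.card ↥B = d) :
    ∃ g : G, B = A.map (MulAut.conj g).toMonoidHom := by
  obtain ⟨h1, h2, h3, h4⟩ := tor_mod_six m
  have key : Odd d ∧ ∀ p : ℕ, p.Prime → p ∣ d → 3 < p := by
    rcases hd with h | h | h | h
    · exact odd_of_dvd_mod_six _ d h1 h
    · exact odd_of_dvd_mod_six _ d h2 h
    · exact odd_of_dvd_mod_six _ d h3 h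
    · exact odd_of_dvd_mod_six _ d h4 h
  exact D.cyclic_conj ρ hρ hW d key.1 key.2 A B hA hB hAd hBd

end RtData

end Cfsg.Agent.Lib.Helper12.Rt
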