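import Cfsg.Agent.Lib.Helper12.ReeOutAbs
import Cfsg.Agent.Lib.Helper12.ReeNormAbs

/-! # Rt hive (helper12): the tori of the small Ree groups — the abstract data

`RtData K G m` packages what we use of `G = ²G₂(q)`, `q = 3^(2m+1)`: the rank one structure (`ReeOutData`), the
involution centraliser `C(t) = ⟨t⟩ × φ(SL₂(K))` (`InvData`), the order of `G`, the Sylow 2-subgroups. -/

set_option autoImplicit false

namespace Cfsg.Agent.Lib.Helper12.Rt

open Cfsg.Agent.Lib.Helper12.ReeOut Cfsg.Agent.Lib.Helper12.ReeInv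

/-- what we use of the group `²G₂(q)` -/
structure RtData (K : Type*) [Field K] [Fintype K] (G : Type*) [Group G] (m : ℕ) where
  R : ReeOutData K G m
  I : InvData K G
  hIa : I.a = R.h (-1)
  card_G : Nat.card G = (3 ^ (2 * m + 1)) ^ 3 * (3 ^ (2 * m + 1) - 1) * ((3 ^ (2 * m + 1)) ^ 3 + 1)
  n_inv : ∀ s : Kˣ, R.n⁻¹ * R.h s * R.n = R.h s⁻¹
  fpf : ∀ s : Kˣ, s ≠ 1 → Odd (orderOf s) → ∀ p : K × K × K, R.h s * R.u p * (R.h s)⁻¹ = R.u p → p = 0
  syl2 : ∀ S : Sylow 2 G, Subgroup.centralizer ((S : Subgroup G) : Set G) = S ∧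
    Nat.card ↥(Subgroup.normalizer ((S : Subgroup G) : Set G)) = 168
  syl2' : ∀ S : Sylow 2 G, Nat.card ↥(S : Subgroup G) = 8 ∧ ∀ x ∈ S, x * x = 1

end Cfsg.Agent.Lib.Helper12.Rt
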