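import Cfsg.Agent.Lib.Helper12.RtDefs
import Cfsg.Agent.Lib.Helper12.ReeOutInst
import Cfsg.Agent.Lib.Helper12.ReeNormRee
import Cfsg.Agent.Lib.Helper36.ReeOdd

/-! # Rt hive (helper12): the data `RtData` of the small Ree group `²G₂(q)` -/

set_option autoImplicit false
set_option linter.unusedSectionVars false

namespace Cfsg.Agent.Lib.Helper12.Rt

open Cfsg Cfsg.Lie Cfsg.Agent.Lib.Helper36 Cfsg.Agent.Lib.Helper18 Cfsg.Agent.Lib.Helper12.ReeOut
  Cfsg.Agent.Lib.Helper12.ReeInv

section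
variable {K : Type*} [Field K] [Fintype K] {m : ℕ}

theorem cmat_w0 : Cmat chevG2 (w0word chevG2) = -1 := by decide +kernel

/-- the long Weyl word inverts the torus -/
theorem reeN0_conj_torus (t : Fin chevG2.rank → Kˣ) :
    reeN0 K * torusHom chevG2 K t * (reeN0 K)⁻¹ = (torusHom chevG2 K t)⁻¹ := by
  have h := conj_torusHom chevG2 hG2 K (w0word chevG2) w0word_lt t
  rw [cmat_w0] at h
  have h2 : monoMap (-1 : Matrix (Fin chevG2.rank) (Fin chevG2.rank) ℤ) t = t⁻¹ := by
    funext k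
    rw [monoMap_apply]
    simp [Matrix.neg_apply, Matrix.one_apply, Finset.prod_ite_eq']
  rw [h2, map_inv] at h
  exact h

/-- the Weyl element inverts the torus -/
theorem reeNN_conj_reeHm (hK : Fintype.card K = 3 ^ (2 * m + 1)) (s : Kˣ) :
    (reeNN (3 ^ m) (1 : K))⁻¹ * reeHm (3 ^ m) s * reeNN (3 ^ m) (1 : K) = reeHm (3 ^ m) s⁻¹ := by
  obtain ⟨σ, hσ⟩ := exists_reeSig hK
  obtain ⟨h₀, hh₀, hn⟩ := reeNN_eq_n0 hK hσ
  obtain ⟨a, b, rfl⟩ := exists_torPair h₀ hh₀
  rw [hn, map_inv, reeHm_apply]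
  set t := torPair (s ^ 3 ^ m) s with ht
  have h1 := reeN0_conj_torus (K := K) t⁻¹
  rw [map_inv, inv_inv] at h1
  -- `N0⁻¹ T N0 = T⁻¹`
  have h2 : (reeN0 K)⁻¹ * torusHom chevG2 K t * reeN0 K = (torusHom chevG2 K t)⁻¹ := by
    calc (reeN0 K)⁻¹ * torusHom chevG2 K t * reeN0 K
        = (reeN0 K)⁻¹ * (reeN0 K * (torusHom chevG2 K t)⁻¹ * (reeN0 K)⁻¹) * reeN0 K := by rw [h1]
      _ = (torusHom chevG2 K t)⁻¹ := by group
  have h3 : torusHom chevG2 K (torPair a b) * torusHom chevG2 K t =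
      torusHom chevG2 K t * torusHom chevG2 K (torPair a b) := by
    rw [← map_mul, ← map_mul, mul_comm]
  calc (reeN0 K * torusHom chevG2 K (torPair a b))⁻¹ * torusHom chevG2 K t *
        (reeN0 K * torusHom chevG2 K (torPair a b))
      = (torusHom chevG2 K (torPair a b))⁻¹ * ((reeN0 K)⁻¹ * torusHom chevG2 K t * reeN0 K) *
          torusHom chevG2 K (torPair a b) := by group
    _ = (torusHom chevG2 K (torPair a b))⁻¹ * (torusHom chevG2 K t)⁻¹ * torusHom chevG2 K (torPair a b) := by rw [h2]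
    _ = (torusHom chevG2 K t * torusHom chevG2 K (torPair a b))⁻¹ * torusHom chevG2 K (torPair a b) := by group
    _ = (torusHom chevG2 K (torPair a b) * torusHom chevG2 K t)⁻¹ * torusHom chevG2 K (torPair a b) := by rw [h3]
    _ = (torusHom chevG2 K t)⁻¹ := by group

/-- the data of `²G₂(q)` -/
noncomputable def rtData (hm : 1 ≤ m) (hK : Fintype.card K = 3 ^ (2 * m + 1)) : RtData K ↥(twistedG2 K (3 ^ m)) m := by
  haveI := ree_charP hK
  exact
  { R := reeOutData hK
    I := reeInvData hK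
    hIa := by
      show aG hK = hG hK (-1)
      symm
      apply eq_aG hK
      · rw [hG_coe]; exact reeHm_mem_diag _ _
      · intro h
        have : hG hK (-1) = hG hK 1 := by rw [h, map_one]
        exact ree_neg_one_ne_one hK (inst_h_inj hK this)
      · rw [← map_mul, neg_mul_neg, one_mul, map_one]
    card_G := ree_card hK
    n_inv := fun s => Subtype.ext (reeNN_conj_reeHm hK s)
    fpf := by
      intro s hs hodd p hp
      have := ree_odd_fixed_point_free hK s hs hodd p (congrArg Subtype.val hp)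
      exact this
    syl2 := ree_sylow_two_normalizer hm hK
    syl2' := fun S => sylow_two hK S }

end

end Cfsg.Agent.Lib.Helper12.Rt
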