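import Cfsg.Agent.Lib.Helper12.RtSplit2
import Cfsg.Agent.Lib.Helper70.RtSL2NS
import Cfsg.Agent.Lib.Helper55.RtINVCONJ
import Cfsg.Agent.Lib.Helper88.RtKLEIN

/-! # Rt hive (helper12): inside `C(a) = ⟨a⟩ × φ(SL₂(K))`, the centraliser of an element of odd prime order `p ∣ q + 1` -/

set_option autoImplicit false
set_option linter.unusedSectionVars false

namespace Cfsg.Agent.Lib.Helper12.Rt

open Cfsg.Agent.Lib.Helper12.ReeInv Cfsg.Agent.Lib.Helper36 Matrix

section inv
variable {K : Type*} [Field K] [Fintype K] [CharP K 3] {G : Type*} [Group G] (I : InvData K G)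

theorem negI_ne_one : negI K ≠ 1 := by
  intro h
  have h1 : (negI K).1 0 0 = (1 : SpecialLinearGroup (Fin 2) K).1 0 0 := by rw [h]
  have h2 : (negI K).1 0 0 = -1 := by rw [negI_val]; rfl
  rw [h2] at h1
  have h1' : (-1 : K) = 1 := by simpa using h1
  have h3 : (2 : K) = 0 := by linear_combination -h1'
  exact ree_two_ne_zero h3

theorem negI_sq : negI K * negI K = 1 := by
  apply Subtype.ext
  show (negI K).1 * (negI K).1 = 1
  rw [negI_val, Matrix.mul_fin_two, Matrix.one_fin_two]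
  simp

theorem negI_comm (x : SpecialLinearGroup (Fin 2) K) : negI K * x = x * negI K :=
  (Subgroup.mem_center_iff.1 negI_mem_center x).symm

theorem negI_pow_odd (p : ℕ) (hp : Odd p) : negI K ^ p = negI K := by
  obtain ⟨k, rfl⟩ := hp
  rw [pow_succ, pow_mul, pow_two, negI_sq, one_pow, one_mul]

theorem card_center_sl2 : Nat.card ↥(Subgroup.center (SpecialLinearGroup (Fin 2) K)) = 2 := by
  rw [Nat.card_eq_two_iff]
  refine ⟨⟨1, one_mem _⟩, ⟨negI K, negI_mem_center⟩, ?_, ?_⟩
  · intro h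
    exact negI_ne_one (congrArg Subtype.val h).symm
  · ext ⟨x, hx⟩
    simp only [Set.mem_univ, Set.mem_insert_iff, Set.mem_singleton_iff, iff_true]
    rcases InvData.center_cases x hx with h | h
    · left; exact Subtype.ext h
    · right; exact Subtype.ext h

theorem a_pow_odd (p : ℕ) (hp : Odd p) : I.a ^ p = I.a := by
  obtain ⟨k, rfl⟩ := hp
  rw [pow_succ, pow_mul, pow_two, I.ha2, one_pow, one_mul]

/-- an element of odd prime order of `C(a)` lifts to an element of the same order of `SL₂(K)` -/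
theorem exists_lift (y : G) (hya : I.a * y = y * I.a) (p : ℕ) (hp : p.Prime) (hp2 : p ≠ 2) (hy : orderOf y = p) :
    ∃ g : SpecialLinearGroup (Fin 2) K, I.φ g = y ∧ orderOf g = p := by
  have hodd : Odd p := hp.odd_of_ne_two hp2
  have hy1 : y ≠ 1 := by
    intro h
    rw [h, orderOf_one] at hy
    exact hp.one_lt.ne hy
  have hyp : y ^ p = 1 := by rw [← hy]; exact pow_orderOf_eq_one y
  have key : ∀ g : SpecialLinearGroup (Fin 2) K, I.φ g = y → g ^ p = 1 → orderOf g = p := by
    intro g hg hgp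
    rcases (Nat.dvd_prime hp).1 (orderOf_dvd_of_pow_eq_one hgp) with h | h
    · exfalso
      rw [orderOf_eq_one_iff] at h
      rw [h, map_one] at hg
      exact hy1 hg.symm
    · exact h
  obtain ⟨x, h | h⟩ := I.hcent y hya
  · have h1 : I.φ (x ^ p) = 1 := by rw [map_pow, ← h, hyp]
    rcases InvData.center_cases _ ((I.hker _).1 h1) with h2 | h2
    · exact ⟨x, h.symm, key x h.symm h2⟩
    · refine ⟨negI K * x, ?_, key _ ?_ ?_⟩
      · rw [I.phi_negI_mul, h]
      · rw [I.phi_negI_mul, h]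
      · rw [(show Commute (negI K) x from negI_comm x).mul_pow, h2, negI_pow_odd p hodd, negI_sq]
  · exfalso
    have hc : Commute I.a (I.φ x) := I.hcomm x
    have h1 : I.a * I.φ (x ^ p) = 1 := by
      rw [map_pow, ← a_pow_odd I p hodd, ← hc.mul_pow, ← h, hyp]
    have h2 : I.a = I.φ ((x ^ p)⁻¹) := by
      rw [map_inv]
      exact eq_inv_of_mul_eq_one_left h1
    exact I.hne _ h2

/-- **inside `C(a)`**: for `y ∈ C(a)` of odd prime order `p ∣ q + 1`, the group `C(a) ∩ C(y)` is abelian of order `q + 1` -/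
theorem cent_inf (hodd : Odd (Fintype.card K)) (y : G) (hya : I.a * y = y * I.a) (p : ℕ) (hp : p.Prime) (hp2 : p ≠ 2)
    (hpq : p ∣ Fintype.card K + 1) (hy : orderOf y = p) :
    Nat.card ↥(Subgroup.centralizer ({I.a} : Set G) ⊓ Subgroup.centralizer ({y} : Set G)) = Fintype.card K + 1 ∧
      ∀ x ∈ Subgroup.centralizer ({I.a} : Set G) ⊓ Subgroup.centralizer ({y} : Set G),
        ∀ z ∈ Subgroup.centralizer ({I.a} : Set G) ⊓ Subgroup.centralizer ({y} : Set G), x * z = z * x := by
  obtain ⟨g, rfl, hg⟩ := exists_lift I y hya p hp hp2 hy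
  have hpodd : Odd p := hp.odd_of_ne_two hp2
  obtain ⟨hcyc, hcard⟩ := sl2_cent_nonsplit hodd p hp hp2 hpq g hg
  set Cg : Subgroup (SpecialLinearGroup (Fin 2) K) := Subgroup.centralizer ({g} : Set (SpecialLinearGroup (Fin 2) K))
    with hCg
  set T : Subgroup G := Subgroup.centralizer ({I.a} : Set G) ⊓ Subgroup.centralizer ({I.φ g} : Set G) with hT
  have hCgcomm : ∀ z ∈ Cg, ∀ z' ∈ Cg, z * z' = z' * z := by
    intro z hz z' hz'
    have : IsMulCommutative ↥Cg := hcyc.isMulCommutative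
    exact congrArg Subtype.val (mul_comm' (⟨z, hz⟩ : ↥Cg) ⟨z', hz'⟩)
  have hgp : g ^ p = 1 := by rw [← hg]; exact pow_orderOf_eq_one g
  -- description of `T`
  have hTmem : ∀ t ∈ T, ∃ z ∈ Cg, t = I.φ z ∨ t = I.a * I.φ z := by
    intro t ht
    rw [hT, Subgroup.mem_inf, Subgroup.mem_centralizer_singleton_iff, Subgroup.mem_centralizer_singleton_iff] at ht
    obtain ⟨z, hz⟩ := I.hcent t ht.1.symm
    have hzg : I.φ z * I.φ g = I.φ g * I.φ z := by
      rcases hz with h | h
      · rw [← h]; exact ht.2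
      · have h1 : I.a * I.φ z * I.φ g = I.φ g * (I.a * I.φ z) := by rw [← h]; exact ht.2
        have h2 : I.a * (I.φ z * I.φ g) = I.a * (I.φ g * I.φ z) := by
          rw [← mul_assoc, h1, ← mul_assoc, ← I.hcomm g, mul_assoc]
        exact mul_left_cancel h2
    refine ⟨z, ?_, hz⟩
    rw [hCg, Subgroup.mem_centralizer_singleton_iff]
    rcases I.phi_comm z g g hzg with h | h
    · exact h
    · exfalso
      -- `z g z⁻¹ = -g` is impossible for `g` of odd order
      have h1 : z * g * z⁻¹ = negI K * g := by rw [h]; group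
      have h2 : (z * g * z⁻¹) ^ p = 1 := by rw [conj_pow, hgp]; group
      rw [h1, (show Commute (negI K) g from negI_comm g).mul_pow, hgp, mul_one, negI_pow_odd p hpodd] at h2
      exact negI_ne_one h2
  have hTcomm : ∀ x ∈ T, ∀ z ∈ T, x * z = z * x := by
    intro x hx z hz
    obtain ⟨x', hx', hx''⟩ := hTmem x hx
    obtain ⟨z', hz', hz''⟩ := hTmem z hz
    have e1 : I.φ x' * I.φ z' = I.φ z' * I.φ x' := by rw [← map_mul, ← map_mul, hCgcomm x' hx' z' hz']
    have ea : ∀ w, I.a * I.φ w = I.φ w * I.a := I.hcomm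
    rcases hx'' with rfl | rfl <;> rcases hz'' with rfl | rfl
    · exact e1
    · calc I.φ x' * (I.a * I.φ z') = I.a * (I.φ x' * I.φ z') := by rw [← mul_assoc, ← ea, mul_assoc]
        _ = I.a * I.φ z' * I.φ x' := by rw [e1, mul_assoc]
    · calc I.a * I.φ x' * I.φ z' = I.a * (I.φ z' * I.φ x') := by rw [mul_assoc, e1]
        _ = I.φ z' * (I.a * I.φ x') := by rw [← mul_assoc, ea, mul_assoc]
    · calc I.a * I.φ x' * (I.a * I.φ z') = I.a * I.a * (I.φ x' * I.φ z') := by
            rw [mul_assoc, ← mul_assoc (I.φ x'), ← ea, mul_assoc, mul_assoc]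
        _ = I.a * I.a * (I.φ z' * I.φ x') := by rw [e1]
        _ = I.a * I.φ z' * (I.a * I.φ x') := by
            rw [mul_assoc (I.a) (I.φ z'), ← mul_assoc (I.φ z'), ← ea, mul_assoc, mul_assoc]
  refine ⟨?_, hTcomm⟩
  -- the order
  set A : Subgroup G := Subgroup.zpowers I.a with hA
  set L : Subgroup G := Cg.map I.φ with hL
  have haT : I.a ∈ T := by
    rw [hT, Subgroup.mem_inf, Subgroup.mem_centralizer_singleton_iff, Subgroup.mem_centralizer_singleton_iff]
    exact ⟨rfl, I.hcomm g⟩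
  have hAT : A ≤ T := by rw [hA, Subgroup.zpowers_le]; exact haT
  have hLT : L ≤ T := by
    rintro _ ⟨z, hz, rfl⟩
    rw [hT, Subgroup.mem_inf, Subgroup.mem_centralizer_singleton_iff, Subgroup.mem_centralizer_singleton_iff]
    refine ⟨(I.hcomm z).symm, ?_⟩
    rw [hCg, SetLike.mem_coe, Subgroup.mem_centralizer_singleton_iff] at hz
    rw [← map_mul, ← map_mul, hz]
  have hAmem : ∀ x ∈ A, x = 1 ∨ x = I.a := by
    intro x hx
    rw [hA, Subgroup.mem_zpowers_iff] at hx
    obtain ⟨k, rfl⟩ := hx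
    rcases Int.even_or_odd k with ⟨j, rfl⟩ | ⟨j, rfl⟩
    · left
      rw [← two_mul, _root_.zpow_mul, zpow_two, I.ha2, _root_.one_zpow]
    · right
      rw [_root_.zpow_add, zpow_one, _root_.zpow_mul, zpow_two, I.ha2, _root_.one_zpow, one_mul]
  have hiso := nonempty_mulEquiv_prod A L T hAT hLT
    (by
      intro x hx w hw
      exact hTcomm x (hAT hx) w (hLT hw))
    (by
      intro x hx hxL
      rcases hAmem x hx with h | h
      · exact h
      · exfalso
        obtain ⟨z, -, hz⟩ := hxL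
        exact I.hne z (h ▸ hz.symm))
    (by
      intro t ht
      obtain ⟨z, hz, h | h⟩ := hTmem t ht
      · exact ⟨1, one_mem _, I.φ z, ⟨z, hz, rfl⟩, by rw [one_mul, h]⟩
      · exact ⟨I.a, Subgroup.mem_zpowers _, I.φ z, ⟨z, hz, rfl⟩, h⟩)
  obtain ⟨e⟩ := hiso
  have hcA : Nat.card ↥A = 2 := by
    rw [hA, Nat.card_zpowers]
    exact orderOf_eq_prime (by rw [pow_two]; exact I.ha2) I.ha1
  have hcL : 2 * Nat.card ↥L = Nat.card ↥Cg := by
    have h1 := Subgroup.card_mul_index (I.φ.ker.subgroupOf Cg)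
    have h2 : (I.φ.ker.subgroupOf Cg).index = Nat.card ↥L := by
      have := Subgroup.relIndex_ker (K := Cg) I.φ
      rw [← this]; rfl
    have hker : I.φ.ker = Subgroup.center (SpecialLinearGroup (Fin 2) K) := by
      ext x; rw [MonoidHom.mem_ker]; exact I.hker x
    have hle : I.φ.ker ≤ Cg := by
      rw [hker]
      intro x hx
      rw [hCg, Subgroup.mem_centralizer_singleton_iff]
      exact (Subgroup.mem_center_iff.1 hx g).symm
    have h3 : Nat.card ↥(I.φ.ker.subgroupOf Cg) = 2 := by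
      rw [Nat.card_congr (Subgroup.subgroupOfEquivOfLe hle).toEquiv, hker, card_center_sl2]
    rw [h2, h3] at h1
    exact h1
  rw [Nat.card_congr e.toEquiv, Nat.card_prod, hcA, hcL, hcard]

end inv

end Cfsg.Agent.Lib.Helper12.Rt
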