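import Cfsg.Agent.Lib.Helper12.RtNonsplitA
import Cfsg.Agent.Lib.Helper38.SLCard

/-! # Rt hive (helper12): 3-elements, and the Sylow `p`-subgroups for `p ∣ q + 1` -/

set_option autoImplicit false
set_option linter.unusedSectionVars false

namespace Cfsg.Agent.Lib.Helper12.Rt

open Cfsg.Agent.Lib.Helper12.ReeOut Cfsg.Agent.Lib.Helper12.ReeInv Cfsg.Agent.Lib.Helper36 Matrix

/-- `q³ + 1 = (q + 1) (q (q - 1) + 1)` -/
theorem q_cube_add_one (q : ℕ) (hq : 1 ≤ q) : q ^ 3 + 1 = (q + 1) * (q * (q - 1) + 1) := by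
  obtain ⟨k, rfl⟩ : ∃ k, q = k + 1 := ⟨q - 1, by omega⟩
  simp only [Nat.add_sub_cancel]
  ring

/-- an odd prime `ℓ ∣ q + 1` does not divide `q`, `q - 1`, `q (q - 1) + 1` (`q` a power of 3) -/
theorem not_dvd_of_dvd_add_one (m : ℕ) (ℓ : ℕ) (hℓ : ℓ.Prime) (hℓ2 : ℓ ≠ 2) (hd : ℓ ∣ 3 ^ (2 * m + 1) + 1) :
    ¬ ℓ ∣ 3 ^ (2 * m + 1) ∧ ¬ ℓ ∣ 3 ^ (2 * m + 1) - 1 ∧
      ¬ ℓ ∣ 3 ^ (2 * m + 1) * (3 ^ (2 * m + 1) - 1) + 1 := by
  set q := 3 ^ (2 * m + 1) with hq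
  have hq1 : 1 ≤ q := q_pos m
  have h1 : ¬ ℓ ∣ q := by
    intro h
    have h3 : ℓ ∣ (q + 1) - q := Nat.dvd_sub hd h
    rw [Nat.add_sub_cancel_left] at h3
    exact hℓ.one_lt.ne' (Nat.dvd_one.1 h3)
  have h2 : ¬ ℓ ∣ q - 1 := by
    intro h
    have h3 : ℓ ∣ (q + 1) - (q - 1) := Nat.dvd_sub hd h
    have h4 : (q + 1) - (q - 1) = 2 := by omega
    rw [h4] at h3
    exact hℓ2 ((Nat.prime_dvd_prime_iff_eq hℓ Nat.prime_two).1 h3)
  refine ⟨h1, h2, ?_⟩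
  intro h
  -- `q (q - 1) + 1 = (q + 1) (q - 2) + 3`
  have hq3 : 3 ≤ q := by
    have := q_mod8 m
    omega
  have h3 : q * (q - 1) + 1 = (q + 1) * (q - 2) + 3 := by
    clear_value q
    obtain ⟨k, rfl⟩ : ∃ k, q = k + 2 := ⟨q - 2, by omega⟩
    simp only [Nat.add_sub_cancel, show k + 2 - 1 = k + 1 by omega]
    ring
  rw [h3] at h
  have h4 : ℓ ∣ 3 := (Nat.dvd_add_right (Dvd.dvd.mul_right hd _)).1 h
  have h5 : ℓ = 3 := (Nat.prime_dvd_prime_iff_eq hℓ Nat.prime_three).1 h4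
  rw [h5] at h1
  exact h1 (dvd_pow_self 3 (by omega))

/-- the `ℓ`-parts of `q + 1` and of `|G|` agree for an odd prime `ℓ ∣ q + 1` -/
theorem fact_nonsplit (m : ℕ) (ℓ : ℕ) (hℓ : ℓ.Prime) (hℓ2 : ℓ ≠ 2) (hd : ℓ ∣ 3 ^ (2 * m + 1) + 1) :
    (3 ^ (2 * m + 1) + 1).factorization ℓ =
      ((3 ^ (2 * m + 1)) ^ 3 * (3 ^ (2 * m + 1) - 1) * ((3 ^ (2 * m + 1)) ^ 3 + 1)).factorization ℓ := by
  obtain ⟨h1, h2, h3⟩ := not_dvd_of_dvd_add_one m ℓ hℓ hℓ2 hd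
  set q := 3 ^ (2 * m + 1) with hq
  have hq1 : 1 ≤ q := q_pos m
  have hq3 : 3 ≤ q := by
    have := q_mod8 m
    omega
  have h1' : ¬ ℓ ∣ q ^ 3 := fun h => h1 (hℓ.dvd_of_dvd_pow h)
  have hne1 : q ^ 3 ≠ 0 := by positivity
  have hne2 : q - 1 ≠ 0 := by omega
  have hne3 : q ^ 3 + 1 ≠ 0 := by positivity
  rw [Nat.factorization_mul (mul_ne_zero hne1 hne2) hne3, Nat.factorization_mul hne1 hne2,
    q_cube_add_one q hq1, Nat.factorization_mul (by omega) (by positivity)]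
  simp only [Finsupp.coe_add, Pi.add_apply]
  rw [Nat.factorization_eq_zero_of_not_dvd h1', Nat.factorization_eq_zero_of_not_dvd h2,
    Nat.factorization_eq_zero_of_not_dvd h3]
  omega

/-- the `ℓ`-parts of `q + 1` and of `|SL₂(q)| / 2` agree for an odd prime `ℓ ∣ q + 1` -/
theorem fact_nonsplit' (m : ℕ) (ℓ : ℕ) (hℓ : ℓ.Prime) (hℓ2 : ℓ ≠ 2) (hd : ℓ ∣ 3 ^ (2 * m + 1) + 1) (N : ℕ)
    (hN : 2 * N = 3 ^ (2 * m + 1) * ((3 ^ (2 * m + 1)) ^ 2 - 1)) :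
    N.factorization ℓ = (3 ^ (2 * m + 1) + 1).factorization ℓ := by
  obtain ⟨h1, h2, -⟩ := not_dvd_of_dvd_add_one m ℓ hℓ hℓ2 hd
  set q := 3 ^ (2 * m + 1) with hq
  have hq1 : 1 ≤ q := q_pos m
  have hq3 : 3 ≤ q := by
    have := q_mod8 m
    omega
  have e : q ^ 2 - 1 = (q - 1) * (q + 1) := by
    clear_value q
    obtain ⟨k, rfl⟩ : ∃ k, q = k + 1 := ⟨q - 1, by omega⟩
    simp only [Nat.add_sub_cancel]
    have : (k + 1) ^ 2 = k * (k + 1 + 1) + 1 := by ring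
    rw [this, Nat.add_sub_cancel]
  have hN0 : N ≠ 0 := by
    rintro rfl
    rw [mul_zero, e] at hN
    have : 0 < q * ((q - 1) * (q + 1)) := by
      apply Nat.mul_pos (by omega) (Nat.mul_pos (by omega) (by omega))
    omega
  have h3 : (2 * N).factorization ℓ = N.factorization ℓ := by
    rw [Nat.factorization_mul (by norm_num) hN0]
    simp only [Finsupp.coe_add, Pi.add_apply]
    rw [Nat.factorization_eq_zero_of_not_dvd (fun h => hℓ2 ((Nat.prime_dvd_prime_iff_eq hℓ Nat.prime_two).1 h))]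
    omega
  rw [← h3, hN, e, Nat.factorization_mul (by omega) (by apply Nat.mul_ne_zero <;> omega),
    Nat.factorization_mul (by omega) (by omega)]
  simp only [Finsupp.coe_add, Pi.add_apply]
  rw [Nat.factorization_eq_zero_of_not_dvd h1, Nat.factorization_eq_zero_of_not_dvd h2]
  omega

namespace RtData

variable {K : Type*} [Field K] [Fintype K] {G : Type*} [Group G] {m : ℕ} (D : RtData K G m)

include D in
theorem card_K : Nat.card K = 3 ^ (2 * m + 1) := by rw [Nat.card_eq_fintype_card, D.R.hK]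

theorem card_U : Nat.card ↥D.R.U = (3 ^ (2 * m + 1)) ^ 3 := by
  have e : (K × K × K) ≃ ↥D.R.U := Equiv.ofBijective (fun p => ⟨D.R.u p, D.R.u_mem_U p⟩)
    ⟨fun p q h => D.R.u_inj (congrArg Subtype.val h), fun ⟨g, hg⟩ => by
      obtain ⟨p, rfl⟩ := (D.R.mem_U g).1 hg
      exact ⟨p, rfl⟩⟩
  rw [← Nat.card_congr e, Nat.card_prod, Nat.card_prod, D.card_K]
  ring

theorem card_B : Nat.card ↥D.R.B = (3 ^ (2 * m + 1)) ^ 3 * (3 ^ (2 * m + 1) - 1) := by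
  classical
  have e : ((K × K × K) × Kˣ) ≃ ↥D.R.B := Equiv.ofBijective
    (fun x => ⟨D.R.u x.1 * D.R.h x.2, (D.R.mem_B _).2 ⟨x.1, x.2, rfl⟩⟩)
    ⟨fun x x' h => by
      obtain ⟨h1, h2⟩ := D.uh_unique _ _ _ _ (congrArg Subtype.val h)
      exact Prod.ext h1 h2, fun ⟨g, hg⟩ => by
      obtain ⟨p, s, rfl⟩ := (D.R.mem_B g).1 hg
      exact ⟨(p, s), rfl⟩⟩
  rw [← Nat.card_congr e, Nat.card_prod, Nat.card_prod, Nat.card_prod, D.card_K, Nat.card_eq_fintype_card (α := Kˣ),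
    Fintype.card_units, D.R.hK]
  ring

/-- the 3-parts of `|U|` and `|G|` agree -/
theorem fact_three : (Nat.card ↥D.R.U).factorization 3 = (Nat.card G).factorization 3 := by
  rw [D.card_U, D.card_G]
  set q := 3 ^ (2 * m + 1) with hq
  have hq1 : 1 ≤ q := q_pos m
  have hq3 : 3 ≤ q := by
    have := q_mod8 m
    omega
  have h3q : 3 ∣ q := dvd_pow_self 3 (by omega)
  have h2 : ¬ 3 ∣ q - 1 := by
    intro h
    have : 3 ∣ q - (q - 1) := Nat.dvd_sub h3q h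
    rw [Nat.sub_sub_self hq1] at this
    omega
  have h3 : ¬ 3 ∣ q ^ 3 + 1 := by
    intro h
    have : 3 ∣ (q ^ 3 + 1) - q ^ 3 := Nat.dvd_sub h (Dvd.dvd.pow h3q (by norm_num))
    rw [Nat.add_sub_cancel_left] at this
    omega
  have hne1 : q ^ 3 ≠ 0 := by positivity
  have hne2 : q - 1 ≠ 0 := by omega
  have hne3 : q ^ 3 + 1 ≠ 0 := by positivity
  rw [Nat.factorization_mul (mul_ne_zero hne1 hne2) hne3, Nat.factorization_mul hne1 hne2]
  simp only [Finsupp.coe_add, Pi.add_apply]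
  rw [Nat.factorization_eq_zero_of_not_dvd h2, Nat.factorization_eq_zero_of_not_dvd h3]
  omega

include D in
/-- the centraliser of a non-trivial 3-element lies in a conjugate of `B`: elements commuting with it have order dividing `|B|` -/
theorem orderOf_dvd_of_comm_three (x : G) (hx1 : x ≠ 1) (k : ℕ) (hx : x ^ 3 ^ k = 1) (y : G) (hxy : x * y = y * x) :
    orderOf y ∣ (3 ^ (2 * m + 1)) ^ 3 * (3 ^ (2 * m + 1) - 1) := by
  have := D.finite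
  have : Fact (Nat.Prime 3) := ⟨Nat.prime_three⟩
  have hQ : IsPGroup 3 ↥(Subgroup.zpowers x) := by
    rw [IsPGroup.iff_card, Nat.card_zpowers]
    exact (Nat.dvd_prime_pow Nat.prime_three).1 (orderOf_dvd_of_pow_eq_one hx) |>.imp fun j hj => hj.2
  obtain ⟨c, hc⟩ := exists_conj_le_of_factorization D.R.U 3 D.fact_three (Subgroup.zpowers x) hQ
  obtain ⟨p, hp⟩ := (D.R.mem_U _).1 (hc x (Subgroup.mem_zpowers x))
  have hp0 : p ≠ 0 := by
    rintro rfl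
    rw [D.R.u_zero] at hp
    apply hx1
    calc x = c⁻¹ * (c * x * c⁻¹) * c := by group
      _ = 1 := by rw [hp]; group
  have h1 : (c * y * c⁻¹) * D.R.u p * (c * y * c⁻¹)⁻¹ = D.R.u p := by
    rw [← hp]
    calc c * y * c⁻¹ * (c * x * c⁻¹) * (c * y * c⁻¹)⁻¹ = c * (y * x) * y⁻¹ * c⁻¹ := by group
      _ = c * (x * y) * y⁻¹ * c⁻¹ := by rw [hxy]
      _ = _ := by group
  have h2 : c * y * c⁻¹ ∈ D.R.B := D.R.ti _ p p hp0 h1
  have h3 : orderOf (⟨c * y * c⁻¹, h2⟩ : ↥D.R.B) ∣ Nat.card ↥D.R.B := orderOf_dvd_natCard _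
  rw [D.card_B, ← Subgroup.orderOf_coe] at h3
  have h4 : orderOf (c * y * c⁻¹) = orderOf y := by
    have : c * y * c⁻¹ = MulAut.conj c y := rfl
    rw [this, MulEquiv.orderOf_eq]
  rw [← h4]
  exact h3

theorem card_phi_range : 2 * Nat.card ↥D.I.φ.range = 3 ^ (2 * m + 1) * ((3 ^ (2 * m + 1)) ^ 2 - 1) := by
  have := fact_charP D.R.hK
  have h1 := Subgroup.card_mul_index D.I.φ.ker
  have hker : D.I.φ.ker = Subgroup.center (SpecialLinearGroup (Fin 2) K) := by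
    ext x; rw [MonoidHom.mem_ker]; exact D.I.hker x
  rw [Subgroup.index_ker, hker, card_center_sl2, Cfsg.Agent.Lib.Helper38.card_SL2, D.R.hK] at h1
  exact h1

/-- `ℓ`-subgroups, `ℓ` an odd prime dividing `q + 1`, are conjugate into `C(a)` -/
theorem conj_into_Ca (ℓ : ℕ) (hℓ : ℓ.Prime) (hℓ2 : ℓ ≠ 2) (hd : ℓ ∣ 3 ^ (2 * m + 1) + 1) (Q : Subgroup G)
    (hQ : IsPGroup ℓ ↥Q) : ∃ c : G, ∀ x ∈ Q, D.I.a * (c * x * c⁻¹) = c * x * c⁻¹ * D.I.a := by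
  have := D.finite
  have : Fact ℓ.Prime := ⟨hℓ⟩
  have hfac : (Nat.card ↥D.I.φ.range).factorization ℓ = (Nat.card G).factorization ℓ := by
    rw [D.card_G, ← fact_nonsplit m ℓ hℓ hℓ2 hd]
    exact fact_nonsplit' m ℓ hℓ hℓ2 hd _ D.card_phi_range
  obtain ⟨c, hc⟩ := exists_conj_le_of_factorization D.I.φ.range ℓ hfac Q hQ
  refine ⟨c, fun x hx => ?_⟩
  obtain ⟨z, hz⟩ := hc x hx
  rw [← hz]
  exact D.I.hcomm z

end RtData

end Cfsg.Agent.Lib.Helper12.Rt
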