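import Cfsg.Agent.Lib.Helper12.RtNonsplitB

/-! # Rt hive (helper12): `C_G(y) ≤ C_G(a)` for `y ∈ C_G(a)` of odd prime order `p ∣ q + 1` -/

set_option autoImplicit false
set_option linter.unusedSectionVars false

namespace Cfsg.Agent.Lib.Helper12.Rt

open Cfsg.Agent.Lib.Helper12.ReeOut Cfsg.Agent.Lib.Helper12.ReeInv Cfsg.Agent.Lib.Helper36 Matrix

namespace RtData

variable {K : Type*} [Field K] [Fintype K] {G : Type*} [Group G] {m : ℕ} (D : RtData K G m)

/-- all involutions are conjugate to `a` -/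
theorem inv_conj (s : G) (hs1 : s ≠ 1) (hs2 : s * s = 1) : ∃ c : G, c * D.I.a * c⁻¹ = s := by
  have := D.finite
  have : Fact (Nat.Prime 2) := ⟨Nat.prime_two⟩
  let S : Sylow 2 G := default
  exact inv_conj_of_sylow S (D.syl2' S).1 (D.syl2' S).2 (D.syl2 S).1 (D.syl2 S).2 D.I.a s D.I.ha1 D.I.ha2 hs1 hs2

include D in
theorem card_K' : Fintype.card K + 1 = 3 ^ (2 * m + 1) + 1 := by rw [D.R.hK]

include D in
theorem odd_K : Odd (Fintype.card K) := by
  rw [D.R.hK]
  exact Odd.pow (by decide)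

include D in
/-- `C(s) ∩ C(y)` is abelian, for an involution `s` commuting with `y` of odd prime order `p ∣ q + 1` -/
theorem cent_inf_comm (s y : G) (hs1 : s ≠ 1) (hs2 : s * s = 1) (hsy : s * y = y * s) (p : ℕ) (hp : p.Prime)
    (hp2 : p ≠ 2) (hpq : p ∣ 3 ^ (2 * m + 1) + 1) (hy : orderOf y = p) :
    ∀ x ∈ Subgroup.centralizer ({s} : Set G) ⊓ Subgroup.centralizer ({y} : Set G),
      ∀ z ∈ Subgroup.centralizer ({s} : Set G) ⊓ Subgroup.centralizer ({y} : Set G), x * z = z * x := by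
  have := fact_charP D.R.hK
  obtain ⟨c, rfl⟩ := D.inv_conj s hs1 hs2
  have hy' : orderOf (c⁻¹ * y * c) = p := by
    have : c⁻¹ * y * c = MulAut.conj c⁻¹ y := by rw [MulAut.conj_apply, inv_inv]
    rw [this, MulEquiv.orderOf_eq, hy]
  have hya : D.I.a * (c⁻¹ * y * c) = c⁻¹ * y * c * D.I.a := by
    calc D.I.a * (c⁻¹ * y * c) = c⁻¹ * (c * D.I.a * c⁻¹ * y) * c := by group
      _ = c⁻¹ * (y * (c * D.I.a * c⁻¹)) * c := by rw [hsy]
      _ = _ := by group
  have hpq' : p ∣ Fintype.card K + 1 := by rw [D.card_K']; exact hpq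
  obtain ⟨-, hcomm⟩ := cent_inf D.I D.odd_K (c⁻¹ * y * c) hya p hp hp2 hpq' hy'
  have hmem : ∀ x ∈ Subgroup.centralizer ({c * D.I.a * c⁻¹} : Set G) ⊓ Subgroup.centralizer ({y} : Set G),
      c⁻¹ * x * c ∈ Subgroup.centralizer ({D.I.a} : Set G) ⊓ Subgroup.centralizer ({c⁻¹ * y * c} : Set G) := by
    intro x hx
    rw [Subgroup.mem_inf, Subgroup.mem_centralizer_singleton_iff, Subgroup.mem_centralizer_singleton_iff] at hx ⊢
    constructor
    · calc c⁻¹ * x * c * D.I.a = c⁻¹ * (x * (c * D.I.a * c⁻¹)) * c := by group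
        _ = c⁻¹ * ((c * D.I.a * c⁻¹) * x) * c := by rw [hx.1]
        _ = _ := by group
    · calc c⁻¹ * x * c * (c⁻¹ * y * c) = c⁻¹ * (x * y) * c := by group
        _ = c⁻¹ * (y * x) * c := by rw [hx.2]
        _ = _ := by group
  intro x hx z hz
  have h1 := hcomm _ (hmem x hx) _ (hmem z hz)
  calc x * z = c * ((c⁻¹ * x * c) * (c⁻¹ * z * c)) * c⁻¹ := by group
    _ = c * ((c⁻¹ * z * c) * (c⁻¹ * x * c)) * c⁻¹ := by rw [h1]
    _ = z * x := by group

include D in
/-- **`C_G(y) ≤ C_G(a)`** for `y ∈ C_G(a)` of odd prime order `p ∣ q + 1` -/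
theorem cent_le (y : G) (hya : D.I.a * y = y * D.I.a) (p : ℕ) (hp : p.Prime) (hp2 : p ≠ 2)
    (hpq : p ∣ 3 ^ (2 * m + 1) + 1) (hy : orderOf y = p) :
    Subgroup.centralizer ({y} : Set G) ≤ Subgroup.centralizer ({D.I.a} : Set G) := by
  have := D.finite
  have := fact_charP D.R.hK
  have : Fact (Nat.Prime 2) := ⟨Nat.prime_two⟩
  have hq8 := q_mod8 m
  have hpq' : p ∣ Fintype.card K + 1 := by rw [D.card_K']; exact hpq
  set a := D.I.a with ha
  set C : Subgroup G := Subgroup.centralizer ({y} : Set G) with hC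
  set C₀ : Subgroup G := Subgroup.centralizer ({a} : Set G) ⊓ C with hC₀
  obtain ⟨hC₀card, hC₀comm⟩ := cent_inf D.I D.odd_K y hya p hp hp2 hpq' hy
  rw [D.card_K'] at hC₀card
  have hC₀C : C₀ ≤ C := inf_le_right
  have haC : a ∈ C := by rw [hC, Subgroup.mem_centralizer_singleton_iff]; exact hya
  have haC₀ : a ∈ C₀ := by
    rw [hC₀, Subgroup.mem_inf, Subgroup.mem_centralizer_singleton_iff]
    exact ⟨rfl, haC⟩
  -- no element of order 3
  have h3 : ¬ 3 ∣ Nat.card ↥C := by
    intro h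
    have : Fact (Nat.Prime 3) := ⟨Nat.prime_three⟩
    obtain ⟨x, hx⟩ := exists_prime_orderOf_dvd_card' 3 h
    have hx1 : (x : G) ≠ 1 := by
      intro h1
      have : x = 1 := Subtype.ext h1
      rw [this, orderOf_one] at hx
      omega
    have hx3 : (x : G) ^ 3 ^ 1 = 1 := by
      rw [pow_one, ← hx, ← Subgroup.orderOf_coe]
      exact pow_orderOf_eq_one _
    have hxy : (x : G) * y = y * (x : G) := Subgroup.mem_centralizer_singleton_iff.1 x.2
    have h4 := D.orderOf_dvd_of_comm_three (x : G) hx1 1 hx3 y hxy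
    rw [hy] at h4
    obtain ⟨h5, h6, -⟩ := not_dvd_of_dvd_add_one m p hp hp2 hpq
    rcases (Nat.Prime.dvd_mul hp).1 h4 with h7 | h7
    · exact h5 (hp.dvd_of_dvd_pow h7)
    · exact h6 h7
  -- a Sylow 2-subgroup `P` of `C` containing `a`
  let a' : ↥C := ⟨a, haC⟩
  have ha'2 : a' * a' = 1 := Subtype.ext D.I.ha2
  have hza : IsPGroup 2 ↥(Subgroup.zpowers a') := by
    apply IsPGroup.of_card (n := 1)
    rw [Nat.card_zpowers, pow_one]
    refine orderOf_eq_prime (by rw [pow_two]; exact ha'2) ?_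
    intro h
    exact D.I.ha1 (congrArg Subtype.val h)
  obtain ⟨P, hP⟩ := hza.exists_le_sylow
  have ha'P : a' ∈ P := hP (Subgroup.mem_zpowers a')
  have hPexp : ∀ x ∈ P, x * x = 1 := by
    intro x hx
    have hQ : IsPGroup 2 ↥((P : Subgroup ↥C).map C.subtype) := P.2.map _
    obtain ⟨S, hS⟩ := hQ.exists_le_sylow
    have hxS : (x : G) ∈ S := hS ⟨x, hx, rfl⟩
    exact Subtype.ext ((D.syl2' S).2 _ hxS)
  have hPcomm : ∀ x ∈ P, ∀ z ∈ P, x * z = z * x := by
    intro x hx z hz
    have h1 := hPexp _ (mul_mem hx hz)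
    have hx1 : x⁻¹ = x := inv_eq_of_mul_eq_one_left (hPexp x hx)
    have hz1 : z⁻¹ = z := inv_eq_of_mul_eq_one_left (hPexp z hz)
    calc x * z = (x * z)⁻¹ := (inv_eq_of_mul_eq_one_left h1).symm
      _ = z * x := by rw [_root_.mul_inv_rev, hx1, hz1]
  have hPC₀ : ∀ x ∈ P, (x : G) ∈ C₀ := by
    intro x hx
    rw [hC₀, Subgroup.mem_inf, Subgroup.mem_centralizer_singleton_iff]
    exact ⟨congrArg Subtype.val (hPcomm x hx a' ha'P), x.2⟩
  -- `|P| = 4`
  have hPcard : Nat.card ↥(P : Subgroup ↥C) = 4 := by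
    have h1 : Nat.card ↥(P : Subgroup ↥C) ∣ 3 ^ (2 * m + 1) + 1 := by
      rw [← hC₀card, ← Subgroup.card_map_of_injective (K := (P : Subgroup ↥C)) C.subtype_injective]
      apply Subgroup.card_dvd_of_le
      rintro _ ⟨x, hx, rfl⟩
      exact hPC₀ x hx
    have h2 := P.card_eq_multiplicity
    have h3' : 4 ∣ Nat.card ↥C := by
      have : 4 ∣ 3 ^ (2 * m + 1) + 1 := by omega
      rw [← hC₀card] at this
      exact this.trans (Subgroup.card_dvd_of_le hC₀C)
    have h4 : 2 ≤ (Nat.card ↥C).factorization 2 := by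
      have : 2 ^ 2 ∣ Nat.card ↥C := by norm_num; exact h3'
      exact (Nat.Prime.pow_dvd_iff_le_factorization Nat.prime_two Nat.card_pos.ne').1 this
    have h5 : (Nat.card ↥C).factorization 2 ≤ 2 := by
      by_contra hcon
      push_neg at hcon
      have : 2 ^ 3 ∣ 2 ^ (Nat.card ↥C).factorization 2 := Nat.pow_dvd_pow 2 hcon
      rw [← h2] at this
      have := this.trans h1
      omega
    rw [h2, le_antisymm h5 h4]; norm_num
  have hfac2 : (Nat.card ↥C).factorization 2 = 2 := by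
    have h2 := P.card_eq_multiplicity
    rw [hPcard] at h2
    have : (2 : ℕ) ^ 2 = 2 ^ (Nat.card ↥C).factorization 2 := by rw [← h2]; norm_num
    exact (Nat.pow_right_injective (le_refl 2) this).symm
  -- `N(P) ≤ C(P)`
  have : IsMulCommutative ↥(P : Subgroup ↥C) := ⟨⟨fun x z => Subtype.ext (hPcomm x x.2 z z.2)⟩⟩
  have hNC : Subgroup.normalizer ((P : Subgroup ↥C) : Set ↥C) ≤ Subgroup.centralizer ((P : Subgroup ↥C) : Set ↥C) := by
    have key := Subgroup.card_dvd_of_injective _ (QuotientGroup.kerLift_injective (P : Subgroup ↥C).normalizerMonoidHom)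
    rw [Subgroup.normalizerMonoidHom_ker, ← Subgroup.index, ← Subgroup.relIndex] at key
    refine Subgroup.relIndex_eq_one.mp (Nat.eq_one_of_dvd_coprimes ?_ dvd_rfl key)
    -- `|Aut P|` divides `24`
    have h24 : Nat.card (MulAut ↥(P : Subgroup ↥C)) ∣ 24 := by
      have h1 := Subgroup.card_dvd_of_injective (MulAut.toPerm ↥(P : Subgroup ↥C)) (fun f g h => by
        apply MulEquiv.ext
        intro x
        exact congrArg (fun e : Equiv.Perm ↥(P : Subgroup ↥C) => e x) h)
      rw [Nat.card_perm, hPcard] at h1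
      exact h1
    apply Nat.Coprime.coprime_dvd_right h24
    have e24 : 24 = 2 ^ 3 * 3 := by norm_num
    rw [e24]
    apply Nat.Coprime.mul_right
    · apply Nat.Coprime.pow_right
      apply Nat.Coprime.coprime_dvd_left (Subgroup.relIndex_dvd_of_le_left _ (P : Subgroup ↥C).le_centralizer)
      apply Nat.Coprime.coprime_dvd_left (Subgroup.relIndex_dvd_index_of_le (P : Subgroup ↥C).le_normalizer)
      rw [Nat.coprime_comm, Nat.Prime.coprime_iff_not_dvd Nat.prime_two]
      exact P.not_dvd_index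
    · apply Nat.Coprime.coprime_dvd_left (Subgroup.relIndex_dvd_card _ _)
      apply Nat.Coprime.coprime_dvd_left (Subgroup.card_subgroup_dvd_card _)
      rw [Nat.coprime_comm, Nat.Prime.coprime_iff_not_dvd Nat.prime_three]
      exact h3
  -- Burnside: a normal complement `N`
  have hcompl := MonoidHom.ker_transferSylow_isComplement' P hNC
  set N : Subgroup ↥C := (MonoidHom.transferSylow P hNC).ker with hN
  have hNodd : Odd (Nat.card ↥N) := by
    have h1 := hcompl.card_mul_card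
    rw [hPcard] at h1
    rw [← Nat.not_even_iff_odd]
    rintro ⟨j, hj⟩
    have h8 : 2 ^ 3 ∣ Nat.card ↥C := by
      rw [← h1, hj]
      exact ⟨j, by ring⟩
    have := (Nat.Prime.pow_dvd_iff_le_factorization Nat.prime_two Nat.card_pos.ne').1 h8
    omega
  -- a second involution `b` of `P`
  obtain ⟨b, hbP, hb1, hba⟩ : ∃ b : ↥C, b ∈ P ∧ b ≠ 1 ∧ b ≠ a' := by
    by_contra hcon
    push_neg at hcon
    have hsub : ((P : Subgroup ↥C) : Set ↥C) ⊆ {1, a'} := by
      intro x hx
      by_cases h1 : x = 1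
      · left; exact h1
      · right; exact hcon x hx h1
    have h1 := Set.ncard_le_ncard hsub (Set.toFinite _)
    have h2 : ({1, a'} : Set ↥C).ncard ≤ 2 := Set.ncard_insert_le _ _ |>.trans (by rw [Set.ncard_singleton])
    have h3 : Nat.card ↥(P : Subgroup ↥C) = ((P : Subgroup ↥C) : Set ↥C).ncard := (Nat.card_coe_set_eq _)
    omega
  -- fixed points of the involutions of `P` on `N`
  let ι : ↥N →* G := C.subtype.comp N.subtype
  set A : Subgroup ↥N := C₀.comap ι with hA
  have hfix : ∀ s : ↥C, s ∈ P → s ≠ 1 → ∀ k : ↥N, MulAut.conjNormal s k = k ↔ k ∈ A := by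
    intro s hs hs1 k
    have hs2 : (s : G) * (s : G) = 1 := congrArg Subtype.val (hPexp s hs)
    have hs1' : (s : G) ≠ 1 := fun h => hs1 (Subtype.ext h)
    have hsy : (s : G) * y = y * (s : G) := Subgroup.mem_centralizer_singleton_iff.1 s.2
    have hcomm_s := D.cent_inf_comm (s : G) y hs1' hs2 hsy p hp hp2 hpq hy
    -- `C(s) ∩ C = C₀`
    have hsC₀ : (s : G) ∈ C₀ := hPC₀ s hs
    have hEq : ∀ x : G, x ∈ C → (x * (s : G) = (s : G) * x ↔ x ∈ C₀) := by
      intro x hxC
      constructor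
      · intro hxs
        have hx : x ∈ Subgroup.centralizer ({(s : G)} : Set G) ⊓ C := by
          rw [Subgroup.mem_inf, Subgroup.mem_centralizer_singleton_iff]
          exact ⟨hxs, hxC⟩
        have ha_s : a ∈ Subgroup.centralizer ({(s : G)} : Set G) ⊓ C := by
          rw [Subgroup.mem_inf, Subgroup.mem_centralizer_singleton_iff]
          exact ⟨hC₀comm a haC₀ _ hsC₀, haC⟩
        rw [hC₀, Subgroup.mem_inf, Subgroup.mem_centralizer_singleton_iff]
        exact ⟨hcomm_s x hx a ha_s, hxC⟩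
      · intro hx
        exact hC₀comm x hx _ hsC₀
    rw [hA, Subgroup.mem_comap]
    rw [← hEq (ι k) (k : ↥C).2]
    constructor
    · intro h
      have h1 : ((MulAut.conjNormal s k : ↥N) : ↥C) = (k : ↥C) := by rw [h]
      rw [MulAut.conjNormal_apply] at h1
      have h2 : (s : G) * ι k * (s : G)⁻¹ = ι k := congrArg Subtype.val h1
      calc ι k * (s : G) = ((s : G) * ι k * (s : G)⁻¹) * (s : G) := by rw [h2]
        _ = (s : G) * ι k := by group
    · intro h
      apply Subtype.ext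
      rw [MulAut.conjNormal_apply]
      apply Subtype.ext
      show (s : G) * ι k * (s : G)⁻¹ = ι k
      calc (s : G) * ι k * (s : G)⁻¹ = (ι k * (s : G)) * (s : G)⁻¹ := by rw [h]
        _ = ι k := by group
  have hab1 : a' * b ≠ 1 := by
    intro h
    have : b = a'⁻¹ := (inv_eq_of_mul_eq_one_right h).symm
    rw [inv_eq_of_mul_eq_one_left ha'2] at this
    exact hba this
  have ha'1 : a' ≠ 1 := fun h => D.I.ha1 (congrArg Subtype.val h)
  have hAtop : A = ⊤ := by
    apply klein_fixed_eq_top hNodd (MulAut.conjNormal a') (MulAut.conjNormal b) ?_ ?_ ?_ A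
      (hfix a' ha'P ha'1) (hfix b hbP hb1) ?_
    · rw [← map_mul, ha'2, map_one]
    · rw [← map_mul, hPexp b hbP, map_one]
    · rw [← map_mul, ← map_mul, hPcomm a' ha'P b hbP]
    · intro k
      have := hfix (a' * b) (mul_mem ha'P hbP) hab1 k
      rw [map_mul] at this
      exact this
  -- conclusion
  intro g hg
  obtain ⟨⟨n, p'⟩, hnp, -⟩ := hcompl.existsUnique (⟨g, hg⟩ : ↥C)
  have hn : ι ⟨n.1, n.2⟩ ∈ C₀ := by
    have : (⟨n.1, n.2⟩ : ↥N) ∈ A := by rw [hAtop]; exact Subgroup.mem_top _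
    exact this
  have hp' : ((p' : ↥C) : G) ∈ C₀ := hPC₀ _ p'.2
  have hg' : g = ι ⟨n.1, n.2⟩ * ((p' : ↥C) : G) := by
    have := congrArg Subtype.val hnp
    exact this.symm
  rw [hg']
  exact (mul_mem hn hp' : _ ∈ C₀).1

end RtData

end Cfsg.Agent.Lib.Helper12.Rt
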