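import Cfsg.Agent.Lib.Helper12.RtNonsplitC

/-! # Rt hive (helper12): cyclic subgroups of order `(q+1)/4` of a small Ree group -/

set_option autoImplicit false
set_option linter.unusedSectionVars false

namespace Cfsg.Agent.Lib.Helper12.Rt

open Cfsg.Agent.Lib.Helper12.ReeOut Cfsg.Agent.Lib.Helper12.ReeInv Cfsg.Agent.Lib.Helper36 Matrix

namespace RtData

variable {K : Type*} [Field K] [Fintype K] {G : Type*} [Group G] {m : ℕ} (D : RtData K G m)

include D in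
/-- there are no elements of order 4 -/
theorem orderOf_ne_four (x : G) : orderOf x ≠ 4 := by
  intro h
  have := D.finite
  have : Fact (Nat.Prime 2) := ⟨Nat.prime_two⟩
  have hQ : IsPGroup 2 ↥(Subgroup.zpowers x) := by
    apply IsPGroup.of_card (n := 2)
    rw [Nat.card_zpowers, h]; norm_num
  obtain ⟨S, hS⟩ := hQ.exists_le_sylow
  have h1 := (D.syl2' S).2 x (hS (Subgroup.mem_zpowers x))
  have h2 : orderOf x ∣ 2 := orderOf_dvd_of_pow_eq_one (by rw [pow_two]; exact h1)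
  rw [h] at h2
  omega

include D in
/-- an element of odd prime order `ℓ ∣ q + 1` has abelian centraliser of order `q + 1` -/
theorem cent_nonsplit (y : G) (ℓ : ℕ) (hℓ : ℓ.Prime) (hℓ2 : ℓ ≠ 2) (hd : ℓ ∣ 3 ^ (2 * m + 1) + 1) (hy : orderOf y = ℓ) :
    Nat.card ↥(Subgroup.centralizer ({y} : Set G)) = 3 ^ (2 * m + 1) + 1 ∧
      ∀ x ∈ Subgroup.centralizer ({y} : Set G), ∀ z ∈ Subgroup.centralizer ({y} : Set G), x * z = z * x := by
  have := D.finite
  have := fact_charP D.R.hK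
  have hQ : IsPGroup ℓ ↥(Subgroup.zpowers y) := by
    apply IsPGroup.of_card (n := 1)
    rw [Nat.card_zpowers, hy, pow_one]
  obtain ⟨c, hc⟩ := D.conj_into_Ca ℓ hℓ hℓ2 hd (Subgroup.zpowers y) hQ
  have hya := hc y (Subgroup.mem_zpowers y)
  have hy' : orderOf (c * y * c⁻¹) = ℓ := by
    have : c * y * c⁻¹ = MulAut.conj c y := rfl
    rw [this, MulEquiv.orderOf_eq, hy]
  have hle := D.cent_le (c * y * c⁻¹) hya ℓ hℓ hℓ2 hd hy'
  have hd' : ℓ ∣ Fintype.card K + 1 := by rw [D.card_K']; exact hd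
  obtain ⟨h1, h2⟩ := cent_inf D.I D.odd_K (c * y * c⁻¹) hya ℓ hℓ hℓ2 hd' hy'
  rw [inf_eq_right.2 hle, D.card_K'] at h1
  rw [inf_eq_right.2 hle] at h2
  rw [cent_conj c y]
  exact ⟨by rw [map_conj_card, h1], map_conj_comm _ h2 _⟩

include D in
/-- cyclic subgroups of order `(q + 1) / 4` -/
theorem nonsplit_part (hm : 1 ≤ m) (Hc : Subgroup G) (hcyc : IsCyclic ↥Hc)
    (hcard : Nat.card ↥Hc = (3 ^ (2 * m + 1) + 1) / 4) :
    IsMulCommutative ↥(Subgroup.centralizer (Hc : Set G)) ∧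
      Nat.card ↥(Subgroup.centralizer (Hc : Set G)) = 3 ^ (2 * m + 1) + 1 ∧
      (∀ x ∈ Subgroup.centralizer (Hc : Set G), orderOf x ≠ 4) ∧
      ∀ A : Subgroup G, A ≤ Hc → A ≠ ⊥ →
        Subgroup.centralizer (A : Set G) = Subgroup.centralizer (Hc : Set G) := by
  have := D.finite
  have hq8 := q_mod8 m
  have hq27 : 27 ≤ 3 ^ (2 * m + 1) := by
    calc 27 = 3 ^ 3 := by norm_num
      _ ≤ 3 ^ (2 * m + 1) := Nat.pow_le_pow_right (by norm_num) (by omega)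
  have hcomm : ∀ x ∈ Hc, ∀ y ∈ Hc, x * y = y * x := by
    intro x hx y hy
    have : IsMulCommutative ↥Hc := hcyc.isMulCommutative
    have := mul_comm' (⟨x, hx⟩ : ↥Hc) ⟨y, hy⟩
    exact congrArg Subtype.val this
  have key : ∀ A : Subgroup G, A ≤ Hc → A ≠ ⊥ → ∃ T : Subgroup G,
      Subgroup.centralizer (A : Set G) = T ∧ Subgroup.centralizer (Hc : Set G) = T ∧
      Nat.card ↥T = 3 ^ (2 * m + 1) + 1 ∧ ∀ x ∈ T, ∀ z ∈ T, x * z = z * x := by
    intro A hA hA0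
    obtain ⟨ℓ, y, hℓ, hdvd, hyA, hy⟩ := exists_prime_order A hA0
    have h1 : ℓ ∣ (3 ^ (2 * m + 1) + 1) / 4 := by
      rw [← hcard]
      exact hdvd.trans (Subgroup.card_dvd_of_le hA)
    have h2 : ℓ ≠ 2 := by
      rintro rfl
      omega
    have h3 : ℓ ∣ 3 ^ (2 * m + 1) + 1 := by
      have : 3 ^ (2 * m + 1) + 1 = (3 ^ (2 * m + 1) + 1) / 4 * 4 := by omega
      rw [this]
      exact Dvd.dvd.mul_right h1 _
    obtain ⟨hc1, hc2⟩ := D.cent_nonsplit y ℓ hℓ h2 h3 hy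
    obtain ⟨e1, e2⟩ := cent_chain Hc hcomm A hA y hyA _ rfl hc2
    exact ⟨_, e1, e2, hc1, hc2⟩
  have hHc0 : Hc ≠ ⊥ := by
    intro h
    rw [h, Subgroup.card_bot] at hcard
    omega
  obtain ⟨T, -, hT, hTcard, hTcomm⟩ := key Hc le_rfl hHc0
  refine ⟨?_, ?_, fun x _ => D.orderOf_ne_four x, ?_⟩
  · rw [hT]
    exact ⟨⟨fun x z => Subtype.ext (hTcomm x x.2 z z.2)⟩⟩
  · rw [hT, hTcard]
  · intro A hA hA0
    obtain ⟨T', h1, h2, -, -⟩ := key A hA hA0
    rw [h1, h2]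

end RtData

end Cfsg.Agent.Lib.Helper12.Rt
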