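import Cfsg.Agent.Lib.Helper12.RtCycE

/-! # Rt hive (helper12): the spectrum of the small Ree groups (abstract), part A: the 3-elements -/

set_option autoImplicit false
set_option linter.unusedSectionVars false

namespace Cfsg.Agent.Lib.Helper12.Rt

open Cfsg.Agent.Lib.Helper12.ReeOut Cfsg.Agent.Lib.Helper12.ReeInv Cfsg.Agent.Lib.Helper36 Matrix

/-- an element of order `n` has powers of every order dividing `n` -/
theorem exists_orderOf_of_dvd {G : Type*} [Group G] (g : G) (n d : ℕ) (hn : n ≠ 0) (hg : orderOf g = n) (hd : d ∣ n) :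
    ∃ g' : G, orderOf g' = d := by
  obtain ⟨e, rfl⟩ := hd
  have he : e ≠ 0 := by rintro rfl; simp at hn
  have hd0 : d ≠ 0 := by rintro rfl; simp at hn
  refine ⟨g ^ e, ?_⟩
  rw [orderOf_pow_of_dvd he (by rw [hg]; exact Dvd.intro_left d rfl), hg]
  exact Nat.mul_div_cancel d (Nat.pos_of_ne_zero he)

namespace RtData

variable {K : Type*} [Field K] [Fintype K] {G : Type*} [Group G] {m : ℕ} (D : RtData K G m)

theorem u_cube (p : K × K × K) : D.R.u p ^ 3 = D.R.u (0, 0, -(p.1 ^ (3 ^ m * 3 + 2))) := by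
  rw [pow_succ, pow_two, D.R.u_mul, D.R.u_mul, cubeP D.R.hK]

theorem u_low_mul (c c' : K) : D.R.u (0, 0, c) * D.R.u (0, 0, c') = D.R.u (0, 0, c + c') := by
  rw [D.R.u_mul]
  congr 1
  refine Prod.ext ?_ (Prod.ext ?_ ?_)
  · show (0 : K) + 0 = 0
    ring
  · show (0 : K) + 0 - 0 ^ (3 ^ m * 3) * 0 = 0
    ring
  · show c + c' - 0 * 0 - 0 ^ (3 ^ m * 3) * 0 ^ 2 + 0 ^ (3 ^ m * 3) * 0 * 0 = c + c'
    ring

theorem u_low_cube (c : K) : D.R.u (0, 0, c) ^ 3 = 1 := by
  have h3 := Cfsg.Agent.Lib.Helper12.ReeOut.fact_three D.R.hK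
  rw [pow_succ, pow_two, D.u_low_mul, D.u_low_mul, ← D.R.u_zero]
  congr 1
  refine Prod.ext rfl (Prod.ext rfl ?_)
  show c + c + c = 0
  linear_combination c * h3

/-- the unipotent group has exponent dividing 9 -/
theorem u_pow_nine (p : K × K × K) : D.R.u p ^ 9 = 1 := by
  rw [show 9 = 3 * 3 by norm_num, pow_mul, D.u_cube, D.u_low_cube]

include D in
/-- there is an element of order 9 -/
theorem exists_order_nine : ∃ g : G, orderOf g = 9 := by
  refine ⟨D.R.u (1, 0, 0), ?_⟩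
  have h1 : ¬ D.R.u (1, 0, 0) ^ 3 ^ 1 = 1 := by
    rw [pow_one, D.u_cube]
    apply D.R.u_ne_one
    intro h
    have h2 : (-((1 : K) ^ (3 ^ m * 3 + 2))) = 0 := congrArg (fun p : K × K × K => p.2.2) h
    rw [one_pow] at h2
    exact one_ne_zero (neg_eq_zero.1 h2)
  have h2 : D.R.u (1, 0, 0) ^ 3 ^ (1 + 1) = 1 := by
    rw [show 3 ^ (1 + 1) = 9 by norm_num]
    exact D.u_pow_nine _
  have := orderOf_eq_prime_pow h1 h2
  rw [this]; norm_num

include D in
/-- every 3-element has order dividing 9 -/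
theorem three_elt_pow_nine (x : G) (k : ℕ) (hx : x ^ 3 ^ k = 1) : x ^ 9 = 1 := by
  have := D.finite
  have : Fact (Nat.Prime 3) := ⟨Nat.prime_three⟩
  have hQ : IsPGroup 3 ↥(Subgroup.zpowers x) := by
    rw [IsPGroup.iff_card, Nat.card_zpowers]
    exact (Nat.dvd_prime_pow Nat.prime_three).1 (orderOf_dvd_of_pow_eq_one hx) |>.imp fun j hj => hj.2
  obtain ⟨c, hc⟩ := exists_conj_le_of_factorization D.R.U 3 D.fact_three (Subgroup.zpowers x) hQ
  obtain ⟨p, hp⟩ := (D.R.mem_U _).1 (hc x (Subgroup.mem_zpowers x))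
  have h1 : (c * x * c⁻¹) ^ 9 = 1 := by rw [hp]; exact D.u_pow_nine p
  have h2 : (c * x * c⁻¹) ^ 9 = c * x ^ 9 * c⁻¹ := by
    rw [conj_pow]
  rw [h2] at h1
  calc x ^ 9 = c⁻¹ * (c * x ^ 9 * c⁻¹) * c := by group
    _ = 1 := by rw [h1]; group

include D in
/-- `27` does not divide the order of an element -/
theorem not_27_dvd (g : G) : ¬ 27 ∣ orderOf g := by
  have := D.finite
  rintro ⟨e, he⟩
  have he0 : e ≠ 0 := by
    rintro rfl
    rw [mul_zero] at he
    exact (orderOf_pos g).ne' he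
  have h1 : orderOf (g ^ e) = 27 := by
    rw [orderOf_pow_of_dvd he0 (by rw [he]; exact Dvd.intro_left 27 rfl), he]
    exact Nat.mul_div_cancel 27 (Nat.pos_of_ne_zero he0)
  have h2 : (g ^ e) ^ 3 ^ 3 = 1 := by
    rw [show 3 ^ 3 = 27 by norm_num, ← h1]
    exact pow_orderOf_eq_one _
  have h3 := D.three_elt_pow_nine (g ^ e) 3 h2
  have h4 := orderOf_dvd_of_pow_eq_one h3
  rw [h1] at h4
  omega

end RtData

end Cfsg.Agent.Lib.Helper12.Rt
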