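import Cfsg.Agent.Lib.Helper12.RtSpecA

/-! # Rt hive (helper12): the spectrum of the small Ree groups (abstract), part B: no elements of order 18 -/

set_option autoImplicit false
set_option linter.unusedSectionVars false

namespace Cfsg.Agent.Lib.Helper12.Rt

open Cfsg.Agent.Lib.Helper12.ReeOut Cfsg.Agent.Lib.Helper12.ReeInv Cfsg.Agent.Lib.Helper36 Matrix

/-- Cayley-Hamilton for `2 × 2` matrices -/
theorem mat2_sq {K : Type*} [Field K] (N : Matrix (Fin 2) (Fin 2) K) :
    N * N = (N 0 0 + N 1 1) • N - N.det • (1 : Matrix (Fin 2) (Fin 2) K) := by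
  rw [Matrix.det_fin_two]
  ext i j
  fin_cases i <;> fin_cases j <;>
    simp [Matrix.mul_apply, Fin.sum_univ_two] <;> ring

/-- a nilpotent `2 × 2` matrix has square zero -/
theorem mat2_nilp {K : Type*} [Field K] (N : Matrix (Fin 2) (Fin 2) K) (k : ℕ) (hN : N ^ k = 0) : N * N = 0 := by
  have hdet : N.det = 0 := by
    have := congrArg Matrix.det hN
    rw [Matrix.det_pow, Matrix.det_zero] at this
    exact pow_eq_zero_iff (n := k) (by
      rintro rfl
      rw [pow_zero] at hN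
      exact one_ne_zero hN) |>.1 this
  have hsq : N * N = (N 0 0 + N 1 1) • N := by
    rw [mat2_sq, hdet, zero_smul, sub_zero]
  set τ := N 0 0 + N 1 1 with hτ
  have hpow : ∀ j : ℕ, N ^ (j + 1) = τ ^ j • N := by
    intro j
    induction j with
    | zero => simp
    | succ j ih =>
      rw [pow_succ, ih, smul_mul_assoc, hsq, smul_smul, ← pow_succ]
  rcases Nat.eq_zero_or_pos k with rfl | hk
  · rw [pow_zero] at hN
    exact absurd hN one_ne_zero
  obtain ⟨j, rfl⟩ : ∃ j, k = j + 1 := ⟨k - 1, by omega⟩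
  rw [hpow j] at hN
  rcases smul_eq_zero.1 hN with h | h
  · have hτ0 : τ = 0 := by
      by_cases hj : j = 0
      · subst hj
        rw [pow_zero] at h
        exact absurd h one_ne_zero
      · exact (pow_eq_zero_iff hj).1 h
    rw [hsq, hτ0, zero_smul]
  · rw [h, mul_zero]

/-- in `SL₂` over a field of characteristic 3, `z ^ 9 = 1` forces `z ^ 3 = 1` -/
theorem sl2_pow_nine {K : Type*} [Field K] [CharP K 3] (z : Matrix.SpecialLinearGroup (Fin 2) K) (hz : z ^ 9 = 1) :
    z ^ 3 = 1 := by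
  have : Fact (Nat.Prime 3) := ⟨Nat.prime_three⟩
  set M : Matrix (Fin 2) (Fin 2) K := (z : Matrix (Fin 2) (Fin 2) K) with hM
  have hM9 : M ^ 9 = 1 := by
    have := congrArg (fun y : Matrix.SpecialLinearGroup (Fin 2) K => (y : Matrix (Fin 2) (Fin 2) K)) hz
    simpa using this
  set N : Matrix (Fin 2) (Fin 2) K := M - 1 with hN
  have hMN : M = N + 1 := by rw [hN]; abel
  have hcomm : Commute N (1 : Matrix (Fin 2) (Fin 2) K) := Commute.one_right N
  have h9 : N ^ 9 = 0 := by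
    have h1 := add_pow_char_pow_of_commute (R := Matrix (Fin 2) (Fin 2) K) 3 2 hcomm
    rw [← hMN, one_pow, show 3 ^ 2 = 9 by norm_num, hM9] at h1
    have : N ^ 9 + 1 = 0 + 1 := by rw [← h1, zero_add]
    exact add_right_cancel this
  have hNN : N * N = 0 := mat2_nilp N 9 h9
  have h3 : M ^ 3 = 1 := by
    have h1 := add_pow_char_of_commute (R := Matrix (Fin 2) (Fin 2) K) 3 hcomm
    rw [← hMN, one_pow] at h1
    rw [h1, pow_succ, pow_two, hNN, zero_mul, zero_add]
  apply Matrix.SpecialLinearGroup.ext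
  intro i j
  rw [Matrix.SpecialLinearGroup.coe_pow, Matrix.SpecialLinearGroup.coe_one]
  exact congrFun (congrFun h3 i) j

namespace RtData

variable {K : Type*} [Field K] [Fintype K] {G : Type*} [Group G] {m : ℕ} (D : RtData K G m)

include D in
/-- an element commuting with the involution `a` has no order 9 -/
theorem orderOf_ne_nine_of_comm_a (y : G) (hya : D.I.a * y = y * D.I.a) : orderOf y ≠ 9 := by
  intro h9
  have := fact_charP D.R.hK
  obtain ⟨s, hs⟩ := D.I.hcent y hya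
  have hsq : y * y = D.I.φ (s * s) := by
    rcases hs with hs | hs
    · rw [hs, map_mul]
    · rw [hs, map_mul]
      calc D.I.a * D.I.φ s * (D.I.a * D.I.φ s) = D.I.a * (D.I.φ s * D.I.a) * D.I.φ s := by group
        _ = D.I.a * (D.I.a * D.I.φ s) * D.I.φ s := by rw [D.I.hcomm s]
        _ = (D.I.a * D.I.a) * (D.I.φ s * D.I.φ s) := by group
        _ = _ := by rw [D.I.ha2, one_mul]
  have hy9 : y ^ 9 = 1 := by rw [← h9]; exact pow_orderOf_eq_one y
  have h1 : D.I.φ ((s * s) ^ 9) = 1 := by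
    rw [map_pow, ← hsq, ← pow_two, ← pow_mul, mul_comm, pow_mul, hy9, one_pow]
  have h2 : (s * s) ^ 9 = 1 ∨ (s * s) ^ 9 = negI K := InvData.center_cases _ ((D.I.hker _).1 h1)
  have h3 : ((s * s) ^ 2) ^ 9 = 1 := by
    rw [← pow_mul, mul_comm, pow_mul]
    rcases h2 with h2 | h2
    · rw [h2, one_pow]
    · rw [h2, pow_two, negI_sq]
  have h4 := sl2_pow_nine _ h3
  have h5 : (y * y) ^ 6 = 1 := by
    rw [hsq, ← map_pow, show 6 = 2 * 3 by norm_num, pow_mul, h4, map_one]
  have h6 : y ^ 12 = 1 := by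
    rw [← h5, ← pow_two, ← pow_mul]
  have h7 := orderOf_dvd_of_pow_eq_one h6
  rw [h9] at h7
  omega

include D in
/-- there are no elements of order 18 -/
theorem orderOf_ne_eighteen (g : G) : orderOf g ≠ 18 := by
  intro h
  have h2 : orderOf (g ^ 9) = 2 := by
    rw [orderOf_pow_of_dvd (by norm_num) (by rw [h]; norm_num), h]
  have h9 : orderOf (g ^ 2) = 9 := by
    rw [orderOf_pow_of_dvd (by norm_num) (by rw [h]; norm_num), h]
  have ht1 : g ^ 9 ≠ 1 := by
    intro h1
    rw [h1, orderOf_one] at h2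
    omega
  have ht2 : g ^ 9 * g ^ 9 = 1 := by
    rw [← pow_two, ← h2]
    exact pow_orderOf_eq_one _
  obtain ⟨c, hc⟩ := D.inv_conj (g ^ 9) ht1 ht2
  have hcomm : g ^ 9 * g ^ 2 = g ^ 2 * g ^ 9 := by rw [← pow_add, ← pow_add]
  have hya : D.I.a * (c⁻¹ * g ^ 2 * c) = c⁻¹ * g ^ 2 * c * D.I.a := by
    have ha : D.I.a = c⁻¹ * g ^ 9 * c := by rw [← hc]; group
    rw [ha]
    calc c⁻¹ * g ^ 9 * c * (c⁻¹ * g ^ 2 * c) = c⁻¹ * (g ^ 9 * g ^ 2) * c := by group
      _ = c⁻¹ * (g ^ 2 * g ^ 9) * c := by rw [hcomm]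
      _ = _ := by group
  have h9' : orderOf (c⁻¹ * g ^ 2 * c) = 9 := by
    have : c⁻¹ * g ^ 2 * c = MulAut.conj c⁻¹ (g ^ 2) := by simp [MulAut.conj_apply]
    rw [this, MulEquiv.orderOf_eq, h9]
  exact D.orderOf_ne_nine_of_comm_a _ hya h9'

end RtData

end Cfsg.Agent.Lib.Helper12.Rt
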