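import Cfsg.Agent.Lib.Helper12.RtSpecB

/-! # Rt hive (helper12): the spectrum of the small Ree groups (abstract), part C: the semisimple elements -/

set_option autoImplicit false
set_option linter.unusedSectionVars false

namespace Cfsg.Agent.Lib.Helper12.Rt

open Cfsg.Agent.Lib.Helper12.ReeOut Cfsg.Agent.Lib.Helper12.ReeInv Cfsg.Agent.Lib.Helper36 Matrix

/-- `(q - r + 1) (q + r + 1) = q (q - 1) + 1` for `r ^ 2 = 3 q` -/
theorem tor_id (m : ℕ) :
    (3 ^ (2 * m + 1) - 3 ^ (m + 1) + 1) * (3 ^ (2 * m + 1) + 3 ^ (m + 1) + 1) =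
      3 ^ (2 * m + 1) * (3 ^ (2 * m + 1) - 1) + 1 := by
  have hle : 3 ^ (m + 1) ≤ 3 ^ (2 * m + 1) := Nat.pow_le_pow_right (by norm_num) (by omega)
  have hq : 1 ≤ 3 ^ (2 * m + 1) := q_pos m
  have hr : 3 ^ (m + 1) * 3 ^ (m + 1) = 3 * 3 ^ (2 * m + 1) := by
    rw [← pow_add, ← pow_succ']
    congr 1
    omega
  generalize 3 ^ (2 * m + 1) = q at hle hq hr ⊢
  generalize 3 ^ (m + 1) = r at hle hr ⊢
  zify [hle, hq]
  have hr' : (r : ℤ) * r = 3 * q := by exact_mod_cast hr
  linear_combination (-1 : ℤ) * hr'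

/-- `d ∣ 4 k` and `4 ∤ d` give `d ∣ 2 k` -/
theorem dvd_two_mul_of_dvd_four_mul (d k : ℕ) (h : d ∣ 4 * k) (h4 : ¬ 4 ∣ d) : d ∣ 2 * k := by
  rcases Nat.even_or_odd d with hev | hodd
  · obtain ⟨e, he⟩ := hev
    have he2 : d = 2 * e := by omega
    subst he2
    have heodd : Odd e := by
      rw [← Nat.not_even_iff_odd]
      rintro ⟨f, hf⟩
      apply h4
      exact ⟨f, by omega⟩
    have h1 : e ∣ 2 * k := by
      have : 2 * e ∣ 2 * (2 * k) := by rw [← mul_assoc]; exact h
      exact (Nat.mul_dvd_mul_iff_left (by norm_num)).1 this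
    have h2 : e ∣ k := by
      apply Nat.Coprime.dvd_of_dvd_mul_left _ h1
      exact (Nat.coprime_two_right.2 heodd)
    exact Nat.mul_dvd_mul_left 2 h2
  · have h2 : d ∣ k := by
      apply Nat.Coprime.dvd_of_dvd_mul_left _ h
      have : Nat.Coprime d 2 := Nat.coprime_two_right.2 hodd
      exact Nat.Coprime.mul_right this this
    exact Dvd.dvd.mul_left h2 2

namespace RtData

variable {K : Type*} [Field K] [Fintype K] {G : Type*} [Group G] {m : ℕ} (D : RtData K G m)
variable {W : Type*} [AddCommGroup W] [Module K W]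

include D in
theorem not_four_dvd (g : G) : ¬ 4 ∣ orderOf g := by
  have := D.finite
  rintro ⟨e, he⟩
  have he0 : e ≠ 0 := by
    rintro rfl
    rw [mul_zero] at he
    exact (orderOf_pos g).ne' he
  have h1 : orderOf (g ^ e) = 4 := by
    rw [orderOf_pow_of_dvd he0 (by rw [he]; exact Dvd.intro_left 4 rfl), he]
    exact Nat.mul_div_cancel 4 (Nat.pos_of_ne_zero he0)
  exact D.orderOf_ne_four _ h1

include D in
/-- an element whose order has no prime factor `> 3` has order dividing 6 or 9 -/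
theorem dvd_of_small_primes (g : G) (h : ∀ p : ℕ, p.Prime → p ∣ orderOf g → p ≤ 3) :
    orderOf g ∣ 6 ∨ orderOf g ∣ 9 := by
  have := D.finite
  have h18 : orderOf g ∣ 18 := by
    rw [Nat.dvd_iff_prime_pow_dvd_dvd]
    intro p k hp hpk
    rcases Nat.eq_zero_or_pos k with rfl | hk
    · simp
    have hpd : p ∣ orderOf g := (dvd_pow_self p hk.ne').trans hpk
    have hp3 := h p hp hpd
    have hp2 := hp.two_le
    have hcase : p = 2 ∨ p = 3 := by omega
    rcases hcase with rfl | rfl
    · have hk1 : k ≤ 1 := by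
        by_contra hk2
        have hk2 : 2 ≤ k := by omega
        apply D.not_four_dvd g
        exact (pow_dvd_pow 2 hk2).trans hpk
      have : k = 1 := by omega
      subst this
      norm_num
    · have hk1 : k ≤ 2 := by
        by_contra hk2
        have hk2 : 3 ≤ k := by omega
        apply D.not_27_dvd g
        exact (pow_dvd_pow 3 hk2).trans hpk
      have : k = 1 ∨ k = 2 := by omega
      rcases this with rfl | rfl <;> norm_num
  have hne := D.orderOf_ne_eighteen g
  have hle : orderOf g ≤ 18 := Nat.le_of_dvd (by norm_num) h18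
  have hpos := orderOf_pos g
  generalize orderOf g = d at h18 hne hle hpos ⊢
  interval_cases d <;> omega

include D in
/-- elements commuting with `x` of prime order `p > 3`, `p ∣ q (q - 1) + 1`, have order prime to 6 -/
theorem cent_coprime_six (x : G) (p : ℕ) (hp : p.Prime) (hp3 : 3 < p)
    (hd : p ∣ 3 ^ (2 * m + 1) * (3 ^ (2 * m + 1) - 1) + 1) (hx : orderOf x = p) (g : G) (hg : g * x = x * g) :
    (orderOf g).Coprime 6 := by
  have := D.finite
  obtain ⟨hn1, hn2, hn3⟩ := not_dvd_of_dvd_tor p _ hp hp3 (q_pos m) hd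
  have hgc : g ∈ Subgroup.centralizer ({x} : Set G) := by
    rw [Subgroup.mem_centralizer_singleton_iff]; exact hg
  have h1 : orderOf g ∣ Nat.card ↥(Subgroup.centralizer ({x} : Set G)) := by
    have := orderOf_dvd_natCard (⟨g, hgc⟩ : ↥(Subgroup.centralizer ({x} : Set G)))
    rwa [Subgroup.orderOf_mk] at this
  have hcop := D.coprime_cent x p hp hp3 hd hx
  have h2 : ¬ 2 ∣ orderOf g := by
    intro h2
    have h3 : 2 ∣ 3 ^ (2 * m + 1) - 1 := by
      have := q_mod8 m
      omega
    have h4 : 2 ∣ 1 := by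
      have := Nat.dvd_gcd (h2.trans h1) h3
      rwa [hcop] at this
    omega
  have h3 : ¬ 3 ∣ orderOf g := by
    rintro ⟨e, he⟩
    have he0 : e ≠ 0 := by
      rintro rfl
      rw [mul_zero] at he
      exact (orderOf_pos g).ne' he
    have ho : orderOf (g ^ e) = 3 := by
      rw [orderOf_pow_of_dvd he0 (by rw [he]; exact Dvd.intro_left 3 rfl), he]
      exact Nat.mul_div_cancel 3 (Nat.pos_of_ne_zero he0)
    have hy1 : g ^ e ≠ 1 := by
      intro h
      rw [h, orderOf_one] at ho
      omega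
    have hy3 : (g ^ e) ^ 3 ^ 1 = 1 := by
      rw [pow_one, ← ho]; exact pow_orderOf_eq_one _
    have hyx : g ^ e * x = x * g ^ e := (Commute.pow_left (show Commute g x from hg) e)
    have h4 := D.orderOf_dvd_of_comm_three (g ^ e) hy1 1 hy3 x hyx
    rw [hx] at h4
    rcases (Nat.Prime.dvd_mul hp).1 h4 with h | h
    · exact hn1 (hp.dvd_of_dvd_pow h)
    · exact hn2 h
  have h6 : (6 : ℕ) = 2 * 3 := by norm_num
  rw [h6]
  apply Nat.Coprime.mul_right
  · exact (Nat.Prime.coprime_iff_not_dvd Nat.prime_two).2 h2 |>.symm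
  · exact (Nat.Prime.coprime_iff_not_dvd Nat.prime_three).2 h3 |>.symm

end RtData

end Cfsg.Agent.Lib.Helper12.Rt
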