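import Cfsg.Agent.Lib.Helper12.RtSpecC

/-! # Rt hive (helper12): the spectrum of the small Ree groups (abstract), part D: the Hall tori and the assembly -/

set_option autoImplicit false
set_option linter.unusedSectionVars false

namespace Cfsg.Agent.Lib.Helper12.Rt

open Cfsg.Agent.Lib.Helper12.ReeOut Cfsg.Agent.Lib.Helper12.ReeInv Cfsg.Agent.Lib.Helper36 Matrix

namespace RtData

variable {K : Type*} [Field K] [Fintype K] {G : Type*} [Group G] {m : ℕ} (D : RtData K G m)
variable {W : Type*} [AddCommGroup W] [Module K W]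

include D in
/-- elements commuting with `x` of prime order `p ∣ t`, `t` the order of a cyclic Hall torus `A` with `|N(A)| = 6 t`
controlling the normalisers of its subgroups, have order dividing `t` -/
theorem hall_case (ρ : G →* Module.End K W) (hρ : Function.Injective ρ) (hW : Module.finrank K W = 7)
    (t : ℕ) (A : Subgroup G) (hA : IsCyclic ↥A) (hAt : Nat.card ↥A = t)
    (hN : Nat.card ↥(Subgroup.normalizer (A : Set G)) = 6 * t)
    (hA0 : ∀ A₀ : Subgroup G, A₀ ≤ A → A₀ ≠ ⊥ →
      Subgroup.normalizer (A₀ : Set G) = Subgroup.normalizer (A : Set G))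
    (x : G) (p : ℕ) (hp : p.Prime) (hp3 : 3 < p)
    (hd : p ∣ 3 ^ (2 * m + 1) * (3 ^ (2 * m + 1) - 1) + 1) (hx : orderOf x = p) (hpt : p ∣ t)
    (g : G) (hg : g * x = x * g) : orderOf g ∣ t := by
  have := D.finite
  have hpf : Fact p.Prime := ⟨hp⟩
  obtain ⟨x', hx'⟩ := exists_prime_orderOf_dvd_card' (G := ↥A) p (by rw [hAt]; exact hpt)
  have hx'' : orderOf (x' : G) = p := by rw [Subgroup.orderOf_coe]; exact hx'
  have hle : Subgroup.zpowers (x' : G) ≤ A := by
    rw [Subgroup.zpowers_le]; exact x'.2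
  have hne : Subgroup.zpowers (x' : G) ≠ ⊥ := by
    intro h
    have h1 : Nat.card ↥(Subgroup.zpowers (x' : G)) = 1 := by rw [h]; exact Subgroup.card_bot
    rw [Nat.card_zpowers, hx''] at h1
    exact hp.one_lt.ne' h1
  have hodd : Odd p := hp.odd_of_ne_two (by omega)
  have hpr : ∀ ℓ : ℕ, ℓ.Prime → ℓ ∣ p → 3 < ℓ := by
    intro ℓ hℓ hℓp
    rw [(Nat.prime_dvd_prime_iff_eq hℓ hp).1 hℓp]; exact hp3
  obtain ⟨c, hc⟩ := D.cyclic_conj ρ hρ hW p hodd hpr (Subgroup.zpowers (x' : G)) (Subgroup.zpowers x)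
    (Subgroup.isCyclic_zpowers _) (Subgroup.isCyclic_zpowers _)
    (by rw [Nat.card_zpowers, hx'']) (by rw [Nat.card_zpowers, hx])
  have hnorm : Subgroup.normalizer ((Subgroup.zpowers x : Subgroup G) : Set G) =
      (Subgroup.normalizer (A : Set G)).map (MulAut.conj c).toMonoidHom := by
    rw [hc, ← Subgroup.map_equiv_normalizer_eq, hA0 _ hle hne]
  have hgn : g ∈ Subgroup.normalizer ((Subgroup.zpowers x : Subgroup G) : Set G) := by
    rw [Subgroup.mem_normalizer_iff]
    intro y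
    have hcomm : ∀ z ∈ Subgroup.zpowers x, g * z * g⁻¹ = z := by
      rintro _ ⟨k, rfl⟩
      have : Commute g (x ^ k) := Commute.zpow_right (show Commute g x from hg) k
      rw [this.eq, mul_inv_cancel_right]
    constructor
    · intro hy
      rw [hcomm y hy]; exact hy
    · intro hy
      have h1 := hcomm _ hy
      have h2 : g * y * g⁻¹ = y := by
        have : g * (g * y * g⁻¹) * g⁻¹ = g * y * g⁻¹ := h1
        calc g * y * g⁻¹ = g⁻¹ * (g * (g * y * g⁻¹) * g⁻¹) * g := by group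
          _ = g⁻¹ * (g * y * g⁻¹) * g := by rw [this]
          _ = y := by group
      rw [← h2]; exact hy
  have h1 : orderOf g ∣ 6 * t := by
    have := orderOf_dvd_natCard (⟨g, hgn⟩ : ↥(Subgroup.normalizer ((Subgroup.zpowers x : Subgroup G) : Set G)))
    rw [Subgroup.orderOf_mk] at this
    rw [← hN, ← map_conj_card _ c, ← hnorm]
    exact this
  have hcop := D.cent_coprime_six x p hp hp3 hd hx g hg
  exact Nat.Coprime.dvd_of_dvd_mul_left hcop h1

include D in
/-- **abstract S1159**: the spectrum of the small Ree groups, from the cyclic Hall tori -/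
theorem spectrum (hm : 1 ≤ m) (ρ : G →* Module.End K W) (hρ : Function.Injective ρ) (hW : Module.finrank K W = 7)
    (hquarter : ∃ A : Subgroup G, IsCyclic ↥A ∧ Nat.card ↥A = (3 ^ (2 * m + 1) + 1) / 4)
    (hhall : ∀ t : ℕ, (t = 3 ^ (2 * m + 1) - 3 ^ (m + 1) + 1 ∨ t = 3 ^ (2 * m + 1) + 3 ^ (m + 1) + 1) →
      ∃ A : Subgroup G, IsCyclic ↥A ∧ Nat.card ↥A = t ∧
        Nat.card ↥(Subgroup.normalizer (A : Set G)) = 6 * t ∧
        ∀ A₀ : Subgroup G, A₀ ≤ A → A₀ ≠ ⊥ →
          Subgroup.normalizer (A₀ : Set G) = Subgroup.normalizer (A : Set G))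
    (d : ℕ) :
    (∃ g : G, orderOf g = d) ↔
      (d ∣ 6 ∨ d ∣ 9 ∨ d ∣ 3 ^ (2 * m + 1) - 1 ∨ d ∣ (3 ^ (2 * m + 1) + 1) / 2 ∨
        d ∣ 3 ^ (2 * m + 1) - 3 ^ (m + 1) + 1 ∨ d ∣ 3 ^ (2 * m + 1) + 3 ^ (m + 1) + 1) := by
  have := D.finite
  have hq8 := q_mod8 m
  have hqpos := q_pos m
  constructor
  · rintro ⟨g, rfl⟩
    by_cases hsmall : ∀ p : ℕ, p.Prime → p ∣ orderOf g → p ≤ 3
    · rcases D.dvd_of_small_primes g hsmall with h | h
      · exact Or.inl h
      · exact Or.inr (Or.inl h)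
    · push Not at hsmall
      obtain ⟨p, hp, hpd, hp3⟩ := hsmall
      obtain ⟨e, he⟩ := hpd
      have he0 : e ≠ 0 := by
        rintro rfl
        rw [mul_zero] at he
        exact (orderOf_pos g).ne' he
      have hx : orderOf (g ^ e) = p := by
        rw [orderOf_pow_of_dvd he0 (by rw [he]; exact Dvd.intro_left p rfl), he]
        exact Nat.mul_div_cancel p (Nat.pos_of_ne_zero he0)
      have hgx : g * g ^ e = g ^ e * g := by rw [← pow_succ', ← pow_succ]
      have hdvd : p ∣ Nat.card G := by rw [← hx]; exact orderOf_dvd_natCard _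
      have hgc : g ∈ Subgroup.centralizer ({g ^ e} : Set G) := by
        rw [Subgroup.mem_centralizer_singleton_iff]; exact hgx
      have hgo : orderOf g ∣ Nat.card ↥(Subgroup.centralizer ({g ^ e} : Set G)) := by
        have := orderOf_dvd_natCard (⟨g, hgc⟩ : ↥(Subgroup.centralizer ({g ^ e} : Set G)))
        rwa [Subgroup.orderOf_mk] at this
      rcases D.prime_cases p hp hp3 hdvd with h | h | h
      · -- `p ∣ q - 1`
        obtain ⟨c, hc⟩ := D.cent_split (g ^ e) p hp (by omega) h hx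
        rw [hc, map_conj_card, D.card_H] at hgo
        exact Or.inr (Or.inr (Or.inl hgo))
      · -- `p ∣ q + 1`
        obtain ⟨hcard, -⟩ := D.cent_nonsplit (g ^ e) p hp (by omega) h hx
        rw [hcard] at hgo
        have h4 : 3 ^ (2 * m + 1) + 1 = 4 * ((3 ^ (2 * m + 1) + 1) / 4) := by omega
        rw [h4] at hgo
        have h2 := dvd_two_mul_of_dvd_four_mul _ _ hgo (D.not_four_dvd g)
        have h5 : 2 * ((3 ^ (2 * m + 1) + 1) / 4) = (3 ^ (2 * m + 1) + 1) / 2 := by omega
        rw [h5] at h2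
        exact Or.inr (Or.inr (Or.inr (Or.inl h2)))
      · -- `p ∣ q (q - 1) + 1`
        have h' := h
        rw [← tor_id m] at h'
        rcases (Nat.Prime.dvd_mul hp).1 h' with ht | ht
        · obtain ⟨A, hA, hAt, hN, hA0⟩ := hhall _ (Or.inl rfl)
          exact Or.inr (Or.inr (Or.inr (Or.inr (Or.inl
            (D.hall_case ρ hρ hW _ A hA hAt hN hA0 (g ^ e) p hp hp3 h hx ht g hgx)))))
        · obtain ⟨A, hA, hAt, hN, hA0⟩ := hhall _ (Or.inr rfl)
          exact Or.inr (Or.inr (Or.inr (Or.inr (Or.inr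
            (D.hall_case ρ hρ hW _ A hA hAt hN hA0 (g ^ e) p hp hp3 h hx ht g hgx)))))
  · intro hd
    rcases hd with h | h | h | h | h | h
    · -- order 6
      have : Fact (Nat.Prime 3) := ⟨Nat.prime_three⟩
      have h3 : 3 ∣ Nat.card ↥D.I.φ.range := by
        have h1 := D.card_phi_range
        have h2 : 3 ∣ 2 * Nat.card ↥D.I.φ.range := by
          rw [h1]
          exact Dvd.dvd.mul_right (dvd_pow_self 3 (by omega)) _
        exact (Nat.Coprime.dvd_mul_left (by norm_num)).1 h2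
      obtain ⟨u, hu⟩ := exists_prime_orderOf_dvd_card' (G := ↥D.I.φ.range) 3 h3
      have hu' : orderOf (u : G) = 3 := by rw [Subgroup.orderOf_coe]; exact hu
      obtain ⟨z, hz⟩ := u.2
      have hcomm : Commute D.I.a (u : G) := by
        rw [← hz]; exact D.I.hcomm z
      have ha : orderOf D.I.a = 2 := by
        apply orderOf_eq_prime
        · rw [pow_two]; exact D.I.ha2
        · exact D.I.ha1
      have h6 : orderOf (D.I.a * (u : G)) = 6 := by
        rw [hcomm.orderOf_mul_eq_mul_orderOf_of_coprime (by rw [ha, hu']; norm_num), ha, hu']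
      exact exists_orderOf_of_dvd _ 6 d (by norm_num) h6 h
    · -- order 9
      obtain ⟨g, hg⟩ := D.exists_order_nine
      exact exists_orderOf_of_dvd g 9 d (by norm_num) hg h
    · -- order `q - 1`
      have hcyc := D.H_cyclic
      obtain ⟨g, hg⟩ := IsCyclic.exists_ofOrder_eq_natCard (α := ↥D.H)
      rw [D.card_H] at hg
      have hg' : orderOf (g : G) = 3 ^ (2 * m + 1) - 1 := by rw [Subgroup.orderOf_coe]; exact hg
      exact exists_orderOf_of_dvd _ _ d (by omega) hg' h
    · -- order `(q + 1) / 2`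
      obtain ⟨A, hA, hAc⟩ := hquarter
      obtain ⟨-, hcard, -, -⟩ := D.nonsplit_part hm A hA hAc
      have : Fact (Nat.Prime 2) := ⟨Nat.prime_two⟩
      obtain ⟨s, hs⟩ := exists_prime_orderOf_dvd_card' (G := ↥(Subgroup.centralizer (A : Set G))) 2
        (by rw [hcard]; omega)
      have hs' : orderOf (s : G) = 2 := by rw [Subgroup.orderOf_coe]; exact hs
      obtain ⟨y, hy⟩ := IsCyclic.exists_ofOrder_eq_natCard (α := ↥A)
      rw [hAc] at hy
      have hy' : orderOf (y : G) = (3 ^ (2 * m + 1) + 1) / 4 := by rw [Subgroup.orderOf_coe]; exact hy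
      have hcomm : Commute (s : G) (y : G) := (Subgroup.mem_centralizer_iff.1 s.2 (y : G) y.2).symm
      have hodd : Odd ((3 ^ (2 * m + 1) + 1) / 4) := by
        rw [Nat.odd_iff]; omega
      have ho : orderOf ((s : G) * (y : G)) = (3 ^ (2 * m + 1) + 1) / 2 := by
        rw [hcomm.orderOf_mul_eq_mul_orderOf_of_coprime
          (by rw [hs', hy']; exact (Nat.coprime_two_left.2 hodd)), hs', hy']
        omega
      exact exists_orderOf_of_dvd _ _ d (by omega) ho h
    · obtain ⟨A, hA, hAt, -, -⟩ := hhall _ (Or.inl rfl)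
      obtain ⟨y, hy⟩ := IsCyclic.exists_ofOrder_eq_natCard (α := ↥A)
      rw [hAt] at hy
      have hy' : orderOf (y : G) = 3 ^ (2 * m + 1) - 3 ^ (m + 1) + 1 := by rw [Subgroup.orderOf_coe]; exact hy
      exact exists_orderOf_of_dvd _ _ d (by omega) hy' h
    · obtain ⟨A, hA, hAt, -, -⟩ := hhall _ (Or.inr rfl)
      obtain ⟨y, hy⟩ := IsCyclic.exists_ofOrder_eq_natCard (α := ↥A)
      rw [hAt] at hy
      have hy' : orderOf (y : G) = 3 ^ (2 * m + 1) + 3 ^ (m + 1) + 1 := by rw [Subgroup.orderOf_coe]; exact hy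
      exact exists_orderOf_of_dvd _ _ d (by omega) hy' h

end RtData

end Cfsg.Agent.Lib.Helper12.Rt
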