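import Cfsg.Agent.Lib.Helper12.RtDefs

/-! # Rt hive (helper12): the split torus `H` of a small Ree group: `C_G(y) = H` for `1 ≠ y ∈ H` of odd order -/

set_option autoImplicit false

namespace Cfsg.Agent.Lib.Helper12.Rt

open Cfsg.Agent.Lib.Helper12.ReeOut Cfsg.Agent.Lib.Helper12.ReeInv

namespace RtData

variable {K : Type*} [Field K] [Fintype K] {G : Type*} [Group G] {m : ℕ} (D : RtData K G m)

/-- `U ∩ H = 1` -/
theorem u_eq_h (p : K × K × K) (s : Kˣ) (h : D.R.u p = D.R.h s) : p = 0 ∧ s = 1 := by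
  have h1 : D.R.n⁻¹ * D.R.u p * D.R.n ∈ D.R.B := by
    rw [h, D.n_inv]; exact D.R.h_mem_B _
  have hp := D.R.opp' p h1
  refine ⟨hp, ?_⟩
  rw [hp, D.R.u_zero] at h
  exact D.R.h_inj (h.symm.trans (map_one _).symm)

theorem u_mul_inv (p q : K × K × K) : ∃ r, D.R.u p * (D.R.u q)⁻¹ = D.R.u r :=
  (D.R.mem_U _).1 (mul_mem (D.R.u_mem_U _) (inv_mem (D.R.u_mem_U _)))

theorem u_inv_mul (p q : K × K × K) : ∃ r, (D.R.u p)⁻¹ * D.R.u q = D.R.u r :=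
  (D.R.mem_U _).1 (mul_mem (inv_mem (D.R.u_mem_U _)) (D.R.u_mem_U _))

/-- uniqueness of `b = u h` -/
theorem uh_unique (p p' : K × K × K) (s s' : Kˣ) (h : D.R.u p * D.R.h s = D.R.u p' * D.R.h s') :
    p = p' ∧ s = s' := by
  obtain ⟨r, hr⟩ := D.u_inv_mul p' p
  have h1 : D.R.u r = D.R.h (s' * s⁻¹) := by
    rw [← hr, map_mul, map_inv]
    calc (D.R.u p')⁻¹ * D.R.u p = (D.R.u p')⁻¹ * (D.R.u p * D.R.h s) * (D.R.h s)⁻¹ := by group
      _ = D.R.h s' * (D.R.h s)⁻¹ := by rw [h]; group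
  obtain ⟨h2, h3⟩ := D.u_eq_h r _ h1
  rw [h2, D.R.u_zero] at hr
  have h4 : D.R.u p = D.R.u p' := by
    calc D.R.u p = D.R.u p' * ((D.R.u p')⁻¹ * D.R.u p) := by group
      _ = D.R.u p' := by rw [hr, mul_one]
  exact ⟨D.R.u_inj h4, (mul_inv_eq_one.1 h3).symm⟩

/-- uniqueness of the Bruhat form in the big cell -/
theorem big_unique (p p' q q' : K × K × K) (s r : Kˣ)
    (h : D.R.u p * D.R.h s * D.R.n * D.R.u p' = D.R.u q * D.R.h r * D.R.n * D.R.u q') :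
    p = q ∧ s = r ∧ p' = q' := by
  obtain ⟨p₃, hp₃⟩ := D.u_mul_inv q' p'
  set b := (D.R.u q * D.R.h r)⁻¹ * (D.R.u p * D.R.h s) with hb
  have hbB : b ∈ D.R.B := mul_mem (inv_mem (mul_mem (D.R.u_mem_B _) (D.R.h_mem_B _)))
    (mul_mem (D.R.u_mem_B _) (D.R.h_mem_B _))
  have h1 : D.R.n⁻¹ * b * D.R.n = D.R.u p₃ := by
    rw [← hp₃, hb]
    calc D.R.n⁻¹ * ((D.R.u q * D.R.h r)⁻¹ * (D.R.u p * D.R.h s)) * D.R.n
        = D.R.n⁻¹ * (D.R.u q * D.R.h r)⁻¹ * (D.R.u p * D.R.h s * D.R.n * D.R.u p') * (D.R.u p')⁻¹ := by group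
      _ = D.R.u q' * (D.R.u p')⁻¹ := by rw [h]; group
  obtain ⟨s₀, hs₀⟩ := D.R.B_inter b hbB (by rw [h1]; exact D.R.u_mem_B _)
  have h2 : D.R.u p₃ = D.R.h s₀⁻¹ := by rw [← h1, hs₀, D.n_inv]
  obtain ⟨h3, h4⟩ := D.u_eq_h p₃ _ h2
  have hs1 : s₀ = 1 := inv_eq_one.1 h4
  have hb1 : b = 1 := by rw [hs₀, hs1, map_one]
  have h5 : D.R.u p * D.R.h s = D.R.u q * D.R.h r := by
    calc D.R.u p * D.R.h s = (D.R.u q * D.R.h r) * b := by rw [hb]; group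
      _ = D.R.u q * D.R.h r := by rw [hb1, mul_one]
  obtain ⟨h6, h7⟩ := D.uh_unique _ _ _ _ h5
  refine ⟨h6, h7, ?_⟩
  rw [h3, D.R.u_zero] at hp₃
  have : D.R.u q' = D.R.u p' := by
    calc D.R.u q' = (D.R.u q' * (D.R.u p')⁻¹) * D.R.u p' := by group
      _ = D.R.u p' := by rw [hp₃, one_mul]
  exact (D.R.u_inj this).symm

/-- conjugation by `h s` on `U` -/
theorem conj_hu' (s : Kˣ) (p : K × K × K) : ∃ p', D.R.h s * D.R.u p * (D.R.h s)⁻¹ = D.R.u p' := ⟨_, D.R.conj_hu s p⟩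

/-- the centraliser of a non-trivial element of odd order of `H` is contained in `H` -/
theorem cent_h (s : Kˣ) (hs : s ≠ 1) (hodd : Odd (orderOf s)) (g : G) (hg : g * D.R.h s = D.R.h s * g) :
    ∃ r, g = D.R.h r := by
  rcases D.R.cases g with hB | ⟨p, s₁, p', rfl⟩
  · obtain ⟨p, s₁, rfl⟩ := (D.R.mem_B g).1 hB
    obtain ⟨p₁, hp₁⟩ := D.conj_hu' s p
    have h1 : D.R.u p * D.R.h (s₁ * s) = D.R.u p₁ * D.R.h (s * s₁) := by
      rw [map_mul, map_mul, ← hp₁]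
      calc D.R.u p * (D.R.h s₁ * D.R.h s) = D.R.u p * D.R.h s₁ * D.R.h s := by group
        _ = D.R.h s * (D.R.u p * D.R.h s₁) := hg
        _ = D.R.h s * D.R.u p * (D.R.h s)⁻¹ * (D.R.h s * D.R.h s₁) := by group
    obtain ⟨h2, -⟩ := D.uh_unique _ _ _ _ h1
    rw [← h2] at hp₁
    have h3 := D.fpf s hs hodd p hp₁
    exact ⟨s₁, by rw [h3, D.R.u_zero, one_mul]⟩
  · exfalso
    obtain ⟨p₁, hp₁⟩ := D.conj_hu' s p
    obtain ⟨p'', hp''⟩ := D.conj_hu' s⁻¹ p'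
    have hyinv : D.R.h s⁻¹ = (D.R.h s)⁻¹ := map_inv _ _
    rw [hyinv, inv_inv] at hp''
    have hn : (D.R.h s)⁻¹ * D.R.n * (D.R.h s)⁻¹ = D.R.n := by
      have := D.n_inv s⁻¹
      rw [inv_inv, hyinv] at this
      calc (D.R.h s)⁻¹ * D.R.n * (D.R.h s)⁻¹ = D.R.n * (D.R.n⁻¹ * (D.R.h s)⁻¹ * D.R.n) * (D.R.h s)⁻¹ := by group
        _ = D.R.n := by rw [this]; group
    have h1 : D.R.u p * D.R.h (s₁ * s⁻¹) * D.R.n * D.R.u p'' = D.R.u p₁ * D.R.h (s * s₁) * D.R.n * D.R.u p' := by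
      rw [← hp'', ← hp₁, map_mul, map_mul, hyinv]
      calc D.R.u p * (D.R.h s₁ * (D.R.h s)⁻¹) * D.R.n * ((D.R.h s)⁻¹ * D.R.u p' * D.R.h s)
          = D.R.u p * D.R.h s₁ * ((D.R.h s)⁻¹ * D.R.n * (D.R.h s)⁻¹) * D.R.u p' * D.R.h s := by group
        _ = D.R.u p * D.R.h s₁ * D.R.n * D.R.u p' * D.R.h s := by rw [hn]
        _ = D.R.h s * (D.R.u p * D.R.h s₁ * D.R.n * D.R.u p') := hg
        _ = D.R.h s * D.R.u p * (D.R.h s)⁻¹ * (D.R.h s * D.R.h s₁) * D.R.n * D.R.u p' := by group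
    obtain ⟨-, h2, -⟩ := D.big_unique _ _ _ _ _ _ h1
    have h3 : s * s = 1 := by
      have : s₁ * s⁻¹ * s = s * s₁ * s := by rw [h2]
      rw [inv_mul_cancel_right, mul_comm s s₁, mul_assoc] at this
      exact (mul_eq_left.1 this.symm)
    have h4 : orderOf s ∣ 2 := orderOf_dvd_of_pow_eq_one (by rw [pow_two]; exact h3)
    have h5 : orderOf s = 1 := by
      rcases (Nat.dvd_prime Nat.prime_two).1 h4 with h | h
      · exact h
      · rw [h] at hodd; exact absurd hodd (by decide)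
    exact hs (orderOf_eq_one_iff.1 h5)

/-- the split torus -/
def H : Subgroup G := D.R.h.range

theorem mem_H (g : G) : g ∈ D.H ↔ ∃ s, g = D.R.h s := by
  constructor
  · rintro ⟨s, rfl⟩; exact ⟨s, rfl⟩
  · rintro ⟨s, rfl⟩; exact ⟨s, rfl⟩

theorem H_comm (x y : G) (hx : x ∈ D.H) (hy : y ∈ D.H) : x * y = y * x := by
  obtain ⟨s, rfl⟩ := (D.mem_H x).1 hx
  obtain ⟨r, rfl⟩ := (D.mem_H y).1 hy
  rw [← map_mul, ← map_mul, mul_comm]

/-- `C_G(y) = H` for `1 ≠ y ∈ H` of odd order -/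
theorem cent_eq_H (y : G) (hy : y ∈ D.H) (hy1 : y ≠ 1) (hodd : Odd (orderOf y)) :
    Subgroup.centralizer ({y} : Set G) = D.H := by
  obtain ⟨s, rfl⟩ := (D.mem_H y).1 hy
  have hs : s ≠ 1 := by rintro rfl; exact hy1 (map_one _)
  have ho : orderOf (D.R.h s) = orderOf s := orderOf_injective D.R.h D.R.h_inj s
  rw [ho] at hodd
  ext g
  rw [Subgroup.mem_centralizer_singleton_iff, D.mem_H]
  constructor
  · intro hg
    exact D.cent_h s hs hodd g hg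
  · rintro ⟨r, rfl⟩
    rw [← map_mul, ← map_mul, mul_comm]

theorem card_H : Nat.card ↥D.H = 3 ^ (2 * m + 1) - 1 := by
  classical
  have e : Kˣ ≃ ↥D.H := (MonoidHom.ofInjective D.R.h_inj).toEquiv
  rw [← Nat.card_congr e, Nat.card_eq_fintype_card, Fintype.card_units, D.R.hK]

theorem H_cyclic : IsCyclic ↥D.H := by
  have : IsCyclic Kˣ := inferInstance
  exact isCyclic_of_surjective D.R.h.rangeRestrict D.R.h.rangeRestrict_surjective

end RtData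

end Cfsg.Agent.Lib.Helper12.Rt
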