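import Cfsg.Agent.Lib.Helper12.RtSplit
import Cfsg.Agent.Lib.Helper69.RtSYLCONJ

/-! # Rt hive (helper12): cyclic subgroups of order `(q-1)/2` of a small Ree group -/

set_option autoImplicit false

namespace Cfsg.Agent.Lib.Helper12.Rt

open Cfsg.Agent.Lib.Helper12.ReeOut Cfsg.Agent.Lib.Helper12.ReeInv

theorem q_mod8 (m : ℕ) : 3 ^ (2 * m + 1) % 8 = 3 := by
  rw [pow_succ, pow_mul, Nat.mul_mod, Nat.pow_mod]
  norm_num

theorem q_pos (m : ℕ) : 0 < 3 ^ (2 * m + 1) := by positivity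

theorem cent_conj {G : Type*} [Group G] (g y : G) :
    Subgroup.centralizer ({y} : Set G) =
      (Subgroup.centralizer ({g * y * g⁻¹} : Set G)).map (MulAut.conj g⁻¹).toMonoidHom := by
  ext x
  simp only [Subgroup.mem_map, Subgroup.mem_centralizer_singleton_iff, MulEquiv.coe_toMonoidHom, MulAut.conj_apply,
    inv_inv]
  constructor
  · intro hx
    refine ⟨g * x * g⁻¹, ?_, by group⟩
    calc g * x * g⁻¹ * (g * y * g⁻¹) = g * (x * y) * g⁻¹ := by group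
      _ = g * (y * x) * g⁻¹ := by rw [hx]
      _ = _ := by group
  · rintro ⟨z, hz, rfl⟩
    calc g⁻¹ * z * g * y = g⁻¹ * (z * (g * y * g⁻¹)) * g := by group
      _ = g⁻¹ * (g * y * g⁻¹ * z) * g := by rw [hz]
      _ = _ := by group

/-- the `ℓ`-parts of `q - 1` and of `|G|` agree for an odd prime `ℓ ∣ q - 1` -/
theorem fact_split (m : ℕ) (ℓ : ℕ) (hℓ : ℓ.Prime) (hℓ2 : ℓ ≠ 2) (hd : ℓ ∣ 3 ^ (2 * m + 1) - 1) :
    (3 ^ (2 * m + 1) - 1).factorization ℓ =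
      ((3 ^ (2 * m + 1)) ^ 3 * (3 ^ (2 * m + 1) - 1) * ((3 ^ (2 * m + 1)) ^ 3 + 1)).factorization ℓ := by
  set q := 3 ^ (2 * m + 1) with hq
  have hq1 : 1 ≤ q := q_pos m
  have hq3 : 3 ≤ q := by
    have := q_mod8 m
    omega
  have h1 : ¬ ℓ ∣ q ^ 3 := by
    intro h
    have h2 : ℓ ∣ q := hℓ.dvd_of_dvd_pow h
    have h3 : ℓ ∣ q - (q - 1) := Nat.dvd_sub h2 hd
    rw [Nat.sub_sub_self hq1] at h3
    exact hℓ.one_lt.ne' (Nat.dvd_one.1 h3)
  have h2 : ¬ ℓ ∣ q ^ 3 + 1 := by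
    intro h
    have h3 : ℓ ∣ q ^ 3 - 1 := by
      have : q ^ 3 - 1 = (q - 1) * (q ^ 2 + q + 1) := by
        clear_value q
        obtain ⟨k, rfl⟩ : ∃ k, q = k + 1 := ⟨q - 1, by omega⟩
        simp only [Nat.add_sub_cancel]
        have : (k + 1) ^ 3 = k * ((k + 1) ^ 2 + (k + 1) + 1) + 1 := by ring
        rw [this, Nat.add_sub_cancel]
      rw [this]
      exact Dvd.dvd.mul_right hd _
    have h4 : ℓ ∣ (q ^ 3 + 1) - (q ^ 3 - 1) := Nat.dvd_sub h h3
    have h5 : (q ^ 3 + 1) - (q ^ 3 - 1) = 2 := by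
      have : 1 ≤ q ^ 3 := Nat.one_le_pow _ _ hq1
      omega
    rw [h5] at h4
    exact hℓ2 ((Nat.prime_dvd_prime_iff_eq hℓ Nat.prime_two).1 h4)
  have hne1 : q ^ 3 ≠ 0 := by positivity
  have hne2 : q - 1 ≠ 0 := by omega
  have hne3 : q ^ 3 + 1 ≠ 0 := by positivity
  rw [Nat.factorization_mul (mul_ne_zero hne1 hne2) hne3, Nat.factorization_mul hne1 hne2]
  simp only [Finsupp.coe_add, Pi.add_apply]
  rw [Nat.factorization_eq_zero_of_not_dvd h1, Nat.factorization_eq_zero_of_not_dvd h2]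
  omega

/-- the chain `T ≤ C(Hc) ≤ C(A) ≤ C(y) = T` -/
theorem cent_chain {G : Type*} [Group G] (Hc : Subgroup G) (hcomm : ∀ x ∈ Hc, ∀ y ∈ Hc, x * y = y * x)
    (A : Subgroup G) (hA : A ≤ Hc) (y : G) (hyA : y ∈ A) (T : Subgroup G)
    (hT : Subgroup.centralizer ({y} : Set G) = T) (hTcomm : ∀ x ∈ T, ∀ z ∈ T, x * z = z * x) :
    Subgroup.centralizer (A : Set G) = T ∧ Subgroup.centralizer (Hc : Set G) = T := by
  have h1 : Hc ≤ T := by
    intro x hx
    rw [← hT, Subgroup.mem_centralizer_singleton_iff]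
    exact hcomm x hx y (hA hyA)
  have h2 : T ≤ Subgroup.centralizer (Hc : Set G) := by
    intro x hx
    rw [Subgroup.mem_centralizer_iff]
    intro z hz
    exact hTcomm z (h1 hz) x hx
  have h3 : Subgroup.centralizer (Hc : Set G) ≤ Subgroup.centralizer (A : Set G) :=
    Subgroup.centralizer_le (by exact_mod_cast hA)
  have h4 : Subgroup.centralizer (A : Set G) ≤ T := by
    rw [← hT]
    exact Subgroup.centralizer_le (by simpa using hyA)
  exact ⟨le_antisymm h4 (h2.trans h3), le_antisymm (h3.trans h4) h2⟩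

theorem map_conj_comm {G : Type*} [Group G] (T : Subgroup G) (hT : ∀ x ∈ T, ∀ z ∈ T, x * z = z * x) (g : G) :
    ∀ x ∈ T.map (MulAut.conj g).toMonoidHom, ∀ z ∈ T.map (MulAut.conj g).toMonoidHom, x * z = z * x := by
  rintro _ ⟨x, hx, rfl⟩ _ ⟨z, hz, rfl⟩
  rw [← map_mul, ← map_mul, hT x hx z hz]

theorem map_conj_cyclic {G : Type*} [Group G] (T : Subgroup G) (hT : IsCyclic ↥T) (g : G) :
    IsCyclic ↥(T.map (MulAut.conj g).toMonoidHom) :=
  isCyclic_of_surjective ((MulAut.conj g).toMonoidHom.subgroupMap T) (MonoidHom.subgroupMap_surjective _ _)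

theorem map_conj_card {G : Type*} [Group G] (T : Subgroup G) (g : G) :
    Nat.card ↥(T.map (MulAut.conj g).toMonoidHom) = Nat.card ↥T :=
  Subgroup.card_map_of_injective (MulAut.conj g).injective

/-- a non-trivial finite group has an element of prime order -/
theorem exists_prime_order {G : Type*} [Group G] [Finite G] (A : Subgroup G) (hA : A ≠ ⊥) :
    ∃ (ℓ : ℕ) (y : G), ℓ.Prime ∧ ℓ ∣ Nat.card ↥A ∧ y ∈ A ∧ orderOf y = ℓ := by
  have hA1 : Nat.card ↥A ≠ 1 := fun h => hA (Subgroup.card_eq_one.1 h)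
  obtain ⟨ℓ, hℓ, hdvd⟩ := Nat.exists_prime_and_dvd hA1
  have : Fact ℓ.Prime := ⟨hℓ⟩
  obtain ⟨x, hx⟩ := exists_prime_orderOf_dvd_card' ℓ hdvd
  exact ⟨ℓ, (x : G), hℓ, hdvd, x.2, by rw [Subgroup.orderOf_coe, hx]⟩

namespace RtData

variable {K : Type*} [Field K] [Fintype K] {G : Type*} [Group G] {m : ℕ} (D : RtData K G m)

include D in
theorem finite : Finite G := by
  apply Nat.finite_of_card_ne_zero
  rw [D.card_G]
  have := q_mod8 m
  have h1 : 0 < 3 ^ (2 * m + 1) := q_pos m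
  have h2 : 3 ^ (2 * m + 1) - 1 ≠ 0 := by omega
  positivity

/-- an element of odd prime order `ℓ ∣ q - 1` has centraliser a conjugate of `H` -/
theorem cent_split (y : G) (ℓ : ℕ) (hℓ : ℓ.Prime) (hℓ2 : ℓ ≠ 2) (hd : ℓ ∣ 3 ^ (2 * m + 1) - 1) (hy : orderOf y = ℓ) :
    ∃ g : G, Subgroup.centralizer ({y} : Set G) = D.H.map (MulAut.conj g).toMonoidHom := by
  have := D.finite
  have : Fact ℓ.Prime := ⟨hℓ⟩
  have hfac : (Nat.card ↥D.H).factorization ℓ = (Nat.card G).factorization ℓ := by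
    rw [D.card_H, D.card_G]
    exact fact_split m ℓ hℓ hℓ2 hd
  have hQ : IsPGroup ℓ ↥(Subgroup.zpowers y) := by
    apply IsPGroup.of_card (n := 1)
    rw [Nat.card_zpowers, hy, pow_one]
  obtain ⟨g, hg⟩ := exists_conj_le_of_factorization D.H ℓ hfac (Subgroup.zpowers y) hQ
  have h1 : g * y * g⁻¹ ∈ D.H := hg y (Subgroup.mem_zpowers y)
  have ho : orderOf (g * y * g⁻¹) = ℓ := by
    have : g * y * g⁻¹ = MulAut.conj g y := rfl
    rw [this, MulEquiv.orderOf_eq, hy]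
  have h2 : g * y * g⁻¹ ≠ 1 := by
    intro h
    rw [h, orderOf_one] at ho
    exact hℓ.one_lt.ne ho
  have h3 : Odd (orderOf (g * y * g⁻¹)) := by
    rw [ho]
    exact hℓ.odd_of_ne_two hℓ2
  refine ⟨g⁻¹, ?_⟩
  rw [cent_conj g y, D.cent_eq_H _ h1 h2 h3]

include D in
/-- cyclic subgroups of order `(q - 1) / 2` -/
theorem split_part (hm : 1 ≤ m) (Hc : Subgroup G) (hcyc : IsCyclic ↥Hc) (hcard : Nat.card ↥Hc = (3 ^ (2 * m + 1) - 1) / 2) :
    IsCyclic ↥(Subgroup.centralizer (Hc : Set G)) ∧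
      Nat.card ↥(Subgroup.centralizer (Hc : Set G)) = 3 ^ (2 * m + 1) - 1 ∧
      ∀ A : Subgroup G, A ≤ Hc → A ≠ ⊥ →
        Subgroup.centralizer (A : Set G) = Subgroup.centralizer (Hc : Set G) := by
  have := D.finite
  have hq8 := q_mod8 m
  have hq27 : 27 ≤ 3 ^ (2 * m + 1) := by
    calc 27 = 3 ^ 3 := by norm_num
      _ ≤ 3 ^ (2 * m + 1) := Nat.pow_le_pow_right (by norm_num) (by omega)
  have hcomm : ∀ x ∈ Hc, ∀ y ∈ Hc, x * y = y * x := by
    intro x hx y hy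
    have : IsMulCommutative ↥Hc := hcyc.isMulCommutative
    have := mul_comm' (⟨x, hx⟩ : ↥Hc) ⟨y, hy⟩
    exact congrArg Subtype.val this
  have key : ∀ A : Subgroup G, A ≤ Hc → A ≠ ⊥ → ∃ g : G,
      Subgroup.centralizer (A : Set G) = D.H.map (MulAut.conj g).toMonoidHom ∧
      Subgroup.centralizer (Hc : Set G) = D.H.map (MulAut.conj g).toMonoidHom := by
    intro A hA hA0
    obtain ⟨ℓ, y, hℓ, hdvd, hyA, hy⟩ := exists_prime_order A hA0
    have h1 : ℓ ∣ (3 ^ (2 * m + 1) - 1) / 2 := by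
      rw [← hcard]
      exact hdvd.trans (Subgroup.card_dvd_of_le hA)
    have h2 : ℓ ≠ 2 := by
      rintro rfl
      omega
    have h3 : ℓ ∣ 3 ^ (2 * m + 1) - 1 := by
      have : 3 ^ (2 * m + 1) - 1 = (3 ^ (2 * m + 1) - 1) / 2 * 2 := by omega
      rw [this]
      exact Dvd.dvd.mul_right h1 _
    obtain ⟨g, hg⟩ := D.cent_split y ℓ hℓ h2 h3 hy
    exact ⟨g, cent_chain Hc hcomm A hA y hyA _ hg (map_conj_comm _ (fun x hx z hz => D.H_comm x z hx hz) g)⟩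
  have hHc0 : Hc ≠ ⊥ := by
    intro h
    rw [h, Subgroup.card_bot] at hcard
    omega
  obtain ⟨g, -, hg⟩ := key Hc le_rfl hHc0
  refine ⟨?_, ?_, ?_⟩
  · rw [hg]
    exact map_conj_cyclic _ D.H_cyclic g
  · rw [hg, map_conj_card, D.card_H]
  · intro A hA hA0
    obtain ⟨g', h1, h2⟩ := key A hA hA0
    rw [h1, h2]

end RtData

end Cfsg.Agent.Lib.Helper12.Rt
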