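import Mathlib

/-! # Rx hive (helper12, S2113): torus-invariant biadditive maps on a finite field are trivial -/

set_option autoImplicit false

namespace Cfsg.Agent.Lib.Helper12.Rx

/-- a biadditive map `β : K × K → M` with `β (u x) (w u y) = β x y` for all `u ≠ 0` is trivial as soon as
`1 / w (u + 1) - 1 / w u - 1 ≠ 0` for some `u ≠ 0, -1` -/
theorem biadd_gen_trivial {K : Type*} [Field K] {M : Type*} [CommGroup M] (β : K → K → M) (w : K → K)
    (hl : ∀ x x' y, β (x + x') y = β x y * β x' y)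
    (hr : ∀ x y y', β x (y + y') = β x y * β x y')
    (hw : ∀ u, u ≠ 0 → w u ≠ 0)
    (hinv : ∀ u x y, u ≠ 0 → β (u * x) (w u * y) = β x y)
    (hE : ∃ u : K, u ≠ 0 ∧ u + 1 ≠ 0 ∧ 1 / w (u + 1) - 1 / w u - 1 ≠ 0) : ∀ x y, β x y = 1 := by
  obtain ⟨u, hu0, hu1, hE⟩ := hE
  have hβ0 : ∀ y, β 0 y = 1 := by
    intro y
    have := hl 0 0 y
    rw [add_zero] at this
    exact (mul_eq_left.1 this.symm)
  obtain ⟨g, hg⟩ : ∃ g : K → M, g = fun y => β 1 y := ⟨_, rfl⟩
  have hgy : ∀ y, g y = β 1 y := fun y => by rw [hg]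
  have hgadd : ∀ y y', g (y + y') = g y * g y' := by
    intro y y'; rw [hgy, hgy, hgy, hr]
  have hg0 : g 0 = 1 := by
    have := hgadd 0 0
    rw [add_zero] at this
    exact (mul_eq_left.1 this.symm)
  have hgneg : ∀ y, g (-y) = (g y)⁻¹ := by
    intro y
    have := hgadd y (-y)
    rw [add_neg_cancel, hg0] at this
    exact (eq_inv_of_mul_eq_one_right this.symm)
  have hβu : ∀ t y, t ≠ 0 → β t y = g (y / w t) := by
    intro t y ht
    rw [hgy, ← hinv t 1 (y / w t) ht, mul_one, mul_div_cancel₀ _ (hw t ht)]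
  have key : ∀ y, g (y / w (u + 1)) = g (y / w u) * g y := by
    intro y
    rw [← hβu (u + 1) y hu1, hl, hβu u y hu0, hgy y]
  have hall : ∀ y, g (y * (1 / w (u + 1) - 1 / w u - 1)) = 1 := by
    intro y
    have e : y * (1 / w (u + 1) - 1 / w u - 1) = y / w (u + 1) + (-(y / w u) + -y) := by ring
    rw [e, hgadd, hgadd, key, hgneg, hgneg]
    rw [mul_assoc, mul_comm (g y), mul_assoc, inv_mul_cancel, mul_one, mul_inv_cancel]
  have hg1 : ∀ y, g y = 1 := by
    intro y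
    have := hall (y / (1 / w (u + 1) - 1 / w u - 1))
    rwa [div_mul_cancel₀ _ hE] at this
  intro x y
  by_cases hx : x = 0
  · rw [hx, hβ0]
  · rw [hβu x y hx, hg1]

/-- simultaneous scaling: `w = id` -/
theorem biadd_scale_trivial {K : Type*} [Field K] [CharP K 3] {M : Type*} [CommGroup M] (β : K → K → M)
    (hl : ∀ x x' y, β (x + x') y = β x y * β x' y)
    (hr : ∀ x y y', β x (y + y') = β x y * β x y')
    (hinv : ∀ u x y, u ≠ 0 → β (u * x) (u * y) = β x y)
    (hρ : ∃ ρ : K, ρ ≠ 0 ∧ ρ ≠ 1 ∧ ρ + 1 ≠ 0) : ∀ x y, β x y = 1 := by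
  obtain ⟨ρ, h0, h1, h2⟩ := hρ
  apply biadd_gen_trivial β id hl hr (fun u hu => hu) hinv
  refine ⟨ρ, h0, h2, ?_⟩
  simp only [id]
  have h3 : (3 : K) = 0 := by
    have := CharP.cast_eq_zero K 3
    exact_mod_cast this
  intro h
  have h4 : ρ - (ρ + 1) - ρ * (ρ + 1) = 0 := by
    field_simp at h
    linear_combination h
  have h5 : (ρ - 1) ^ 2 = 0 := by
    linear_combination (-1 : K) * h4 - ρ * h3
  have h6 : ρ - 1 = 0 := by
    exact pow_eq_zero_iff (by norm_num) |>.1 h5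
  exact h1 (sub_eq_zero.1 h6)

end Cfsg.Agent.Lib.Helper12.Rx
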