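import Cfsg.Agent.Lib.Helper6.SzMult1
import Cfsg.Agent.Lib.Helper12.RxForm

/-! # Rx hive (helper12, S2113): commutators of lifts in a central extension, and invariant biadditive maps -/

set_option autoImplicit false

namespace Cfsg.Agent.Lib.Helper12.Rx

open scoped commutatorElement IsMulCommutative
open Cfsg.Agent.Lib.Helper6.SzMult

section grp
variable {Γ : Type*} [Group Γ]

theorem rx_conj_bracket (v x y : Γ) : v * ⁅x, y⁆ * v⁻¹ = ⁅v * x * v⁻¹, v * y * v⁻¹⁆ := by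
  simp only [commutatorElement_def]; group

theorem rx_comm_mul_comm_left {x w y : Γ} (h : w * y = y * w) : ⁅x * w, y⁆ = ⁅x, y⁆ := by
  have e : ⁅x * w, y⁆ = x * (w * y * w⁻¹) * x⁻¹ * y⁻¹ := by
    simp only [commutatorElement_def]; group
  rw [e, h, mul_inv_cancel_right, commutatorElement_def]

theorem rx_comm_mul_comm_right {x w y : Γ} (h : w * x = x * w) : ⁅x, y * w⁆ = ⁅x, y⁆ := by
  have e : ⁅x, y * w⁆ = x * y * (w * x⁻¹ * w⁻¹) * y⁻¹ := by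
    simp only [commutatorElement_def]; group
  have h' : w * x⁻¹ * w⁻¹ = x⁻¹ := by
    have : w * x⁻¹ = x⁻¹ * w := by
      calc w * x⁻¹ = x⁻¹ * (x * w) * x⁻¹ := by group
        _ = x⁻¹ * (w * x) * x⁻¹ := by rw [h]
        _ = x⁻¹ * w := by group
    rw [this, mul_inv_cancel_right]
  rw [e, h', commutatorElement_def]

theorem rx_comm_mul_left (x y w : Γ) : ⁅x * y, w⁆ = x * ⁅y, w⁆ * x⁻¹ * ⁅x, w⁆ := by
  simp only [commutatorElement_def]; group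

theorem rx_comm_mul_right (w x y : Γ) : ⁅w, x * y⁆ = ⁅w, x⁆ * (x * ⁅w, y⁆ * x⁻¹) := by
  simp only [commutatorElement_def]; group

theorem rx_conj_eq (x y : Γ) : x * y * x⁻¹ = ⁅x, y⁆ * y := by
  simp only [commutatorElement_def]; group

/-- `⁅x * y, w⁆` when `x` commutes with `⁅y, w⁆` -/
theorem rx_comm_mul_left_of_comm {x y w : Γ} (hc : x * ⁅y, w⁆ = ⁅y, w⁆ * x) :
    ⁅x * y, w⁆ = ⁅y, w⁆ * ⁅x, w⁆ := by
  rw [rx_comm_mul_left, hc, mul_inv_cancel_right]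

/-- `⁅w, x * y⁆` when `x` commutes with `⁅w, y⁆` -/
theorem rx_comm_mul_right_of_comm {x y w : Γ} (hc : x * ⁅w, y⁆ = ⁅w, y⁆ * x) :
    ⁅w, x * y⁆ = ⁅w, x⁆ * ⁅w, y⁆ := by
  rw [rx_comm_mul_right, hc, mul_inv_cancel_right]

theorem rx_comm_inv (x y : Γ) : (⁅x, y⁆)⁻¹ = ⁅y, x⁆ := commutatorElement_inv x y

theorem rx_comm_eq_one {x y : Γ} (h : x * y = y * x) : ⁅x, y⁆ = 1 :=
  commutatorElement_eq_one_iff_commute.2 h

theorem rx_comm_of_eq_one {x y : Γ} (h : ⁅x, y⁆ = 1) : x * y = y * x :=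
  commutatorElement_eq_one_iff_commute.1 h

end grp

section ext
variable {K : Type*} [Field K] {Γ G : Type*} [Group Γ] [Group G] (σ : Γ →* G)
  (hZ : σ.ker ≤ Subgroup.center Γ)

include hZ in
/-- commutators of two families of lifts landing in the kernel, biadditive up to commuting corrections and invariant under
a torus with weights `(u, w u)`, are trivial -/
theorem lifts_comm_gen (wx wy : K → Γ) (w : K → K)
    (hker : ∀ x y, σ ⁅wx x, wy y⁆ = 1)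
    (hxadd : ∀ x x', ∃ r : Γ, σ (wx (x + x')) = σ (wx x * wx x' * r) ∧ ∀ y, r * wy y = wy y * r)
    (hyadd : ∀ y y', ∃ r : Γ, σ (wy (y + y')) = σ (wy y * wy y' * r) ∧ ∀ x, r * wx x = wx x * r)
    (hw : ∀ u, u ≠ 0 → w u ≠ 0)
    (hinv : ∀ u : K, u ≠ 0 → ∃ v : Γ, (∀ x, σ (v * wx x * v⁻¹) = σ (wx (u * x))) ∧
      (∀ y, σ (v * wy y * v⁻¹) = σ (wy (w u * y))))
    (hE : ∃ u : K, u ≠ 0 ∧ u + 1 ≠ 0 ∧ 1 / w (u + 1) - 1 / w u - 1 ≠ 0) :
    ∀ x y, wx x * wy y = wy y * wx x := by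
  have hcen : ∀ x y, ⁅wx x, wy y⁆ ∈ Subgroup.center Γ := fun x y => hZ (MonoidHom.mem_ker.2 (hker x y))
  obtain ⟨β, hβ⟩ : ∃ β : K → K → Subgroup.center Γ, ∀ x y, (β x y : Γ) = ⁅wx x, wy y⁆ :=
    ⟨fun x y => ⟨_, hcen x y⟩, fun _ _ => rfl⟩
  have hcg : ∀ x y (g : Γ), g * ⁅wx x, wy y⁆ = ⁅wx x, wy y⁆ * g :=
    fun x y g => Subgroup.mem_center_iff.1 (hcen x y) g
  have h1 := biadd_gen_trivial β w ?_ ?_ hw ?_ hE
  · intro x y
    have h2 := h1 x y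
    have h3 : ⁅wx x, wy y⁆ = 1 := by rw [← hβ, h2, Subgroup.coe_one]
    exact rx_comm_of_eq_one h3
  · intro x x' y
    obtain ⟨r, hr, hrc⟩ := hxadd x x'
    apply Subtype.ext
    rw [Subgroup.coe_mul, hβ, hβ, hβ, comm_congr σ hZ hr rfl, rx_comm_mul_comm_left (hrc y),
      comm_mul_left_of_central (hcg x' y)]
  · intro x y y'
    obtain ⟨r, hr, hrc⟩ := hyadd y y'
    apply Subtype.ext
    rw [Subgroup.coe_mul, hβ, hβ, hβ, comm_congr σ hZ rfl hr, rx_comm_mul_comm_right (hrc x),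
      comm_mul_right_of_central (hcg x y')]
  · intro u x y hu
    obtain ⟨v, hvx, hvy⟩ := hinv u hu
    apply Subtype.ext
    rw [hβ, hβ, ← comm_congr σ hZ (hvx x) (hvy y), ← rx_conj_bracket, hcg x y v, mul_inv_cancel_right]

include hZ in
/-- the same for a torus acting by the non-zero squares on both sides; `hsq` is the statement of the leaf RX-SQ -/
theorem lifts_comm_sq (hsq : ∀ β : K → K → Subgroup.center Γ, (∀ x x' y, β (x + x') y = β x y * β x' y) →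
      (∀ x y y', β x (y + y') = β x y * β x y') →
      (∀ v x y, v ≠ 0 → β (v ^ 2 * x) (v ^ 2 * y) = β x y) → ∀ x y, β x y = 1)
    (wx wy : K → Γ)
    (hker : ∀ x y, σ ⁅wx x, wy y⁆ = 1)
    (hxadd : ∀ x x', ∃ r : Γ, σ (wx (x + x')) = σ (wx x * wx x' * r) ∧ ∀ y, r * wy y = wy y * r)
    (hyadd : ∀ y y', ∃ r : Γ, σ (wy (y + y')) = σ (wy y * wy y' * r) ∧ ∀ x, r * wx x = wx x * r)
    (hinv : ∀ u : K, u ≠ 0 → ∃ v : Γ, (∀ x, σ (v * wx x * v⁻¹) = σ (wx (u ^ 2 * x))) ∧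
      (∀ y, σ (v * wy y * v⁻¹) = σ (wy (u ^ 2 * y)))) :
    ∀ x y, wx x * wy y = wy y * wx x := by
  have hcen : ∀ x y, ⁅wx x, wy y⁆ ∈ Subgroup.center Γ := fun x y => hZ (MonoidHom.mem_ker.2 (hker x y))
  obtain ⟨β, hβ⟩ : ∃ β : K → K → Subgroup.center Γ, ∀ x y, (β x y : Γ) = ⁅wx x, wy y⁆ :=
    ⟨fun x y => ⟨_, hcen x y⟩, fun _ _ => rfl⟩
  have hcg : ∀ x y (g : Γ), g * ⁅wx x, wy y⁆ = ⁅wx x, wy y⁆ * g :=
    fun x y g => Subgroup.mem_center_iff.1 (hcen x y) g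
  have h1 := hsq β ?_ ?_ ?_
  · intro x y
    have h2 := h1 x y
    have h3 : ⁅wx x, wy y⁆ = 1 := by rw [← hβ, h2, Subgroup.coe_one]
    exact rx_comm_of_eq_one h3
  · intro x x' y
    obtain ⟨r, hr, hrc⟩ := hxadd x x'
    apply Subtype.ext
    rw [Subgroup.coe_mul, hβ, hβ, hβ, comm_congr σ hZ hr rfl, rx_comm_mul_comm_left (hrc y),
      comm_mul_left_of_central (hcg x' y)]
  · intro x y y'
    obtain ⟨r, hr, hrc⟩ := hyadd y y'
    apply Subtype.ext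
    rw [Subgroup.coe_mul, hβ, hβ, hβ, comm_congr σ hZ rfl hr, rx_comm_mul_comm_right (hrc x),
      comm_mul_right_of_central (hcg x y')]
  · intro u x y hu
    obtain ⟨v, hvx, hvy⟩ := hinv u hu
    apply Subtype.ext
    rw [hβ, hβ, ← comm_congr σ hZ (hvx x) (hvy y), ← rx_conj_bracket, hcg x y v, mul_inv_cancel_right]

include hZ in
/-- commutators of lifts landing in `ker σ · T(P)`, `T` a homomorphism injective modulo the kernel: if they are biadditive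
modulo `T(P)` and invariant under a torus with weights `(u, w u)` then they lie in `T(P)` -/
theorem lifts_comm_compl {P : Type*} [AddCommGroup P] (T : P → Γ) (hT : ∀ p p', T (p + p') = T p * T p')
    (hTinj : ∀ p p', σ (T p) = σ (T p') → p = p')
    (wx wy : K → Γ) (w : K → K)
    (hmem : ∀ x y, ∃ p, σ ⁅wx x, wy y⁆ = σ (T p))
    (hxadd : ∀ x x' y, ∃ p, ⁅wx (x + x'), wy y⁆ = ⁅wx x, wy y⁆ * ⁅wx x', wy y⁆ * T p)
    (hyadd : ∀ x y y', ∃ p, ⁅wx x, wy (y + y')⁆ = ⁅wx x, wy y⁆ * ⁅wx x, wy y'⁆ * T p)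
    (hw : ∀ u, u ≠ 0 → w u ≠ 0)
    (hinv : ∀ u : K, u ≠ 0 → ∃ (v : Γ) (κ : P → P), (∀ p, v * T p * v⁻¹ = T (κ p)) ∧
      (∀ x, σ (v * wx x * v⁻¹) = σ (wx (u * x))) ∧ (∀ y, σ (v * wy y * v⁻¹) = σ (wy (w u * y))))
    (hE : ∃ u : K, u ≠ 0 ∧ u + 1 ≠ 0 ∧ 1 / w (u + 1) - 1 / w u - 1 ≠ 0) :
    ∀ x y, ∃ p, ⁅wx x, wy y⁆ = T p := by
  choose ω hω using hmem
  have hT0 : T 0 = 1 := by
    have := hT 0 0
    rw [add_zero] at this
    exact (mul_eq_left.1 this.symm)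
  have hTneg : ∀ p, T (-p) = (T p)⁻¹ := by
    intro p
    have := hT p (-p)
    rw [add_neg_cancel, hT0] at this
    exact (eq_inv_of_mul_eq_one_right this.symm)
  have hεcen : ∀ x y, ⁅wx x, wy y⁆ * (T (ω x y))⁻¹ ∈ Subgroup.center Γ := by
    intro x y
    apply hZ
    rw [MonoidHom.mem_ker, map_mul, map_inv, hω, mul_inv_cancel]
  obtain ⟨ε, hε⟩ : ∃ ε : K → K → Subgroup.center Γ, ∀ x y, (ε x y : Γ) = ⁅wx x, wy y⁆ * (T (ω x y))⁻¹ :=
    ⟨fun x y => ⟨_, hεcen x y⟩, fun _ _ => rfl⟩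
  have hεg : ∀ x y (g : Γ), g * (ε x y : Γ) = (ε x y : Γ) * g :=
    fun x y g => Subgroup.mem_center_iff.1 (ε x y).2 g
  have hεσ : ∀ x y, σ (ε x y : Γ) = 1 := by
    intro x y
    rw [hε, map_mul, map_inv, hω, mul_inv_cancel]
  have hC : ∀ x y, ⁅wx x, wy y⁆ = (ε x y : Γ) * T (ω x y) := by
    intro x y
    rw [hε, inv_mul_cancel_right]
  -- uniqueness of the decomposition
  have huniq : ∀ (ζ ζ' : Γ) (p p' : P), σ ζ = 1 → σ ζ' = 1 → ζ * T p = ζ' * T p' → ζ = ζ' := by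
    intro ζ ζ' p p' h1 h2 h
    have h3 := congrArg σ h
    rw [map_mul, map_mul, h1, h2, one_mul, one_mul] at h3
    have h4 := hTinj p p' h3
    rw [h4] at h
    exact mul_right_cancel h
  have h1 := biadd_gen_trivial ε w ?_ ?_ hw ?_ hE
  · intro x y
    refine ⟨ω x y, ?_⟩
    rw [hC, h1, Subgroup.coe_one, one_mul]
  · intro x x' y
    obtain ⟨p, hp⟩ := hxadd x x' y
    apply Subtype.ext
    rw [Subgroup.coe_mul]
    apply huniq _ _ (ω (x + x') y) (ω x y + ω x' y + p) (hεσ _ _)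
      (by rw [map_mul, hεσ, hεσ, one_mul])
    rw [← hC, hp, hC, hC, hT, hT]
    calc (ε x y : Γ) * T (ω x y) * ((ε x' y : Γ) * T (ω x' y)) * T p
        = (ε x y : Γ) * (T (ω x y) * (ε x' y : Γ)) * T (ω x' y) * T p := by group
      _ = (ε x y : Γ) * ((ε x' y : Γ) * T (ω x y)) * T (ω x' y) * T p := by rw [hεg]
      _ = _ := by group
  · intro x y y'
    obtain ⟨p, hp⟩ := hyadd x y y'
    apply Subtype.ext
    rw [Subgroup.coe_mul]
    apply huniq _ _ (ω x (y + y')) (ω x y + ω x y' + p) (hεσ _ _)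
      (by rw [map_mul, hεσ, hεσ, one_mul])
    rw [← hC, hp, hC, hC, hT, hT]
    calc (ε x y : Γ) * T (ω x y) * ((ε x y' : Γ) * T (ω x y')) * T p
        = (ε x y : Γ) * (T (ω x y) * (ε x y' : Γ)) * T (ω x y') * T p := by group
      _ = (ε x y : Γ) * ((ε x y' : Γ) * T (ω x y)) * T (ω x y') * T p := by rw [hεg]
      _ = _ := by group
  · intro u x y hu
    obtain ⟨v, κ, hvT, hvx, hvy⟩ := hinv u hu
    apply Subtype.ext
    apply huniq _ _ (ω (u * x) (w u * y)) (κ (ω x y)) (hεσ _ _) (hεσ _ _)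
    rw [← hC, ← comm_congr σ hZ (hvx x) (hvy y), ← rx_conj_bracket, hC]
    calc v * ((ε x y : Γ) * T (ω x y)) * v⁻¹ = (v * (ε x y : Γ)) * v⁻¹ * (v * T (ω x y) * v⁻¹) := by group
      _ = (ε x y : Γ) * T (κ (ω x y)) := by rw [hεg, mul_inv_cancel_right, hvT]

end ext

end Cfsg.Agent.Lib.Helper12.Rx
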