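import Cfsg.Agent.Lib.Helper12.RxU5
import Cfsg.Agent.Lib.Helper12.RtCycD
import Cfsg.Agent.Lib.Helper35.RxP2

/-! # Rx hive (helper12, S2113): the Schur multiplier of the small Ree groups is trivial (abstract form) -/

set_option autoImplicit false
set_option linter.unusedSectionVars false
set_option linter.unusedVariables false

namespace Cfsg.Agent.Lib.Helper12.Rx

open Cfsg.Agent.Lib.Helper12.ReeOut Cfsg.Agent.Lib.Helper12.Rt
open scoped commutatorElement IsMulCommutative
open Cfsg.Agent.Lib.Helper6.SzMult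

variable {K : Type*} [Field K] [Fintype K] {G : Type*} [Group G] {m : ℕ} (D : RtData K G m)
  {Γ : Type*} [Group Γ] (σ : Γ →* G)

/-- `3` does not divide the index of `U` -/
theorem not_three_dvd_index_U : ¬ 3 ∣ D.R.U.index := by
  have := D.finite
  intro h
  have h1 : Nat.card ↥D.R.U * D.R.U.index = Nat.card G := Subgroup.card_mul_index _
  have hU : Nat.card ↥D.R.U ≠ 0 := Nat.card_pos.ne'
  have hI : D.R.U.index ≠ 0 := Subgroup.index_ne_zero_of_finite
  have h2 := congrArg (fun n => n.factorization 3) h1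
  simp only [Nat.factorization_mul hU hI, Finsupp.coe_add, Pi.add_apply] at h2
  rw [← D.fact_three] at h2
  have h3 : 1 ≤ D.R.U.index.factorization 3 := (Nat.prime_three.dvd_iff_one_le_factorization hI).1 h
  omega

include D in
/-- lifts of elements of a Sylow 2-subgroup commute -/
theorem comm_of_sylow_two (hσ : Function.Surjective σ) (hZ : σ.ker ≤ Subgroup.center Γ) (S : Sylow 2 G)
    {x y : Γ} (hx : σ x ∈ (S : Subgroup G)) (hy : σ y ∈ (S : Subgroup G)) : x * y = y * x := by
  have := D.finite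
  obtain ⟨hcent, hN⟩ := D.syl2 S
  obtain ⟨h8, h2⟩ := D.syl2' S
  have : Fact (Nat.Prime 7) := ⟨by norm_num⟩
  have h7 : 7 ∣ Nat.card ↥(Subgroup.normalizer ((S : Subgroup G) : Set G)) := by rw [hN]; norm_num
  obtain ⟨g, hg⟩ := exists_prime_orderOf_dvd_card' 7 h7
  refine lifts_comm_of_seven σ hσ hZ (S : Subgroup G) h8 h2 ?_ (g : G) ?_ ?_ x y hx hy
  · intro z hz
    have h1 : z ∈ Subgroup.centralizer ((S : Subgroup G) : Set G) := by
      rw [Subgroup.mem_centralizer_iff]
      intro h hh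
      exact (hz h hh).symm
    rw [hcent] at h1
    exact h1
  · rw [Subgroup.orderOf_coe, hg]
  · intro x hx
    exact (Subgroup.mem_normalizer_iff.1 g.2 x).1 hx

variable {W : Type*} [AddCommGroup W] [Module K W]

include D in
/-- **the Schur multiplier of `²G₂(q)` is trivial**: every finite stem extension is an isomorphism -/
theorem ker_eq_bot_of_stem (ρ : G →* Module.End K W) (hρ : Function.Injective ρ) (hW : Module.finrank K W = 7)
    (hm : 1 ≤ m) [Finite Γ] (hσ : Function.Surjective σ) (hZ : σ.ker ≤ Subgroup.center Γ)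
    (hC : σ.ker ≤ commutator Γ) : σ.ker = ⊥ := by
  classical
  by_contra hne
  obtain ⟨⟨z₀, hz₀⟩, hz₀1⟩ := (Subgroup.ne_bot_iff_exists_ne_one).1 hne
  have hz₀1' : z₀ ≠ 1 := fun h => hz₀1 (Subtype.ext h)
  have hord : orderOf z₀ ≠ 1 := fun h => hz₀1' (orderOf_eq_one_iff.1 h)
  obtain ⟨p, hp, hpd⟩ := Nat.exists_prime_and_dvd hord
  have : Fact p.Prime := ⟨hp⟩
  have hn0 : orderOf z₀ ≠ 0 := (orderOf_pos z₀).ne'
  obtain ⟨z, hzdef⟩ : ∃ z, z = z₀ ^ (orderOf z₀ / p) := ⟨_, rfl⟩
  have hzo : orderOf z = p := by rw [hzdef]; exact orderOf_pow_orderOf_div hn0 hpd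
  have hz : z ∈ σ.ker := by rw [hzdef]; exact Subgroup.pow_mem _ hz₀ _
  by_cases hp3 : p = 3
  · -- the prime 3
    have h1 := pow_index_U_eq_one D.R σ hσ hZ hm hz (hC hz)
    have h2 : orderOf z ∣ D.R.U.index := orderOf_dvd_of_pow_eq_one h1
    rw [hzo, hp3] at h2
    exact not_three_dvd_index_U D h2
  · -- the other primes: the preimage of a Sylow subgroup is abelian
    have hpz : IsPGroup p (Subgroup.zpowers z) :=
      IsPGroup.of_card (n := 1) (by rw [Nat.card_zpowers, hzo, pow_one])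
    obtain ⟨P, hP⟩ := hpz.exists_le_sylow
    have hzP : z ∈ (P : Subgroup Γ) := hP (Subgroup.mem_zpowers z)
    obtain ⟨Q, hQ⟩ := (P.isPGroup'.map σ).exists_le_sylow
    have hcomm : ∀ a ∈ (P : Subgroup Γ), ∀ b ∈ (P : Subgroup Γ), a * b = b * a := by
      by_cases hp2 : p = 2
      · subst hp2
        intro a ha b hb
        exact comm_of_sylow_two D σ hσ hZ Q (hQ (Subgroup.mem_map_of_mem σ ha)) (hQ (Subgroup.mem_map_of_mem σ hb))
      · have hp5 : 3 < p := by
          have := hp.two_le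
          omega
        have hQc : IsCyclic ↥(Q : Subgroup G) := D.sylow_cyclic ρ hρ hW p hp5 Q
        have hcyc : IsCyclic ((P : Subgroup Γ).map σ) := Subgroup.isCyclic_of_le hQ
        exact fun a ha b hb => comm_of_map_isCyclic σ hZ _ hcyc ha hb
    have hbot : commutator (P : Subgroup Γ) = ⊥ := by
      rw [commutator_eq_closure, Subgroup.closure_eq_bot_iff]
      rintro _ ⟨g₁, g₂, rfl⟩
      rw [Set.mem_singleton_iff, commutatorElement_eq_one_iff_commute]
      exact Subtype.ext (hcomm g₁ g₁.2 g₂ g₂.2)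
    obtain ⟨g, hg, hgz⟩ := pow_index_mem_commutator (P : Subgroup Γ) (hZ hz) (hC hz)
    rw [hbot, Subgroup.mem_bot] at hg
    rw [hg, Subgroup.coe_one] at hgz
    have h2 : orderOf z ∣ (P : Subgroup Γ).index := orderOf_dvd_of_pow_eq_one hgz.symm
    rw [hzo] at h2
    exact P.not_dvd_index h2

end Cfsg.Agent.Lib.Helper12.Rx
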