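import Cfsg.Agent.Lib.Helper12.ReeOutAbs

/-! # Rx hive (helper12, S2113): the multiplication of the Sylow 3-subgroup `U` of the small Ree group -/

set_option autoImplicit false
set_option linter.unusedSectionVars false

namespace Cfsg.Agent.Lib.Helper12.Rx

open Cfsg.Agent.Lib.Helper12.ReeOut
open scoped commutatorElement

theorem comm_eq_of_mul_eq {G : Type*} [Group G] {x y r : G} (h : x * y = r * (y * x)) : ⁅x, y⁆ = r := by
  rw [commutatorElement_def]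
  calc x * y * x⁻¹ * y⁻¹ = (x * y) * (y * x)⁻¹ := by group
    _ = r := by rw [h]; group

variable {K : Type*} [Field K] [Fintype K] {G : Type*} [Group G] {m : ℕ} (R : ReeOutData K G m)

theorem zero_pow_e : (0 : K) ^ (3 ^ m * 3) = 0 := zero_pow (fact_e_ne m)

theorem u_cc (c c' : K) : R.u (0, 0, c) * R.u (0, 0, c') = R.u (0, 0, c + c') := by
  rw [R.u_mul]
  congr 1
  refine Prod.ext ?_ (Prod.ext ?_ ?_)
  · show (0 : K) + 0 = 0
    ring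
  · show (0 : K) + 0 - 0 ^ (3 ^ m * 3) * 0 = 0
    ring
  · show c + c' - 0 * 0 - 0 ^ (3 ^ m * 3) * 0 ^ 2 + 0 ^ (3 ^ m * 3) * 0 * 0 = c + c'
    ring

theorem u_bb (b c b' c' : K) : R.u (0, b, c) * R.u (0, b', c') = R.u (0, b + b', c + c') := by
  rw [R.u_mul]
  congr 1
  refine Prod.ext ?_ (Prod.ext ?_ ?_)
  · show (0 : K) + 0 = 0
    ring
  · show b + b' - 0 ^ (3 ^ m * 3) * 0 = b + b'
    ring
  · show c + c' - 0 * b - 0 ^ (3 ^ m * 3) * 0 ^ 2 + 0 ^ (3 ^ m * 3) * 0 * 0 = c + c'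
    ring

theorem u_bb_comm (b c b' c' : K) : R.u (0, b, c) * R.u (0, b', c') = R.u (0, b', c') * R.u (0, b, c) := by
  rw [u_bb, u_bb, add_comm b, add_comm c]

theorem u_abc (a b c : K) : R.u (a, 0, 0) * R.u (0, b, c) = R.u (a, b, c) := by
  rw [R.u_mul]
  congr 1
  refine Prod.ext ?_ (Prod.ext ?_ ?_)
  · show a + 0 = a
    ring
  · show 0 + b - 0 ^ (3 ^ m * 3) * a = b
    rw [zero_pow_e]; ring
  · show 0 + c - 0 * 0 - 0 ^ (3 ^ m * 3) * a ^ 2 + 0 ^ (3 ^ m * 3) * a * 0 = c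
    rw [zero_pow_e]; ring

/-- `u (0, 0, c)` is central in `U` -/
theorem u_c_comm (p : K × K × K) (c : K) : R.u p * R.u (0, 0, c) = R.u (0, 0, c) * R.u p := by
  obtain ⟨a, b, d⟩ := p
  rw [R.u_mul, R.u_mul]
  congr 1
  refine Prod.ext ?_ (Prod.ext ?_ ?_)
  · show a + 0 = 0 + a
    ring
  · show b + 0 - 0 ^ (3 ^ m * 3) * a = 0 + b - a ^ (3 ^ m * 3) * 0
    rw [zero_pow_e]; ring
  · show d + c - 0 * b - 0 ^ (3 ^ m * 3) * a ^ 2 + 0 ^ (3 ^ m * 3) * a * 0 =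
      c + d - a * 0 - a ^ (3 ^ m * 3) * 0 ^ 2 + a ^ (3 ^ m * 3) * 0 * a
    rw [zero_pow_e]; ring

/-- the product of two elements `u (a, 0, 0)` -/
theorem u_aa (a a' : K) : ∃ B C : K, R.u (a, 0, 0) * R.u (a', 0, 0) = R.u (a + a', 0, 0) * R.u (0, B, C) := by
  refine ⟨-(a' ^ (3 ^ m * 3) * a), -(a' ^ (3 ^ m * 3) * a ^ 2) + a' ^ (3 ^ m * 3) * a * a', ?_⟩
  rw [u_abc, R.u_mul]
  congr 1
  refine Prod.ext rfl (Prod.ext ?_ ?_)
  · show (0 : K) + 0 - a' ^ (3 ^ m * 3) * a = -(a' ^ (3 ^ m * 3) * a)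
    ring
  · show (0 : K) + 0 - a' * 0 - a' ^ (3 ^ m * 3) * a ^ 2 + a' ^ (3 ^ m * 3) * a * a' =
      -(a' ^ (3 ^ m * 3) * a ^ 2) + a' ^ (3 ^ m * 3) * a * a'
    ring

/-- the commutator of `u (a, 0, 0)` and `u (0, b, c)` -/
theorem u_comm_ab (a b c : K) : ⁅R.u (a, 0, 0), R.u (0, b, c)⁆ = R.u (0, 0, a * b) := by
  apply comm_eq_of_mul_eq
  rw [R.u_mul, R.u_mul, R.u_mul]
  congr 1
  refine Prod.ext ?_ (Prod.ext ?_ ?_)
  · show a + 0 = 0 + (0 + a)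
    ring
  · show 0 + b - 0 ^ (3 ^ m * 3) * a = 0 + (b + 0 - a ^ (3 ^ m * 3) * 0) - (0 + a) ^ (3 ^ m * 3) * 0
    rw [zero_pow_e]; ring
  · show 0 + c - 0 * 0 - 0 ^ (3 ^ m * 3) * a ^ 2 + 0 ^ (3 ^ m * 3) * a * 0 =
      a * b + (c + 0 - a * b - a ^ (3 ^ m * 3) * 0 ^ 2 + a ^ (3 ^ m * 3) * 0 * a) - (0 + a) * 0 -
        (0 + a) ^ (3 ^ m * 3) * 0 ^ 2 + (0 + a) ^ (3 ^ m * 3) * 0 * (0 + a)
    rw [zero_pow_e]; ring

/-- the inverse of `u (0, b, c)` -/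
theorem u_bc_inv (b c : K) : (R.u (0, b, c))⁻¹ = R.u (0, -b, -c) := by
  rw [inv_eq_iff_mul_eq_one, u_bb, add_neg_cancel, add_neg_cancel]
  exact R.u_zero

/-- the commutator of two elements of `U` lies in `U₁` -/
theorem u_comm_mem (p q : K × K × K) : ∃ B C : K, ⁅R.u p, R.u q⁆ = R.u (0, B, C) := by
  have hmem : ⁅R.u p, R.u q⁆ ∈ R.U := by
    rw [commutatorElement_def]
    exact R.U.mul_mem (R.U.mul_mem (R.U.mul_mem (R.u_mem_U p) (R.u_mem_U q)) (R.U.inv_mem (R.u_mem_U p)))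
      (R.U.inv_mem (R.u_mem_U q))
  obtain ⟨r, hr⟩ := (R.mem_U _).1 hmem
  have h1 : R.u p * R.u q = R.u r * (R.u q * R.u p) := by
    rw [← hr, commutatorElement_def]; group
  rw [R.u_mul, R.u_mul, R.u_mul] at h1
  have h2 := congrArg Prod.fst (R.u_inj h1)
  have h3 : r.1 = 0 := by
    have h4 : p.1 + q.1 = r.1 + (q.1 + p.1) := h2
    linear_combination -h4
  refine ⟨r.2.1, r.2.2, ?_⟩
  rw [hr]
  congr 1
  exact Prod.ext h3 rfl

/-- the torus action on the three root subgroups -/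
theorem h_conj_a (s : Kˣ) (a : K) :
    R.h s * R.u (a, 0, 0) * (R.h s)⁻¹ = R.u ((s : K) ^ 2 / (s : K) ^ (3 ^ m * 3) * a, 0, 0) := by
  rw [R.conj_hu, ← pow_mul]
  simp only [mul_zero]

theorem h_conj_bc (s : Kˣ) (b c : K) :
    R.h s * R.u (0, b, c) * (R.h s)⁻¹ = R.u (0, (s : K) ^ (3 ^ m * 3) / (s : K) * b, (s : K) * c) := by
  rw [R.conj_hu, ← pow_mul]
  simp only [mul_zero]

end Cfsg.Agent.Lib.Helper12.Rx
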