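import Cfsg.Agent.Lib.Helper12.RxExt
import Cfsg.Agent.Lib.Helper12.RxU1
import Cfsg.Agent.Lib.Helper33.RxW23
import Cfsg.Agent.Lib.Helper99.RxW12
import Cfsg.Agent.Lib.Helper24.RxSQ

/-! # Rx hive (helper12, S2113): central extensions of the Sylow 3-subgroup of the small Ree group, part 1:
the preimage of `U₂` is central and the preimage of `U₁` is abelian -/

set_option autoImplicit false
set_option linter.unusedSectionVars false

namespace Cfsg.Agent.Lib.Helper12.Rx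

open Cfsg.Agent.Lib.Helper12.ReeOut
open scoped commutatorElement IsMulCommutative
open Cfsg.Agent.Lib.Helper6.SzMult

variable {K : Type*} [Field K] [Fintype K] {G : Type*} [Group G] {m : ℕ} (R : ReeOutData K G m)
  {Γ : Type*} [Group Γ] (σ : Γ →* G)

/-- chosen lifts of the root elements and of the torus -/
structure Lifts where
  w1 : K → Γ
  w2 : K → Γ
  w3 : K → Γ
  v : Kˣ → Γ
  hw1 : ∀ a, σ (w1 a) = R.u (a, 0, 0)
  hw2 : ∀ b, σ (w2 b) = R.u (0, b, 0)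
  hw3 : ∀ c, σ (w3 c) = R.u (0, 0, c)
  hv : ∀ s, σ (v s) = R.h s

theorem exists_lifts (hσ : Function.Surjective σ) : Nonempty (Lifts R σ) := by
  choose w1 hw1 using fun a : K => hσ (R.u (a, 0, 0))
  choose w2 hw2 using fun b : K => hσ (R.u (0, b, 0))
  choose w3 hw3 using fun c : K => hσ (R.u (0, 0, c))
  choose v hv using fun s : Kˣ => hσ (R.h s)
  exact ⟨⟨w1, w2, w3, v, hw1, hw2, hw3, hv⟩⟩

include R in
theorem exists_rho (hm : 1 ≤ m) : ∃ ρ : K, ρ ≠ 0 ∧ ρ ≠ 1 ∧ ρ + 1 ≠ 0 := by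
  classical
  have hcard : ({0, 1, -1} : Finset K).card < (Finset.univ : Finset K).card := by
    have h1 : ({0, 1, -1} : Finset K).card ≤ 3 := Finset.card_le_three
    rw [Finset.card_univ, R.hK]
    have : 3 ^ 3 ≤ 3 ^ (2 * m + 1) := Nat.pow_le_pow_right (by norm_num) (by omega)
    omega
  obtain ⟨ρ, -, hρ⟩ := Finset.exists_mem_notMem_of_card_lt_card hcard
  simp only [Finset.mem_insert, Finset.mem_singleton, not_or] at hρ
  refine ⟨ρ, hρ.1, hρ.2.1, ?_⟩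
  intro h
  exact hρ.2.2 (eq_neg_of_add_eq_zero_left h)

include R in
theorem exists_wid (hm : 1 ≤ m) :
    ∃ u : K, u ≠ 0 ∧ u + 1 ≠ 0 ∧ 1 / id (u + 1) - 1 / id u - 1 ≠ 0 := by
  have := fact_charP R.hK
  obtain ⟨ρ, h0, h1, h2⟩ := exists_rho R hm
  refine ⟨ρ, h0, h2, ?_⟩
  simp only [id]
  have h3 : (3 : K) = 0 := fact_three R.hK
  intro h
  have h4 : ρ - (ρ + 1) - ρ * (ρ + 1) = 0 := by
    field_simp at h
    linear_combination h
  have h5 : (ρ - 1) ^ 2 = 0 := by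
    linear_combination (-1 : K) * h4 - ρ * h3
  have h6 : ρ - 1 = 0 := pow_eq_zero_iff (by norm_num) |>.1 h5
  exact h1 (sub_eq_zero.1 h6)

variable {R σ}

theorem Lifts.conj_w1 (L : Lifts R σ) (s : Kˣ) (a : K) :
    σ (L.v s * L.w1 a * (L.v s)⁻¹) = σ (L.w1 ((s : K) ^ 2 / (s : K) ^ (3 ^ m * 3) * a)) := by
  rw [map_mul, map_mul, map_inv, L.hv, L.hw1, L.hw1, h_conj_a]

theorem Lifts.conj_w2 (L : Lifts R σ) (s : Kˣ) (b : K) :
    σ (L.v s * L.w2 b * (L.v s)⁻¹) = σ (L.w2 ((s : K) ^ (3 ^ m * 3) / (s : K) * b)) := by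
  rw [map_mul, map_mul, map_inv, L.hv, L.hw2, L.hw2, h_conj_bc, mul_zero]

theorem Lifts.conj_w3 (L : Lifts R σ) (s : Kˣ) (c : K) :
    σ (L.v s * L.w3 c * (L.v s)⁻¹) = σ (L.w3 ((s : K) * c)) := by
  rw [map_mul, map_mul, map_inv, L.hv, L.hw3, L.hw3, h_conj_bc, mul_zero]

theorem Lifts.add_w3 (L : Lifts R σ) (c c' : K) : σ (L.w3 (c + c')) = σ (L.w3 c * L.w3 c' * 1) := by
  rw [mul_one, map_mul, L.hw3, L.hw3, L.hw3, u_cc]

theorem Lifts.add_w2 (L : Lifts R σ) (b b' : K) : σ (L.w2 (b + b')) = σ (L.w2 b * L.w2 b' * 1) := by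
  rw [mul_one, map_mul, L.hw2, L.hw2, L.hw2, u_bb, add_zero]

/-- **A1**: lifts of elements of `U₂` commute -/
theorem Lifts.comm_cc (L : Lifts R σ) (hZ : σ.ker ≤ Subgroup.center Γ) (hm : 1 ≤ m) {x y : Γ} {c c' : K} (hx : σ x = R.u (0, 0, c)) (hy : σ y = R.u (0, 0, c')) :
    x * y = y * x := by
  have h1 := lifts_comm_gen σ hZ L.w3 L.w3 id ?_ ?_ ?_ (fun u hu => hu) ?_ (exists_wid R hm)
  · have h2 : ⁅x, y⁆ = ⁅L.w3 c, L.w3 c'⁆ := comm_congr σ hZ (by rw [hx, L.hw3]) (by rw [hy, L.hw3])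
    rw [rx_comm_eq_one (h1 c c')] at h2
    exact rx_comm_of_eq_one h2
  · intro c c'
    rw [map_commutatorElement, L.hw3, L.hw3]
    exact rx_comm_eq_one (u_c_comm R _ _)
  · intro c c'
    exact ⟨1, L.add_w3 c c', fun y => by rw [one_mul, mul_one]⟩
  · intro c c'
    exact ⟨1, L.add_w3 c c', fun y => by rw [one_mul, mul_one]⟩
  · intro u hu
    refine ⟨L.v (Units.mk0 u hu), fun c => ?_, fun c => ?_⟩
    · rw [L.conj_w3, Units.val_mk0]
    · rw [L.conj_w3, Units.val_mk0]; rfl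

/-- **A2**: lifts of elements of `U₂` commute with lifts of elements of `U₁` -/
theorem Lifts.comm_bc_c (L : Lifts R σ) (hZ : σ.ker ≤ Subgroup.center Γ) (hm : 1 ≤ m) {x y : Γ} {b c c' : K} (hx : σ x = R.u (0, b, c))
    (hy : σ y = R.u (0, 0, c')) : x * y = y * x := by
  have h1 := lifts_comm_gen σ hZ L.w3 L.w2 (fun s => s ^ (3 ^ m * 3) / s) ?_ ?_ ?_ ?_ ?_ (exists_w23 hm R.hK)
  · have hxe : σ x = σ (L.w2 b * L.w3 c) := by
      rw [hx, map_mul, L.hw2, L.hw3, u_bb, add_zero, zero_add]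
    have h2 : ⁅x, y⁆ = ⁅L.w2 b * L.w3 c, L.w3 c'⁆ := comm_congr σ hZ hxe (by rw [hy, L.hw3])
    rw [rx_comm_mul_comm_left (L.comm_cc hZ hm (L.hw3 c) (L.hw3 c')),
      rx_comm_eq_one (h1 c' b).symm] at h2
    exact rx_comm_of_eq_one h2
  · intro c b
    rw [map_commutatorElement, L.hw3, L.hw2]
    exact rx_comm_eq_one (u_c_comm R _ _).symm
  · intro c c'
    exact ⟨1, L.add_w3 c c', fun y => by rw [one_mul, mul_one]⟩
  · intro b b'
    exact ⟨1, L.add_w2 b b', fun y => by rw [one_mul, mul_one]⟩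
  · intro s hs
    exact div_ne_zero (pow_ne_zero _ hs) hs
  · intro u hu
    refine ⟨L.v (Units.mk0 u hu), fun c => ?_, fun b => ?_⟩
    · rw [L.conj_w3, Units.val_mk0]
    · rw [L.conj_w2, Units.val_mk0]

theorem Lifts.w23 (L : Lifts R σ) (b c : K) : σ (L.w2 b * L.w3 c) = R.u (0, b, c) := by
  rw [map_mul, L.hw2, L.hw3, u_bb, add_zero, zero_add]

theorem Lifts.w123 (L : Lifts R σ) (a b c : K) : σ (L.w1 a * (L.w2 b * L.w3 c)) = R.u (a, b, c) := by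
  rw [map_mul, L.hw1, L.w23, u_abc]

/-- additivity of `w1` up to a lift of an element of `U₁` -/
theorem Lifts.add_w1 (L : Lifts R σ) (a a' : K) :
    ∃ r : Γ, (∃ B C : K, σ r = R.u (0, B, C)) ∧ σ (L.w1 (a + a')) = σ (L.w1 a * L.w1 a' * r) := by
  obtain ⟨B, C, hBC⟩ := u_aa R a a'
  refine ⟨L.w2 (-B) * L.w3 (-C), ⟨-B, -C, L.w23 _ _⟩, ?_⟩
  rw [map_mul, map_mul, L.hw1, L.hw1, L.hw1, L.w23, hBC, ← u_bc_inv, mul_inv_cancel_right]

/-- **A3**: lifts of elements of `U₂` commute with lifts of elements of `U` -/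
theorem Lifts.comm_abc_c (L : Lifts R σ) (hZ : σ.ker ≤ Subgroup.center Γ) (hm : 1 ≤ m) {x y : Γ} {a b c c' : K}
    (hx : σ x = R.u (a, b, c)) (hy : σ y = R.u (0, 0, c')) : x * y = y * x := by
  have h1 := lifts_comm_gen σ hZ L.w3 L.w1 (fun s => s ^ 2 / s ^ (3 ^ m * 3)) ?_ ?_ ?_ ?_ ?_ (exists_w13 hm R.hK)
  · have hxe : σ x = σ (L.w1 a * (L.w2 b * L.w3 c)) := by rw [hx, L.w123]
    have h2 : ⁅x, y⁆ = ⁅L.w1 a * (L.w2 b * L.w3 c), L.w3 c'⁆ := comm_congr σ hZ hxe (by rw [hy, L.hw3])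
    rw [rx_comm_mul_comm_left (L.comm_bc_c hZ hm (L.w23 b c) (L.hw3 c')),
      rx_comm_eq_one (h1 c' a).symm] at h2
    exact rx_comm_of_eq_one h2
  · intro c a
    rw [map_commutatorElement, L.hw3, L.hw1]
    exact rx_comm_eq_one (u_c_comm R _ _).symm
  · intro c c'
    exact ⟨1, L.add_w3 c c', fun y => by rw [one_mul, mul_one]⟩
  · intro a a'
    obtain ⟨r, ⟨B, C, hr⟩, hadd⟩ := L.add_w1 a a'
    exact ⟨r, hadd, fun c => L.comm_bc_c hZ hm hr (L.hw3 c)⟩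
  · intro s hs
    exact div_ne_zero (pow_ne_zero _ hs) (pow_ne_zero _ hs)
  · intro u hu
    refine ⟨L.v (Units.mk0 u hu), fun c => ?_, fun a => ?_⟩
    · rw [L.conj_w3, Units.val_mk0]
    · rw [L.conj_w1, Units.val_mk0]

theorem chi2_sq (hK : Fintype.card K = 3 ^ (2 * m + 1)) (u : K) (hu : u ≠ 0) :
    (u * u ^ (3 ^ m * 3)) ^ (3 ^ m * 3) / (u * u ^ (3 ^ m * 3)) = u ^ 2 := by
  have h1 : u ^ (3 ^ m * 3) ≠ 0 := pow_ne_zero _ hu
  rw [mul_pow, fact_pow_pow hK]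
  field_simp

/-- **B**: lifts of elements of `U₁` commute -/
theorem Lifts.comm_bc_bc (L : Lifts R σ) (hZ : σ.ker ≤ Subgroup.center Γ) (hm : 1 ≤ m) {x y : Γ} {b c b' c' : K}
    (hx : σ x = R.u (0, b, c)) (hy : σ y = R.u (0, b', c')) : x * y = y * x := by
  have h1 := lifts_comm_sq σ hZ (fun β hl hr hinv => biadd_sq_trivial hm R.hK β hl hr hinv) L.w2 L.w2 ?_ ?_ ?_ ?_
  · have hxe : σ x = σ (L.w2 b * L.w3 c) := by rw [hx, L.w23]
    have hye : σ y = σ (L.w2 b' * L.w3 c') := by rw [hy, L.w23]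
    have h2 : ⁅x, y⁆ = ⁅L.w2 b * L.w3 c, L.w2 b' * L.w3 c'⁆ := comm_congr σ hZ hxe hye
    rw [rx_comm_mul_comm_left (L.comm_bc_c hZ hm (L.w23 b' c') (L.hw3 c)).symm,
      rx_comm_mul_comm_right (L.comm_bc_c hZ hm (show σ (L.w2 b) = R.u (0, b, 0) from L.hw2 b) (L.hw3 c')).symm,
      rx_comm_eq_one (h1 b b')] at h2
    exact rx_comm_of_eq_one h2
  · intro b b'
    rw [map_commutatorElement, L.hw2, L.hw2]
    exact rx_comm_eq_one (u_bb_comm R _ _ _ _)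
  · intro b b'
    exact ⟨1, L.add_w2 b b', fun y => by rw [one_mul, mul_one]⟩
  · intro b b'
    exact ⟨1, L.add_w2 b b', fun y => by rw [one_mul, mul_one]⟩
  · intro u hu
    have hu' : u * u ^ (3 ^ m * 3) ≠ 0 := mul_ne_zero hu (pow_ne_zero _ hu)
    refine ⟨L.v (Units.mk0 _ hu'), fun b => ?_, fun b => ?_⟩
    · rw [L.conj_w2, Units.val_mk0, chi2_sq R.hK u hu]
    · rw [L.conj_w2, Units.val_mk0, chi2_sq R.hK u hu]

end Cfsg.Agent.Lib.Helper12.Rx
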