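import Cfsg.Agent.Lib.Helper12.RxU2

/-! # Rx hive (helper12, S2113): central extensions of the Sylow 3-subgroup of the small Ree group, part 2:
the commutators of lifts of elements of `U` lie in a complement `T(K × K)` of the kernel -/

set_option autoImplicit false
set_option linter.unusedSectionVars false
set_option linter.unusedVariables false

namespace Cfsg.Agent.Lib.Helper12.Rx

open Cfsg.Agent.Lib.Helper12.ReeOut
open scoped commutatorElement IsMulCommutative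
open Cfsg.Agent.Lib.Helper6.SzMult

section grp
variable {Γ : Type*} [Group Γ]

theorem rx_rearr4 {a b c d : Γ} (hac : a * c = c * a) (had : a * d = d * a) (hbc : b * c = c * b)
    (hbd : b * d = d * b) (hcd : c * d = d * c) : a * (b * c * d) = d * c * (a * b) := by
  have h1 : Commute (a * b) (d * c) :=
    Commute.mul_left (Commute.mul_right had hac) (Commute.mul_right hbd hbc)
  calc a * (b * c * d) = (a * b) * (c * d) := by simp only [mul_assoc]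
    _ = (a * b) * (d * c) := by rw [hcd]
    _ = d * c * (a * b) := h1.eq

theorem rx_rearr3 {a b c : Γ} (hab : a * b = b * a) (hac : a * c = c * a) (hbc : b * c = c * b) :
    a * b * c = c * b * a := by
  have h1 : Commute a (c * b) := Commute.mul_right hac hab
  calc a * b * c = a * (b * c) := by simp only [mul_assoc]
    _ = a * (c * b) := by rw [hbc]
    _ = c * b * a := h1.eq

end grp

section field
variable {K : Type*} [Field K] [Fintype K] {m : ℕ}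

theorem chi1_w (hK : Fintype.card K = 3 ^ (2 * m + 1)) (u : K) (hu : u ≠ 0) :
    (u ^ 2 * u ^ (3 ^ m * 3)) ^ 2 / (u ^ 2 * u ^ (3 ^ m * 3)) ^ (3 ^ m * 3) = u := by
  have h1 : u ^ (3 ^ m * 3) ≠ 0 := pow_ne_zero _ hu
  rw [mul_pow (u ^ 2) (u ^ (3 ^ m * 3)) (3 ^ m * 3), fact_pow_pow hK]
  have h2 : (u ^ 2) ^ (3 ^ m * 3) = (u ^ (3 ^ m * 3)) ^ 2 := by rw [← pow_mul, ← pow_mul, mul_comm]
  rw [h2]
  field_simp

theorem chi2_w (hK : Fintype.card K = 3 ^ (2 * m + 1)) (u : K) (hu : u ≠ 0) :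
    (u ^ 2 * u ^ (3 ^ m * 3)) ^ (3 ^ m * 3) / (u ^ 2 * u ^ (3 ^ m * 3)) = u * u ^ (3 ^ m * 3) := by
  have h1 : u ^ (3 ^ m * 3) ≠ 0 := pow_ne_zero _ hu
  rw [mul_pow (u ^ 2) (u ^ (3 ^ m * 3)) (3 ^ m * 3), fact_pow_pow hK]
  have h2 : (u ^ 2) ^ (3 ^ m * 3) = (u ^ (3 ^ m * 3)) ^ 2 := by rw [← pow_mul, ← pow_mul, mul_comm]
  rw [h2]
  field_simp

theorem exists_s0 (hK : Fintype.card K = 3 ^ (2 * m + 1)) (hm : 1 ≤ m) :
    ∃ s0 : Kˣ, (s0 : K) - 1 ≠ 0 ∧ (s0 : K) ^ (3 ^ m * 3) / (s0 : K) - 1 ≠ 0 := by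
  obtain ⟨c, hc⟩ := fact_exists_ne hK hm
  have hc0 : c ≠ 0 := by
    rintro rfl
    exact hc (zero_pow (fact_e_ne m))
  refine ⟨Units.mk0 c hc0, ?_, ?_⟩
  · rw [Units.val_mk0]
    intro h
    have h1 : c = 1 := sub_eq_zero.1 h
    rw [h1, one_pow] at hc
    exact hc rfl
  · rw [Units.val_mk0]
    intro h
    have h1 : c ^ (3 ^ m * 3) / c = 1 := sub_eq_zero.1 h
    rw [div_eq_one_iff_eq hc0] at h1
    exact hc h1

end field

variable {K : Type*} [Field K] [Fintype K] {G : Type*} [Group G] {m : ℕ} {R : ReeOutData K G m}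
  {Γ : Type*} [Group Γ] {σ : Γ →* G}

theorem h_comm (R : ReeOutData K G m) (s s' : Kˣ) : R.h s * R.h s' = R.h s' * R.h s := by
  rw [← map_mul, ← map_mul, mul_comm]

/-- the complement of the kernel over `U₂` -/
def Lifts.t3 (L : Lifts R σ) (s0 : Kˣ) (c : K) : Γ := ⁅L.v s0, L.w3 c⁆

/-- the complement of the kernel over `U₁ / U₂` -/
def Lifts.t2 (L : Lifts R σ) (s0 : Kˣ) (b : K) : Γ := ⁅L.v s0, L.w2 b⁆

/-- the complement of the kernel over `U₁` -/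
def Lifts.T (L : Lifts R σ) (s0 : Kˣ) (p : K × K) : Γ := L.t2 s0 p.1 * L.t3 s0 p.2

theorem Lifts.map_t3 (L : Lifts R σ) (s0 : Kˣ) (c : K) :
    σ (L.t3 s0 c) = R.u (0, 0, ((s0 : K) - 1) * c) := by
  unfold Lifts.t3
  rw [map_commutatorElement, L.hv, L.hw3, commutatorElement_def, h_conj_bc, u_bc_inv, u_bb]
  congr 1
  refine Prod.ext rfl (Prod.ext ?_ ?_)
  · show (s0 : K) ^ (3 ^ m * 3) / (s0 : K) * 0 + -0 = 0
    ring
  · show (s0 : K) * c + -c = ((s0 : K) - 1) * c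
    ring

theorem Lifts.map_t2 (L : Lifts R σ) (s0 : Kˣ) (b : K) :
    σ (L.t2 s0 b) = R.u (0, ((s0 : K) ^ (3 ^ m * 3) / (s0 : K) - 1) * b, 0) := by
  unfold Lifts.t2
  rw [map_commutatorElement, L.hv, L.hw2, commutatorElement_def, h_conj_bc, u_bc_inv, u_bb]
  congr 1
  refine Prod.ext rfl (Prod.ext ?_ ?_)
  · show (s0 : K) ^ (3 ^ m * 3) / (s0 : K) * b + -b = ((s0 : K) ^ (3 ^ m * 3) / (s0 : K) - 1) * b
    ring
  · show (s0 : K) * 0 + -0 = 0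
    ring

theorem Lifts.map_T (L : Lifts R σ) (s0 : Kˣ) (p : K × K) :
    σ (L.T s0 p) = R.u (0, ((s0 : K) ^ (3 ^ m * 3) / (s0 : K) - 1) * p.1, ((s0 : K) - 1) * p.2) := by
  unfold Lifts.T
  rw [map_mul, L.map_t2, L.map_t3, u_bb, add_zero, zero_add]

section main
variable (L : Lifts R σ) (hZ : σ.ker ≤ Subgroup.center Γ) (hm : 1 ≤ m) (s0 : Kˣ)

include hZ hm

theorem Lifts.t3_comm {x : Γ} {a b c : K} (hx : σ x = R.u (a, b, c)) (c' : K) :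
    x * L.t3 s0 c' = L.t3 s0 c' * x := L.comm_abc_c hZ hm hx (L.map_t3 s0 c')

theorem Lifts.t2_comm {x : Γ} {b c : K} (hx : σ x = R.u (0, b, c)) (b' : K) :
    x * L.t2 s0 b' = L.t2 s0 b' * x := L.comm_bc_bc hZ hm hx (L.map_t2 s0 b')

theorem Lifts.T_comm {x : Γ} {b c : K} (hx : σ x = R.u (0, b, c)) (p : K × K) :
    x * L.T s0 p = L.T s0 p * x := L.comm_bc_bc hZ hm hx (L.map_T s0 p)

theorem Lifts.t3_add (c c' : K) : L.t3 s0 (c + c') = L.t3 s0 c * L.t3 s0 c' := by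
  have h1 : ⁅L.v s0, L.w3 (c + c')⁆ = ⁅L.v s0, L.w3 c * L.w3 c'⁆ :=
    comm_congr σ hZ rfl (by rw [L.add_w3, mul_one])
  have h2 : L.w3 c * ⁅L.v s0, L.w3 c'⁆ = ⁅L.v s0, L.w3 c'⁆ * L.w3 c :=
    L.comm_cc hZ hm (L.hw3 c) (L.map_t3 s0 c')
  show ⁅L.v s0, L.w3 (c + c')⁆ = ⁅L.v s0, L.w3 c⁆ * ⁅L.v s0, L.w3 c'⁆
  rw [h1]
  exact rx_comm_mul_right_of_comm h2

theorem Lifts.t2_add (b b' : K) : L.t2 s0 (b + b') = L.t2 s0 b * L.t2 s0 b' := by
  have h1 : ⁅L.v s0, L.w2 (b + b')⁆ = ⁅L.v s0, L.w2 b * L.w2 b'⁆ :=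
    comm_congr σ hZ rfl (by rw [L.add_w2, mul_one])
  have h2 : L.w2 b * ⁅L.v s0, L.w2 b'⁆ = ⁅L.v s0, L.w2 b'⁆ * L.w2 b :=
    L.comm_bc_bc hZ hm (L.hw2 b) (L.map_t2 s0 b')
  show ⁅L.v s0, L.w2 (b + b')⁆ = ⁅L.v s0, L.w2 b⁆ * ⁅L.v s0, L.w2 b'⁆
  rw [h1]
  exact rx_comm_mul_right_of_comm h2

theorem Lifts.t3_zero : L.t3 s0 0 = 1 := by
  have := L.t3_add hZ hm s0 0 0
  rw [add_zero] at this
  exact mul_eq_left.1 this.symm

theorem Lifts.t2_zero : L.t2 s0 0 = 1 := by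
  have := L.t2_add hZ hm s0 0 0
  rw [add_zero] at this
  exact mul_eq_left.1 this.symm

theorem Lifts.t3_neg (c : K) : L.t3 s0 (-c) = (L.t3 s0 c)⁻¹ := by
  have := L.t3_add hZ hm s0 c (-c)
  rw [add_neg_cancel, L.t3_zero hZ hm] at this
  exact eq_inv_of_mul_eq_one_right this.symm

theorem Lifts.T_add (p p' : K × K) : L.T s0 (p + p') = L.T s0 p * L.T s0 p' := by
  unfold Lifts.T
  rw [Prod.fst_add, Prod.snd_add, L.t2_add hZ hm, L.t3_add hZ hm]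
  have h : L.t2 s0 p'.1 * L.t3 s0 p.2 = L.t3 s0 p.2 * L.t2 s0 p'.1 :=
    L.t3_comm hZ hm s0 (L.map_t2 s0 p'.1) p.2
  calc L.t2 s0 p.1 * L.t2 s0 p'.1 * (L.t3 s0 p.2 * L.t3 s0 p'.2)
      = L.t2 s0 p.1 * (L.t2 s0 p'.1 * L.t3 s0 p.2) * L.t3 s0 p'.2 := by simp only [mul_assoc]
    _ = L.t2 s0 p.1 * (L.t3 s0 p.2 * L.t2 s0 p'.1) * L.t3 s0 p'.2 := by rw [h]
    _ = _ := by simp only [mul_assoc]

theorem Lifts.T_zero : L.T s0 0 = 1 := by
  have := L.T_add hZ hm s0 0 0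
  rw [add_zero] at this
  exact mul_eq_left.1 this.symm

theorem Lifts.T_neg (p : K × K) : L.T s0 (-p) = (L.T s0 p)⁻¹ := by
  have := L.T_add hZ hm s0 p (-p)
  rw [add_neg_cancel, L.T_zero hZ hm] at this
  exact eq_inv_of_mul_eq_one_right this.symm

theorem Lifts.T_snd (c : K) : L.T s0 (0, c) = L.t3 s0 c := by
  unfold Lifts.T
  rw [L.t2_zero hZ hm, one_mul]

omit hm in
theorem Lifts.conj_t3 (s : Kˣ) (c : K) : L.v s * L.t3 s0 c * (L.v s)⁻¹ = L.t3 s0 ((s : K) * c) := by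
  unfold Lifts.t3
  rw [rx_conj_bracket]
  apply comm_congr σ hZ
  · rw [map_mul, map_mul, map_inv, L.hv, L.hv, h_comm, mul_inv_cancel_right]
  · exact L.conj_w3 s c

omit hm in
theorem Lifts.conj_t2 (s : Kˣ) (b : K) :
    L.v s * L.t2 s0 b * (L.v s)⁻¹ = L.t2 s0 ((s : K) ^ (3 ^ m * 3) / (s : K) * b) := by
  unfold Lifts.t2
  rw [rx_conj_bracket]
  apply comm_congr σ hZ
  · rw [map_mul, map_mul, map_inv, L.hv, L.hv, h_comm, mul_inv_cancel_right]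
  · exact L.conj_w2 s b

omit hm in
theorem Lifts.conj_T (s : Kˣ) (p : K × K) :
    L.v s * L.T s0 p * (L.v s)⁻¹ = L.T s0 ((s : K) ^ (3 ^ m * 3) / (s : K) * p.1, (s : K) * p.2) := by
  unfold Lifts.T
  rw [← L.conj_t2 hZ, ← L.conj_t3 hZ]
  group

end main

end Cfsg.Agent.Lib.Helper12.Rx
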