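import Cfsg.Agent.Lib.Helper12.RxU3

/-! # Rx hive (helper12, S2113): central extensions of the Sylow 3-subgroup of the small Ree group, part 3:
all commutators of lifts of elements of `U` lie in the complement `T(K × K)` -/

set_option autoImplicit false
set_option linter.unusedSectionVars false
set_option linter.unusedVariables false

namespace Cfsg.Agent.Lib.Helper12.Rx

open Cfsg.Agent.Lib.Helper12.ReeOut
open scoped commutatorElement IsMulCommutative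
open Cfsg.Agent.Lib.Helper6.SzMult

variable {K : Type*} [Field K] [Fintype K] {G : Type*} [Group G] {m : ℕ} {R : ReeOutData K G m}
  {Γ : Type*} [Group Γ] {σ : Γ →* G}

section main
variable (L : Lifts R σ) (hZ : σ.ker ≤ Subgroup.center Γ) (hm : 1 ≤ m) (s0 : Kˣ)
  (hs3 : (s0 : K) - 1 ≠ 0) (hs2 : (s0 : K) ^ (3 ^ m * 3) / (s0 : K) - 1 ≠ 0)

theorem Lifts.map_comm12 (a b : K) : σ ⁅L.w1 a, L.w2 b⁆ = R.u (0, 0, a * b) := by
  rw [map_commutatorElement, L.hw1, L.hw2, u_comm_ab]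

include hs3 in
theorem Lifts.t3_inj (p p' : K) (h : σ (L.t3 s0 p) = σ (L.t3 s0 p')) : p = p' := by
  rw [L.map_t3, L.map_t3] at h
  have h1 := R.u_inj h
  have h2 : ((s0 : K) - 1) * p = ((s0 : K) - 1) * p' := congrArg (fun t => t.2.2) h1
  exact mul_left_cancel₀ hs3 h2

include hs3 hs2 in
theorem Lifts.T_inj (p p' : K × K) (h : σ (L.T s0 p) = σ (L.T s0 p')) : p = p' := by
  rw [L.map_T, L.map_T] at h
  have h1 := R.u_inj h
  have h2 : ((s0 : K) ^ (3 ^ m * 3) / (s0 : K) - 1) * p.1 = ((s0 : K) ^ (3 ^ m * 3) / (s0 : K) - 1) * p'.1 :=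
    congrArg (fun t => t.2.1) h1
  have h3 : ((s0 : K) - 1) * p.2 = ((s0 : K) - 1) * p'.2 := congrArg (fun t => t.2.2) h1
  exact Prod.ext (mul_left_cancel₀ hs2 h2) (mul_left_cancel₀ hs3 h3)

include hs3 in
theorem Lifts.exists_t3 (c : K) : ∃ p, R.u (0, 0, c) = σ (L.t3 s0 p) := by
  refine ⟨c / ((s0 : K) - 1), ?_⟩
  rw [L.map_t3]
  have : ((s0 : K) - 1) * (c / ((s0 : K) - 1)) = c := by field_simp
  rw [this]

include hs3 hs2 in
theorem Lifts.exists_T (b c : K) : ∃ p, R.u (0, b, c) = σ (L.T s0 p) := by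
  refine ⟨(b / ((s0 : K) ^ (3 ^ m * 3) / (s0 : K) - 1), c / ((s0 : K) - 1)), ?_⟩
  rw [L.map_T]
  have h1 : ((s0 : K) - 1) * (c / ((s0 : K) - 1)) = c := by field_simp
  have h2 : ((s0 : K) ^ (3 ^ m * 3) / (s0 : K) - 1) * (b / ((s0 : K) ^ (3 ^ m * 3) / (s0 : K) - 1)) = b :=
    mul_div_cancel₀ b hs2
  show R.u (0, b, c) = R.u (0, _ * (b / _), _ * (c / _))
  rw [h1, h2]

include hZ hm hs3

/-- **D**: the commutators of the lifts of `u (a, 0, 0)` and `u (0, b, 0)` -/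
theorem Lifts.comm_w1_w2 (a b : K) : ∃ p, ⁅L.w1 a, L.w2 b⁆ = L.t3 s0 p := by
  refine lifts_comm_compl σ hZ (L.t3 s0) (L.t3_add hZ hm s0) (L.t3_inj s0 hs3) L.w1 L.w2
    (fun u => u * u ^ (3 ^ m * 3)) ?_ ?_ ?_ ?_ ?_ (exists_w12 hm R.hK) a b
  · intro a b
    rw [L.map_comm12]
    exact L.exists_t3 s0 hs3 _
  · intro a a' b
    refine ⟨0, ?_⟩
    obtain ⟨r, ⟨B, C, hr⟩, hadd⟩ := L.add_w1 a a'
    have h1 : ⁅L.w1 (a + a'), L.w2 b⁆ = ⁅L.w1 a * L.w1 a' * r, L.w2 b⁆ := comm_congr σ hZ hadd rfl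
    rw [h1, rx_comm_mul_comm_left (L.comm_bc_bc hZ hm hr (L.hw2 b)),
      rx_comm_mul_left_of_comm (L.comm_abc_c hZ hm (L.hw1 a) (L.map_comm12 a' b)), L.t3_zero hZ hm, mul_one]
    exact L.comm_cc hZ hm (L.map_comm12 a' b) (L.map_comm12 a b)
  · intro a b b'
    refine ⟨0, ?_⟩
    have h1 : ⁅L.w1 a, L.w2 (b + b')⁆ = ⁅L.w1 a, L.w2 b * L.w2 b'⁆ :=
      comm_congr σ hZ rfl (by rw [L.add_w2, mul_one])
    rw [h1, rx_comm_mul_right_of_comm (L.comm_abc_c hZ hm (L.hw2 b) (L.map_comm12 a b')), L.t3_zero hZ hm,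
      mul_one]
  · intro u hu
    exact mul_ne_zero hu (pow_ne_zero _ hu)
  · intro u hu
    have hu' : u ^ 2 * u ^ (3 ^ m * 3) ≠ 0 := mul_ne_zero (pow_ne_zero _ hu) (pow_ne_zero _ hu)
    refine ⟨L.v (Units.mk0 _ hu'), fun p => (u ^ 2 * u ^ (3 ^ m * 3)) * p, fun p => ?_, fun a => ?_, fun b => ?_⟩
    · rw [L.conj_t3 hZ, Units.val_mk0]
    · rw [L.conj_w1, Units.val_mk0, chi1_w R.hK u hu]
    · rw [L.conj_w2, Units.val_mk0, chi2_w R.hK u hu]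

/-- **D'**: the commutators of the lifts of an element of `U` and an element of `U₁` -/
theorem Lifts.comm_U_U1 {x y : Γ} {a b c b' c' : K} (hx : σ x = R.u (a, b, c)) (hy : σ y = R.u (0, b', c')) :
    ∃ p, ⁅x, y⁆ = L.t3 s0 p := by
  have hxe : σ x = σ (L.w1 a * (L.w2 b * L.w3 c)) := by rw [hx, L.w123]
  have hye : σ y = σ (L.w2 b' * L.w3 c') := by rw [hy, L.w23]
  have h2 : ⁅x, y⁆ = ⁅L.w1 a * (L.w2 b * L.w3 c), L.w2 b' * L.w3 c'⁆ := comm_congr σ hZ hxe hye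
  rw [h2, rx_comm_mul_comm_right (L.comm_abc_c hZ hm (L.w123 a b c) (L.hw3 c')).symm,
    rx_comm_mul_comm_left (L.comm_bc_bc hZ hm (L.w23 b c) (L.hw2 b'))]
  exact L.comm_w1_w2 hZ hm s0 hs3 a b'

end main

end Cfsg.Agent.Lib.Helper12.Rx
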