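import Cfsg.Agent.Lib.Helper12.RxU4

/-! # Rx hive (helper12, S2113): central extensions of the Sylow 3-subgroup of the small Ree group, part 4:
the commutator subgroup of the preimage of `U` meets the kernel trivially -/

set_option autoImplicit false
set_option linter.unusedSectionVars false
set_option linter.unusedVariables false

namespace Cfsg.Agent.Lib.Helper12.Rx

open Cfsg.Agent.Lib.Helper12.ReeOut
open scoped commutatorElement IsMulCommutative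
open Cfsg.Agent.Lib.Helper6.SzMult

variable {K : Type*} [Field K] [Fintype K] {G : Type*} [Group G] {m : ℕ} {R : ReeOutData K G m}
  {Γ : Type*} [Group Γ] {σ : Γ →* G}

section main
variable (L : Lifts R σ) (hZ : σ.ker ≤ Subgroup.center Γ) (hm : 1 ≤ m) (s0 : Kˣ)
  (hs3 : (s0 : K) - 1 ≠ 0) (hs2 : (s0 : K) ^ (3 ^ m * 3) / (s0 : K) - 1 ≠ 0)

theorem Lifts.map_comm11 (a a' : K) : ∃ B C : K, σ ⁅L.w1 a, L.w1 a'⁆ = R.u (0, B, C) := by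
  obtain ⟨B, C, h⟩ := u_comm_mem R (a, 0, 0) (a', 0, 0)
  exact ⟨B, C, by rw [map_commutatorElement, L.hw1, L.hw1, h]⟩

theorem Lifts.map_w1_mul (a a' : K) : ∃ p, σ (L.w1 a * L.w1 a') = R.u p :=
  ⟨_, by rw [map_mul, L.hw1, L.hw1, R.u_mul]⟩

include hZ hm hs3

/-- additivity in the first variable of the commutators of the lifts of the `u (a, 0, 0)`, modulo `T` -/
theorem Lifts.comm_w1_w1_add (a a' y : K) :
    ∃ p, ⁅L.w1 (a + a'), L.w1 y⁆ = ⁅L.w1 a, L.w1 y⁆ * ⁅L.w1 a', L.w1 y⁆ * L.T s0 p := by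
  obtain ⟨r, ⟨B, C, hr⟩, hadd⟩ := L.add_w1 a a'
  have h1 : ⁅L.w1 (a + a'), L.w1 y⁆ = ⁅L.w1 a * L.w1 a' * r, L.w1 y⁆ := comm_congr σ hZ hadd rfl
  obtain ⟨p1, hp1⟩ := L.comm_U_U1 hZ hm s0 hs3 (L.hw1 y) hr
  have hr' : ⁅r, L.w1 y⁆ = L.t3 s0 (-p1) := by rw [← rx_comm_inv, hp1, L.t3_neg hZ hm]
  obtain ⟨⟨α, β, γ⟩, hX⟩ := L.map_w1_mul a a'
  obtain ⟨B', C', hC'⟩ := L.map_comm11 a' y
  obtain ⟨B'', C'', hC''⟩ := L.map_comm11 a y
  obtain ⟨p2, hp2⟩ := L.comm_U_U1 hZ hm s0 hs3 (L.hw1 a) hC'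
  refine ⟨(0, -p1 + p2), ?_⟩
  rw [h1, rx_comm_mul_left, hr', L.t3_comm hZ hm s0 hX, mul_inv_cancel_right, rx_comm_mul_left (L.w1 a),
    rx_conj_eq, hp2, L.T_snd hZ hm, L.t3_add hZ hm]
  exact rx_rearr4 (L.t3_comm hZ hm s0 hC' _).symm (L.t3_comm hZ hm s0 hC'' _).symm
    (L.t3_comm hZ hm s0 hC' _).symm (L.t3_comm hZ hm s0 hC'' _).symm
    (L.comm_bc_bc hZ hm hC' hC'')

include hs2

/-- **E**: the commutators of the lifts of the `u (a, 0, 0)` -/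
theorem Lifts.comm_w1_w1 (a a' : K) : ∃ p, ⁅L.w1 a, L.w1 a'⁆ = L.T s0 p := by
  refine lifts_comm_compl σ hZ (L.T s0) (L.T_add hZ hm s0) (L.T_inj s0 hs3 hs2) L.w1 L.w1 id
    ?_ (L.comm_w1_w1_add hZ hm s0 hs3) ?_ (fun u hu => hu) ?_ (exists_wid R hm) a a'
  · intro a a'
    obtain ⟨B, C, h⟩ := L.map_comm11 a a'
    rw [h]
    exact L.exists_T s0 hs3 hs2 B C
  · intro x y y'
    obtain ⟨p, hp⟩ := L.comm_w1_w1_add hZ hm s0 hs3 y y' x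
    obtain ⟨B, C, hC⟩ := L.map_comm11 x y
    obtain ⟨B', C', hC'⟩ := L.map_comm11 x y'
    refine ⟨-p, ?_⟩
    rw [← rx_comm_inv, hp, mul_inv_rev, mul_inv_rev, rx_comm_inv, rx_comm_inv, ← L.T_neg hZ hm, ← mul_assoc]
    exact rx_rearr3 (L.T_comm hZ hm s0 hC' _).symm (L.T_comm hZ hm s0 hC _).symm
      (L.comm_bc_bc hZ hm hC' hC)
  · intro u hu
    have hu' : u ^ 2 * u ^ (3 ^ m * 3) ≠ 0 := mul_ne_zero (pow_ne_zero _ hu) (pow_ne_zero _ hu)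
    refine ⟨L.v (Units.mk0 _ hu'), fun p => (u * u ^ (3 ^ m * 3) * p.1, (u ^ 2 * u ^ (3 ^ m * 3)) * p.2),
      fun p => ?_, fun a => ?_, fun b => ?_⟩
    · rw [L.conj_T hZ, Units.val_mk0, chi2_w R.hK u hu]
    · rw [L.conj_w1, Units.val_mk0, chi1_w R.hK u hu]
    · rw [L.conj_w1, Units.val_mk0, chi1_w R.hK u hu]
      rfl

/-- **F**: the commutators of the lifts of two elements of `U` -/
theorem Lifts.comm_U_U {x y : Γ} {a b c a' b' c' : K} (hx : σ x = R.u (a, b, c)) (hy : σ y = R.u (a', b', c')) :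
    ∃ p, ⁅x, y⁆ = L.T s0 p := by
  have hxe : σ x = σ (L.w1 a * (L.w2 b * L.w3 c)) := by rw [hx, L.w123]
  have hye : σ y = σ (L.w1 a' * (L.w2 b' * L.w3 c')) := by rw [hy, L.w123]
  have h2 : ⁅x, y⁆ = ⁅L.w1 a * (L.w2 b * L.w3 c), L.w1 a' * (L.w2 b' * L.w3 c')⁆ := comm_congr σ hZ hxe hye
  obtain ⟨p1, hp1⟩ := L.comm_U_U1 hZ hm s0 hs3 (L.w123 a' b' c') (L.w23 b c)
  have hp1' : ⁅L.w2 b * L.w3 c, L.w1 a' * (L.w2 b' * L.w3 c')⁆ = L.t3 s0 (-p1) := by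
    rw [← rx_comm_inv, hp1, L.t3_neg hZ hm]
  obtain ⟨p2, hp2⟩ := L.comm_U_U1 hZ hm s0 hs3 (L.hw1 a) (L.w23 b' c')
  obtain ⟨p3, hp3⟩ := L.comm_w1_w1 hZ hm s0 hs3 hs2 a a'
  refine ⟨(0, -p1) + (p3 + (0, p2)), ?_⟩
  rw [h2, rx_comm_mul_left, hp1', L.t3_comm hZ hm s0 (L.hw1 a), mul_inv_cancel_right, rx_comm_mul_right, hp2,
    L.t3_comm hZ hm s0 (L.hw1 a'), mul_inv_cancel_right, hp3, L.T_add hZ hm, L.T_add hZ hm, L.T_snd hZ hm,
    L.T_snd hZ hm]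

/-- **G**: the commutator subgroup of the preimage of `U` consists of values of `T` -/
theorem Lifts.commutator_comap (g : ↥(R.U.comap σ)) (hg : g ∈ commutator ↥(R.U.comap σ)) :
    ∃ p, (g : Γ) = L.T s0 p := by
  rw [commutator_eq_closure] at hg
  induction hg using Subgroup.closure_induction with
  | mem x hx =>
    obtain ⟨g₁, g₂, rfl⟩ := hx
    obtain ⟨⟨a, b, c⟩, h1⟩ := (R.mem_U _).1 (Subgroup.mem_comap.1 g₁.2)
    obtain ⟨⟨a', b', c'⟩, h2⟩ := (R.mem_U _).1 (Subgroup.mem_comap.1 g₂.2)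
    obtain ⟨p, hp⟩ := L.comm_U_U hZ hm s0 hs3 hs2 h1 h2
    exact ⟨p, by rw [← hp]; rfl⟩
  | one => exact ⟨0, by rw [L.T_zero hZ hm]; rfl⟩
  | mul x y _ _ hx hy =>
    obtain ⟨p, hp⟩ := hx
    obtain ⟨p', hp'⟩ := hy
    exact ⟨p + p', by rw [Subgroup.coe_mul, hp, hp', L.T_add hZ hm]⟩
  | inv x _ hx =>
    obtain ⟨p, hp⟩ := hx
    exact ⟨-p, by rw [Subgroup.coe_inv, hp, L.T_neg hZ hm]⟩

end main

/-- the prime 3: a central element of the commutator subgroup in the kernel is killed by the index of `U` -/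
theorem pow_index_U_eq_one (R : ReeOutData K G m) [Finite Γ] (σ : Γ →* G) (hσ : Function.Surjective σ)
    (hZ : σ.ker ≤ Subgroup.center Γ) (hm : 1 ≤ m) {z : Γ} (hz : z ∈ σ.ker) (hzc : z ∈ commutator Γ) :
    z ^ R.U.index = 1 := by
  obtain ⟨L⟩ := exists_lifts R σ hσ
  obtain ⟨s0, hs3, hs2⟩ := exists_s0 R.hK hm
  obtain ⟨g, hg, hgz⟩ := pow_index_mem_commutator (R.U.comap σ) (hZ hz) hzc
  obtain ⟨p, hp⟩ := L.commutator_comap hZ hm s0 hs3 hs2 g hg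
  have hidx : (R.U.comap σ).index = R.U.index := Subgroup.index_comap_of_surjective _ hσ
  rw [← hidx, ← hgz, hp]
  have h1 : σ (L.T s0 p) = σ (L.T s0 0) := by
    rw [← hp, hgz, map_pow, MonoidHom.mem_ker.1 hz, one_pow, L.T_zero hZ hm, map_one]
  rw [L.T_inj s0 hs3 hs2 p 0 h1, L.T_zero hZ hm]

end Cfsg.Agent.Lib.Helper12.Rx
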