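import Mathlib
import Cfsg.Agent.Lib.Helper12.MultTrans
import Cfsg.Agent.S0035
import Cfsg.Agent.S5914

set_option autoImplicit false
set_option linter.unusedSectionVars false

namespace Cfsg.Agent.Lib.Helper12.TwoTransSocle

open MulAction
open scoped Pointwise

section Regular

variable {G : Type*} [Group G] [Finite G] {X : Type*} [MulAction G X] [FaithfulSMul G X]

/-- a characteristic subgroup of a minimal normal subgroup is trivial or everything -/
theorem char_of_minimal (N : Subgroup G) [N.Normal]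
    (hmin : ∀ M : Subgroup G, M.Normal → M ≤ N → M = ⊥ ∨ M = N)
    (K : Subgroup N) [K.Characteristic] : K = ⊥ ∨ K = ⊤ := by
  have hnorm : (K.map N.subtype).Normal := ConjAct.normal_of_characteristic_of_normal
  have hle : K.map N.subtype ≤ N := by
    rintro _ ⟨k, _, rfl⟩
    exact k.2
  rcases hmin _ hnorm hle with h | h
  · left
    rw [eq_bot_iff]
    intro k hk
    have : (N.subtype k) ∈ K.map N.subtype := ⟨k, hk, rfl⟩
    rw [h, Subgroup.mem_bot] at this
    rw [Subgroup.mem_bot]
    exact Subtype.ext this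
  · right
    rw [eq_top_iff]
    intro k _
    have : (k : G) ∈ K.map N.subtype := by rw [h]; exact k.2
    obtain ⟨k', hk', hkk⟩ := this
    have : k' = k := Subtype.ext hkk
    rwa [← this]

/-- the regular case of Burnside's theorem -/
theorem regular_case (h2 : IsMultiplyPretransitive G X 2) (N : Subgroup G) [N.Normal] (hN : N ≠ ⊥)
    (hmin : ∀ M : Subgroup G, M.Normal → M ≤ N → M = ⊥ ∨ M = N)
    (hreg : ∀ x : X, stabilizer N x = ⊥) :
    IsMulCommutative N ∧ ∃ p : ℕ, p.Prime ∧ ∀ n ∈ N, n ^ p = 1 := by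
  have h2' : ∀ a b c d : X, a ≠ b → c ≠ d → ∃ g : G, g • a = c ∧ g • b = d :=
    fun a b c d h h' => is_two_pretransitive_iff.1 h2 h h'
  -- a nonidentity element
  have hex : ∃ n₀ : N, n₀ ≠ 1 := by
    by_contra hcon
    simp only [not_exists, not_not] at hcon
    apply hN
    rw [eq_bot_iff]
    intro n hn
    rw [Subgroup.mem_bot]
    exact congrArg Subtype.val (hcon ⟨n, hn⟩)
  obtain ⟨n₀, hn₀⟩ := hex
  -- a base point
  have hX : Nonempty X := by
    by_contra hcon
    rw [not_nonempty_iff] at hcon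
    apply hn₀
    apply Subtype.ext
    apply FaithfulSMul.eq_of_smul_eq_smul (α := X)
    intro x
    exact (hcon.false x).elim
  obtain ⟨x0⟩ := hX
  -- nonidentity elements move the base point
  have hmove : ∀ n : N, n ≠ 1 → (n : G) • x0 ≠ x0 := by
    intro n hn h
    apply hn
    have : n ∈ stabilizer N x0 := h
    rw [hreg x0, Subgroup.mem_bot] at this
    exact this
  -- all nonidentity elements are conjugate
  have hconj : ∀ n m : N, n ≠ 1 → m ≠ 1 → ∃ g : G, (m : G) = g * n * g⁻¹ := by
    intro n m hn hm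
    obtain ⟨g, hg0, hg⟩ := h2' x0 ((n : G) • x0) x0 ((m : G) • x0)
      (hmove n hn).symm (hmove m hm).symm
    refine ⟨g, ?_⟩
    have hg0' : g⁻¹ • x0 = x0 := by rw [inv_smul_eq_iff, hg0]
    have hmem : g * n * g⁻¹ ∈ N := ‹N.Normal›.conj_mem n n.2 g
    have h1 : (g * n * g⁻¹) • x0 = (m : G) • x0 := by
      rw [mul_smul, mul_smul, hg0', hg]
    have h2 : (⟨g * n * g⁻¹, hmem⟩ : N)⁻¹ * m ∈ stabilizer N x0 := by
      rw [mem_stabilizer_iff]
      show ((g * n * g⁻¹)⁻¹ * (m : G)) • x0 = x0
      rw [mul_smul, ← h1, inv_smul_smul]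
    rw [hreg x0, Subgroup.mem_bot, inv_mul_eq_one] at h2
    exact (congrArg Subtype.val h2).symm
  have hord : ∀ n m : N, n ≠ 1 → m ≠ 1 → orderOf n = orderOf m := by
    intro n m hn hm
    obtain ⟨g, hg⟩ := hconj n m hn hm
    rw [← Subgroup.orderOf_coe n, ← Subgroup.orderOf_coe m, hg]
    apply SemiconjBy.orderOf_eq g
    show g * (n : G) = g * n * g⁻¹ * g
    group
  -- a prime
  have ho : orderOf n₀ ≠ 1 := by
    intro h
    exact hn₀ (orderOf_eq_one_iff.1 h)
  have ho0 : 0 < orderOf n₀ := orderOf_pos n₀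
  let p := (orderOf n₀).minFac
  have hp : p.Prime := Nat.minFac_prime ho
  have hpd : p ∣ orderOf n₀ := Nat.minFac_dvd _
  let m₀ : N := n₀ ^ (orderOf n₀ / p)
  have hm₀ : orderOf m₀ = p := orderOf_pow_orderOf_div ho0.ne' hpd
  have hm₀1 : m₀ ≠ 1 := by
    intro h
    rw [h, orderOf_one] at hm₀
    exact hp.one_lt.ne hm₀
  have hpow : ∀ n : N, n ^ p = 1 := by
    intro n
    by_cases hn : n = 1
    · rw [hn, one_pow]
    · rw [← hm₀, ← hord n m₀ hn hm₀1]
      exact pow_orderOf_eq_one n
  refine ⟨?_, p, hp, fun n hn => ?_⟩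
  · -- commutativity via the center
    have hfact : Fact p.Prime := ⟨hp⟩
    have hpg : IsPGroup p N := fun n => ⟨1, by rw [pow_one]; exact hpow n⟩
    have hnt : Nontrivial N := ⟨⟨n₀, 1, hn₀⟩⟩
    have hcen : Nontrivial (Subgroup.center N) := hpg.center_nontrivial
    rcases char_of_minimal N hmin (Subgroup.center N) with h | h
    · exfalso
      rw [Subgroup.nontrivial_iff_ne_bot] at hcen
      exact hcen h
    · refine ⟨⟨fun a b => ?_⟩⟩
      have : b ∈ Subgroup.center N := by rw [h]; trivial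
      exact (Subgroup.mem_center_iff.1 this a)
  · have := hpow ⟨n, hn⟩
    exact congrArg Subtype.val this

end Regular

section Prim

variable {G : Type*} [Group G] [Finite G] {X : Type*} [MulAction G X] [FaithfulSMul G X] [Finite X]

/-- a translate of a block of a normal subgroup by any group element is a block -/
theorem isBlock_smul_of_normal (N : Subgroup G) [N.Normal] {B : Set X} (hB : IsBlock N B) (g : G) :
    IsBlock N (g • B) := by
  rw [isBlock_iff_smul_eq_of_mem]
  intro n x hx hnx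
  obtain ⟨b, hb, rfl⟩ := hx
  obtain ⟨b', hb', hbb'⟩ := hnx
  have hmem : g⁻¹ * (n : G) * g ∈ N := by
    have := ‹N.Normal›.conj_mem n n.2 g⁻¹
    simpa using this
  have h1 : (⟨g⁻¹ * (n : G) * g, hmem⟩ : N) • b ∈ B := by
    show (g⁻¹ * (n : G) * g) • b ∈ B
    have h2 : (g⁻¹ * (n : G) * g) • b = b' := by
      rw [mul_smul, mul_smul, inv_smul_eq_iff]
      exact hbb'.symm
    rw [h2]; exact hb'
  have h3 := hB.smul_eq_of_mem hb h1
  have h4 : (g⁻¹ * (n : G) * g) • B = B := h3
  show (n : G) • g • B = g • B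
  calc (n : G) • g • B = g • ((g⁻¹ * (n : G) * g) • B) := by
        rw [smul_smul, smul_smul]; congr 1; group
    _ = g • B := by rw [h4]

/-- Burnside: a non-regular minimal normal subgroup of a doubly transitive group is primitive -/
theorem primitive_of_nonregular (h2 : IsMultiplyPretransitive G X 2) (N : Subgroup G) [N.Normal]
    (hN : N ≠ ⊥) (hmin : ∀ M : Subgroup G, M.Normal → M ≤ N → M = ⊥ ∨ M = N) (a : X)
    (hna : stabilizer N a ≠ ⊥) : IsPreprimitive N X := by
  classical
  have h2' : ∀ a b c d : X, a ≠ b → c ≠ d → ∃ g : G, g • a = c ∧ g • b = d :=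
    fun a b c d h h' => is_two_pretransitive_iff.1 h2 h h'
  have hprim : IsPreprimitive G X := isPreprimitive_of_is_two_pretransitive h2
  have htr : IsPretransitive N X := Cfsg.Agent.Lib.Helper12.MultTrans.normal_trans N hN
  by_contra hnp
  have hexB : ∃ B : Set X, IsBlock N B ∧ ¬ IsTrivialBlock B := by
    by_contra hcon
    simp only [not_exists, not_and, not_not] at hcon
    exact hnp { toIsPretransitive := htr, isTrivialBlock_of_isBlock := fun {B} hB => hcon B hB }
  obtain ⟨B₁, hB₁, hB₁t⟩ := hexB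
  have hB₁2 : 2 ≤ B₁.ncard := by
    by_contra hcon
    apply hB₁t
    left
    rw [← Set.ncard_le_one_iff_subsingleton]
    omega
  have hB₁u : B₁.ncard < Nat.card X := Set.ncard_lt_card (fun h => hB₁t (Or.inr h))
  -- the minimal block size
  have hS : ∃ m : ℕ, 2 ≤ m ∧ ∃ B : Set X, IsBlock N B ∧ B.ncard = m := ⟨_, hB₁2, B₁, hB₁, rfl⟩
  obtain ⟨hb2, B₀, hB₀, hB₀c⟩ := Nat.find_spec hS
  have hbmin : ∀ B : Set X, IsBlock N B → 2 ≤ B.ncard → Nat.find hS ≤ B.ncard :=
    fun B hB h => Nat.find_min' hS ⟨h, B, hB, rfl⟩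
  set b := Nat.find hS with hbdef
  have hbX : b < Nat.card X := lt_of_le_of_lt (hbmin B₁ hB₁ hB₁2) hB₁u
  -- lines
  have L1 : ∀ B B' : Set X, IsBlock N B → B.ncard = b → IsBlock N B' → B'.ncard = b →
      ∀ x y : X, x ≠ y → x ∈ B → y ∈ B → x ∈ B' → y ∈ B' → B = B' := by
    intro B B' hB hBc hB' hB'c x y hxy hxB hyB hxB' hyB'
    have hI : IsBlock N (B ∩ B') := hB.inter hB'
    have hI2 : 2 ≤ (B ∩ B').ncard := by
      have : 1 < (B ∩ B').ncard := (Set.one_lt_ncard_iff).2 ⟨x, y, ⟨hxB, hxB'⟩, ⟨hyB, hyB'⟩, hxy⟩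
      omega
    have hIb := hbmin _ hI hI2
    have e1 : B ∩ B' = B :=
      Set.eq_of_subset_of_ncard_le Set.inter_subset_left (by rw [hBc]; exact hIb)
    have e2 : B ∩ B' = B' :=
      Set.eq_of_subset_of_ncard_le Set.inter_subset_right (by rw [hB'c]; exact hIb)
    rw [← e1]
    exact e2
  obtain ⟨a₀, c₀, ha₀, hc₀, hac₀⟩ : ∃ a₀ c₀, a₀ ∈ B₀ ∧ c₀ ∈ B₀ ∧ a₀ ≠ c₀ := by
    apply (Set.one_lt_ncard_iff).1
    omega
  have L2 : ∀ x y : X, x ≠ y → ∃ B : Set X, IsBlock N B ∧ B.ncard = b ∧ x ∈ B ∧ y ∈ B := by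
    intro x y hxy
    obtain ⟨g, hgx, hgy⟩ := h2' a₀ c₀ x y hac₀ hxy
    refine ⟨g • B₀, isBlock_smul_of_normal N hB₀ g, ?_, ?_, ?_⟩
    · rw [Set.ncard_smul_set, hB₀c]
    · rw [← hgx]; exact Set.smul_mem_smul_set ha₀
    · rw [← hgy]; exact Set.smul_mem_smul_set hc₀
  have L3 : ∀ B : Set X, IsBlock N B → ∀ x ∈ B, ∀ h ∈ N, h • x = x → ∀ y ∈ B, h • y ∈ B := by
    intro B hB x hx h hh hhx y hy
    have h1 : (⟨h, hh⟩ : N) • x ∈ B := by
      show h • x ∈ B
      rw [hhx]; exact hx
    have h2 : (⟨h, hh⟩ : N) • B = B := hB.smul_eq_of_mem hx h1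
    have h3 : h • B = B := h2
    rw [← h3]
    exact Set.smul_mem_smul_set hy
  have Lfix : ∀ h ∈ N, ∀ x y : X, x ≠ y → h • x = x → h • y = y → ∀ B : Set X, IsBlock N B →
      B.ncard = b → x ∈ B → y ∈ B → ∀ d : X, d ∉ B → h • d = d := by
    intro h hh x y hxy hhx hhy B hB hBc hxB hyB d hd
    have hxd : x ≠ d := fun e => hd (e ▸ hxB)
    have hyd : y ≠ d := fun e => hd (e ▸ hyB)
    obtain ⟨L₁, hL₁, hL₁c, hxL₁, hdL₁⟩ := L2 x d hxd
    obtain ⟨L₂, hL₂, hL₂c, hyL₂, hdL₂⟩ := L2 y d hyd
    by_contra hne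
    have h1 : h • d ∈ L₁ := L3 L₁ hL₁ x hxL₁ h hh hhx d hdL₁
    have h2 : h • d ∈ L₂ := L3 L₂ hL₂ y hyL₂ h hh hhy d hdL₂
    have e12 : L₁ = L₂ := L1 L₁ L₂ hL₁ hL₁c hL₂ hL₂c (h • d) d hne h1 hdL₁ h2 hdL₂
    have hyL₁ : y ∈ L₁ := e12 ▸ hyL₂
    have e1B : L₁ = B := L1 L₁ B hL₁ hL₁c hB hBc x y hxy hxL₁ hyL₁ hxB hyB
    exact hd (e1B ▸ hdL₁)
  have L4 : ∀ h ∈ N, ∀ x y : X, x ≠ y → h • x = x → h • y = y → h = 1 := by
    intro h hh x y hxy hhx hhy
    apply FaithfulSMul.eq_of_smul_eq_smul (α := X)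
    intro z
    rw [one_smul]
    obtain ⟨B, hB, hBc, hxB, hyB⟩ := L2 x y hxy
    by_cases hz : z ∈ B
    · by_cases hzx : z = x
      · rw [hzx]; exact hhx
      · have hBu : B ≠ Set.univ := by
          intro h'
          rw [h', Set.ncard_univ] at hBc
          omega
        obtain ⟨d, hd⟩ : ∃ d, d ∉ B := by
          by_contra hcon
          simp only [not_exists, not_not] at hcon
          exact hBu (Set.eq_univ_of_forall hcon)
        have hhd : h • d = d := Lfix h hh x y hxy hhx hhy B hB hBc hxB hyB d hd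
        have hxd : x ≠ d := fun e => hd (e ▸ hxB)
        obtain ⟨B', hB', hB'c, hxB', hdB'⟩ := L2 x d hxd
        have hzB' : z ∉ B' := by
          intro hzB'
          have e := L1 B B' hB hBc hB' hB'c x z (Ne.symm hzx) hxB hz hxB' hzB'
          exact hd (e ▸ hdB')
        exact Lfix h hh x d hxd hhx hhd B' hB' hB'c hxB' hdB' z hzB'
    · exact Lfix h hh x y hxy hhx hhy B hB hBc hxB hyB z hz
  -- the Frobenius structure
  have hcardX : 2 < Nat.card X := by omega
  let H : Subgroup N := stabilizer N a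
  have hHtop : H ≠ ⊤ := by
    intro htop
    have hXnt : ∃ x : X, x ≠ a := by
      by_contra hcon
      simp only [not_exists, not_not] at hcon
      have : Nat.card X ≤ 1 := by
        rw [Finite.card_le_one_iff_subsingleton]
        exact ⟨fun u v => (hcon u).trans (hcon v).symm⟩
      omega
    obtain ⟨x, hx⟩ := hXnt
    obtain ⟨n, hn⟩ := exists_smul_eq N a x
    have : n ∈ H := by rw [htop]; trivial
    exact hx (hn.symm.trans this)
  have hFrob : Cfsg.IsFrobeniusComplement H := by
    refine ⟨hna, hHtop, ?_⟩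
    intro g hg
    rw [eq_bot_iff]
    rintro x ⟨hx1, hx2⟩
    rw [Subgroup.mem_bot]
    have hx1' : (x : G) • a = a := hx1
    have hx2a : x ∈ MulAut.conj g • H := hx2
    rw [Subgroup.mem_pointwise_smul_iff_inv_smul_mem] at hx2a
    have hx2' : (g⁻¹ * x * g : N) ∈ H := by
      simpa [MulAut.smul_def, MulAut.conj_inv_apply] using hx2a
    have hx2'' : ((g : G)⁻¹ * (x : G) * (g : G)) • a = a := hx2'
    have hga : (g : G) • a ≠ a := fun h => hg h
    have hfix : (x : G) • ((g : G) • a) = (g : G) • a := by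
      have := congrArg (fun y => (g : G) • y) hx2''
      simp only [mul_smul, smul_inv_smul] at this
      exact this
    exact Subtype.ext (L4 (x : G) x.2 a ((g : G) • a) (Ne.symm hga) hx1' hfix)
  obtain ⟨K, hK, _, hKcompl⟩ := Cfsg.Agent.S0035.result H hFrob
  -- characterization of the kernel
  have hKmem : ∀ k : N, k ∈ K ↔ (k = 1 ∨ ∀ x : X, (k : G) • x ≠ x) := by
    intro k
    have h1 : k ∈ K ↔ k ∈ Cfsg.frobeniusKernel H := by rw [← hK]; rfl
    rw [h1]
    show (k = 1 ∨ ∀ g : N, k ∉ MulAut.conj g • H) ↔ _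
    apply or_congr Iff.rfl
    constructor
    · intro hk x hkx
      obtain ⟨n, hn⟩ := exists_smul_eq N a x
      apply hk n
      rw [Subgroup.mem_pointwise_smul_iff_inv_smul_mem]
      have : (n⁻¹ * k * n : N) ∈ H := by
        show ((n : G)⁻¹ * (k : G) * (n : G)) • a = a
        have hn' : (n : G) • a = x := hn
        rw [mul_smul, mul_smul, hn', hkx, ← hn', inv_smul_smul]
      simpa [MulAut.smul_def, MulAut.conj_inv_apply] using this
    · intro hk n hmem
      rw [Subgroup.mem_pointwise_smul_iff_inv_smul_mem] at hmem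
      have hmem' : (n⁻¹ * k * n : N) ∈ H := by
        simpa [MulAut.smul_def, MulAut.conj_inv_apply] using hmem
      have h3 : ((n : G)⁻¹ * (k : G) * (n : G)) • a = a := hmem'
      apply hk ((n : G) • a)
      have := congrArg (fun y => (n : G) • y) h3
      simp only [mul_smul, smul_inv_smul] at this
      exact this
  -- the kernel is normal in `G`
  have hK'norm : (K.map N.subtype).Normal := by
    refine ⟨?_⟩
    rintro _ ⟨k, hk, rfl⟩ g
    have hmem : g * (k : G) * g⁻¹ ∈ N := ‹N.Normal›.conj_mem k k.2 g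
    refine ⟨⟨g * (k : G) * g⁻¹, hmem⟩, ?_, rfl⟩
    rw [SetLike.mem_coe, hKmem] at hk ⊢
    rcases hk with hk | hk
    · left
      apply Subtype.ext
      show g * (k : G) * g⁻¹ = 1
      rw [hk]; simp
    · right
      intro x hx
      apply hk (g⁻¹ • x)
      have hx' : (g * (k : G) * g⁻¹) • x = x := hx
      rw [mul_smul, mul_smul] at hx'
      rw [eq_inv_smul_iff]
      exact hx'
  have hK'le : K.map N.subtype ≤ N := by
    rintro _ ⟨k, _, rfl⟩
    exact k.2
  rcases hmin _ hK'norm hK'le with h | h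
  · have hKbot : K = ⊥ := by
      rw [eq_bot_iff]
      intro k hk
      have : (N.subtype k) ∈ K.map N.subtype := ⟨k, hk, rfl⟩
      rw [h, Subgroup.mem_bot] at this
      rw [Subgroup.mem_bot]
      exact Subtype.ext this
    rw [hKbot, Subgroup.isComplement'_bot_left] at hKcompl
    exact hHtop hKcompl
  · have hKtop : K = ⊤ := by
      rw [eq_top_iff]
      intro k _
      have : (k : G) ∈ K.map N.subtype := by rw [h]; exact k.2
      obtain ⟨k', hk', hkk⟩ := this
      have : k' = k := Subtype.ext hkk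
      rwa [← this]
    rw [hKtop, Subgroup.isComplement'_top_left] at hKcompl
    exact hna hKcompl

end Prim

section Simple

variable {G : Type*} [Group G] [Finite G] {X : Type*} [MulAction G X] [FaithfulSMul G X] [Finite X]

theorem faithful_subgroup (N : Subgroup G) : FaithfulSMul N X := ⟨by
  intro n n' h
  apply Subtype.ext
  apply FaithfulSMul.eq_of_smul_eq_smul (α := X)
  intro x
  exact h x⟩

/-- if the stabilizer `N_a` has order dividing a power of the degree, it is trivial -/
theorem stab_trivial_of_card (h2 : IsMultiplyPretransitive G X 2) (N : Subgroup G) [N.Normal]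
    (a : X) (k : ℕ) (hcard : Nat.card N ∣ Nat.card X ^ k) : stabilizer N a = ⊥ := by
  have htrG : IsPretransitive G X := isPretransitive_of_is_two_pretransitive
  have h1 : IsPretransitive (stabilizer G a) (SubMulAction.ofStabilizer G a) := by
    rw [← is_one_pretransitive_iff]
    exact (SubMulAction.ofStabilizer.isMultiplyPretransitive (G := G) (α := X) (n := 1) (a := a)).1 h2
  let Na : Subgroup (stabilizer G a) := N.subgroupOf (stabilizer G a)
  have hNa_norm : Na.Normal := Subgroup.Normal.subgroupOf ‹N.Normal› _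
  -- the cardinality of `Na` divides `|N|`
  have hNa_card : Nat.card Na ∣ Nat.card N := by
    let f : Na →* N :=
      { toFun := fun k => ⟨((k : stabilizer G a) : G), k.2⟩
        map_one' := rfl
        map_mul' := fun _ _ => rfl }
    apply Subgroup.card_dvd_of_injective f
    intro k k' hkk'
    apply Subtype.ext
    apply Subtype.ext
    exact congrArg (fun z : N => (z : G)) hkk'
  -- every orbit of `Na` away from `a` is a singleton
  have horb : ∀ y : SubMulAction.ofStabilizer G a, ∀ kk : Na, kk • y = y := by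
    intro y kk
    have hblock : IsBlock (stabilizer G a) (orbit Na y) := IsBlock.orbit_of_normal y
    have hd1 : (orbit Na y).ncard ∣ Nat.card (SubMulAction.ofStabilizer G a) :=
      hblock.ncard_dvd_card ⟨y, mem_orbit_self y⟩
    rw [SubMulAction.nat_card_ofStabilizer_eq] at hd1
    have hd2 : (orbit Na y).ncard ∣ Nat.card Na := by
      rw [← index_stabilizer]
      exact Subgroup.index_dvd_card _
    have hd3 : (orbit Na y).ncard ∣ Nat.card X ^ k := (hd2.trans hNa_card).trans hcard
    have hXpos : 0 < Nat.card X := Nat.card_pos_iff.2 ⟨⟨a⟩, inferInstance⟩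
    have hcop : Nat.Coprime (Nat.card X ^ k) (Nat.card X - 1) := by
      apply Nat.Coprime.pow_left
      have : Nat.card X = (Nat.card X - 1) + 1 := by omega
      nth_rewrite 1 [this]
      simp
    have hone : (orbit Na y).ncard = 1 := Nat.eq_one_of_dvd_coprimes hcop hd3 hd1
    rw [Set.ncard_eq_one] at hone
    obtain ⟨z, hz⟩ := hone
    have h1 : y ∈ orbit Na y := mem_orbit_self y
    have h2 : kk • y ∈ orbit Na y := mem_orbit y kk
    rw [hz, Set.mem_singleton_iff] at h1 h2
    exact h2.trans h1.symm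
  rw [eq_bot_iff]
  intro n hn
  rw [Subgroup.mem_bot]
  have hna : (n : G) • a = a := hn
  apply Subtype.ext
  apply FaithfulSMul.eq_of_smul_eq_smul (α := X)
  intro x
  show (n : G) • x = (1 : G) • x
  rw [one_smul]
  by_cases hx : x = a
  · rw [hx]; exact hna
  · let y : SubMulAction.ofStabilizer G a := ⟨x, hx⟩
    let kk : Na := ⟨⟨(n : G), hna⟩, n.2⟩
    have := horb y kk
    exact congrArg (fun z : SubMulAction.ofStabilizer G a => (z : X)) this

/-- Burnside: a non-regular minimal normal subgroup of a doubly transitive group is simple -/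
theorem simple_of_nonregular (h2 : IsMultiplyPretransitive G X 2) (N : Subgroup G) [N.Normal]
    (hN : N ≠ ⊥) (hmin : ∀ M : Subgroup G, M.Normal → M ≤ N → M = ⊥ ∨ M = N) (a : X)
    (hna : stabilizer N a ≠ ⊥) : IsSimpleGroup N := by
  classical
  have hprimN : IsPreprimitive N X := primitive_of_nonregular h2 N hN hmin a hna
  have hfaithN : FaithfulSMul N X := faithful_subgroup N
  have hntN : Nontrivial N := by
    rw [Subgroup.nontrivial_iff_ne_bot] 
    exact hN
  obtain ⟨S, hSg, hSs, k, hk1, ⟨e⟩⟩ := Cfsg.Agent.S5914.forward (G := N)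
    (fun H hH => @char_of_minimal G _ _ N _ hmin H hH)
  by_cases hk : k = 1
  · subst hk
    let e' : N ≃* S := e.trans (MulEquiv.funUnique (Fin 1) S)
    exact e'.isSimpleGroup
  exfalso
  have hk2 : 2 ≤ k := by omega
  have hSnt : Nontrivial S := inferInstance
  obtain ⟨s, hs⟩ := exists_ne (1 : S)
  let i0 : Fin k := ⟨0, by omega⟩
  let i1 : Fin k := ⟨1, by omega⟩
  have hi01 : i0 ≠ i1 := by
    intro h
    have := congrArg Fin.val h
    simp [i0, i1] at this
  -- the two commuting normal subgroups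
  let A : Subgroup N :=
    { carrier := {x | ∀ i, i ≠ i0 → e x i = 1}
      one_mem' := fun i _ => by simp
      mul_mem' := fun {x y} hx hy i hi => by
        rw [map_mul, Pi.mul_apply, hx i hi, hy i hi, one_mul]
      inv_mem' := fun {x} hx i hi => by
        rw [map_inv, Pi.inv_apply, hx i hi, inv_one] }
  let B : Subgroup N :=
    { carrier := {x | e x i0 = 1}
      one_mem' := by simp
      mul_mem' := fun {x y} hx hy => by
        show e (x * y) i0 = 1
        rw [map_mul, Pi.mul_apply, hx, hy, one_mul]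
      inv_mem' := fun {x} hx => by
        show e x⁻¹ i0 = 1
        rw [map_inv, Pi.inv_apply, hx, inv_one] }
  have hAn : A.Normal := ⟨fun x hx g i hi => by
    show e (g * x * g⁻¹) i = 1
    rw [map_mul, map_mul, map_inv, Pi.mul_apply, Pi.mul_apply, Pi.inv_apply, hx i hi, mul_one,
      mul_inv_cancel]⟩
  have hBn : B.Normal := ⟨fun x hx g => by
    show e (g * x * g⁻¹) i0 = 1
    have hx' : e x i0 = 1 := hx
    rw [map_mul, map_mul, map_inv, Pi.mul_apply, Pi.mul_apply, Pi.inv_apply, hx', mul_one,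
      mul_inv_cancel]⟩
  have hA0 : A ≠ ⊥ := by
    intro h
    have hmem : e.symm (Pi.mulSingle i0 s) ∈ A := by
      intro i hi
      rw [e.apply_symm_apply, Pi.mulSingle_eq_of_ne hi]
    rw [h, Subgroup.mem_bot] at hmem
    have h1 := congrArg e hmem
    rw [e.apply_symm_apply, map_one] at h1
    have h2 := congrFun h1 i0
    rw [Pi.mulSingle_eq_same, Pi.one_apply] at h2
    exact hs h2
  have hB0 : B ≠ ⊥ := by
    intro h
    have hmem : e.symm (Pi.mulSingle i1 s) ∈ B := by
      show e (e.symm (Pi.mulSingle i1 s)) i0 = 1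
      rw [e.apply_symm_apply, Pi.mulSingle_eq_of_ne hi01]
    rw [h, Subgroup.mem_bot] at hmem
    have h1 := congrArg e hmem
    rw [e.apply_symm_apply, map_one] at h1
    have h2 := congrFun h1 i1
    rw [Pi.mulSingle_eq_same, Pi.one_apply] at h2
    exact hs h2
  have hcomm : ∀ x ∈ A, ∀ y ∈ B, x * y = y * x := by
    intro x hx y hy
    apply e.injective
    rw [map_mul, map_mul]
    funext i
    rw [Pi.mul_apply, Pi.mul_apply]
    by_cases hi : i = i0
    · have hy' : e y i0 = 1 := hy
      rw [hi, hy', mul_one, one_mul]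
    · rw [hx i hi, mul_one, one_mul]
  have hAtr : IsPretransitive A X := Cfsg.Agent.Lib.Helper12.MultTrans.normal_trans (G := N) A hA0
  have hBtr : IsPretransitive B X := Cfsg.Agent.Lib.Helper12.MultTrans.normal_trans (G := N) B hB0
  -- `A` is semiregular
  have hAsemi : ∀ x ∈ A, ∀ u : X, x • u = u → x = 1 := by
    intro x hx u hxu
    apply FaithfulSMul.eq_of_smul_eq_smul (α := X)
    intro v
    rw [one_smul]
    obtain ⟨y, hy⟩ := exists_smul_eq B u v
    have hy' : (y : N) • u = v := hy
    rw [← hy', smul_smul, hcomm x hx y y.2, mul_smul, hxu]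
  -- hence `|X| = |A| = |S|`
  have hAcard : Nat.card A = Nat.card X := by
    have h1 := index_stabilizer_of_transitive A a
    have h2 : stabilizer A a = ⊥ := by
      rw [eq_bot_iff]
      intro x hx
      rw [Subgroup.mem_bot]
      apply Subtype.ext
      exact hAsemi x x.2 a hx
    rw [h2, Subgroup.index_bot] at h1
    exact h1
  have hAS : Nat.card A = Nat.card S := by
    apply Nat.card_congr
    refine ⟨fun x => e x i0, fun t => ⟨e.symm (Pi.mulSingle i0 t), ?_⟩, ?_, ?_⟩
    · intro i hi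
      rw [e.apply_symm_apply, Pi.mulSingle_eq_of_ne hi]
    · intro x
      apply Subtype.ext
      show e.symm (Pi.mulSingle i0 (e x i0)) = x
      rw [MulEquiv.symm_apply_eq]
      funext i
      by_cases hi : i = i0
      · rw [hi, Pi.mulSingle_eq_same]
      · rw [Pi.mulSingle_eq_of_ne hi, x.2 i hi]
    · intro t
      show e (e.symm (Pi.mulSingle i0 t)) i0 = t
      rw [e.apply_symm_apply, Pi.mulSingle_eq_same]
  have hNcard : Nat.card N = Nat.card X ^ k := by
    rw [Nat.card_congr e.toEquiv, Nat.card_fun, Nat.card_eq_fintype_card (α := Fin k),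
      Fintype.card_fin, ← hAcard, hAS]
  exact hna (stab_trivial_of_card h2 N a k (by rw [hNcard]))

end Simple

end Cfsg.Agent.Lib.Helper12.TwoTransSocle
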