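import Mathlib

set_option autoImplicit false

namespace Cfsg.Agent.Lib.Helper12.PermChar

/-- the integer analysis in Wielandt's theorem on rank 3 groups of degree `2m` -/
theorem wielandt_int (M K S t : ℤ) (hM : 2 ≤ M) (hK : 1 ≤ K) (hKl : K + 2 ≤ 2 * M)
    (hS : S = t - K - M * t)
    (h2 : K ^ 2 + (M - 1) * (K + M * t) ^ 2 + M * S ^ 2 = 2 * M * K) :
    K = 1 ∨ K + 2 = 2 * M ∨ (t = -1 ∧ M = 2 * S ^ 2 + 2 * S + 1 ∧ K = S * (2 * S + 1) ∧
      (1 ≤ S ∨ S ≤ -2)) := by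
  have key : M * (2 * S * (S + 1) + (M - 1) * t * (t + 2)) = 0 := by
    subst hS
    linear_combination h2
  have hM0 : M ≠ 0 := by omega
  have key2 : 2 * S * (S + 1) + (M - 1) * t * (t + 2) = 0 := by
    rcases mul_eq_zero.1 key with h | h
    · exact absurd h hM0
    · exact h
  have hSS : 0 ≤ S * (S + 1) := by
    rcases le_or_gt 0 S with h | h
    · positivity
    · have h1 : S + 1 ≤ 0 := by omega
      nlinarith
  have htt : t * (t + 2) ≤ 0 := by
    by_contra hcon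
    have h1 : 1 ≤ t * (t + 2) := by omega
    have h2 : 1 ≤ (M - 1) * (t * (t + 2)) := by nlinarith
    nlinarith
  have ht1 : -2 ≤ t := by
    by_contra hcon
    have : t ≤ -3 := by omega
    nlinarith
  have ht2 : t ≤ 0 := by
    by_contra hcon
    have : 1 ≤ t := by omega
    nlinarith
  have ht : t = 0 ∨ t = -1 ∨ t = -2 := by omega
  rcases ht with rfl | rfl | rfl
  · -- t = 0
    have h3 : S * (S + 1) = 0 := by nlinarith
    have hSK : S = -K := by rw [hS]; ring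
    rcases mul_eq_zero.1 h3 with h | h
    · omega
    · left; omega
  · -- t = -1
    right; right
    have hSK : K = M - 1 - S := by rw [hS]; ring
    have hMS : M = 2 * S ^ 2 + 2 * S + 1 := by nlinarith
    refine ⟨rfl, hMS, ?_, ?_⟩
    · rw [hSK, hMS]; ring
    · by_contra hcon
      have : S = 0 ∨ S = -1 := by omega
      rcases this with rfl | rfl <;> omega
  · -- t = -2
    have h3 : S * (S + 1) = 0 := by nlinarith
    have hSK : K = 2 * M - 2 - S := by rw [hS]; ring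
    rcases mul_eq_zero.1 h3 with h | h
    · right; left; omega
    · omega

theorem wielandt_dioph (m k : ℕ) (hm : 2 ≤ m) (hk : 1 ≤ k) (hkl : k + 2 ≤ 2 * m)
    (r s : ℂ) (t : ℤ) (hrs : r + s = (t : ℂ))
    (h1 : (k : ℂ) + ((m : ℂ) - 1) * r + (m : ℂ) * s = 0)
    (h2 : (k : ℂ) ^ 2 + ((m : ℂ) - 1) * r ^ 2 + (m : ℂ) * s ^ 2 = ((2 * m : ℕ) : ℂ) * (k : ℂ)) :
    k = 1 ∨ k + 2 = 2 * m ∨ ∃ a : ℕ, 0 < a ∧ m = 2 * a ^ 2 + 2 * a + 1 ∧
      (k = a * (2 * a + 1) ∨ k = (a + 1) * (2 * a + 1)) := by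
  have hr : r = (((k : ℤ) + (m : ℤ) * t : ℤ) : ℂ) := by
    push_cast
    linear_combination (-1 : ℂ) * h1 + (m : ℂ) * hrs
  have hs : s = ((t - (k : ℤ) - (m : ℤ) * t : ℤ) : ℂ) := by
    push_cast at hr ⊢
    linear_combination hrs - hr
  have h2z : (k : ℤ) ^ 2 + ((m : ℤ) - 1) * ((k : ℤ) + (m : ℤ) * t) ^ 2 +
      (m : ℤ) * (t - (k : ℤ) - (m : ℤ) * t) ^ 2 = 2 * (m : ℤ) * (k : ℤ) := by
    rw [hr, hs] at h2
    have : (((k : ℤ) ^ 2 + ((m : ℤ) - 1) * ((k : ℤ) + (m : ℤ) * t) ^ 2 +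
      (m : ℤ) * (t - (k : ℤ) - (m : ℤ) * t) ^ 2 : ℤ) : ℂ) = ((2 * (m : ℤ) * (k : ℤ) : ℤ) : ℂ) := by
      push_cast
      push_cast at h2
      exact h2
    exact_mod_cast this
  have hres := wielandt_int (m : ℤ) (k : ℤ) (t - (k : ℤ) - (m : ℤ) * t) t (by exact_mod_cast hm)
    (by exact_mod_cast hk) (by exact_mod_cast hkl) rfl h2z
  rcases hres with h | h | ⟨_, hMS, hKS, hS⟩
  · left; exact_mod_cast h
  · right; left; exact_mod_cast h
  · right; right
    set S := t - (k : ℤ) - (m : ℤ) * t with hSdef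
    rcases hS with hS | hS
    · refine ⟨S.toNat, by omega, ?_, Or.inl ?_⟩
      · have hSn : ((S.toNat : ℕ) : ℤ) = S := Int.toNat_of_nonneg (by omega)
        have : ((m : ℕ) : ℤ) = ((2 * S.toNat ^ 2 + 2 * S.toNat + 1 : ℕ) : ℤ) := by
          push_cast
          rw [hSn]
          exact hMS
        exact_mod_cast this
      · have hSn : ((S.toNat : ℕ) : ℤ) = S := Int.toNat_of_nonneg (by omega)
        have : ((k : ℕ) : ℤ) = ((S.toNat * (2 * S.toNat + 1) : ℕ) : ℤ) := by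
          push_cast
          rw [hSn]
          exact hKS
        exact_mod_cast this
    · have hSn : (((-S - 1).toNat : ℕ) : ℤ) = -S - 1 := Int.toNat_of_nonneg (by omega)
      refine ⟨(-S - 1).toNat, by omega, ?_, Or.inr ?_⟩
      · have : ((m : ℕ) : ℤ) = ((2 * (-S - 1).toNat ^ 2 + 2 * (-S - 1).toNat + 1 : ℕ) : ℤ) := by
          push_cast
          rw [hSn, hMS]
          ring
        exact_mod_cast this
      · have : ((k : ℕ) : ℤ) = ((((-S - 1).toNat + 1) * (2 * (-S - 1).toNat + 1) : ℕ) : ℤ) := by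
          push_cast
          rw [hSn, hKS]
          ring
        exact_mod_cast this

end Cfsg.Agent.Lib.Helper12.PermChar
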